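import Mathlib

set_option autoImplicit false
open scoped commutatorElement

namespace Cfsg.Agent.Lib.Helper3

variable {X : Type*} [Group X]

/-- the image of `A ∩ N(P)` in `Aut(P)` -/
def autImage (P A : Subgroup X) : Subgroup (MulAut ↥P) :=
  (A.subgroupOf (Subgroup.normalizer (P : Set X))).map P.normalizerMonoidHom

lemma mem_autImage {P A : Subgroup X} {φ : MulAut ↥P} :
    φ ∈ autImage P A ↔ ∃ a ∈ A, ∃ ha : a ∈ Subgroup.normalizer (P : Set X),
      φ = P.normalizerMonoidHom ⟨a, ha⟩ := by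
  constructor
  · rintro ⟨⟨a, ha⟩, haA, rfl⟩
    exact ⟨a, haA, ha, rfl⟩
  · rintro ⟨a, haA, ha, rfl⟩
    exact ⟨⟨a, ha⟩, haA, rfl⟩

lemma normalizerMonoidHom_coe (P : Subgroup X) (a : X)
    (ha : a ∈ Subgroup.normalizer (P : Set X)) (x : ↥P) :
    ((P.normalizerMonoidHom ⟨a, ha⟩ x : ↥P) : X) = a * x * a⁻¹ := rfl

lemma card_autImage_coprime [Finite X] {p : ℕ} {P A : Subgroup X}
    (hAN : A ≤ Subgroup.normalizer (P : Set X)) (hA : (Nat.card ↥A).Coprime p) :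
    (Nat.card ↥(autImage P A)).Coprime p := by
  have h1 : Nat.card ↥(autImage P A) ∣ Nat.card ↥(A.subgroupOf (Subgroup.normalizer (P : Set X))) :=
    Subgroup.card_map_dvd _ _
  rw [Nat.card_congr (Subgroup.subgroupOfEquivOfLe hAN).toEquiv] at h1
  exact Nat.Coprime.coprime_dvd_left h1 hA

lemma autImage_closure_eq_top {P A : Subgroup X}
    (hAN : A ≤ Subgroup.normalizer (P : Set X)) (h : ⁅P, A⁆ = P) :
    Subgroup.closure {x : ↥P | ∃ g : ↥P, ∃ φ ∈ autImage P A, x = g⁻¹ * φ g} = ⊤ := by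
  rw [eq_top_iff]
  have h1 : P ≤ (Subgroup.closure
      {x : ↥P | ∃ g : ↥P, ∃ φ ∈ autImage P A, x = g⁻¹ * φ g}).map P.subtype := by
    conv_lhs => rw [← h]
    rw [Subgroup.commutator_le]
    intro x hx a ha
    refine ⟨⟨x, hx⟩ * (P.normalizerMonoidHom ⟨a, hAN ha⟩ ⟨x, hx⟩)⁻¹, ?_, ?_⟩
    · apply Subgroup.subset_closure
      refine ⟨⟨x, hx⟩⁻¹, P.normalizerMonoidHom ⟨a, hAN ha⟩,
        mem_autImage.mpr ⟨a, ha, hAN ha, rfl⟩, ?_⟩
      rw [inv_inv, map_inv]
    · show x * (a * x * a⁻¹)⁻¹ = ⁅x, a⁆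
      rw [commutatorElement_def]; group
  intro y _
  obtain ⟨z, hz, hzy⟩ := h1 y.2
  have : z = y := Subtype.ext hzy
  rw [← this]; exact hz

lemma autImage_fix_iff {P A : Subgroup X}
    (hAN : A ≤ Subgroup.normalizer (P : Set X)) (H : Subgroup ↥P) :
    (∀ φ ∈ autImage P A, ∀ h ∈ H, φ h = h) ↔
      A ≤ Subgroup.centralizer ((H.map P.subtype : Subgroup X) : Set X) := by
  constructor
  · intro hfix a ha
    rw [Subgroup.mem_centralizer_iff]
    rintro _ ⟨h, hh, rfl⟩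
    have h1 := hfix _ (mem_autImage.mpr ⟨a, ha, hAN ha, rfl⟩) h hh
    have h2 := congrArg Subtype.val h1
    rw [normalizerMonoidHom_coe] at h2
    show (h : X) * a = a * (h : X)
    calc (h : X) * a = (a * h * a⁻¹) * a := by rw [h2]
      _ = a * h := by group
  · intro hcen φ hφ h hh
    obtain ⟨a, ha, haN, rfl⟩ := mem_autImage.mp hφ
    apply Subtype.ext
    rw [normalizerMonoidHom_coe]
    have := Subgroup.mem_centralizer_iff.mp (hcen ha) (h : X) ⟨h, hh, rfl⟩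
    calc a * (h : X) * a⁻¹ = ((h : X) * a) * a⁻¹ := by rw [this]
      _ = h := by group

end Cfsg.Agent.Lib.Helper3
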