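import Mathlib

set_option autoImplicit false

namespace Cfsg.Agent.Lib.Helper3

variable {G : Type*} [Group G]

lemma mem_map_conj {A : Subgroup G} {g x : G} :
    x ∈ A.map (MulAut.conj g).toMonoidHom ↔ g⁻¹ * x * g ∈ A := by
  rw [Subgroup.mem_map]
  constructor
  · rintro ⟨a, ha, rfl⟩
    simpa [MulAut.conj_apply, mul_assoc] using ha
  · intro h
    refine ⟨g⁻¹ * x * g, h, ?_⟩
    simp [MulAut.conj_apply, mul_assoc]

lemma conj_mem_map_conj {A : Subgroup G} {g a : G} (ha : a ∈ A) :
    g * a * g⁻¹ ∈ A.map (MulAut.conj g).toMonoidHom := by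
  rw [mem_map_conj]
  simpa [mul_assoc] using ha

lemma map_conj_map_conj (A : Subgroup G) (g h : G) :
    (A.map (MulAut.conj g).toMonoidHom).map (MulAut.conj h).toMonoidHom =
      A.map (MulAut.conj (h * g)).toMonoidHom := by
  ext x
  simp only [mem_map_conj]
  simp [mul_assoc]

lemma map_conj_one (A : Subgroup G) : A.map (MulAut.conj (1 : G)).toMonoidHom = A := by
  ext x
  rw [mem_map_conj]; simp

lemma map_conj_inv_map_conj (A : Subgroup G) (g : G) :
    (A.map (MulAut.conj g).toMonoidHom).map (MulAut.conj g⁻¹).toMonoidHom = A := by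
  rw [map_conj_map_conj, inv_mul_cancel, map_conj_one]

lemma map_conj_map_conj_inv (A : Subgroup G) (g : G) :
    (A.map (MulAut.conj g⁻¹).toMonoidHom).map (MulAut.conj g).toMonoidHom = A := by
  rw [map_conj_map_conj, mul_inv_cancel, map_conj_one]

lemma map_conj_le_iff {A B : Subgroup G} {g : G} :
    A.map (MulAut.conj g).toMonoidHom ≤ B ↔ A ≤ B.map (MulAut.conj g⁻¹).toMonoidHom := by
  constructor
  · intro h a ha
    rw [mem_map_conj]
    simp only [inv_inv]
    exact h (conj_mem_map_conj ha)
  · intro h x hx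
    rw [mem_map_conj] at hx
    have := h hx
    rw [mem_map_conj] at this
    simpa [mul_assoc] using this

lemma map_conj_mono {A B : Subgroup G} (h : A ≤ B) (g : G) :
    A.map (MulAut.conj g).toMonoidHom ≤ B.map (MulAut.conj g).toMonoidHom :=
  Subgroup.map_mono h

lemma card_map_conj (A : Subgroup G) (g : G) :
    Nat.card (A.map (MulAut.conj g).toMonoidHom) = Nat.card A := by
  have : Function.Injective (MulAut.conj g).toMonoidHom := (MulAut.conj g).injective
  exact Nat.card_congr (A.equivMapOfInjective _ this).toEquiv.symm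

lemma sylow_smul_coe {p : ℕ} (P : Sylow p G) (g : G) :
    ((g • P : Sylow p G) : Subgroup G) = (P : Subgroup G).map (MulAut.conj g).toMonoidHom := by
  ext x
  rw [Sylow.coe_subgroup_smul, mem_map_conj, Subgroup.mem_pointwise_smul_iff_inv_smul_mem]
  simp [MulAut.smul_def, mul_assoc]

lemma isPGroup_map_conj {p : ℕ} {A : Subgroup G} (hA : IsPGroup p A) (g : G) :
    IsPGroup p (A.map (MulAut.conj g).toMonoidHom) :=
  hA.map _

end Cfsg.Agent.Lib.Helper3
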