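import Mathlib
import Cfsg.Agent.Lib.Helper3.Conj

set_option autoImplicit false
open scoped commutatorElement

universe u

namespace Cfsg.Agent.Lib.Helper3

variable {G : Type u} [Group G] [Finite G]

/-- **Averaging over cosets**: for an abelian subgroup `V` normalized by `R`, `T ≤ R` and `v ∈ C_V(T)`,
the product of the `R`-conjugates of `v` over `R/T` lies in `C_V(R)` and is congruent to `v ^ |R:T|`
modulo `[V, R]`. -/
theorem exists_avg (V R T : Subgroup G)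
    (hVc : ∀ a ∈ V, ∀ b ∈ V, a * b = b * a)
    (hRV : ∀ r ∈ R, ∀ x ∈ V, r * x * r⁻¹ ∈ V)
    (v : G) (hv : v ∈ V) (hvT : ∀ t ∈ T, t * v = v * t) :
    ∃ u ∈ V, (∀ r ∈ R, r * u * r⁻¹ = u) ∧ u * (v ^ T.relIndex R)⁻¹ ∈ ⁅V, R⁆ := by
  classical
  letI : CommGroup ↥V := { (inferInstance : Group ↥V) with
    mul_comm := fun a b => Subtype.ext (hVc a.1 a.2 b.1 b.2) }
  haveI : Fintype (↥R ⧸ T.subgroupOf R) := Fintype.ofFinite _
  let ψ : ↥R → (↥V →* ↥V) := fun r =>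
    ((MulAut.conj (r : G)).toMonoidHom.comp V.subtype).codRestrict V (fun x => by
      show (MulAut.conj (r : G)) (x : G) ∈ V
      rw [MulAut.conj_apply]; exact hRV r.1 r.2 x.1 x.2)
  have hψ : ∀ (r : ↥R) (x : ↥V), ((ψ r x : ↥V) : G) = (r : G) * (x : G) * (r : G)⁻¹ :=
    fun r x => rfl
  obtain ⟨v', hv'⟩ : ∃ v' : ↥V, v' = ⟨v, hv⟩ := ⟨_, rfl⟩
  have hv'c : (v' : G) = v := by rw [hv']
  have hwd : ∀ a b : ↥R, a⁻¹ * b ∈ T.subgroupOf R → ψ a v' = ψ b v' := by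
    intro a b hab
    apply Subtype.ext
    rw [hψ, hψ, hv'c]
    have ht : ((a⁻¹ * b : ↥R) : G) ∈ T := Subgroup.mem_subgroupOf.mp hab
    have h1 := hvT _ ht
    have h2 : ((a⁻¹ * b : ↥R) : G) = (a : G)⁻¹ * (b : G) := by simp
    rw [h2] at h1
    have h3 : (b : G) * v * (b : G)⁻¹ = (a : G) * ((a : G)⁻¹ * (b : G) * v) * (b : G)⁻¹ := by
      group
    rw [h3, h1]; group
  let φ : (↥R ⧸ T.subgroupOf R) → ↥V := fun c => ψ (Quotient.out c) v'
  refine ⟨(∏ c, φ c : ↥V).1, (∏ c, φ c : ↥V).2, ?_, ?_⟩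
  · intro r hr
    have h1 : ψ ⟨r, hr⟩ (∏ c, φ c) = ∏ c, φ c := by
      rw [map_prod]
      have h2 : ∀ c, ψ ⟨r, hr⟩ (φ c) = φ ((⟨r, hr⟩ : ↥R) • c) := by
        intro c
        have h3 : ψ ⟨r, hr⟩ (ψ (Quotient.out c) v') = ψ (⟨r, hr⟩ * Quotient.out c) v' := by
          apply Subtype.ext; rw [hψ, hψ, hψ]; simp [mul_assoc]
        show ψ ⟨r, hr⟩ (ψ (Quotient.out c) v') = ψ (Quotient.out ((⟨r, hr⟩ : ↥R) • c)) v'
        rw [h3]
        apply hwd
        rw [← QuotientGroup.eq]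
        rw [QuotientGroup.out_eq']
        have h4 : ((⟨r, hr⟩ * Quotient.out c : ↥R) : ↥R ⧸ T.subgroupOf R) =
            (⟨r, hr⟩ : ↥R) • ((Quotient.out c : ↥R) : ↥R ⧸ T.subgroupOf R) := rfl
        rw [h4, QuotientGroup.out_eq']
      rw [Finset.prod_congr rfl (fun c _ => h2 c)]
      exact Fintype.prod_equiv (MulAction.toPerm (⟨r, hr⟩ : ↥R)) _ _ (fun c => rfl)
    have := congrArg Subtype.val h1
    rwa [hψ] at this
  · have h4 : ∀ c, φ c * v'⁻¹ ∈ (⁅V, R⁆).subgroupOf V := by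
      intro c
      rw [Subgroup.mem_subgroupOf]
      show ((Quotient.out c : ↥R) : G) * (v' : G) * ((Quotient.out c : ↥R) : G)⁻¹ * (v' : G)⁻¹ ∈ ⁅V, R⁆
      rw [hv'c, Subgroup.commutator_comm, ← commutatorElement_def]
      exact Subgroup.commutator_mem_commutator (Quotient.out c).2 hv
    have h5 : (∏ c, φ c * v'⁻¹) ∈ (⁅V, R⁆).subgroupOf V :=
      Subgroup.prod_mem _ (fun c _ => h4 c)
    rw [Finset.prod_mul_distrib, Finset.prod_const, Finset.card_univ] at h5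
    have h6 : Fintype.card (↥R ⧸ T.subgroupOf R) = T.relIndex R := by
      rw [← Nat.card_eq_fintype_card]; rfl
    rw [h6, Subgroup.mem_subgroupOf] at h5
    have h7 : (((∏ c, φ c) * v'⁻¹ ^ T.relIndex R : ↥V) : G) =
        ((∏ c, φ c : ↥V) : G) * (v ^ T.relIndex R)⁻¹ := by
      rw [Subgroup.coe_mul, Subgroup.coe_pow, Subgroup.coe_inv, hv'c, inv_pow]
    rw [h7] at h5
    exact h5

/-- consequence of averaging for `p`-torsion elements and `p'`-index -/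
theorem mem_sup_of_avg {p : ℕ} [hp : Fact p.Prime] (V R T : Subgroup G)
    (hVc : ∀ a ∈ V, ∀ b ∈ V, a * b = b * a)
    (hRV : ∀ r ∈ R, ∀ x ∈ V, r * x * r⁻¹ ∈ V)
    (v : G) (hv : v ∈ V) (hvT : ∀ t ∈ T, t * v = v * t) (hvp : v ^ p = 1)
    (hidx : ¬ p ∣ T.relIndex R) :
    v ∈ (V ⊓ Subgroup.centralizer (R : Set G)) ⊔ ⁅V, R⁆ := by
  obtain ⟨u, huV, huR, huw⟩ := exists_avg V R T hVc hRV v hv hvT
  obtain ⟨n, hn⟩ : ∃ n : ℕ, n = T.relIndex R := ⟨_, rfl⟩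
  rw [← hn] at huw hidx
  have hcop : Nat.Coprime n p := ((Nat.Prime.coprime_iff_not_dvd hp.out).mpr hidx).symm
  obtain ⟨m, -, hm⟩ := Nat.exists_mul_mod_eq_one_of_coprime hcop hp.out.one_lt
  have hvnm : v ^ (n * m) = v := by
    conv_lhs => rw [← Nat.div_add_mod (n * m) p, hm, pow_add, pow_mul, hvp, one_pow, one_mul,
      pow_one]
  have huC : u ∈ V ⊓ Subgroup.centralizer (R : Set G) := by
    refine Subgroup.mem_inf.mpr ⟨huV, Subgroup.mem_centralizer_iff.mpr ?_⟩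
    intro r hr
    have h1 := huR r hr
    calc r * u = r * u * r⁻¹ * r := by group
      _ = u * r := by rw [h1]
  have hvn : v ^ n ∈ (V ⊓ Subgroup.centralizer (R : Set G)) ⊔ ⁅V, R⁆ := by
    have h1 : v ^ n = (u * (v ^ n)⁻¹)⁻¹ * u := by group
    rw [h1]
    exact mul_mem (inv_mem (Subgroup.mem_sup_right huw)) (Subgroup.mem_sup_left huC)
  rw [← hvnm, pow_mul]
  exact pow_mem hvn m

end Cfsg.Agent.Lib.Helper3
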