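import Mathlib
import Cfsg.Prelude.Def_Transfer

set_option autoImplicit false

namespace Cfsg.Agent.Lib.Helper3

open Cfsg

/-- The closure of a conjugation-invariant set is normal. -/
theorem closure_normal_of_conj_inv {G : Type*} [Group G] (s : Set G)
    (hs : ∀ g : G, ∀ a ∈ s, g * a * g⁻¹ ∈ s) : (Subgroup.closure s).Normal := by
  refine ⟨fun n hn g => ?_⟩
  have h1 : (Subgroup.closure s).map (MulAut.conj g).toMonoidHom ≤ Subgroup.closure s := by
    rw [MonoidHom.map_closure, Subgroup.closure_le]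
    rintro _ ⟨a, ha, rfl⟩
    exact Subgroup.subset_closure (by simpa [MulAut.conj_apply] using hs g a ha)
  exact h1 ⟨n, hn, by simp [MulAut.conj_apply]⟩

theorem pRes_normal (p : ℕ) (G : Type*) [Group G] : (pResidual p G).Normal := by
  unfold pResidual
  apply closure_normal_of_conj_inv
  intro g a ha
  have : orderOf (g * a * g⁻¹) = orderOf a := by
    have := orderOf_injective (MulAut.conj g).toMonoidHom (MulAut.conj g).injective a
    simpa [MulAut.conj_apply] using this
  show Nat.Coprime (orderOf (g * a * g⁻¹)) p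
  rw [this]; exact ha

/-- `p`-part / `p'`-part decomposition of an element of a finite group. -/
theorem exists_p_decomp (p : ℕ) [hp : Fact p.Prime] {G : Type*} [Group G] [Finite G] (x : G) :
    ∃ a b : G, a ∈ Subgroup.zpowers x ∧ b ∈ Subgroup.zpowers x ∧ x = a * b ∧
      (∃ k : ℕ, orderOf a = p ^ k) ∧ Nat.Coprime (orderOf b) p := by
  have h0 : orderOf x ≠ 0 := (orderOf_pos x).ne'
  obtain ⟨e, m, hm, hem⟩ := Nat.exists_eq_pow_mul_and_not_dvd h0 p hp.out.ne_one
  have hcop : Nat.Coprime (p ^ e) m :=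
    Nat.Coprime.pow_left e ((Nat.Prime.coprime_iff_not_dvd hp.out).2 hm)
  have hbez := Nat.gcd_eq_gcd_ab (p ^ e) m
  rw [hcop] at hbez
  set u := Nat.gcdA (p ^ e) m
  set v := Nat.gcdB (p ^ e) m
  refine ⟨x ^ ((m : ℤ) * v), x ^ (((p ^ e : ℕ) : ℤ) * u), ⟨_, rfl⟩, ⟨_, rfl⟩, ?_, ?_, ?_⟩
  · rw [← zpow_add]
    have : (m : ℤ) * v + ((p ^ e : ℕ) : ℤ) * u = 1 := by
      have h1 : ((1 : ℕ) : ℤ) = 1 := Nat.cast_one
      rw [← h1, hbez]; ring
    rw [this, zpow_one]
  · have h1 : (x ^ ((m : ℤ) * v)) ^ (p ^ e) = 1 := by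
      rw [← zpow_natCast, ← zpow_mul]
      have : (m : ℤ) * v * ((p ^ e : ℕ) : ℤ) = ((p ^ e * m : ℕ) : ℤ) * v := by push_cast; ring
      rw [this, zpow_mul, zpow_natCast, ← hem, pow_orderOf_eq_one, one_zpow]
    obtain ⟨j, -, hj⟩ := (Nat.dvd_prime_pow hp.out).1 (orderOf_dvd_of_pow_eq_one h1)
    exact ⟨j, hj⟩
  · have h1 : (x ^ (((p ^ e : ℕ) : ℤ) * u)) ^ m = 1 := by
      rw [← zpow_natCast, ← zpow_mul]
      have : ((p ^ e : ℕ) : ℤ) * u * (m : ℤ) = ((p ^ e * m : ℕ) : ℤ) * u := by push_cast; ring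
      rw [this, zpow_mul, zpow_natCast, ← hem, pow_orderOf_eq_one, one_zpow]
    have hd : orderOf (x ^ (((p ^ e : ℕ) : ℤ) * u)) ∣ m := orderOf_dvd_of_pow_eq_one h1
    exact Nat.Coprime.coprime_dvd_left hd
      ((Nat.Prime.coprime_iff_not_dvd hp.out).2 hm).symm

/-- The `p`-residual of a subgroup lies in the `p`-residual of the group. -/
theorem map_pRes_le (p : ℕ) {G : Type*} [Group G] (H : Subgroup G) :
    (pResidual p H).map H.subtype ≤ pResidual p G := by
  unfold pResidual
  rw [MonoidHom.map_closure, Subgroup.closure_le]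
  rintro _ ⟨a, ha, rfl⟩
  apply Subgroup.subset_closure
  show Nat.Coprime (orderOf (H.subtype a)) p
  rw [Subgroup.coe_subtype, Subgroup.orderOf_coe]
  exact ha

/-- A `p`-element outside the derived subgroup is outside `O^p(G) G'`. -/
theorem not_mem_pRes_sup_commutator (p : ℕ) [hp : Fact p.Prime] {G : Type*} [Group G] [Finite G]
    (g : G) (hgp : ∃ k : ℕ, orderOf g = p ^ k) (hg : g ∉ commutator G) :
    g ∉ pResidual p G ⊔ commutator G := by
  intro hmem
  obtain ⟨k, hk⟩ := hgp
  have hG0 : Nat.card G ≠ 0 := Nat.card_pos.ne'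
  obtain ⟨e, m, hm, hem⟩ := Nat.exists_eq_pow_mul_and_not_dvd hG0 p hp.out.ne_one
  have hpm : Nat.Coprime p m := (Nat.Prime.coprime_iff_not_dvd hp.out).2 hm
  let π : G →* Abelianization G := Abelianization.of
  let B : Subgroup (Abelianization G) := (powMonoidHom m : Abelianization G →* Abelianization G).ker
  have h1 : (pResidual p G ⊔ commutator G).map π ≤ B := by
    rw [Subgroup.map_sup, sup_le_iff]
    constructor
    · unfold pResidual
      rw [MonoidHom.map_closure, Subgroup.closure_le]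
      rintro _ ⟨a, ha, rfl⟩
      show π a ∈ B
      rw [MonoidHom.mem_ker, powMonoidHom_apply, ← map_pow]
      have hd : orderOf a ∣ p ^ e * m := by rw [← hem]; exact orderOf_dvd_natCard a
      have ha' : Nat.Coprime (orderOf a) (p ^ e) := Nat.Coprime.pow_right e ha
      have hd' : orderOf a ∣ m := ha'.dvd_of_dvd_mul_left hd
      rw [orderOf_dvd_iff_pow_eq_one.mp hd', map_one]
    · rintro _ ⟨a, ha, rfl⟩
      have : π a = 1 := by
        have : a ∈ π.ker := by rw [Abelianization.ker_of]; exact ha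
        exact this
      rw [this]; exact B.one_mem
  have h2 : π g ∈ B := h1 ⟨g, hmem, rfl⟩
  rw [MonoidHom.mem_ker, powMonoidHom_apply] at h2
  have h3 : (π g) ^ (p ^ k) = 1 := by rw [← map_pow, ← hk, pow_orderOf_eq_one, map_one]
  have h4 : orderOf (π g) ∣ Nat.gcd (p ^ k) m :=
    Nat.dvd_gcd (orderOf_dvd_of_pow_eq_one h3) (orderOf_dvd_of_pow_eq_one h2)
  rw [Nat.Coprime.pow_left k hpm] at h4
  have h5 : π g = 1 := orderOf_eq_one_iff.mp (Nat.dvd_one.mp h4)
  apply hg
  rw [← Abelianization.ker_of]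
  exact h5

theorem pow_mem_pRes (p : ℕ) [hp : Fact p.Prime] {G : Type*} [Group G] [Finite G] (g : G) :
    ∃ k : ℕ, g ^ p ^ k ∈ pResidual p G := by
  have h0 : orderOf g ≠ 0 := (orderOf_pos g).ne'
  obtain ⟨e, m, hm, hem⟩ := Nat.exists_eq_pow_mul_and_not_dvd h0 p hp.out.ne_one
  refine ⟨e, Subgroup.subset_closure ?_⟩
  show Nat.Coprime (orderOf (g ^ p ^ e)) p
  rw [orderOf_pow, hem]
  have hpe : 0 < p ^ e := pow_pos hp.out.pos e
  have hgcd : (p ^ e * m).gcd (p ^ e) = p ^ e := Nat.gcd_eq_right (Dvd.intro _ rfl)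
  rw [hgcd, Nat.mul_div_cancel_left _ hpe]
  exact (Nat.Coprime.symm ((Nat.Prime.coprime_iff_not_dvd hp.out).2 hm))

theorem isPGroup_quotient_pRes (p : ℕ) [Fact p.Prime] (G : Type*) [Group G] [Finite G] :
    haveI := pRes_normal p G
    IsPGroup p (G ⧸ pResidual p G) := by
  have := pRes_normal p G
  intro x
  induction x using QuotientGroup.induction_on with
  | H g =>
    obtain ⟨k, hk⟩ := pow_mem_pRes p g
    refine ⟨k, ?_⟩
    rw [← QuotientGroup.mk_pow]
    exact (QuotientGroup.eq_one_iff _).2 hk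

/-- If `O^p(G) G' = G` then `O^p(G) = G`. -/
theorem pRes_eq_top_of_sup_commutator (p : ℕ) [hp : Fact p.Prime] {G : Type*} [Group G] [Finite G]
    (h : pResidual p G ⊔ commutator G = ⊤) : pResidual p G = ⊤ := by
  have hn := pRes_normal p G
  have hpg : IsPGroup p (G ⧸ pResidual p G) := isPGroup_quotient_pRes p G
  by_contra hne
  have hnt : Nontrivial (G ⧸ pResidual p G) := by
    rw [← not_subsingleton_iff_nontrivial]
    intro hs
    apply hne
    rw [← Subgroup.index_eq_one, Subgroup.index_eq_card]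
    exact Nat.card_unique
  have hnil : Group.IsNilpotent (G ⧸ pResidual p G) := hpg.isNilpotent
  have hlt := Group.IsSolvable.commutator_lt_top_of_nontrivial (G ⧸ pResidual p G)
  apply hlt.ne
  have hsurj : Function.Surjective (QuotientGroup.mk' (pResidual p G)) :=
    QuotientGroup.mk'_surjective _
  have h1 : (pResidual p G ⊔ commutator G).map (QuotientGroup.mk' (pResidual p G)) = ⊤ := by
    rw [h, ← MonoidHom.range_eq_map, MonoidHom.range_eq_top]; exact hsurj
  rw [Subgroup.map_sup, QuotientGroup.map_mk'_self, bot_sup_eq, map_commutator_eq,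
    MonoidHom.range_eq_top.mpr hsurj] at h1
  rw [commutator_def]
  exact h1

/-- A subgroup of index prime to `p` together with `O^p(G)` generates `G`. -/
theorem sup_pRes_eq_top (p : ℕ) [hp : Fact p.Prime] {G : Type*} [Group G] [Finite G]
    (R : Subgroup G) (hR : ¬ p ∣ R.index) : R ⊔ pResidual p G = ⊤ := by
  have := pRes_normal p G
  have hpg := isPGroup_quotient_pRes p G
  obtain ⟨j, hj⟩ := (IsPGroup.iff_card).1 hpg
  have hidx : (pResidual p G).index = p ^ j := by
    rw [Subgroup.index_eq_card]; exact hj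
  have h1 : (R ⊔ pResidual p G).index ∣ p ^ j := by
    rw [← hidx]; exact Subgroup.index_dvd_of_le le_sup_right
  have h2 : (R ⊔ pResidual p G).index ∣ R.index := Subgroup.index_dvd_of_le le_sup_left
  rw [← Subgroup.index_eq_one]
  obtain ⟨i, -, hi⟩ := (Nat.dvd_prime_pow hp.out).1 h1
  rcases Nat.eq_zero_or_pos i with rfl | hpos
  · simpa using hi
  · exfalso
    apply hR
    refine dvd_trans ?_ h2
    rw [hi]
    exact dvd_pow_self p hpos.ne'

end Cfsg.Agent.Lib.Helper3
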