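import Mathlib
import Cfsg.Agent.Lib.Helper3.Avg
import Cfsg.Agent.Lib.Helper3.PRes

set_option autoImplicit false
open scoped commutatorElement

universe u

namespace Cfsg.Agent.Lib.Helper3

variable {G : Type u} [Group G] [Finite G]

/-- **Averaging over cosets**, with invariance of the average under elements normalizing the data. -/
theorem exists_avg_inv (V R T : Subgroup G)
    (hVc : ∀ a ∈ V, ∀ b ∈ V, a * b = b * a)
    (hRV : ∀ r ∈ R, ∀ x ∈ V, r * x * r⁻¹ ∈ V)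
    (v : G) (hv : v ∈ V) (hvT : ∀ t ∈ T, t * v = v * t) :
    ∃ u ∈ V, (∀ r ∈ R, r * u * r⁻¹ = u) ∧ u * (v ^ T.relIndex R)⁻¹ ∈ ⁅V, R⁆ ∧
      ∀ g : G, g ∈ Subgroup.normalizer (R : Set G) → g ∈ Subgroup.normalizer (T : Set G) →
        g ∈ Subgroup.normalizer (V : Set G) → g * v * g⁻¹ = v → g * u * g⁻¹ = u := by
  classical
  letI : CommGroup ↥V := { (inferInstance : Group ↥V) with
    mul_comm := fun a b => Subtype.ext (hVc a.1 a.2 b.1 b.2) }
  haveI : Fintype (↥R ⧸ T.subgroupOf R) := Fintype.ofFinite _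
  let ψ : ↥R → (↥V →* ↥V) := fun r =>
    ((MulAut.conj (r : G)).toMonoidHom.comp V.subtype).codRestrict V (fun x => by
      show (MulAut.conj (r : G)) (x : G) ∈ V
      rw [MulAut.conj_apply]; exact hRV r.1 r.2 x.1 x.2)
  have hψ : ∀ (r : ↥R) (x : ↥V), ((ψ r x : ↥V) : G) = (r : G) * (x : G) * (r : G)⁻¹ :=
    fun r x => rfl
  obtain ⟨v', hv'⟩ : ∃ v' : ↥V, v' = ⟨v, hv⟩ := ⟨_, rfl⟩
  have hv'c : (v' : G) = v := by rw [hv']
  have hwd : ∀ a b : ↥R, a⁻¹ * b ∈ T.subgroupOf R → ψ a v' = ψ b v' := by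
    intro a b hab
    apply Subtype.ext
    rw [hψ, hψ, hv'c]
    have ht : ((a⁻¹ * b : ↥R) : G) ∈ T := Subgroup.mem_subgroupOf.mp hab
    have h1 := hvT _ ht
    have h2 : ((a⁻¹ * b : ↥R) : G) = (a : G)⁻¹ * (b : G) := by simp
    rw [h2] at h1
    have h3 : (b : G) * v * (b : G)⁻¹ = (a : G) * ((a : G)⁻¹ * (b : G) * v) * (b : G)⁻¹ := by
      group
    rw [h3, h1]; group
  let φ : (↥R ⧸ T.subgroupOf R) → ↥V := fun c => ψ (Quotient.out c) v'
  refine ⟨(∏ c, φ c : ↥V).1, (∏ c, φ c : ↥V).2, ?_, ?_, ?_⟩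
  · intro r hr
    have h1 : ψ ⟨r, hr⟩ (∏ c, φ c) = ∏ c, φ c := by
      rw [map_prod]
      have h2 : ∀ c, ψ ⟨r, hr⟩ (φ c) = φ ((⟨r, hr⟩ : ↥R) • c) := by
        intro c
        have h3 : ψ ⟨r, hr⟩ (ψ (Quotient.out c) v') = ψ (⟨r, hr⟩ * Quotient.out c) v' := by
          apply Subtype.ext; rw [hψ, hψ, hψ]; simp [mul_assoc]
        show ψ ⟨r, hr⟩ (ψ (Quotient.out c) v') = ψ (Quotient.out ((⟨r, hr⟩ : ↥R) • c)) v'
        rw [h3]
        apply hwd
        rw [← QuotientGroup.eq]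
        rw [QuotientGroup.out_eq']
        have h4 : ((⟨r, hr⟩ * Quotient.out c : ↥R) : ↥R ⧸ T.subgroupOf R) =
            (⟨r, hr⟩ : ↥R) • ((Quotient.out c : ↥R) : ↥R ⧸ T.subgroupOf R) := rfl
        rw [h4, QuotientGroup.out_eq']
      rw [Finset.prod_congr rfl (fun c _ => h2 c)]
      exact Fintype.prod_equiv (MulAction.toPerm (⟨r, hr⟩ : ↥R)) _ _ (fun c => rfl)
    have := congrArg Subtype.val h1
    rwa [hψ] at this
  · have h4 : ∀ c, φ c * v'⁻¹ ∈ (⁅V, R⁆).subgroupOf V := by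
      intro c
      rw [Subgroup.mem_subgroupOf]
      show ((Quotient.out c : ↥R) : G) * (v' : G) * ((Quotient.out c : ↥R) : G)⁻¹ * (v' : G)⁻¹ ∈ ⁅V, R⁆
      rw [hv'c, Subgroup.commutator_comm, ← commutatorElement_def]
      exact Subgroup.commutator_mem_commutator (Quotient.out c).2 hv
    have h5 : (∏ c, φ c * v'⁻¹) ∈ (⁅V, R⁆).subgroupOf V :=
      Subgroup.prod_mem _ (fun c _ => h4 c)
    rw [Finset.prod_mul_distrib, Finset.prod_const, Finset.card_univ] at h5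
    have h6 : Fintype.card (↥R ⧸ T.subgroupOf R) = T.relIndex R := by
      rw [← Nat.card_eq_fintype_card]; rfl
    rw [h6, Subgroup.mem_subgroupOf] at h5
    have h7 : (((∏ c, φ c) * v'⁻¹ ^ T.relIndex R : ↥V) : G) =
        ((∏ c, φ c : ↥V) : G) * (v ^ T.relIndex R)⁻¹ := by
      rw [Subgroup.coe_mul, Subgroup.coe_pow, Subgroup.coe_inv, hv'c, inv_pow]
    rw [h7] at h5
    exact h5
  · intro g hgR hgT hgV hgv
    have hgR' := fun n => (Subgroup.mem_set_normalizer_iff.mp hgR n)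
    have hgT' := fun n => (Subgroup.mem_set_normalizer_iff.mp hgT n)
    have hgV' := fun n => (Subgroup.mem_set_normalizer_iff.mp hgV n)
    let ψg : ↥V →* ↥V :=
      ((MulAut.conj g).toMonoidHom.comp V.subtype).codRestrict V (fun x => by
        show (MulAut.conj g) (x : G) ∈ V
        rw [MulAut.conj_apply]; exact (hgV' x.1).mp x.2)
    have hψg : ∀ x : ↥V, ((ψg x : ↥V) : G) = g * (x : G) * g⁻¹ := fun x => rfl
    let σ₀ : (↥R ⧸ T.subgroupOf R) → ↥R := fun c =>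
      ⟨g * ((Quotient.out c : ↥R) : G) * g⁻¹, (hgR' _).mp (Quotient.out c).2⟩
    let σ : (↥R ⧸ T.subgroupOf R) → (↥R ⧸ T.subgroupOf R) := fun c =>
      ((σ₀ c : ↥R) : ↥R ⧸ T.subgroupOf R)
    have hσinj : Function.Injective σ := by
      intro c d hcd
      have h1 : (σ₀ c)⁻¹ * σ₀ d ∈ T.subgroupOf R := QuotientGroup.eq.mp hcd
      rw [Subgroup.mem_subgroupOf] at h1
      have h2 : (((σ₀ c)⁻¹ * σ₀ d : ↥R) : G) =
          g * (((Quotient.out c : ↥R) : G)⁻¹ * ((Quotient.out d : ↥R) : G)) * g⁻¹ := by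
        show (g * ((Quotient.out c : ↥R) : G) * g⁻¹)⁻¹ * (g * ((Quotient.out d : ↥R) : G) * g⁻¹) = _
        group
      rw [h2] at h1
      have h3 : ((Quotient.out c : ↥R) : G)⁻¹ * ((Quotient.out d : ↥R) : G) ∈ T := (hgT' _).mpr h1
      have h4 : (Quotient.out c : ↥R)⁻¹ * (Quotient.out d : ↥R) ∈ T.subgroupOf R := by
        rw [Subgroup.mem_subgroupOf]; simpa using h3
      have h5 : ((Quotient.out c : ↥R) : ↥R ⧸ T.subgroupOf R) = ((Quotient.out d : ↥R) : ↥R ⧸ T.subgroupOf R) :=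
        QuotientGroup.eq.mpr h4
      rwa [QuotientGroup.out_eq', QuotientGroup.out_eq'] at h5
    have hσbij : Function.Bijective σ := Finite.injective_iff_bijective.mp hσinj
    have h1 : ψg (∏ c, φ c) = ∏ c, φ c := by
      rw [map_prod]
      have h2 : ∀ c, ψg (φ c) = φ (σ c) := by
        intro c
        have h3 : ψg (ψ (Quotient.out c) v') = ψ (σ₀ c) v' := by
          apply Subtype.ext
          rw [hψg, hψ, hψ, hv'c]
          show g * (((Quotient.out c : ↥R) : G) * v * ((Quotient.out c : ↥R) : G)⁻¹) * g⁻¹ =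
            (g * ((Quotient.out c : ↥R) : G) * g⁻¹) * v * (g * ((Quotient.out c : ↥R) : G) * g⁻¹)⁻¹
          have h4 : (g * ((Quotient.out c : ↥R) : G) * g⁻¹) * v * (g * ((Quotient.out c : ↥R) : G) * g⁻¹)⁻¹
              = g * (((Quotient.out c : ↥R) : G) * (g⁻¹ * (g * v * g⁻¹) * g) * ((Quotient.out c : ↥R) : G)⁻¹) * g⁻¹ := by
            rw [hgv]; group
          rw [h4]
          have h5 : g⁻¹ * (g * v * g⁻¹) * g = v := by group
          rw [h5]
        show ψg (ψ (Quotient.out c) v') = ψ (Quotient.out (σ c)) v'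
        rw [h3]
        apply hwd
        rw [← QuotientGroup.eq, QuotientGroup.out_eq']
      rw [Finset.prod_congr rfl (fun c _ => h2 c)]
      exact Fintype.prod_bijective σ hσbij _ _ (fun c => rfl)
    have := congrArg Subtype.val h1
    rwa [hψg] at this

/-- `X = O^p(X) S` for a Sylow `p`-subgroup `S`. -/
theorem exists_mul_of_pRes_sylow {p : ℕ} [Fact p.Prime] {X : Type u} [Group X] [Finite X]
    (S : Sylow p X) (x : X) : ∃ r ∈ Cfsg.pResidual p X, ∃ s ∈ S, x = r * s := by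
  have hp := (Fact.out : p.Prime)
  haveI hNn : (Cfsg.pResidual p X).Normal := pRes_normal p X
  have hq : IsPGroup p (X ⧸ Cfsg.pResidual p X) := isPGroup_quotient_pRes p X
  obtain ⟨k, hk⟩ := IsPGroup.iff_card.mp hq
  have hk' : (Cfsg.pResidual p X).index = p ^ k := hk
  have h1 : (Cfsg.pResidual p X ⊔ (S : Subgroup X)).index ∣ p ^ k := by
    rw [← hk']; exact Subgroup.index_dvd_of_le le_sup_left
  have h2 : (Cfsg.pResidual p X ⊔ (S : Subgroup X)).index ∣ (S : Subgroup X).index :=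
    Subgroup.index_dvd_of_le le_sup_right
  obtain ⟨j, _, hj⟩ := (Nat.dvd_prime_pow hp).mp h1
  have hj0 : j = 0 := by
    by_contra hne
    exact S.not_dvd_index ((hj ▸ dvd_pow_self p hne).trans h2)
  rw [hj0, pow_zero, Subgroup.index_eq_one] at hj
  have hl' : x ∈ ((Cfsg.pResidual p X ⊔ (S : Subgroup X) : Subgroup X) : Set X) := by
    rw [hj]; trivial
  rw [Subgroup.normal_mul] at hl'
  obtain ⟨n, hn, s, hs, hns⟩ := Set.mem_mul.mp hl'
  exact ⟨n, hn, s, hs, hns.symm⟩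

end Cfsg.Agent.Lib.Helper3
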