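import Mathlib

set_option autoImplicit false
open scoped commutatorElement

namespace Cfsg.Agent.Lib.Helper3

/-- Hypotheses for Baer's trick: odd order and nilpotency class at most two. -/
class BaerClass (W : Type*) [Group W] : Prop where
  odd : Odd (Nat.card W)
  central : ∀ x y z : W, ⁅x, y⁆ * z = z * ⁅x, y⁆

/-- Type synonym carrying the Baer (abelian) group structure. -/
def Baer (W : Type*) := W

namespace Baer

variable {W : Type*} [Group W]

/-- the square root in a group of odd order -/
noncomputable def half (c : W) : W := c ^ ((Nat.card W + 1) / 2)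

/-- `K y x = ⁅y, x⁆ ^ (1/2)` -/
noncomputable def K (y x : W) : W := half ⁅y, x⁆

lemma half_one : half (1 : W) = 1 := by unfold half; simp

variable [hW : BaerClass W]

lemma half_mul_half (c : W) : half c * half c = c := by
  unfold half
  obtain ⟨k, hk⟩ := hW.odd
  have h1 : (Nat.card W + 1) / 2 = k + 1 := by omega
  rw [h1, ← pow_add]
  have h2 : k + 1 + (k + 1) = Nat.card W + 1 := by omega
  rw [h2, pow_succ, pow_card_eq_one', one_mul]

lemma comm_central (x y z : W) : Commute ⁅x, y⁆ z := hW.central x y z

lemma K_central (y x z : W) : Commute (K y x) z := by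
  unfold K half
  exact (comm_central y x z).pow_left _

lemma comm_mul_left (x y z : W) : ⁅x * y, z⁆ = ⁅x, z⁆ * ⁅y, z⁆ := by
  have h1 : ⁅x * y, z⁆ = x * ⁅y, z⁆ * x⁻¹ * ⁅x, z⁆ := by
    simp only [commutatorElement_def]; group
  rw [h1, ((comm_central y z x).eq).symm, mul_inv_cancel_right]
  exact (comm_central y z _).eq

lemma comm_mul_right (x y z : W) : ⁅x, y * z⁆ = ⁅x, y⁆ * ⁅x, z⁆ := by
  have h1 : ⁅x, y * z⁆ = ⁅x, y⁆ * (y * ⁅x, z⁆ * y⁻¹) := by
    simp only [commutatorElement_def]; group
  rw [h1, ((comm_central x z y).eq).symm, mul_inv_cancel_right]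

lemma comm_of_central_left (c x : W) (hc : ∀ z, Commute c z) : ⁅c, x⁆ = 1 := by
  rw [commutatorElement_eq_one_iff_mul_comm]; exact (hc x).eq

lemma comm_of_central_right (c x : W) (hc : ∀ z, Commute c z) : ⁅x, c⁆ = 1 := by
  rw [commutatorElement_eq_one_iff_mul_comm]; exact ((hc x).eq).symm

lemma half_mul (c d : W) (h : Commute c d) : half (c * d) = half c * half d := by
  unfold half; exact h.mul_pow _

lemma K_mul_left (x y z : W) : K (x * y) z = K x z * K y z := by
  unfold K
  rw [comm_mul_left, half_mul _ _ (comm_central x z _)]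

lemma K_mul_right (x y z : W) : K x (y * z) = K x y * K x z := by
  unfold K
  rw [comm_mul_right, half_mul _ _ (comm_central x y _)]

lemma K_central_left (c x : W) (hc : ∀ z, Commute c z) : K c x = 1 := by
  unfold K; rw [comm_of_central_left c x hc, half_one]

lemma K_central_right (c x : W) (hc : ∀ z, Commute c z) : K x c = 1 := by
  unfold K; rw [comm_of_central_right c x hc, half_one]

lemma K_self (x : W) : K x x = 1 := by
  unfold K; rw [commutatorElement_self, half_one]

lemma K_sq (y x : W) : K y x * K y x = ⁅y, x⁆ := half_mul_half _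

lemma K_inv (y x : W) : K x y = (K y x)⁻¹ := by
  unfold K half
  rw [← commutatorElement_inv, inv_pow]

/-- the Baer product -/
noncomputable def bmul (x y : W) : W := x * y * K y x

lemma bmul_assoc (x y z : W) : bmul (bmul x y) z = bmul x (bmul y z) := by
  unfold bmul
  have h1 : K z (x * y * K y x) = K z x * K z y := by
    rw [K_mul_right, K_mul_right, K_central_right _ _ (K_central y x), mul_one]
  have h2 : K (y * z * K z y) x = K y x * K z x := by
    rw [K_mul_left, K_mul_left, K_central_left _ _ (K_central z y), mul_one]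
  rw [h1, h2]
  have e1 : x * y * K y x * z * (K z x * K z y) = x * y * z * (K y x * (K z x * K z y)) := by
    have := (K_central y x z).eq
    calc x * y * K y x * z * (K z x * K z y) = x * y * (K y x * z) * (K z x * K z y) := by group
      _ = x * y * (z * K y x) * (K z x * K z y) := by rw [this]
      _ = x * y * z * (K y x * (K z x * K z y)) := by group
  have e2 : x * (y * z * K z y) * (K y x * K z x) = x * y * z * (K z y * (K y x * K z x)) := by
    group
  rw [e1, e2]
  congr 1
  rw [← mul_assoc, (K_central z y _).eq]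

lemma bmul_comm (x y : W) : bmul x y = bmul y x := by
  unfold bmul
  have h1 : x * y = ⁅x, y⁆ * (y * x) := by simp only [commutatorElement_def]; group
  rw [h1, (comm_central x y _).eq, mul_assoc]
  congr 1
  rw [← K_sq x y, K_inv y x, inv_mul_cancel_right]

lemma one_bmul (x : W) : bmul 1 x = x := by
  unfold bmul K
  rw [commutatorElement_one_right, half_one]; simp

lemma inv_bmul (x : W) : bmul x⁻¹ x = 1 := by
  unfold bmul K
  have : ⁅x, x⁻¹⁆ = 1 := by simp only [commutatorElement_def]; group
  rw [this, half_one]; simp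

noncomputable instance instMul : Mul (Baer W) := ⟨fun x y => bmul (W := W) x y⟩
instance instOne : One (Baer W) := ⟨(1 : W)⟩
instance instInv : Inv (Baer W) := ⟨fun x => ((x : W)⁻¹ : W)⟩

/-- the Baer group -/
noncomputable instance instCommGroup : CommGroup (Baer W) :=
  { Group.ofLeftAxioms (G := Baer W) (fun x y z => bmul_assoc (W := W) x y z)
      (fun x => one_bmul (W := W) x) (fun x => inv_bmul (W := W) x) with
    mul_comm := fun x y => bmul_comm (W := W) x y }

/-- the identity map `W → Baer W` -/
def toBaer (x : W) : Baer W := x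
/-- the identity map `Baer W → W` -/
def ofBaer (x : Baer W) : W := x

lemma toBaer_mul (x y : W) : toBaer x * toBaer y = toBaer (x * y * K y x) := rfl
lemma toBaer_one : toBaer (1 : W) = 1 := rfl

lemma toBaer_pow (x : W) (n : ℕ) : toBaer x ^ n = toBaer (x ^ n) := by
  induction n with
  | zero => rw [pow_zero, pow_zero]; rfl
  | succ n ih =>
    rw [pow_succ, ih, toBaer_mul, pow_succ]
    have : ⁅x, x ^ n⁆ = 1 := by
      rw [commutatorElement_eq_one_iff_mul_comm]
      exact ((Commute.refl x).pow_right n).eq
    unfold K
    rw [this, half_one, mul_one]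

/-- an automorphism of `W` as an automorphism of `Baer W` -/
noncomputable def baerAut (φ : W ≃* W) : Baer W ≃* Baer W where
  toFun x := toBaer (φ (ofBaer x))
  invFun x := toBaer (φ.symm (ofBaer x))
  left_inv x := φ.symm_apply_apply (ofBaer x)
  right_inv x := φ.apply_symm_apply (ofBaer x)
  map_mul' x y := by
    show toBaer (φ (ofBaer x * ofBaer y * K (ofBaer y) (ofBaer x))) =
      toBaer (φ (ofBaer x) * φ (ofBaer y) * K (φ (ofBaer y)) (φ (ofBaer x)))
    congr 1
    unfold K half
    rw [map_mul, map_mul, map_pow, map_commutatorElement]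

/-- the homomorphism `Aut W → Aut (Baer W)` -/
noncomputable def baerAutHom : MulAut W →* MulAut (Baer W) where
  toFun := baerAut
  map_one' := by ext x; rfl
  map_mul' φ ψ := by ext x; rfl

lemma baerAutHom_apply (φ : MulAut W) (x : W) : baerAutHom φ (toBaer x) = toBaer (φ x) := rfl

instance instFinite [Finite W] : Finite (Baer W) := ‹Finite W›

lemma isPGroup {p : ℕ} (h : IsPGroup p W) : IsPGroup p (Baer W) := by
  intro x
  obtain ⟨k, hk⟩ := h (ofBaer x)
  refine ⟨k, ?_⟩
  have := toBaer_pow (ofBaer x) (p ^ k)
  rw [hk] at this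
  exact this

end Baer

end Cfsg.Agent.Lib.Helper3
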