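import Mathlib
import Cfsg.Prelude.Def_CaseTheorems
import Cfsg.Prelude.Def_Local

set_option autoImplicit false
open scoped commutatorElement

namespace Cfsg.Agent.Lib.Helper3

variable {G : Type*} [Group G]

lemma commElem_mul_left {c d m : G} (h1 : c * d = d * c) (h2 : c * m = m * c) :
    ⁅c * d, m⁆ = ⁅d, m⁆ := by
  rw [commutatorElement_def, commutatorElement_def]
  have h4 : c * d⁻¹ = d⁻¹ * c := by
    calc c * d⁻¹ = d⁻¹ * (d * c) * d⁻¹ := by group
      _ = d⁻¹ * (c * d) * d⁻¹ := by rw [h1]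
      _ = d⁻¹ * c := by group
  calc c * d * m * (c * d)⁻¹ * m⁻¹ = c * d * m * d⁻¹ * c⁻¹ * m⁻¹ := by group
    _ = d * (c * m) * d⁻¹ * c⁻¹ * m⁻¹ := by rw [h1]; group
    _ = d * m * (c * d⁻¹) * c⁻¹ * m⁻¹ := by rw [h2]; group
    _ = d * m * d⁻¹ * m⁻¹ := by rw [h4]; group

lemma commElem_mul_right {c d m : G} (h1 : c * d = d * c) (h2 : c * m = m * c) :
    ⁅d, c * m⁆ = ⁅d, m⁆ := by
  have := commElem_mul_left (c := c) (d := m) (m := d) h2 h1
  have h3 : ⁅d, c * m⁆ = ⁅c * m, d⁆⁻¹ := (commutatorElement_inv _ _).symm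
  have h4 : ⁅d, m⁆ = ⁅m, d⁆⁻¹ := (commutatorElement_inv _ _).symm
  rw [h3, h4, this]

/-- The centre is carried to the centre by an isomorphism. -/
lemma map_center_mulEquiv {A B : Type*} [Group A] [Group B] (e : A ≃* B) :
    (Subgroup.center A).map e.toMonoidHom = Subgroup.center B := by
  ext b
  constructor
  · rintro ⟨a, ha, rfl⟩
    have ha : a ∈ Subgroup.center A := ha
    rw [Subgroup.mem_center_iff] at ha ⊢
    intro g
    obtain ⟨g', rfl⟩ := e.surjective g
    show e g' * e a = e a * e g'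
    rw [← map_mul, ← map_mul, ha g']
  · intro hb
    refine ⟨e.symm b, ?_, by simp⟩
    show e.symm b ∈ Subgroup.center A
    rw [Subgroup.mem_center_iff] at hb ⊢
    intro g
    apply e.injective
    rw [map_mul, map_mul, e.apply_symm_apply]
    exact hb (e g)

/-- Quasisimplicity transfers along isomorphisms. -/
theorem isQuasisimple_of_mulEquiv {A B : Type*} [Group A] [Group B] (e : A ≃* B)
    (hA : Cfsg.IsQuasisimple A) : Cfsg.IsQuasisimple B := by
  obtain ⟨hperf, hsimple⟩ := hA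
  refine ⟨Group.IsPerfect.ofSurjective (f := e.toMonoidHom) e.surjective, ?_⟩
  have e' : A ⧸ Subgroup.center A ≃* B ⧸ Subgroup.center B :=
    QuotientGroup.congr _ _ e (map_center_mulEquiv e)
  exact e'.symm.isSimpleGroup

/-- A normal subgroup of a quasisimple group is the whole group or central. -/
theorem quasisimple_normal {X : Type*} [Group X] (hX : Cfsg.IsQuasisimple X) (H : Subgroup X)
    [hn : H.Normal] : H = ⊤ ∨ H ≤ Subgroup.center X := by
  obtain ⟨hperf, hsimple⟩ := hX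
  have hmapn : (H.map (QuotientGroup.mk' (Subgroup.center X))).Normal :=
    hn.map _ (QuotientGroup.mk'_surjective _)
  rcases hmapn.eq_bot_or_eq_top with h | h
  · right
    intro x hx
    have : (QuotientGroup.mk' (Subgroup.center X)) x ∈ H.map (QuotientGroup.mk' (Subgroup.center X)) :=
      ⟨x, hx, rfl⟩
    rw [h, Subgroup.mem_bot] at this
    exact (QuotientGroup.eq_one_iff x).mp this
  · left
    -- H ⊔ Z = ⊤
    have hsup : H ⊔ Subgroup.center X = ⊤ := by
      have h1 := congrArg (Subgroup.comap (QuotientGroup.mk' (Subgroup.center X))) h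
      rw [Subgroup.comap_map_eq, QuotientGroup.ker_mk', Subgroup.comap_top] at h1
      exact h1
    rw [eq_top_iff, ← hperf.commutator_eq_top, commutator_def, Subgroup.commutator_le]
    intro a _ b _
    have ha : a ∈ H ⊔ Subgroup.center X := by rw [hsup]; trivial
    have hb : b ∈ H ⊔ Subgroup.center X := by rw [hsup]; trivial
    obtain ⟨h₁, hh₁, z₁, hz₁, rfl⟩ := Subgroup.mem_sup_of_normal_left.mp ha
    obtain ⟨h₂, hh₂, z₂, hz₂, rfl⟩ := Subgroup.mem_sup_of_normal_left.mp hb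
    rw [Subgroup.mem_center_iff] at hz₁ hz₂
    have e1 : h₁ * z₁ = z₁ * h₁ := hz₁ h₁
    have e2 : h₂ * z₂ = z₂ * h₂ := hz₂ h₂
    rw [e1, e2, commElem_mul_left (hz₁ h₁).symm (hz₁ _).symm,
      commElem_mul_right (hz₂ h₁).symm (hz₂ h₂).symm]
    rw [commutatorElement_def]
    have : h₁ * h₂ * h₁⁻¹ * h₂⁻¹ = h₁ * (h₂ * h₁⁻¹ * h₂⁻¹) := by group
    rw [this]
    exact H.mul_mem hh₁ (hn.conj_mem _ (H.inv_mem hh₁) _)

end Cfsg.Agent.Lib.Helper3
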