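import Mathlib
import Cfsg.Prelude.Def_CaseTheorems
import Cfsg.Prelude.Def_Local
import Cfsg.Agent.Lib.Helper3.Quasi

set_option autoImplicit false
open scoped commutatorElement

namespace Cfsg.Agent.Lib.Helper3

variable {G : Type*} [Group G]

lemma conj_mem_of_mem_normalizer {H : Subgroup G} {g h : G}
    (hg : g ∈ Subgroup.normalizer (H : Set G)) (hh : h ∈ H) : g * h * g⁻¹ ∈ H :=
  (Subgroup.mem_set_normalizer_iff.mp hg h).mp hh

lemma component_perfect {L : Subgroup G} (hL : Cfsg.IsComponent L) : ⁅L, L⁆ = L := by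
  have := hL.2.1
  exact Subgroup.isPerfect_iff.mp this

/-- Key induction: if a perfect subgroup `L` normalizes `H` and centralizes `H ⊓ K` for a subnormal
`K ≥ L`, then it centralizes `H`. -/
lemma comm_eq_bot_of_inf {L H : Subgroup G} (hperf : ⁅L, L⁆ = L)
    (hLH : L ≤ Subgroup.normalizer (H : Set G)) (K : Subgroup G) (hK : K.IsSubnormal) :
    L ≤ K → ⁅L, H ⊓ K⁆ = ⊥ → ⁅L, H⁆ = ⊥ := by
  induction hK with
  | top => intro _ h; rwa [inf_top_eq] at h
  | step K K' h_le hSubn hN ih =>
    intro hLK hc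
    apply ih (hLK.trans h_le)
    rw [Subgroup.normal_subgroupOf_iff_le_normalizer h_le] at hN
    set N := H ⊓ K' with hNdef
    have h1 : ⁅N, L⁆ ≤ H ⊓ K := by
      rw [Subgroup.commutator_le]
      intro n hn l hl
      constructor
      · -- n * (l n⁻¹ l⁻¹) ∈ H
        have : ⁅n, l⁆ = n * (l * n⁻¹ * l⁻¹) := by rw [commutatorElement_def]; group
        rw [this]
        exact H.mul_mem hn.1 (conj_mem_of_mem_normalizer (hLH hl) (H.inv_mem hn.1))
      · have : ⁅n, l⁆ = (n * l * n⁻¹) * l⁻¹ := by rw [commutatorElement_def]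
        rw [this]
        exact K.mul_mem (conj_mem_of_mem_normalizer (hN hn.2) (hLK hl)) (K.inv_mem (hLK hl))
    have h2 : ⁅⁅N, L⁆, L⁆ = ⊥ := by
      rw [eq_bot_iff]
      calc ⁅⁅N, L⁆, L⁆ ≤ ⁅H ⊓ K, L⁆ := Subgroup.commutator_mono h1 le_rfl
        _ = ⁅L, H ⊓ K⁆ := Subgroup.commutator_comm _ _
        _ = ⊥ := hc
    have h3 : ⁅⁅L, N⁆, L⁆ = ⊥ := by rw [Subgroup.commutator_comm L N]; exact h2
    have h4 : ⁅⁅L, L⁆, N⁆ = ⊥ := Subgroup.commutator_commutator_eq_bot_of_rotate h3 h2
    rwa [hperf] at h4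

/-- A component `L` normalizing a subgroup `H` either lies in `H` or centralizes it. -/
theorem component_le_or_comm {L H : Subgroup G} (hL : Cfsg.IsComponent L)
    (hLH : L ≤ Subgroup.normalizer (H : Set G)) : L ≤ H ∨ ⁅L, H⁆ = ⊥ := by
  have hperf := component_perfect hL
  have hn : (H.subgroupOf L).Normal := Subgroup.normal_subgroupOf_of_le_normalizer hLH
  rcases quasisimple_normal hL.2 (H.subgroupOf L) with h | h
  · left
    exact Subgroup.subgroupOf_eq_top.mp h
  · right
    apply comm_eq_bot_of_inf hperf hLH L hL.1 le_rfl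
    rw [eq_bot_iff, Subgroup.commutator_le]
    intro l hl x hx
    have hx' : (⟨x, hx.2⟩ : L) ∈ H.subgroupOf L := by
      rw [Subgroup.mem_subgroupOf]; exact hx.1
    have hc := Subgroup.mem_center_iff.mp (h hx') ⟨l, hl⟩
    have hc' : l * x = x * l := congrArg Subtype.val hc
    rw [Subgroup.mem_bot, commutatorElement_def, hc']
    group

/-- A component and a subnormal subgroup: containment or commuting. -/
theorem component_subnormal {L H : Subgroup G} (hL : Cfsg.IsComponent L) (hH : H.IsSubnormal) :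
    L ≤ H ∨ ⁅L, H⁆ = ⊥ := by
  induction hH with
  | top => left; exact le_top
  | step H K h_le hSubn hN ih =>
    rcases ih with h | h
    · rw [Subgroup.normal_subgroupOf_iff_le_normalizer h_le] at hN
      exact component_le_or_comm hL (h.trans hN)
    · right
      rw [eq_bot_iff, ← h]
      exact Subgroup.commutator_mono le_rfl h_le

lemma component_nontrivial {L : Subgroup G} (hL : Cfsg.IsComponent L) : Nontrivial L := by
  have hs := hL.2.2
  have : Nontrivial (↥L ⧸ Subgroup.center ↥L) := hs.toNontrivial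
  exact (QuotientGroup.mk'_surjective (Subgroup.center ↥L)).nontrivial

/-- A component is not solvable. -/
lemma component_not_solvable {L : Subgroup G} (hL : Cfsg.IsComponent L) : ¬ Group.IsSolvable L := by
  have := component_nontrivial hL
  have hp : Group.IsPerfect L := hL.2.1
  exact Group.IsPerfect.not_isSolvable L

end Cfsg.Agent.Lib.Helper3
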