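import Mathlib
import Cfsg.Prelude.Def_CaseTheorems
import Cfsg.Prelude.Def_Local
import Cfsg.Prelude.Def_Solvable
import Cfsg.Agent.Lib.Helper3.Quasi
import Cfsg.Agent.Lib.Helper3.Comp

set_option autoImplicit false
open scoped commutatorElement

namespace Cfsg.Agent.Lib.Helper3

variable {G : Type*} [Group G]

lemma isNilpotent_of_comm {H : Type*} [inst : Group H] (h : ∀ a b : H, a * b = b * a) :
    Group.IsNilpotent H :=
  @CommGroup.isNilpotent H { inst with mul_comm := h }

/-- The image of a component under an automorphism is a component. -/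
lemma component_map_equiv {L : Subgroup G} (hL : Cfsg.IsComponent L) (φ : G ≃* G) :
    Cfsg.IsComponent (L.map φ.toMonoidHom) := by
  refine ⟨hL.1.map φ.surjective, ?_⟩
  exact isQuasisimple_of_mulEquiv (L.equivMapOfInjective _ φ.injective) hL.2

lemma component_le_layer {L : Subgroup G} (hL : Cfsg.IsComponent L) : L ≤ Cfsg.layer G :=
  le_sSup hL

lemma layer_le_iff {H : Subgroup G} :
    Cfsg.layer G ≤ H ↔ ∀ L : Subgroup G, Cfsg.IsComponent L → L ≤ H := by
  unfold Cfsg.layer
  rw [sSup_le_iff]
  rfl

/-- The layer is invariant under automorphisms. -/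
lemma layer_map_equiv (φ : G ≃* G) : (Cfsg.layer G).map φ.toMonoidHom = Cfsg.layer G := by
  have h : ∀ ψ : G ≃* G, (Cfsg.layer G).map ψ.toMonoidHom ≤ Cfsg.layer G := by
    intro ψ
    rw [Subgroup.map_le_iff_le_comap, layer_le_iff]
    intro L hL
    rw [← Subgroup.map_le_iff_le_comap]
    exact component_le_layer (component_map_equiv hL ψ)
  apply le_antisymm (h φ)
  intro x hx
  have := h φ.symm ⟨x, hx, rfl⟩
  refine ⟨φ.symm x, this, ?_⟩
  simp

instance layer_normal : (Cfsg.layer G).Normal := by
  refine ⟨fun n hn g => ?_⟩
  have := layer_map_equiv (MulAut.conj g)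
  rw [← this]
  exact ⟨n, hn, rfl⟩

/-- Distinct components commute. -/
theorem components_commute {L₁ L₂ : Subgroup G} (h₁ : Cfsg.IsComponent L₁)
    (h₂ : Cfsg.IsComponent L₂) (hne : L₁ ≠ L₂) : ⁅L₁, L₂⁆ = ⊥ := by
  rcases component_subnormal h₁ h₂.1 with h | h
  · rcases component_subnormal h₂ h₁.1 with h' | h'
    · exact absurd (le_antisymm h h') hne
    · rw [Subgroup.commutator_comm]; exact h'
  · exact h

/-- Each component is normal in the layer. -/
theorem layer_le_normalizer_component {L : Subgroup G} (hL : Cfsg.IsComponent L) :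
    Cfsg.layer G ≤ Subgroup.normalizer (L : Set G) := by
  rw [layer_le_iff]
  intro K hK
  by_cases h : K = L
  · rw [h]; exact Subgroup.le_normalizer
  · have := components_commute hK hL h
    rw [Subgroup.commutator_eq_bot_iff_le_centralizer] at this
    exact this.trans (Subgroup.centralizer_le_normalizer _)

/-- The layer centralizes every solvable normal subgroup. -/
theorem layer_le_centralizer_of_solvable (N : Subgroup G) [N.Normal] (hN : Group.IsSolvable N) :
    Cfsg.layer G ≤ Subgroup.centralizer (N : Set G) := by
  rw [layer_le_iff]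
  intro L hL
  have hLN : L ≤ Subgroup.normalizer (N : Set G) := by
    rw [Subgroup.normalizer_eq_top_iff.mpr inferInstance]; exact le_top
  rcases component_le_or_comm hL hLN with h | h
  · exfalso
    apply component_not_solvable hL
    exact Group.isSolvable_of_isSolvable_injective (Subgroup.inclusion_injective h)
  · exact Subgroup.commutator_eq_bot_iff_le_centralizer.mp h

/-- The layer and the Fitting subgroup commute. -/
theorem fitting_le_centralizer_layer :
    Cfsg.fittingSubgroup G ≤ Subgroup.centralizer (Cfsg.layer G : Set G) := by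
  unfold Cfsg.fittingSubgroup
  rw [sSup_le_iff]
  rintro N ⟨hNn, hNnil⟩
  have hs : Group.IsSolvable N := inferInstance
  have := layer_le_centralizer_of_solvable N hs
  exact Subgroup.le_centralizer_iff.mp this

theorem layer_le_centralizer_fitting :
    Cfsg.layer G ≤ Subgroup.centralizer (Cfsg.fittingSubgroup G : Set G) :=
  Subgroup.le_centralizer_iff.mp fitting_le_centralizer_layer

/-- The layer is perfect. -/
theorem layer_perfect : ⁅Cfsg.layer G, Cfsg.layer G⁆ = Cfsg.layer G := by
  apply le_antisymm (Subgroup.commutator_le_left _ _)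
  rw [layer_le_iff]
  intro L hL
  calc L = ⁅L, L⁆ := (component_perfect hL).symm
    _ ≤ ⁅Cfsg.layer G, Cfsg.layer G⁆ :=
      Subgroup.commutator_mono (component_le_layer hL) (component_le_layer hL)

/-- The centre of a component centralizes the layer. -/
theorem center_component_le_centralizer_layer {L : Subgroup G} (hL : Cfsg.IsComponent L) :
    (Subgroup.center L).map L.subtype ≤ Subgroup.centralizer (Cfsg.layer G : Set G) := by
  rw [Subgroup.le_centralizer_iff, layer_le_iff]
  intro K hK
  by_cases h : K = L
  · subst h
    intro k hk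
    rw [Subgroup.mem_centralizer_iff]
    rintro _ ⟨z, hz, rfl⟩
    have := Subgroup.mem_center_iff.mp hz ⟨k, hk⟩
    have h' : k * (z : G) = z * k := congrArg Subtype.val this
    exact h'.symm
  · have := components_commute hK hL h
    rw [Subgroup.commutator_eq_bot_iff_le_centralizer] at this
    exact this.trans (Subgroup.centralizer_le (Subgroup.map_subtype_le _))

end Cfsg.Agent.Lib.Helper3
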