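import Mathlib
import Cfsg.Agent.Lib.Helper3.Conj

set_option autoImplicit false
open scoped Pointwise

namespace Cfsg.Agent.Lib.Helper3

variable {G : Type*} [Group G]

/-- If `B` normalizes `A` and both are solvable then `A ⊔ B` is solvable. -/
theorem solvable_sup_of_le_normalizer {A B : Subgroup G} (hA : Group.IsSolvable A)
    (hB : Group.IsSolvable B) (h : B ≤ Subgroup.normalizer (A : Set G)) :
    Group.IsSolvable ↥(A ⊔ B) := by
  have hT : A ⊔ B ≤ Subgroup.normalizer (A : Set G) := sup_le Subgroup.le_normalizer h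
  have hn : (A.subgroupOf (A ⊔ B)).Normal := Subgroup.normal_subgroupOf_of_le_normalizer hT
  rw [Group.isSolvable_iff_subgroup_quotient (A.subgroupOf (A ⊔ B))]
  constructor
  · have e : ↥(A.subgroupOf (A ⊔ B)) ≃* ↥A := Subgroup.subgroupOfEquivOfLe le_sup_left
    exact Group.isSolvable_of_isSolvable_injective (f := e.toMonoidHom) e.injective
  · let φ : ↥B →* ↥(A ⊔ B) ⧸ A.subgroupOf (A ⊔ B) :=
      (QuotientGroup.mk' (A.subgroupOf (A ⊔ B))).comp (Subgroup.inclusion le_sup_right)
    have hφ : Function.Surjective φ := by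
      intro q
      obtain ⟨⟨t, ht⟩, rfl⟩ := QuotientGroup.mk'_surjective _ q
      have ht' : t ∈ ((A ⊔ B : Subgroup G) : Set G) := ht
      rw [Subgroup.coe_mul_of_right_le_normalizer_left A B h] at ht'
      obtain ⟨a, ha, b, hb, rfl⟩ := Set.mem_mul.mp ht'
      refine ⟨⟨b, hb⟩, ?_⟩
      show (QuotientGroup.mk' (A.subgroupOf (A ⊔ B))) (Subgroup.inclusion le_sup_right ⟨b, hb⟩)
        = (QuotientGroup.mk' (A.subgroupOf (A ⊔ B))) ⟨a * b, ht⟩
      rw [QuotientGroup.mk'_eq_mk']
      refine ⟨⟨b⁻¹ * a * b, ?_⟩, ?_, ?_⟩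
      · exact (A ⊔ B).mul_mem ((A ⊔ B).mul_mem ((A ⊔ B).inv_mem (le_sup_right (a := A) hb))
          (le_sup_left (b := B) ha)) (le_sup_right (a := A) hb)
      · rw [Subgroup.mem_subgroupOf]
        have := (Subgroup.mem_set_normalizer_iff''.mp (h hb) a).mp ha
        exact this
      · apply Subtype.ext
        simp only [Subgroup.coe_mul, Subgroup.coe_inclusion]
        group
    exact Group.isSolvable_of_surjective hφ

/-- A finite join of solvable subgroups, each normalized by all the others' join, is solvable: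
version for conjugates of `N` under a subgroup `K` normalizing `H ≥ N`, with `N ⊴ H`. -/
theorem solvable_iSup_conj [Finite G] {N H K : Subgroup G} (hNH : N ≤ H)
    (hHN : H ≤ Subgroup.normalizer (N : Set G)) (hKH : K ≤ Subgroup.normalizer (H : Set G))
    (hN : Group.IsSolvable N) :
    Group.IsSolvable ↥(⨆ k : K, N.map (MulAut.conj (k : G)).toMonoidHom) := by
  classical
  -- each conjugate is ≤ H, normalized by H, solvable
  have hle : ∀ k : K, N.map (MulAut.conj (k : G)).toMonoidHom ≤ H := by
    intro k
    rintro _ ⟨n, hn, rfl⟩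
    exact (Subgroup.mem_set_normalizer_iff.mp (hKH k.2) n).mp (hNH hn)
  have hnorm : ∀ k : K, H ≤ Subgroup.normalizer
      ((N.map (MulAut.conj (k : G)).toMonoidHom : Subgroup G) : Set G) := by
    intro k h hh
    rw [Subgroup.mem_normalizer_iff_map_conj_eq]
    show (N.map (MulAut.conj (k : G)).toMonoidHom).map (MulAut.conj h).toMonoidHom = _
    rw [map_conj_map_conj]
    -- h k = k (k⁻¹ h k), with k⁻¹ h k ∈ H normalizing N
    have h1 : (k : G)⁻¹ * h * k ∈ H :=
      (Subgroup.mem_set_normalizer_iff''.mp (hKH k.2) h).mp hh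
    have h2 : N.map (MulAut.conj ((k : G)⁻¹ * h * k)).toMonoidHom = N :=
      Subgroup.mem_normalizer_iff_map_conj_eq.mp (hHN h1)
    have h3 : h * (k : G) = k * ((k : G)⁻¹ * h * k) := by group
    rw [h3, ← map_conj_map_conj, h2]
  have hsolv : ∀ k : K, Group.IsSolvable ↥(N.map (MulAut.conj (k : G)).toMonoidHom) := by
    intro k
    have e : ↥N ≃* ↥(N.map (MulAut.conj (k : G)).toMonoidHom) :=
      N.equivMapOfInjective _ (MulAut.conj (k : G)).injective
    exact Group.isSolvable_of_surjective (f := e.toMonoidHom) e.surjective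
  -- finite induction
  have key : ∀ s : Finset K, Group.IsSolvable ↥(s.sup fun k : K => N.map (MulAut.conj (k : G)).toMonoidHom) ∧
      (s.sup fun k : K => N.map (MulAut.conj (k : G)).toMonoidHom) ≤ H := by
    intro s
    induction s using Finset.induction_on with
    | empty =>
      rw [Finset.sup_empty]
      exact ⟨inferInstance, bot_le⟩
    | insert a s _ ih =>
      rw [Finset.sup_insert]
      refine ⟨solvable_sup_of_le_normalizer (hsolv a) ih.1 (ih.2.trans (hnorm a)), sup_le (hle a) ih.2⟩
  have hfin : Finite K := inferInstance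
  have := Fintype.ofFinite K
  have h1 : (⨆ k : K, N.map (MulAut.conj (k : G)).toMonoidHom)
      = (Finset.univ : Finset K).sup fun k : K => N.map (MulAut.conj (k : G)).toMonoidHom := by
    rw [Finset.sup_eq_iSup]
    simp
  rw [h1]
  exact (key Finset.univ).1

/-- Every solvable normal subgroup of a subnormal subgroup lies in a solvable normal subgroup of the
whole group. -/
theorem exists_solvable_normal_of_subnormal [Finite G] {H : Subgroup G} (hH : H.IsSubnormal) :
    ∀ N : Subgroup G, N ≤ H → H ≤ Subgroup.normalizer (N : Set G) → Group.IsSolvable N →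
      ∃ R : Subgroup G, R.Normal ∧ Group.IsSolvable R ∧ N ≤ R := by
  induction hH with
  | top =>
    intro N _ hn hs
    exact ⟨N, Subgroup.normalizer_eq_top_iff.mp (top_le_iff.mp hn), hs, le_rfl⟩
  | step H K h_le hSubn hN ih =>
    intro N hNH hHN hs
    rw [Subgroup.normal_subgroupOf_iff_le_normalizer h_le] at hN
    set M := ⨆ k : K, N.map (MulAut.conj (k : G)).toMonoidHom with hM
    have hMs : Group.IsSolvable M := solvable_iSup_conj hNH hHN hN hs
    have hNM : N ≤ M := by
      have := le_iSup (fun k : K => N.map (MulAut.conj (k : G)).toMonoidHom) (1 : K)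
      have e1 : N.map (MulAut.conj (((1 : K) : G))).toMonoidHom = N := by
        rw [Subgroup.coe_one]; exact map_conj_one N
      rw [← hM] at this
      exact e1 ▸ this
    have hMK : M ≤ K := by
      apply iSup_le
      intro k
      rintro _ ⟨n, hn, rfl⟩
      exact K.mul_mem (K.mul_mem k.2 (h_le (hNH hn))) (K.inv_mem k.2)
    have hKM : K ≤ Subgroup.normalizer (M : Set G) := by
      have hsub : ∀ k' ∈ K, M.map (MulAut.conj k').toMonoidHom ≤ M := by
        intro k' hk'
        rw [hM, Subgroup.map_iSup]
        apply iSup_le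
        intro k
        rw [map_conj_map_conj]
        exact le_iSup (fun k : K => N.map (MulAut.conj (k : G)).toMonoidHom)
          (⟨k' * k, K.mul_mem hk' k.2⟩ : K)
      intro k' hk'
      rw [Subgroup.mem_normalizer_iff_map_conj_eq]
      show M.map (MulAut.conj k').toMonoidHom = M
      apply le_antisymm (hsub k' hk')
      have := hsub k'⁻¹ (K.inv_mem hk')
      rw [map_conj_le_iff, inv_inv] at this
      exact this
    obtain ⟨R, hRn, hRs, hMR⟩ := ih M hMK hKM hMs
    exact ⟨R, hRn, hRs, hNM.trans hMR⟩

end Cfsg.Agent.Lib.Helper3
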