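import Mathlib
import Cfsg.Prelude.Def_CaseTheorems
import Cfsg.Prelude.Def_Local
import Cfsg.Prelude.Def_Solvable
import Cfsg.Agent.Lib.Helper3.Quasi
import Cfsg.Agent.Lib.Helper3.Comp
import Cfsg.Agent.Lib.Helper3.Layer
import Cfsg.Agent.Lib.Helper3.Radical

set_option autoImplicit false
open scoped commutatorElement

namespace Cfsg.Agent.Lib.Helper3

variable {G : Type*} [Group G]

/-- If `⁅L,L⁆` is solvable then so is `L`. -/
lemma isSolvable_of_commutator_solvable {L : Subgroup G} (h : Group.IsSolvable ↥(⁅L, L⁆ : Subgroup G)) :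
    Group.IsSolvable ↥L := by
  rw [Group.isSolvable_iff_subgroup_quotient (commutator ↥L)]
  constructor
  · have e : ↥(commutator ↥L) ≃* ↥((commutator ↥L).map L.subtype) :=
      (commutator ↥L).equivMapOfInjective _ L.subtype_injective
    have h2 : (commutator ↥L).map L.subtype = ⁅L, L⁆ := Subgroup.map_subtype_commutator L
    rw [← h2] at h
    exact Group.isSolvable_of_isSolvable_injective (f := e.toMonoidHom) e.injective
  · have : IsMulCommutative (↥L ⧸ commutator ↥L) :=
      (Subgroup.Normal.quotient_commutative_iff_commutator_le).mpr le_rfl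
    exact Group.isSolvable_of_comm (fun a b => this.is_comm.comm a b)

/-- A subgroup of class at most two is nilpotent. -/
lemma isNilpotent_of_class_two {K : Subgroup G} (h : ⁅⁅K, K⁆, K⁆ = ⊥) : Group.IsNilpotent ↥K := by
  rw [Subgroup.isNilpotent_iff_lowerCentralSeries]
  exact ⟨2, by simp only [Subgroup.lowerCentralSeries_succ, Subgroup.lowerCentralSeries_zero]; exact h⟩

/-- A nontrivial perfect subgroup all of whose proper normal subgroups are central is quasisimple. -/
lemma quasisimple_of_normal_central {L : Subgroup G} (hperf : ⁅L, L⁆ = L) (hne : L ≠ ⊥)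
    (h : ∀ N : Subgroup G, N ≤ L → L ≤ Subgroup.normalizer (N : Set G) →
      N = L ∨ ∀ n ∈ N, ∀ l ∈ L, l * n = n * l) : Cfsg.IsQuasisimple ↥L := by
  have hP : Group.IsPerfect ↥L := Subgroup.isPerfect_iff.mpr hperf
  refine ⟨hP, ?_⟩
  have hnt : Nontrivial (↥L ⧸ Subgroup.center ↥L) := by
    by_contra hcon
    rw [not_nontrivial_iff_subsingleton] at hcon
    have h1 : Subgroup.center ↥L = ⊤ := by
      rw [← Subgroup.index_eq_one, Subgroup.index_eq_card]
      exact Nat.card_unique
    have h2 : IsMulCommutative ↥L := Subgroup.center_eq_top_iff.mp h1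
    have h3 : Subsingleton ↥L := Group.IsPerfect.subsingleton_of_isMulCommutative
    exact hne (Subgroup.eq_bot_of_subsingleton L)
  refine { toNontrivial := hnt, eq_bot_or_eq_top_of_normal := ?_ }
  intro Hbar hHn
  set N := Hbar.comap (QuotientGroup.mk' (Subgroup.center ↥L)) with hN
  have hNn : N.Normal := hHn.comap _
  have hmap : N.map (QuotientGroup.mk' (Subgroup.center ↥L)) = Hbar :=
    Subgroup.map_comap_eq_self_of_surjective (QuotientGroup.mk'_surjective _) Hbar
  have hN'L : N.map L.subtype ≤ L := Subgroup.map_subtype_le N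
  have hnorm : L ≤ Subgroup.normalizer ((N.map L.subtype : Subgroup G) : Set G) := by
    intro l hl
    rw [Subgroup.mem_set_normalizer_iff]
    intro x
    constructor
    · rintro ⟨n, hn, rfl⟩
      exact ⟨⟨l, hl⟩ * n * ⟨l, hl⟩⁻¹, hNn.conj_mem n hn ⟨l, hl⟩, rfl⟩
    · rintro ⟨n, hn, hx⟩
      have := hNn.conj_mem n hn (⟨l, hl⟩⁻¹ : L)
      refine ⟨_, this, ?_⟩
      simp only [Subgroup.coe_subtype, Subgroup.coe_mul, Subgroup.coe_inv, inv_inv] at hx ⊢
      rw [hx]; group
  rcases h (N.map L.subtype) hN'L hnorm with h1 | h1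
  · right
    have hNtop : N = ⊤ := by
      apply Subgroup.map_injective L.subtype_injective
      rw [h1, ← MonoidHom.range_eq_map, Subgroup.range_subtype]
    rw [← hmap, hNtop, ← MonoidHom.range_eq_map, MonoidHom.range_eq_top]
    exact QuotientGroup.mk'_surjective _
  · left
    have hNc : N ≤ Subgroup.center ↥L := by
      intro n hn
      rw [Subgroup.mem_center_iff]
      intro g
      apply Subtype.ext
      exact h1 n ⟨n, hn, rfl⟩ g g.2
    rw [← hmap, eq_bot_iff]
    calc N.map (QuotientGroup.mk' (Subgroup.center ↥L))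
        ≤ (Subgroup.center ↥L).map (QuotientGroup.mk' (Subgroup.center ↥L)) := Subgroup.map_mono hNc
      _ = ⊥ := QuotientGroup.map_mk'_self _

/-- Main lemma: if `W ⊴ G` contains `F(G)` but not its own centralizer, then some component of `G`
centralizes `W`. -/
theorem exists_component_le_centralizer [Finite G] (W : Subgroup G) [hWn : W.Normal]
    (hF : Cfsg.fittingSubgroup G ≤ W) (hC : ¬ Subgroup.centralizer (W : Set G) ≤ W) :
    ∃ L : Subgroup G, Cfsg.IsComponent L ∧ L ≤ Subgroup.centralizer (W : Set G) := by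
  classical
  set C := Subgroup.centralizer (W : Set G) with hCdef
  have hCn : C.Normal := Subgroup.normal_centralizer
  -- Step 1: minimal normal K ≤ C with K ≰ W
  obtain ⟨K, ⟨hKn, hKC, hKW⟩, hKmin⟩ := exists_minimal_of_wellFoundedLT
    (fun K : Subgroup G => K.Normal ∧ K ≤ C ∧ ¬ K ≤ W) ⟨C, hCn, le_rfl, hC⟩
  have hKcomm : ∀ k ∈ K, ∀ w ∈ W, w * k = k * w := fun k hk w hw =>
    Subgroup.mem_centralizer_iff.mp (hKC hk) w hw
  -- Step 2: K perfect
  have hK'n : (⁅K, K⁆ : Subgroup G).Normal := inferInstance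
  have hK'K : ⁅K, K⁆ ≤ K := Subgroup.commutator_le_left K K
  have hKperf : ⁅K, K⁆ = K := by
    by_cases h : ⁅K, K⁆ ≤ W
    · exfalso
      apply hKW
      have h1 : ⁅⁅K, K⁆, K⁆ = ⊥ := by
        rw [Subgroup.commutator_eq_bot_iff_le_centralizer]
        intro x hx
        rw [Subgroup.mem_centralizer_iff]
        intro k hk
        exact (hKcomm k hk x (h hx)).symm
      have hnil : Group.IsNilpotent ↥K := isNilpotent_of_class_two h1
      exact (le_sSup (show K ∈ {N : Subgroup G | N.Normal ∧ Group.IsNilpotent N} from ⟨hKn, hnil⟩)).trans hF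
    · exact le_antisymm hK'K (hKmin ⟨hK'n, hK'K.trans hKC, h⟩ hK'K)
  have hKne : K ≠ ⊥ := by
    intro h; apply hKW; rw [h]; exact bot_le
  have hKns : ¬ Group.IsSolvable ↥K := by
    have hP : Group.IsPerfect ↥K := Subgroup.isPerfect_iff.mpr hKperf
    have hnt : Nontrivial ↥K := (Subgroup.nontrivial_iff_ne_bot K).mpr hKne
    exact Group.IsPerfect.not_isSolvable ↥K
  -- Step 3: minimal nonsolvable subnormal L ≤ K
  obtain ⟨L, ⟨hLsn, hLK, hLns⟩, hLmin⟩ := exists_minimal_of_wellFoundedLT
    (fun L : Subgroup G => L.IsSubnormal ∧ L ≤ K ∧ ¬ Group.IsSolvable ↥L)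
    ⟨K, hKn.isSubnormal, le_rfl, hKns⟩
  -- normal subgroups of L are subnormal in G
  have hsub : ∀ N : Subgroup G, N ≤ L → L ≤ Subgroup.normalizer (N : Set G) → N.IsSubnormal :=
    fun N hNL hLN => Subgroup.IsSubnormal.step N L hNL hLsn
      ((Subgroup.normal_subgroupOf_iff_le_normalizer hNL).mpr hLN)
  have hLne : L ≠ ⊥ := by
    intro h
    apply hLns
    rw [h]
    infer_instance
  -- Step 4: L perfect
  have hL'L : ⁅L, L⁆ ≤ L := by
    rw [Subgroup.commutator_le]
    intro a ha b hb
    exact L.mul_mem (L.mul_mem (L.mul_mem ha hb) (L.inv_mem ha)) (L.inv_mem hb)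
  have hL'norm : L ≤ Subgroup.normalizer ((⁅L, L⁆ : Subgroup G) : Set G) := by
    intro l hl
    rw [Subgroup.mem_normalizer_iff_map_conj_eq]
    show (⁅L, L⁆).map (MulAut.conj l).toMonoidHom = ⁅L, L⁆
    rw [Subgroup.map_commutator]
    have : L.map (MulAut.conj l).toMonoidHom = L := by
      have := Subgroup.mem_normalizer_iff_map_conj_eq.mp (Subgroup.le_normalizer hl)
      exact this
    rw [this]
  have hLperf : ⁅L, L⁆ = L := by
    by_cases h : Group.IsSolvable ↥(⁅L, L⁆ : Subgroup G)
    · exact absurd (isSolvable_of_commutator_solvable h) hLns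
    · exact le_antisymm hL'L (hLmin ⟨hsub _ hL'L hL'norm, hL'L.trans hLK, h⟩ hL'L)
  -- Step 5: quasisimple
  have hq : Cfsg.IsQuasisimple ↥L := by
    apply quasisimple_of_normal_central hLperf hLne
    intro N hNL hLN
    by_cases hNs : Group.IsSolvable ↥N
    · right
      obtain ⟨R, hRn, hRs, hNR⟩ := exists_solvable_normal_of_subnormal hLsn N hNL hLN hNs
      have hRKn : (R ⊓ K).Normal := inferInstance
      have hRKW : R ⊓ K ≤ W := by
        by_contra hcon
        have hle := hKmin ⟨hRKn, inf_le_right.trans hKC, hcon⟩ inf_le_right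
        apply hKns
        have hKR : K ≤ R := hle.trans inf_le_left
        exact Group.isSolvable_of_isSolvable_injective (Subgroup.inclusion_injective hKR)
      intro n hn l hl
      exact (hKcomm l (hLK hl) n (hRKW ⟨hNR hn, hLK (hNL hn)⟩)).symm
    · left
      exact le_antisymm hNL (hLmin ⟨hsub N hNL hLN, hNL.trans hLK, hNs⟩ hNL)
  exact ⟨L, ⟨hLsn, hq⟩, hLK.trans hKC⟩

end Cfsg.Agent.Lib.Helper3
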