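import Mathlib
import Cfsg.Prelude.Def_CaseTheorems
import Cfsg.Prelude.Def_Local
import Cfsg.Prelude.Def_Solvable
import Cfsg.Agent.Lib.Helper3.FStar

set_option autoImplicit false
open scoped commutatorElement

namespace Cfsg.Agent.Lib.Helper3

variable {G : Type*} [Group G]

lemma fitting_normal : (Cfsg.fittingSubgroup G).Normal :=
  Subgroup.sSup_normal _ (fun _ h => h.1)

lemma normal_nilpotent_le_fitting {K : Subgroup G} (hn : K.Normal) (hnil : Group.IsNilpotent ↥K) :
    K ≤ Cfsg.fittingSubgroup G :=
  le_sSup (show K ∈ {N : Subgroup G | N.Normal ∧ Group.IsNilpotent N} from ⟨hn, hnil⟩)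

/-- A solvable normal subgroup centralizing `F(G)` lies in `F(G)`. -/
theorem solvable_normal_le_fitting [Finite G] (D : Subgroup G) (hDn : D.Normal)
    (hDs : Group.IsSolvable ↥D)
    (hDC : D ≤ Subgroup.centralizer (Cfsg.fittingSubgroup G : Set G)) :
    D ≤ Cfsg.fittingSubgroup G := by
  by_contra hcon
  obtain ⟨K, ⟨hKn, hKs, hKC, hKF⟩, hKmin⟩ := exists_minimal_of_wellFoundedLT
    (fun K : Subgroup G => K.Normal ∧ Group.IsSolvable ↥K ∧
      K ≤ Subgroup.centralizer (Cfsg.fittingSubgroup G : Set G) ∧ ¬ K ≤ Cfsg.fittingSubgroup G)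
    ⟨D, hDn, hDs, hDC, hcon⟩
  have hK'n : (⁅K, K⁆ : Subgroup G).Normal := inferInstance
  have hK'K : ⁅K, K⁆ ≤ K := Subgroup.commutator_le_left K K
  have hK's : Group.IsSolvable ↥(⁅K, K⁆ : Subgroup G) :=
    Group.isSolvable_of_isSolvable_injective (Subgroup.inclusion_injective hK'K)
  have hKne : K ≠ ⊥ := by
    intro h; apply hKF; rw [h]; exact bot_le
  have hlt : ⁅K, K⁆ < K := by
    have hnt : Nontrivial ↥K := (Subgroup.nontrivial_iff_ne_bot K).mpr hKne
    have h1 := Group.IsSolvable.commutator_lt_top_of_nontrivial ↥K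
    have h2 : (commutator ↥K).map K.subtype = ⁅K, K⁆ := Subgroup.map_subtype_commutator K
    rw [← h2]
    have h3 : (⊤ : Subgroup ↥K).map K.subtype = K := by
      rw [← MonoidHom.range_eq_map, Subgroup.range_subtype]
    conv_rhs => rw [← h3]
    exact (Subgroup.map_lt_map_iff_of_injective K.subtype_injective).mpr h1
  have hK'F : ⁅K, K⁆ ≤ Cfsg.fittingSubgroup G := by
    by_contra h
    exact absurd (hKmin ⟨hK'n, hK's, hK'K.trans hKC, h⟩ hK'K) (not_le_of_gt hlt)
  apply hKF
  apply normal_nilpotent_le_fitting hKn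
  apply isNilpotent_of_class_two
  rw [Subgroup.commutator_eq_bot_iff_le_centralizer]
  intro x hx
  rw [Subgroup.mem_centralizer_iff]
  intro k hk
  exact (Subgroup.mem_centralizer_iff.mp (hKC hk) x (hK'F hx)).symm

/-- The Fitting subgroup is solvable. -/
theorem fitting_solvable [Finite G] : Group.IsSolvable ↥(Cfsg.fittingSubgroup G) := by
  classical
  have hfin : Set.Finite {N : Subgroup G | N.Normal ∧ Group.IsNilpotent N} := Set.toFinite _
  have key : ∀ s : Finset (Subgroup G), (∀ N ∈ s, N.Normal ∧ Group.IsNilpotent N) →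
      Group.IsSolvable ↥(s.sup id) := by
    intro s
    induction s using Finset.induction_on with
    | empty =>
      intro _
      rw [Finset.sup_empty]
      infer_instance
    | insert a s _ ih =>
      intro h
      rw [Finset.sup_insert]
      have ha := h a (Finset.mem_insert_self a s)
      have hs := ih (fun N hN => h N (Finset.mem_insert_of_mem hN))
      have han : a.Normal := ha.1
      have hanil : Group.IsNilpotent ↥a := ha.2
      have : Group.IsSolvable ↥a := inferInstance
      apply solvable_sup_of_le_normalizer this hs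
      rw [Subgroup.normalizer_eq_top_iff.mpr han]
      exact le_top
  have := key hfin.toFinset (fun N hN => (Set.Finite.mem_toFinset hfin).mp hN)
  rw [Finset.sup_id_eq_sSup, Set.Finite.coe_toFinset] at this
  exact this

end Cfsg.Agent.Lib.Helper3
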