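import Mathlib

set_option autoImplicit false

namespace Cfsg.Agent.Lib.Helper3

variable {G : Type*} [Group G]

/-- to check `g ∈ N(A)` it suffices that `g` and `g⁻¹` conjugate `A` into `A` -/
lemma mem_normalizer_of_conj_mem {A : Subgroup G} {g : G}
    (h1 : ∀ x ∈ A, g * x * g⁻¹ ∈ A) (h2 : ∀ x ∈ A, g⁻¹ * x * g ∈ A) :
    g ∈ Subgroup.normalizer (A : Set G) := by
  rw [Subgroup.mem_set_normalizer_iff]
  intro x
  constructor
  · exact h1 x
  · intro hx
    have := h2 _ hx
    have e : g⁻¹ * (g * x * g⁻¹) * g = x := by group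
    rwa [e] at this

lemma conj_mem_of_mem_normalizer' {A : Subgroup G} {g : G}
    (hg : g ∈ Subgroup.normalizer (A : Set G)) {x : G} (hx : x ∈ A) : g * x * g⁻¹ ∈ A :=
  (Subgroup.mem_set_normalizer_iff.mp hg x).mp hx

lemma conj_inv_mem_of_mem_normalizer' {A : Subgroup G} {g : G}
    (hg : g ∈ Subgroup.normalizer (A : Set G)) {x : G} (hx : x ∈ A) : g⁻¹ * x * g ∈ A := by
  have := conj_mem_of_mem_normalizer' (Subgroup.inv_mem _ hg) hx
  simpa using this

lemma normalizer_inf_normalizer_le (A B : Subgroup G) :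
    Subgroup.normalizer (A : Set G) ⊓ Subgroup.normalizer (B : Set G) ≤
      Subgroup.normalizer ((A ⊓ B : Subgroup G) : Set G) := by
  rintro g ⟨hA, hB⟩
  have hA : g ∈ Subgroup.normalizer (A : Set G) := hA
  have hB : g ∈ Subgroup.normalizer (B : Set G) := hB
  apply mem_normalizer_of_conj_mem
  · rintro x ⟨hxA, hxB⟩
    exact ⟨conj_mem_of_mem_normalizer' hA hxA, conj_mem_of_mem_normalizer' hB hxB⟩
  · rintro x ⟨hxA, hxB⟩
    exact ⟨conj_inv_mem_of_mem_normalizer' hA hxA, conj_inv_mem_of_mem_normalizer' hB hxB⟩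

lemma normalizer_le_normalizer_centralizer (M : Subgroup G) :
    Subgroup.normalizer (M : Set G) ≤
      Subgroup.normalizer ((Subgroup.centralizer (M : Set G) : Subgroup G) : Set G) := by
  have key : ∀ g : G, g ∈ Subgroup.normalizer (M : Set G) → ∀ x ∈ Subgroup.centralizer (M : Set G),
      g * x * g⁻¹ ∈ Subgroup.centralizer (M : Set G) := by
    intro g hg x hx
    rw [Subgroup.mem_centralizer_iff]
    intro m hm
    have h1 : g⁻¹ * m * g ∈ M := conj_inv_mem_of_mem_normalizer' hg hm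
    have h2 := Subgroup.mem_centralizer_iff.mp hx _ h1
    calc m * (g * x * g⁻¹) = g * ((g⁻¹ * m * g) * x) * g⁻¹ := by group
      _ = g * (x * (g⁻¹ * m * g)) * g⁻¹ := by rw [h2]
      _ = g * x * g⁻¹ * m := by group
  intro g hg
  apply mem_normalizer_of_conj_mem
  · exact key g hg
  · intro x hx
    have := key g⁻¹ (Subgroup.inv_mem _ hg) x hx
    simpa using this

lemma le_normalizer_of_normal {A : Subgroup G} (hA : A.Normal) (H : Subgroup G) :
    H ≤ Subgroup.normalizer (A : Set G) := by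
  rw [Subgroup.normalizer_eq_top_iff.mpr hA]; exact le_top

end Cfsg.Agent.Lib.Helper3
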