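import Mathlib
import Cfsg.Prelude.Def_CaseTheorems
import Cfsg.Prelude.Def_Local
import Cfsg.Prelude.Def_Solvable
import Cfsg.Agent.Lib.Helper3.Quasi
import Cfsg.Agent.Lib.Helper3.Comp
import Cfsg.Agent.Lib.Helper3.Layer

set_option autoImplicit false
open scoped commutatorElement

namespace Cfsg.Agent.Lib.Helper3

variable {G : Type*} [Group G]

/-- `K` is subnormal in `H` (both subgroups of `G`). -/
def SubnIn (K H : Subgroup G) : Prop := K ≤ H ∧ (K.subgroupOf H).IsSubnormal

/-- `K` is a component of `H` (both subgroups of `G`). -/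
def CompIn (K H : Subgroup G) : Prop := SubnIn K H ∧ Cfsg.IsQuasisimple ↥K

lemma SubnIn.refl (H : Subgroup G) : SubnIn H H :=
  ⟨le_rfl, by rw [Subgroup.subgroupOf_self]; exact Subgroup.IsSubnormal.top⟩

/-- restrict to a smaller overgroup -/
lemma SubnIn.of_le {K H H' : Subgroup G} (h : SubnIn K H) (hK : K ≤ H') (hH : H' ≤ H) :
    SubnIn K H' := by
  refine ⟨hK, ?_⟩
  have h1 := h.2.comap (Subgroup.inclusion hH)
  have h2 : (K.subgroupOf H).comap (Subgroup.inclusion hH) = K.subgroupOf H' := by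
    ext x
    simp only [Subgroup.mem_comap, Subgroup.mem_subgroupOf, Subgroup.coe_inclusion]
  rwa [h2] at h1

/-- extend to a bigger overgroup in which `H'` is normal -/
lemma SubnIn.of_normal {K H' H : Subgroup G} (h : SubnIn K H') (hH : H' ≤ H)
    (hn : H ≤ Subgroup.normalizer (H' : Set G)) : SubnIn K H := by
  refine ⟨h.1.trans hH, ?_⟩
  have hH'n : (H'.subgroupOf H).Normal := Subgroup.normal_subgroupOf_of_le_normalizer hn
  have hle : K.subgroupOf H ≤ H'.subgroupOf H := by
    intro x hx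
    rw [Subgroup.mem_subgroupOf] at hx ⊢
    exact h.1 hx
  apply Subgroup.IsSubnormal.trans hle _ hH'n.isSubnormal
  let e : ↥(H'.subgroupOf H) ≃* ↥H' := Subgroup.subgroupOfEquivOfLe hH
  have h1 := h.2.comap e.toMonoidHom
  have h2 : (K.subgroupOf H').comap e.toMonoidHom = (K.subgroupOf H).subgroupOf (H'.subgroupOf H) := by
    ext x
    simp only [Subgroup.mem_comap, Subgroup.mem_subgroupOf]
    rfl
  rwa [h2] at h1

lemma SubnIn.top_iff {K : Subgroup G} : SubnIn K ⊤ ↔ K.IsSubnormal := by
  constructor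
  · rintro ⟨-, h⟩
    have h1 := h.map (f := (⊤ : Subgroup G).subtype) (fun x => ⟨⟨x, trivial⟩, rfl⟩)
    have h2 : (K.subgroupOf ⊤).map (⊤ : Subgroup G).subtype = K := by
      rw [Subgroup.subgroupOf_map_subtype, inf_top_eq]
    rwa [h2] at h1
  · intro h
    exact ⟨le_top, h.subgroupOf⟩

lemma CompIn.top_iff {K : Subgroup G} : CompIn K ⊤ ↔ Cfsg.IsComponent K := by
  unfold CompIn Cfsg.IsComponent
  rw [SubnIn.top_iff]

/-- link with components of the group `↥H` -/
lemma isComponent_subgroupOf_iff {K H : Subgroup G} (hKH : K ≤ H) :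
    Cfsg.IsComponent (K.subgroupOf H) ↔ CompIn K H := by
  have e : ↥(K.subgroupOf H) ≃* ↥K := Subgroup.subgroupOfEquivOfLe hKH
  constructor
  · rintro ⟨h1, h2⟩
    exact ⟨⟨hKH, h1⟩, isQuasisimple_of_mulEquiv e h2⟩
  · rintro ⟨⟨-, h1⟩, h2⟩
    exact ⟨h1, isQuasisimple_of_mulEquiv e.symm h2⟩

lemma isComponent_iff_compIn_map {H : Subgroup G} (K' : Subgroup ↥H) :
    Cfsg.IsComponent K' ↔ CompIn (K'.map H.subtype) H := by
  have h1 : (K'.map H.subtype).subgroupOf H = K' :=
    Subgroup.comap_map_eq_self_of_injective H.subtype_injective K'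
  rw [← isComponent_subgroupOf_iff (Subgroup.map_subtype_le K'), h1]

/-- the layer of `↥H`, computed in `G` -/
lemma layer_map_le_iff {H M : Subgroup G} :
    (Cfsg.layer ↥H).map H.subtype ≤ M ↔ ∀ K, CompIn K H → K ≤ M := by
  rw [Subgroup.map_le_iff_le_comap, layer_le_iff]
  constructor
  · intro h K hK
    have h1 := h (K.subgroupOf H) ((isComponent_subgroupOf_iff hK.1.1).mpr hK)
    intro x hx
    exact h1 (show (⟨x, hK.1.1 hx⟩ : H) ∈ K.subgroupOf H from hx)
  · intro h K' hK'
    rw [← Subgroup.map_le_iff_le_comap]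
    exact h _ ((isComponent_iff_compIn_map K').mp hK')

lemma compIn_le_layer_map {K H : Subgroup G} (hK : CompIn K H) :
    K ≤ (Cfsg.layer ↥H).map H.subtype :=
  layer_map_le_iff.mp le_rfl K hK

/-- A component of `H` centralizes every solvable subgroup of `H` which it normalizes. -/
theorem CompIn.centralizes_solvable {K H M : Subgroup G} (hK : CompIn K H) (hMH : M ≤ H)
    (hMs : Group.IsSolvable ↥M) (hKM : K ≤ Subgroup.normalizer (M : Set G)) :
    K ≤ Subgroup.centralizer (M : Set G) := by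
  have hL : Cfsg.IsComponent (K.subgroupOf H) := (isComponent_subgroupOf_iff hK.1.1).mpr hK
  have hnorm : K.subgroupOf H ≤ Subgroup.normalizer ((M.subgroupOf H : Subgroup ↥H) : Set ↥H) := by
    intro x hx
    rw [Subgroup.mem_set_normalizer_iff]
    intro y
    show y ∈ M.subgroupOf H ↔ x * y * x⁻¹ ∈ M.subgroupOf H
    rw [Subgroup.mem_subgroupOf, Subgroup.mem_subgroupOf]
    have := Subgroup.mem_set_normalizer_iff.mp (hKM hx) (y : G)
    simpa using this
  have hs : Group.IsSolvable ↥(M.subgroupOf H) := by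
    have e : ↥(M.subgroupOf H) ≃* ↥M := Subgroup.subgroupOfEquivOfLe hMH
    exact Group.isSolvable_of_isSolvable_injective (f := e.toMonoidHom) e.injective
  rcases component_le_or_comm hL hnorm with h | h
  · exfalso
    apply component_not_solvable hL
    exact Group.isSolvable_of_isSolvable_injective (Subgroup.inclusion_injective h)
  · intro k hk
    rw [Subgroup.mem_centralizer_iff]
    intro m hm
    have h1 := Subgroup.commutator_eq_bot_iff_le_centralizer.mp h
      (show (⟨k, hK.1.1 hk⟩ : H) ∈ K.subgroupOf H from hk)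
    have h2 := Subgroup.mem_centralizer_iff.mp h1 ⟨m, hMH hm⟩
      (show (⟨m, hMH hm⟩ : H) ∈ M.subgroupOf H from hm)
    exact congrArg Subtype.val h2

end Cfsg.Agent.Lib.Helper3
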