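import Mathlib
import Cfsg.Prelude.Def_CaseTheorems
import Cfsg.Prelude.Def_Local
import Cfsg.Prelude.Def_Solvable
import Cfsg.Agent.Lib.Helper3.Quasi
import Cfsg.Agent.Lib.Helper3.Comp
import Cfsg.Agent.Lib.Helper3.Layer

set_option autoImplicit false
open scoped commutatorElement

namespace Cfsg.Agent.Lib.Helper3

section equiv
variable {A B : Type*} [Group A] [Group B]

lemma map_symm_map (e : A ≃* B) (K : Subgroup B) :
    (K.map e.symm.toMonoidHom).map e.toMonoidHom = K := by
  rw [Subgroup.map_map]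
  ext x
  simp

lemma map_map_symm (e : A ≃* B) (K : Subgroup A) :
    (K.map e.toMonoidHom).map e.symm.toMonoidHom = K := by
  rw [Subgroup.map_map]
  ext x
  simp

/-- transport of a `sSup` of subgroups along an isomorphism -/
lemma map_sSup_equiv (e : A ≃* B) (SA : Set (Subgroup A)) (SB : Set (Subgroup B))
    (h1 : ∀ K ∈ SA, K.map e.toMonoidHom ∈ SB) (h2 : ∀ K ∈ SB, K.map e.symm.toMonoidHom ∈ SA) :
    (sSup SA).map e.toMonoidHom = sSup SB := by
  apply le_antisymm
  · rw [Subgroup.map_le_iff_le_comap, sSup_le_iff]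
    intro K hK
    rw [← Subgroup.map_le_iff_le_comap]
    exact le_sSup (h1 K hK)
  · rw [sSup_le_iff]
    intro K hK
    have := le_sSup (h2 K hK)
    calc K = (K.map e.symm.toMonoidHom).map e.toMonoidHom := (map_symm_map e K).symm
      _ ≤ _ := Subgroup.map_mono this

lemma normal_map_equiv (e : A ≃* B) {K : Subgroup A} (hK : K.Normal) :
    (K.map e.toMonoidHom).Normal := hK.map e.toMonoidHom e.surjective

lemma card_map_equiv (e : A ≃* B) (K : Subgroup A) :
    Nat.card ↥(K.map e.toMonoidHom) = Nat.card ↥K :=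
  (Nat.card_congr (K.equivMapOfInjective e.toMonoidHom e.injective).toEquiv).symm

lemma isNilpotent_map_equiv (e : A ≃* B) {K : Subgroup A} (hK : Group.IsNilpotent ↥K) :
    Group.IsNilpotent ↥(K.map e.toMonoidHom) :=
  Group.nilpotent_of_mulEquiv (K.equivMapOfInjective e.toMonoidHom e.injective)

lemma isSolvable_map_equiv (e : A ≃* B) {K : Subgroup A} (hK : Group.IsSolvable ↥K) :
    Group.IsSolvable ↥(K.map e.toMonoidHom) :=
  Group.isSolvable_of_isSolvable_injective
    (f := (K.equivMapOfInjective e.toMonoidHom e.injective).symm.toMonoidHom)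
    (K.equivMapOfInjective e.toMonoidHom e.injective).symm.injective

theorem pCore_map_equiv (p : ℕ) (e : A ≃* B) :
    (Cfsg.pCore p A).map e.toMonoidHom = Cfsg.pCore p B := by
  unfold Cfsg.pCore
  apply map_sSup_equiv
  · rintro K ⟨h1, h2⟩
    exact ⟨normal_map_equiv e h1, h2.map _⟩
  · rintro K ⟨h1, h2⟩
    exact ⟨normal_map_equiv e.symm h1, h2.map _⟩

theorem pPrimeCore_map_equiv (p : ℕ) (e : A ≃* B) :
    (Cfsg.pPrimeCore p A).map e.toMonoidHom = Cfsg.pPrimeCore p B := by
  unfold Cfsg.pPrimeCore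
  apply map_sSup_equiv
  · rintro K ⟨h1, h2⟩
    refine ⟨normal_map_equiv e h1, ?_⟩
    show (Nat.card ↥(K.map e.toMonoidHom)).Coprime p
    rw [card_map_equiv]; exact h2
  · rintro K ⟨h1, h2⟩
    refine ⟨normal_map_equiv e.symm h1, ?_⟩
    show (Nat.card ↥(K.map e.symm.toMonoidHom)).Coprime p
    rw [card_map_equiv]; exact h2

theorem fitting_map_equiv (e : A ≃* B) :
    (Cfsg.fittingSubgroup A).map e.toMonoidHom = Cfsg.fittingSubgroup B := by
  unfold Cfsg.fittingSubgroup
  apply map_sSup_equiv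
  · rintro K ⟨h1, h2⟩
    exact ⟨normal_map_equiv e h1, isNilpotent_map_equiv e h2⟩
  · rintro K ⟨h1, h2⟩
    exact ⟨normal_map_equiv e.symm h1, isNilpotent_map_equiv e.symm h2⟩

lemma component_map_equiv' {L : Subgroup A} (hL : Cfsg.IsComponent L) (e : A ≃* B) :
    Cfsg.IsComponent (L.map e.toMonoidHom) := by
  refine ⟨hL.1.map e.surjective, ?_⟩
  exact isQuasisimple_of_mulEquiv (L.equivMapOfInjective _ e.injective) hL.2

theorem layer_map_equiv' (e : A ≃* B) :
    (Cfsg.layer A).map e.toMonoidHom = Cfsg.layer B := by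
  unfold Cfsg.layer
  apply map_sSup_equiv
  · intro K hK
    exact component_map_equiv' hK e
  · intro K hK
    exact component_map_equiv' hK e.symm

theorem genFitting_map_equiv (e : A ≃* B) :
    (Cfsg.generalizedFittingSubgroup A).map e.toMonoidHom = Cfsg.generalizedFittingSubgroup B := by
  unfold Cfsg.generalizedFittingSubgroup
  rw [Subgroup.map_sup, layer_map_equiv', fitting_map_equiv]

instance pCore_characteristic (p : ℕ) : (Cfsg.pCore p A).Characteristic :=
  Subgroup.characteristic_iff_map_eq.mpr (fun φ => pCore_map_equiv p φ)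

instance pPrimeCore_characteristic (p : ℕ) : (Cfsg.pPrimeCore p A).Characteristic :=
  Subgroup.characteristic_iff_map_eq.mpr (fun φ => pPrimeCore_map_equiv p φ)

instance fitting_characteristic : (Cfsg.fittingSubgroup A).Characteristic :=
  Subgroup.characteristic_iff_map_eq.mpr (fun φ => fitting_map_equiv φ)

instance layer_characteristic : (Cfsg.layer A).Characteristic :=
  Subgroup.characteristic_iff_map_eq.mpr (fun φ => layer_map_equiv' φ)

instance genFitting_characteristic : (Cfsg.generalizedFittingSubgroup A).Characteristic :=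
  Subgroup.characteristic_iff_map_eq.mpr (fun φ => genFitting_map_equiv φ)

end equiv

section rel
variable {G : Type*} [Group G]

/-- Conjugation by a normalizing element as an automorphism of the subgroup. -/
def normAut (Y : Subgroup G) (x : G) (hx : x ∈ Subgroup.normalizer (Y : Set G)) : Y ≃* Y where
  toFun b := ⟨x * b * x⁻¹, (Subgroup.mem_set_normalizer_iff.mp hx b).mp b.2⟩
  invFun b := ⟨x⁻¹ * b * x, (Subgroup.mem_set_normalizer_iff''.mp hx b).mp b.2⟩
  left_inv b := by apply Subtype.ext; simp only []; group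
  right_inv b := by apply Subtype.ext; simp only []; group
  map_mul' a b := by apply Subtype.ext; simp only [Subgroup.coe_mul]; group

lemma normAut_apply (Y : Subgroup G) (x : G) (hx : x ∈ Subgroup.normalizer (Y : Set G)) (b : Y) :
    ((normAut Y x hx b : Y) : G) = x * b * x⁻¹ := rfl

/-- A characteristic subgroup of `Y` is normalized by the normalizer of `Y`. -/
theorem normalizer_le_normalizer_map_char (Y : Subgroup G) (C : Subgroup ↥Y) [hC : C.Characteristic] :
    Subgroup.normalizer (Y : Set G) ≤ Subgroup.normalizer ((C.map Y.subtype : Subgroup G) : Set G) := by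
  have key : ∀ g ∈ Subgroup.normalizer (Y : Set G), ∀ x ∈ C.map Y.subtype,
      g * x * g⁻¹ ∈ C.map Y.subtype := by
    rintro g hg x ⟨c, hc, rfl⟩
    have h1 := Subgroup.characteristic_iff_map_eq.mp hC (normAut Y g hg)
    have h2 : normAut Y g hg c ∈ C := by
      rw [← h1]; exact ⟨c, hc, rfl⟩
    exact ⟨normAut Y g hg c, h2, rfl⟩
  intro g hg
  rw [Subgroup.mem_set_normalizer_iff]
  intro x
  constructor
  · exact key g hg x
  · intro hx
    have := key g⁻¹ (Subgroup.inv_mem _ hg) _ hx
    have e : g⁻¹ * (g * x * g⁻¹) * g⁻¹⁻¹ = x := by group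
    rwa [e] at this

/-- `H` normalizes the image of any normal subgroup of `↥H`. -/
lemma le_normalizer_map_of_normal {H : Subgroup G} (C : Subgroup ↥H) [hC : C.Normal] :
    H ≤ Subgroup.normalizer ((C.map H.subtype : Subgroup G) : Set G) := by
  have key : ∀ g ∈ H, ∀ x ∈ C.map H.subtype, g * x * g⁻¹ ∈ C.map H.subtype := by
    rintro g hg x ⟨c, hc, rfl⟩
    exact ⟨⟨g, hg⟩ * c * ⟨g, hg⟩⁻¹, hC.conj_mem c hc ⟨g, hg⟩, rfl⟩
  intro g hg
  rw [Subgroup.mem_set_normalizer_iff]
  intro x
  constructor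
  · exact key g hg x
  · intro hx
    have := key g⁻¹ (Subgroup.inv_mem _ hg) _ hx
    have e : g⁻¹ * (g * x * g⁻¹) * g⁻¹⁻¹ = x := by group
    rwa [e] at this

lemma pCore_normal' (p : ℕ) : (Cfsg.pCore p G).Normal :=
  Subgroup.sSup_normal _ (fun _ hN => hN.1)

lemma pPrimeCore_normal' (p : ℕ) : (Cfsg.pPrimeCore p G).Normal :=
  Subgroup.sSup_normal _ (fun _ hN => hN.1)

/-- a `p`-subgroup of `H` normalized by `H` lies in `O_p(H)` -/
lemma le_pCore_map {p : ℕ} {R H : Subgroup G} (hRH : R ≤ H) (hR : IsPGroup p R)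
    (hn : H ≤ Subgroup.normalizer (R : Set G)) : R ≤ (Cfsg.pCore p ↥H).map H.subtype := by
  have h1 : (R.subgroupOf H).Normal := Subgroup.normal_subgroupOf_of_le_normalizer hn
  have h2 : IsPGroup p ↥(R.subgroupOf H) :=
    hR.of_equiv (Subgroup.subgroupOfEquivOfLe hRH).symm
  have h3 : R.subgroupOf H ≤ Cfsg.pCore p ↥H := le_sSup ⟨h1, h2⟩
  intro x hx
  exact ⟨⟨x, hRH hx⟩, h3 (show (⟨x, hRH hx⟩ : H) ∈ R.subgroupOf H from hx), rfl⟩

end rel

end Cfsg.Agent.Lib.Helper3
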