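import Mathlib
import Cfsg.Prelude.Def_CaseTheorems
import Cfsg.Prelude.Def_Local
import Cfsg.Prelude.Def_Solvable
import Cfsg.Agent.Lib.Helper1.Fitting
import Cfsg.Agent.Lib.Helper1.Fitting2
import Cfsg.Agent.Lib.Helper3.Layer
import Cfsg.Agent.Lib.Helper3.FStar2
import Cfsg.Agent.Lib.Helper3.Transport
import Cfsg.Agent.Lib.Helper3.RelComp
import Cfsg.Agent.S0008

set_option autoImplicit false
open scoped commutatorElement

universe u

namespace Cfsg.Agent.Lib.Helper3

open Cfsg.Agent.Lib.Helper1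

/-- Generic principle: a characteristic "radical" `Φ` which is monotone for normal subgroups is
monotone for subnormal subgroups. -/
theorem subnormal_functor_le {G : Type u} [Group G] [Finite G]
    (Φ : ∀ (M : Type u) [Group M], Subgroup M)
    (hequiv : ∀ {A B : Type u} [Group A] [Group B] (e : A ≃* B), (Φ A).map e.toMonoidHom = Φ B)
    (hnormal : ∀ (M : Type u) [Group M] [Finite M] (Y : Subgroup M), Y.Normal →
      (Φ ↥Y).map Y.subtype ≤ Φ M)
    {H : Subgroup G} (hH : H.IsSubnormal) : (Φ ↥H).map H.subtype ≤ Φ G := by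
  induction hH with
  | top =>
    have e : ↥(⊤ : Subgroup G) ≃* G := Subgroup.topEquiv
    have h1 := hequiv (Subgroup.topEquiv (G := G))
    rw [← h1]
    apply le_of_eq
    congr 1
  | step H K hle hK hN ih =>
    have h1 := hnormal ↥K (H.subgroupOf K) hN
    have e : ↥(H.subgroupOf K) ≃* ↥H := Subgroup.subgroupOfEquivOfLe hle
    have h2 := hequiv (Subgroup.subgroupOfEquivOfLe hle)
    rw [← h2, Subgroup.map_map]
    have h3 : H.subtype.comp (Subgroup.subgroupOfEquivOfLe hle).toMonoidHom =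
        K.subtype.comp (H.subgroupOf K).subtype := by
      ext x
      rfl
    rw [h3, ← Subgroup.map_map]
    exact (Subgroup.map_mono h1).trans ih

variable {G : Type u} [Group G] [Finite G]

/-- `O_p(H) ≤ O_p(G)` for `H` subnormal. -/
theorem pCore_subnormal_le (p : ℕ) [Fact p.Prime] {H : Subgroup G} (hH : H.IsSubnormal) :
    (Cfsg.pCore p ↥H).map H.subtype ≤ Cfsg.pCore p G := by
  refine subnormal_functor_le (fun M _ => Cfsg.pCore p M) (fun e => pCore_map_equiv p e) ?_ hH
  intro M _ _ Y hY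
  have : ((Cfsg.pCore p ↥Y).map Y.subtype).Normal := inferInstance
  exact le_pCore _ this ((pCore_isPGroup).map _)

/-- `O_{p'}(H) ≤ O_{p'}(G)` for `H` subnormal. -/
theorem pPrimeCore_subnormal_le (p : ℕ) [Fact p.Prime] {H : Subgroup G} (hH : H.IsSubnormal) :
    (Cfsg.pPrimeCore p ↥H).map H.subtype ≤ Cfsg.pPrimeCore p G := by
  refine subnormal_functor_le (fun M _ => Cfsg.pPrimeCore p M)
    (fun e => pPrimeCore_map_equiv p e) ?_ hH
  intro M _ _ Y hY
  have : ((Cfsg.pPrimeCore p ↥Y).map Y.subtype).Normal := inferInstance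
  apply le_pPrimeCore _ this
  rw [Nat.card_congr ((Cfsg.pPrimeCore p ↥Y).equivMapOfInjective Y.subtype
    Y.subtype_injective).toEquiv.symm]
  exact pPrimeCore_coprime p

/-- `F(H) ≤ F(G)` for `H` subnormal. -/
theorem fitting_subnormal_le {H : Subgroup G} (hH : H.IsSubnormal) :
    (Cfsg.fittingSubgroup ↥H).map H.subtype ≤ Cfsg.fittingSubgroup G := by
  refine subnormal_functor_le (fun M _ => Cfsg.fittingSubgroup M)
    (fun e => fitting_map_equiv e) ?_ hH
  intro M _ _ Y hY
  have : ((Cfsg.fittingSubgroup ↥Y).map Y.subtype).Normal := inferInstance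
  apply normal_nilpotent_le_fitting this
  have h1 : Group.IsNilpotent ↥(Cfsg.fittingSubgroup ↥Y) := Cfsg.Agent.S0008.result
  exact Group.nilpotent_of_mulEquiv ((Cfsg.fittingSubgroup ↥Y).equivMapOfInjective Y.subtype
    Y.subtype_injective)

omit [Finite G] in
/-- `E(H) ≤ E(G)` for `H` subnormal. -/
theorem layer_subnormal_le {H : Subgroup G} (hH : H.IsSubnormal) :
    (Cfsg.layer ↥H).map H.subtype ≤ Cfsg.layer G := by
  rw [layer_map_le_iff]
  intro K hK
  apply component_le_layer
  refine ⟨?_, hK.2⟩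
  exact Subgroup.IsSubnormal.trans hK.1.1 hK.1.2 hH

/-- `F*(H) ≤ F*(G)` for `H` subnormal. -/
theorem genFitting_subnormal_le {H : Subgroup G} (hH : H.IsSubnormal) :
    (Cfsg.generalizedFittingSubgroup ↥H).map H.subtype ≤ Cfsg.generalizedFittingSubgroup G := by
  unfold Cfsg.generalizedFittingSubgroup
  rw [Subgroup.map_sup]
  exact sup_le_sup (layer_subnormal_le hH) (fitting_subnormal_le hH)

/-- A subnormal `p`-subgroup lies in `O_p(G)`. -/
theorem subnormal_pgroup_le_pCore (p : ℕ) [Fact p.Prime] {H : Subgroup G} (hH : H.IsSubnormal)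
    (hp : IsPGroup p ↥H) : H ≤ Cfsg.pCore p G := by
  have h1 : Cfsg.pCore p ↥H = ⊤ := by
    rw [eq_top_iff]
    exact le_pCore _ inferInstance (hp.to_subgroup _)
  have h2 := pCore_subnormal_le p hH
  rwa [h1, ← MonoidHom.range_eq_map, Subgroup.range_subtype] at h2

/-- A subnormal `p'`-subgroup lies in `O_{p'}(G)`. -/
theorem subnormal_pprime_le_pPrimeCore (p : ℕ) [Fact p.Prime] {H : Subgroup G}
    (hH : H.IsSubnormal) (hp : (Nat.card ↥H).Coprime p) : H ≤ Cfsg.pPrimeCore p G := by
  have h1 : Cfsg.pPrimeCore p ↥H = ⊤ := by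
    rw [eq_top_iff]
    apply le_pPrimeCore _ inferInstance
    rw [Nat.card_congr (Subgroup.topEquiv (G := ↥H)).toEquiv]
    exact hp
  have h2 := pPrimeCore_subnormal_le p hH
  rwa [h1, ← MonoidHom.range_eq_map, Subgroup.range_subtype] at h2

/-- A subnormal nilpotent subgroup lies in `F(G)`. -/
theorem subnormal_nilpotent_le_fitting {H : Subgroup G} (hH : H.IsSubnormal)
    (hn : Group.IsNilpotent ↥H) : H ≤ Cfsg.fittingSubgroup G := by
  have h1 : Cfsg.fittingSubgroup ↥H = ⊤ := by
    rw [eq_top_iff]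
    apply normal_nilpotent_le_fitting inferInstance
    exact Group.nilpotent_of_mulEquiv (Subgroup.topEquiv (G := ↥H)).symm
  have h2 := fitting_subnormal_le hH
  rwa [h1, ← MonoidHom.range_eq_map, Subgroup.range_subtype] at h2

end Cfsg.Agent.Lib.Helper3
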