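import Mathlib
import Cfsg.Prelude.Def_CaseTheorems
import Cfsg.Prelude.Def_Local
import Cfsg.Prelude.Def_Solvable
import Cfsg.Agent.Lib.Helper3.Layer
import Cfsg.Agent.Lib.Helper3.FStar2
import Cfsg.Agent.Lib.Helper3.Transport
import Cfsg.Agent.Lib.Helper3.RelComp
import Cfsg.Agent.Lib.Helper3.Subn
import Cfsg.Agent.S0008

set_option autoImplicit false
open scoped commutatorElement Pointwise

universe u

namespace Cfsg.Agent.Lib.Helper3

/-- quasi-nilpotent: `X = F(X) E(X)` -/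
def QN (X : Type*) [Group X] : Prop := Cfsg.fittingSubgroup X ⊔ Cfsg.layer X = ⊤

lemma QN.of_equiv {A B : Type*} [Group A] [Group B] (e : A ≃* B) (h : QN A) : QN B := by
  unfold QN at h ⊢
  rw [← fitting_map_equiv e, ← layer_map_equiv' e, ← Subgroup.map_sup, h,
    ← MonoidHom.range_eq_map, MonoidHom.range_eq_top]
  exact e.surjective

lemma mem_mul_of_mem_sup_left_normal {G : Type*} [Group G] {H N : Subgroup G}
    (h : H ≤ Subgroup.normalizer (N : Set G)) {x : G} (hx : x ∈ H ⊔ N) :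
    ∃ a ∈ H, ∃ b ∈ N, x = a * b := by
  have h1 : x ∈ ((H ⊔ N : Subgroup G) : Set G) := hx
  rw [Subgroup.coe_mul_of_left_le_normalizer_right H N h, Set.mem_mul] at h1
  obtain ⟨a, ha, b, hb, hab⟩ := h1
  exact ⟨a, ha, b, hb, hab.symm⟩

lemma isNilpotent_of_le {G : Type*} [Group G] {K H : Subgroup G} (h : K ≤ H)
    (hH : Group.IsNilpotent ↥H) : Group.IsNilpotent ↥K := by
  have e : ↥K ≃* ↥(Subgroup.inclusion h).range :=
    MonoidHom.ofInjective (Subgroup.inclusion_injective h)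
  exact Group.nilpotent_of_mulEquiv e.symm

variable {X : Type u} [Group X] [Finite X]

omit [Finite X] in
/-- a normal nilpotent subgroup of `X` contained in `S` lies in the image of `F(S)` -/
lemma le_fitting_map {T S : Subgroup X} (hTS : T ≤ S) (hn : S ≤ Subgroup.normalizer (T : Set X))
    (hnil : Group.IsNilpotent ↥T) : T ≤ (Cfsg.fittingSubgroup ↥S).map S.subtype := by
  have h1 : (T.subgroupOf S).Normal := Subgroup.normal_subgroupOf_of_le_normalizer hn
  have h2 : Group.IsNilpotent ↥(T.subgroupOf S) :=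
    Group.nilpotent_of_mulEquiv (Subgroup.subgroupOfEquivOfLe hTS).symm
  have h3 : T.subgroupOf S ≤ Cfsg.fittingSubgroup ↥S := normal_nilpotent_le_fitting h1 h2
  intro x hx
  exact ⟨⟨x, hTS hx⟩, h3 (show (⟨x, hTS hx⟩ : S) ∈ T.subgroupOf S from hx), rfl⟩

/-- Normal subgroups of quasi-nilpotent groups are quasi-nilpotent. -/
theorem QN.normal (hX : QN X) (S : Subgroup X) [hS : S.Normal] : QN ↥S := by
  set F := Cfsg.fittingSubgroup X with hF
  set E₁ := sSup {L : Subgroup X | Cfsg.IsComponent L ∧ L ≤ S} with hE₁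
  set E₂ := sSup {L : Subgroup X | Cfsg.IsComponent L ∧ ¬ L ≤ S} with hE₂
  have hFn : F.Normal := fitting_normal
  have hFnil : Group.IsNilpotent ↥F := Cfsg.Agent.S0008.result
  have hE : Cfsg.layer X ≤ E₁ ⊔ E₂ := by
    rw [layer_le_iff]
    intro L hL
    by_cases h : L ≤ S
    · exact (le_sSup (show L ∈ {L : Subgroup X | Cfsg.IsComponent L ∧ L ≤ S} from ⟨hL, h⟩)).trans
        le_sup_left
    · exact (le_sSup (show L ∈ {L : Subgroup X | Cfsg.IsComponent L ∧ ¬ L ≤ S} from ⟨hL, h⟩)).trans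
        le_sup_right
  have hE₁S : E₁ ≤ S := sSup_le (fun L hL => hL.2)
  have hE₂C : E₂ ≤ Subgroup.centralizer (S : Set X) := by
    apply sSup_le
    rintro L ⟨hL, hLS⟩
    have hLN : L ≤ Subgroup.normalizer (S : Set X) := by
      rw [Subgroup.normalizer_eq_top_iff.mpr hS]; exact le_top
    rcases component_le_or_comm hL hLN with h | h
    · exact absurd h hLS
    · exact Subgroup.commutator_eq_bot_iff_le_centralizer.mp h
  have hE₂F : E₂ ≤ Subgroup.centralizer (F : Set X) := by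
    apply sSup_le
    rintro L ⟨hL, -⟩
    exact (component_le_layer hL).trans layer_le_centralizer_fitting
  have hE₁L : E₁ ≤ (Cfsg.layer ↥S).map S.subtype := by
    apply sSup_le
    rintro L ⟨hL, hLS⟩
    apply compIn_le_layer_map
    exact ⟨(SubnIn.top_iff.mpr hL.1).of_le hLS le_top, hL.2⟩
  -- Z(E₂) ≤ F
  have hE₂n : E₂.Normal := by
    have key : ∀ g : X, E₂.map (MulAut.conj g).toMonoidHom = E₂ := by
      intro g
      apply map_sSup_equiv
      · rintro K ⟨hK, hKS⟩
        refine ⟨component_map_equiv' hK _, ?_⟩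
        intro hcon
        apply hKS
        intro x hx
        have h1 : g * x * g⁻¹ ∈ S := hcon ⟨x, hx, rfl⟩
        have h2 := hS.conj_mem _ h1 g⁻¹
        simpa [mul_assoc] using h2
      · rintro K ⟨hK, hKS⟩
        refine ⟨component_map_equiv' hK _, ?_⟩
        intro hcon
        apply hKS
        intro x hx
        have h1 : (MulAut.conj g).symm x ∈ S := hcon ⟨x, hx, rfl⟩
        have h2 := hS.conj_mem _ h1 g
        simpa [MulAut.conj_symm_apply, mul_assoc] using h2
    refine ⟨fun n hn g => ?_⟩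
    rw [← key g]
    exact ⟨n, hn, rfl⟩
  have hZ₂ : E₂ ⊓ Subgroup.centralizer (E₂ : Set X) ≤ F := by
    have hn : (E₂ ⊓ Subgroup.centralizer (E₂ : Set X)).Normal := inferInstance
    apply normal_nilpotent_le_fitting hn
    apply isNilpotent_of_comm
    rintro ⟨a, ha⟩ ⟨b, hb⟩
    apply Subtype.ext
    exact (Subgroup.mem_centralizer_iff.mp hb.2 a ha.1)
  -- F ⊓ S lies in the image of F(S)
  have hFS : F ⊓ S ≤ (Cfsg.fittingSubgroup ↥S).map S.subtype := by
    apply le_fitting_map inf_le_right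
    · have : (F ⊓ S).Normal := inferInstance
      rw [Subgroup.normalizer_eq_top_iff.mpr this]; exact le_top
    · exact isNilpotent_of_le inf_le_left hFnil
  unfold QN
  rw [eq_top_iff]
  rintro ⟨s, hs⟩ -
  have hs1 : s ∈ F ⊔ Cfsg.layer X := by
    have : F ⊔ Cfsg.layer X = ⊤ := hX
    rw [this]; exact Subgroup.mem_top _
  have hs2 : s ∈ (E₁ ⊔ E₂) ⊔ F := by
    rw [sup_comm]
    exact (sup_le_sup_left hE F) hs1
  obtain ⟨e, he, f, hf, hsef⟩ := mem_mul_of_mem_sup_left_normal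
    (show E₁ ⊔ E₂ ≤ Subgroup.normalizer (F : Set X) by
      rw [Subgroup.normalizer_eq_top_iff.mpr hFn]; exact le_top) hs2
  have hE₂E₁ : E₂ ≤ Subgroup.normalizer (E₁ : Set X) :=
    (hE₂C.trans (Subgroup.centralizer_le hE₁S)).trans (Subgroup.centralizer_le_normalizer _)
  rw [sup_comm] at he
  obtain ⟨e₂, he₂, e₁, he₁, hee⟩ := mem_mul_of_mem_sup_left_normal hE₂E₁ he
  -- e₂ commutes with e₁, so s = e₁ * (e₂ * f)
  have hcomm : e₂ * e₁ = e₁ * e₂ :=
    (Subgroup.mem_centralizer_iff.mp (hE₂C he₂) e₁ (hE₁S he₁)).symm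
  have hs3 : s = e₁ * (e₂ * f) := by rw [hsef, hee, hcomm, mul_assoc]
  have ht : e₂ * f ∈ S := by
    have : e₂ * f = e₁⁻¹ * s := by rw [hs3]; group
    rw [this]; exact S.mul_mem (S.inv_mem (hE₁S he₁)) hs
  -- e₂ ∈ Z(E₂)
  have he₂Z : e₂ ∈ Subgroup.centralizer (E₂ : Set X) := by
    rw [Subgroup.mem_centralizer_iff]
    intro y hy
    have h1 : y * (e₂ * f) = (e₂ * f) * y :=
      (Subgroup.mem_centralizer_iff.mp (hE₂C hy) _ ht).symm
    have h2 : f * y = y * f := Subgroup.mem_centralizer_iff.mp (hE₂F hy) f hf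
    have h3 : y * e₂ * f = e₂ * y * f := by
      calc y * e₂ * f = y * (e₂ * f) := by group
        _ = e₂ * f * y := h1
        _ = e₂ * (f * y) := by group
        _ = e₂ * (y * f) := by rw [h2]
        _ = e₂ * y * f := by group
    exact mul_right_cancel h3
  have he₂F : e₂ ∈ F := hZ₂ ⟨he₂, he₂Z⟩
  have htF : e₂ * f ∈ F ⊓ S := ⟨F.mul_mem he₂F hf, ht⟩
  obtain ⟨x₁, hx₁, hx₁e⟩ := hE₁L he₁
  obtain ⟨x₂, hx₂, hx₂e⟩ := hFS htF
  have : (⟨s, hs⟩ : S) = x₁ * x₂ := by
    apply Subtype.ext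
    rw [Subgroup.coe_mul]
    show s = S.subtype x₁ * S.subtype x₂
    rw [hx₁e, hx₂e, hs3]
  rw [this]
  exact Subgroup.mul_mem _ (Subgroup.mem_sup_right hx₁) (Subgroup.mem_sup_left hx₂)

/-- Subnormal subgroups of quasi-nilpotent groups are quasi-nilpotent. -/
theorem QN.subnormal (hX : QN X) {S : Subgroup X} (hS : S.IsSubnormal) : QN ↥S := by
  induction hS with
  | top => exact hX.of_equiv Subgroup.topEquiv.symm
  | step H K hle hK hN ih =>
    have h1 : QN ↥(H.subgroupOf K) := QN.normal ih (H.subgroupOf K)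
    exact h1.of_equiv (Subgroup.subgroupOfEquivOfLe hle)

/-- `F*(X)` is quasi-nilpotent. -/
theorem QN.genFitting : QN ↥(Cfsg.generalizedFittingSubgroup X) := by
  set W := Cfsg.generalizedFittingSubgroup X with hW
  have hFn : (Cfsg.fittingSubgroup X).Normal := fitting_normal
  have hFnil : Group.IsNilpotent ↥(Cfsg.fittingSubgroup X) := Cfsg.Agent.S0008.result
  have hFW : Cfsg.fittingSubgroup X ≤ W := le_sup_right
  have hEW : Cfsg.layer X ≤ W := le_sup_left
  have h1 : Cfsg.fittingSubgroup X ≤ (Cfsg.fittingSubgroup ↥W).map W.subtype := by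
    apply le_fitting_map hFW _ hFnil
    rw [Subgroup.normalizer_eq_top_iff.mpr hFn]; exact le_top
  have h2 : Cfsg.layer X ≤ (Cfsg.layer ↥W).map W.subtype := by
    rw [layer_le_iff]
    intro L hL
    apply compIn_le_layer_map
    exact ⟨(SubnIn.top_iff.mpr hL.1).of_le ((component_le_layer hL).trans hEW) le_top, hL.2⟩
  unfold QN
  rw [eq_top_iff]
  rintro ⟨w, hw⟩ -
  have h3 : w ∈ (Cfsg.fittingSubgroup ↥W ⊔ Cfsg.layer ↥W).map W.subtype := by
    rw [Subgroup.map_sup]
    have : W ≤ (Cfsg.fittingSubgroup ↥W).map W.subtype ⊔ (Cfsg.layer ↥W).map W.subtype := by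
      show Cfsg.layer X ⊔ Cfsg.fittingSubgroup X ≤ _
      exact sup_le (h2.trans le_sup_right) (h1.trans le_sup_left)
    exact this hw
  obtain ⟨y, hy, hyw⟩ := h3
  have : y = ⟨w, hw⟩ := Subtype.ext hyw
  rwa [← this]

end Cfsg.Agent.Lib.Helper3
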