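import Mathlib
import Cfsg.Agent.Lib.Helper3.Conj

set_option autoImplicit false

namespace Cfsg.Agent.Lib.Helper3

variable {G : Type*} [Group G]

/-- Two `p`-subgroups of a finite subgroup `C` can be brought into a common `p`-subgroup of `C`
after conjugating one of them by an element of `C`. -/
lemma exists_conj_le_common_pgroup [Finite G] {p : ℕ} [Fact p.Prime] (C A B : Subgroup G)
    (hA : A ≤ C) (hB : B ≤ C) (hpA : IsPGroup p A) (hpB : IsPGroup p B) :
    ∃ c ∈ C, ∃ R : Subgroup G, R ≤ C ∧ IsPGroup p R ∧ A ≤ R ∧ B.map (MulAut.conj c).toMonoidHom ≤ R := by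
  have hA' : IsPGroup p (A.subgroupOf C) := hpA.comap_subtype
  have hB' : IsPGroup p (B.subgroupOf C) := hpB.comap_subtype
  obtain ⟨RA, hRA⟩ := hA'.exists_le_sylow
  obtain ⟨RB, hRB⟩ := hB'.exists_le_sylow
  obtain ⟨c, hc⟩ := MulAction.exists_smul_eq C RB RA
  refine ⟨c, c.2, (RA : Subgroup C).map C.subtype, ?_, ?_, ?_, ?_⟩
  · intro x hx
    obtain ⟨y, _, rfl⟩ := Subgroup.mem_map.mp hx
    exact y.2
  · exact RA.2.map _
  · intro a ha
    exact Subgroup.mem_map.mpr ⟨⟨a, hA ha⟩, hRA (by simpa [Subgroup.mem_subgroupOf] using ha), rfl⟩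
  · intro x hx
    rw [mem_map_conj] at hx
    have hb : (⟨(c:G)⁻¹ * x * c, hB hx⟩ : C) ∈ (RB : Subgroup C) :=
      hRB (by simpa [Subgroup.mem_subgroupOf] using hx)
    have hxC : x ∈ C := by
      have := C.mul_mem (C.mul_mem c.2 (hB hx)) (C.inv_mem c.2)
      have e : (c : G) * ((c:G)⁻¹ * x * c) * (c:G)⁻¹ = x := by group
      rwa [e] at this
    refine Subgroup.mem_map.mpr ⟨⟨x, hxC⟩, ?_, rfl⟩
    have : (⟨x, hxC⟩ : C) ∈ ((c • RB : Sylow p C) : Subgroup C) := by
      rw [sylow_smul_coe, mem_map_conj]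
      convert hb using 1
      ext; simp
    rwa [hc] at this

/-- Any `p`-subgroup of a finite group lies in a conjugate of a given Sylow `p`-subgroup. -/
lemma exists_le_conj_sylow [Finite G] {p : ℕ} [Fact p.Prime] (T : Sylow p G) (R : Subgroup G)
    (hR : IsPGroup p R) : ∃ x : G, R ≤ (T : Subgroup G).map (MulAut.conj x).toMonoidHom := by
  obtain ⟨Q, hQ⟩ := hR.exists_le_sylow
  obtain ⟨x, hx⟩ := MulAction.exists_smul_eq G T Q
  refine ⟨x, ?_⟩
  rw [← sylow_smul_coe, hx]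
  exact hQ

end Cfsg.Agent.Lib.Helper3
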