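import Mathlib
import Cfsg.Agent.Lib.Helper1.Fitting
import Cfsg.Agent.Lib.Helper3.Conj
import Cfsg.Agent.Lib.Helper3.SylowAux
import Cfsg.Agent.Lib.Helper3.NormAux
import Cfsg.Agent.Lib.Helper3.QN

set_option autoImplicit false
open scoped commutatorElement

namespace Cfsg.Agent.Lib.Helper3

open Cfsg.Agent.Lib.Helper1

variable {G : Type*} [Group G] [Finite G]

lemma mem_normalizer_of_map_conj_le {A : Subgroup G} {x : G}
    (h : A.map (MulAut.conj x).toMonoidHom ≤ A) : x ∈ Subgroup.normalizer (A : Set G) := by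
  have heq : A.map (MulAut.conj x).toMonoidHom = A :=
    Subgroup.eq_of_le_of_card_ge h (le_of_eq (card_map_conj A x).symm)
  rw [Subgroup.mem_normalizer_iff_map_conj_eq]
  exact heq

omit [Finite G] in
/-- a `p`-subgroup and a `p'`-subgroup meet trivially -/
lemma eq_one_of_mem_pgroup_of_mem_pprime {p : ℕ} [Fact p.Prime] {P N : Subgroup G}
    (hP : IsPGroup p P) (hN : (Nat.card N).Coprime p) {c : G} (hcP : c ∈ P) (hcN : c ∈ N) :
    c = 1 := by
  obtain ⟨k, hk⟩ := hP ⟨c, hcP⟩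
  have hk' : c ^ (p ^ k) = 1 := by simpa using congrArg Subtype.val hk
  have h3 : orderOf c ∣ p ^ k := orderOf_dvd_of_pow_eq_one hk'
  have h4 : orderOf c ∣ Nat.card ↥N := by
    have := orderOf_dvd_natCard (⟨c, hcN⟩ : N)
    rwa [Subgroup.orderOf_mk] at this
  have h5 : orderOf c = 1 :=
    Nat.eq_one_of_dvd_coprimes (Nat.Coprime.pow_right k hN) h4 h3
  exact orderOf_eq_one_iff.mp h5

/-- Frattini-type lemma for a normal `p'`-subgroup `N` and a `p`-subgroup `P`:
if `d` conjugates `P` into `P N`, then `n d` normalizes `P` for some `n ∈ N`. -/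
theorem exists_mul_mem_normalizer {p : ℕ} [Fact p.Prime] {N P : Subgroup G} (hN : N.Normal)
    (hNc : (Nat.card N).Coprime p) (hP : IsPGroup p P) (d : G)
    (hd : ∀ x ∈ P, d * x * d⁻¹ ∈ P ⊔ N) : ∃ n ∈ N, n * d ∈ Subgroup.normalizer (P : Set G) := by
  set T := P ⊔ N with hT
  have hB : P.map (MulAut.conj d).toMonoidHom ≤ T := by
    rintro _ ⟨x, hx, rfl⟩
    exact hd x hx
  obtain ⟨c, hcT, R, hRT, hRp, hPR, hBR⟩ :=
    exists_conj_le_common_pgroup T P (P.map (MulAut.conj d).toMonoidHom) le_sup_left hB hP (hP.map _)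
  -- R = P by cardinality
  have hRP : R = P := by
    symm
    apply Subgroup.eq_of_le_of_card_ge hPR
    have h1 : Nat.card ↥R ∣ Nat.card ↥P * Nat.card ↥N :=
      (Subgroup.card_dvd_of_le hRT).trans (card_sup_dvd_mul P N)
    obtain ⟨k, hk⟩ := IsPGroup.iff_card.mp hRp
    have h2 : (Nat.card ↥R).Coprime (Nat.card ↥N) := by
      rw [hk]; exact Nat.Coprime.pow_left k hNc.symm
    exact Nat.le_of_dvd Nat.card_pos (h2.dvd_of_dvd_mul_right h1)
  rw [hRP, map_conj_map_conj] at hBR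
  have hcd : c * d ∈ Subgroup.normalizer (P : Set G) := mem_normalizer_of_map_conj_le hBR
  obtain ⟨u, hu, n, hn, hcun⟩ := mem_mul_of_mem_sup_left_normal
    (show P ≤ Subgroup.normalizer (N : Set G) by
      rw [Subgroup.normalizer_eq_top_iff.mpr hN]; exact le_top) hcT
  refine ⟨n, hn, ?_⟩
  have : n * d = u⁻¹ * (c * d) := by rw [hcun]; group
  rw [this]
  exact Subgroup.mul_mem _ (Subgroup.inv_mem _ (Subgroup.le_normalizer hu)) hcd

/-- Lifting centralizers modulo a normal `p'`-subgroup: if `d` centralizes the `p`-subgroup `P`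
modulo `N`, then `n d` centralizes `P` for some `n ∈ N`. -/
theorem exists_mul_mem_centralizer {p : ℕ} [Fact p.Prime] {N P : Subgroup G} (hN : N.Normal)
    (hNc : (Nat.card N).Coprime p) (hP : IsPGroup p P) (d : G)
    (hd : ∀ x ∈ P, ⁅d, x⁆ ∈ N) : ∃ n ∈ N, n * d ∈ Subgroup.centralizer (P : Set G) := by
  have hd' : ∀ x ∈ P, d * x * d⁻¹ ∈ P ⊔ N := by
    intro x hx
    have e : d * x * d⁻¹ = x * (x⁻¹ * ⁅d, x⁆ * x) := by rw [commutatorElement_def]; group
    rw [e]
    apply Subgroup.mul_mem _ (Subgroup.mem_sup_left hx)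
    apply Subgroup.mem_sup_right
    have := hN.conj_mem _ (hd x hx) x⁻¹
    simpa using this
  obtain ⟨n, hn, hnd⟩ := exists_mul_mem_normalizer hN hNc hP d hd'
  refine ⟨n, hn, ?_⟩
  rw [Subgroup.mem_centralizer_iff]
  intro x hx
  have hc1 : ⁅n * d, x⁆ ∈ P := by
    rw [commutatorElement_def]
    exact P.mul_mem ((Subgroup.mem_set_normalizer_iff.mp hnd x).mp hx) (P.inv_mem hx)
  have hc2 : ⁅n * d, x⁆ ∈ N := by
    have e : ⁅n * d, x⁆ = n * ⁅d, x⁆ * (x * n⁻¹ * x⁻¹) := by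
      simp only [commutatorElement_def]; group
    rw [e]
    exact N.mul_mem (N.mul_mem hn (hd x hx)) (hN.conj_mem _ (N.inv_mem hn) x)
  have hc3 := eq_one_of_mem_pgroup_of_mem_pprime hP hNc hc1 hc2
  rw [commutatorElement_eq_one_iff_mul_comm] at hc3
  exact hc3.symm

end Cfsg.Agent.Lib.Helper3
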