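import Mathlib
import Cfsg.Agent.Lib.Helper3.Frattini

set_option autoImplicit false
open scoped commutatorElement

namespace Cfsg.Agent.Lib.Helper3

open Cfsg.Agent.Lib.Helper1

variable {G : Type*} [Group G] [Finite G]

/-- Relative lifting of centralizers modulo a `p'`-subgroup `N` normalized by the `p`-subgroup `P`
and by the element `d`: if `d` centralizes `P` modulo `N`, then `n d` centralizes `P` for some
`n ∈ N`. -/
theorem exists_mul_mem_centralizer_rel {p : ℕ} [Fact p.Prime] {N P : Subgroup G}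
    (hPN : P ≤ Subgroup.normalizer (N : Set G))
    (hNc : (Nat.card N).Coprime p) (hP : IsPGroup p P) (d : G)
    (hdN : d ∈ Subgroup.normalizer (N : Set G))
    (hd : ∀ x ∈ P, ⁅d, x⁆ ∈ N) : ∃ n ∈ N, n * d ∈ Subgroup.centralizer (P : Set G) := by
  set M := Subgroup.normalizer (N : Set G) with hM
  have hNM : N ≤ M := Subgroup.le_normalizer
  have hn : (N.subgroupOf M).Normal := Subgroup.normal_in_normalizer
  have hNc' : (Nat.card ↥(N.subgroupOf M)).Coprime p := by
    rw [Nat.card_congr (Subgroup.subgroupOfEquivOfLe hNM).toEquiv]; exact hNc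
  have hP' : IsPGroup p ↥(P.subgroupOf M) := hP.of_equiv (Subgroup.subgroupOfEquivOfLe hPN).symm
  have hd' : ∀ x ∈ P.subgroupOf M, ⁅(⟨d, hdN⟩ : ↥M), x⁆ ∈ N.subgroupOf M := by
    intro x hx
    rw [Subgroup.mem_subgroupOf]
    exact hd (x : G) hx
  obtain ⟨n, hn1, hn2⟩ := exists_mul_mem_centralizer hn hNc' hP' ⟨d, hdN⟩ hd'
  refine ⟨(n : G), hn1, ?_⟩
  rw [Subgroup.mem_centralizer_iff]
  intro x hx
  have := Subgroup.mem_centralizer_iff.mp hn2 ⟨x, hPN hx⟩ hx
  exact congrArg Subtype.val this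

/-- `|X Y|` divides `|X| |Y|` when `Y` normalizes `X` -/
theorem card_sup_dvd_mul_of_le_normalizer {X Y : Subgroup G}
    (hn : Y ≤ Subgroup.normalizer (X : Set G)) :
    Nat.card ↥(X ⊔ Y) ∣ Nat.card ↥X * Nat.card ↥Y := by
  set M := Subgroup.normalizer (X : Set G) with hM
  have hXM : X ≤ M := Subgroup.le_normalizer
  have hnX : (X.subgroupOf M).Normal := Subgroup.normal_in_normalizer
  have h1 := card_sup_dvd_mul (Y.subgroupOf M) (X.subgroupOf M)
  rw [Nat.card_congr (Subgroup.subgroupOfEquivOfLe hXM).toEquiv,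
    Nat.card_congr (Subgroup.subgroupOfEquivOfLe hn).toEquiv] at h1
  have h2 : (Y.subgroupOf M ⊔ X.subgroupOf M).map M.subtype = X ⊔ Y := by
    rw [Subgroup.map_sup, Subgroup.map_subgroupOf_eq_of_le hn,
      Subgroup.map_subgroupOf_eq_of_le hXM, sup_comm]
  have h3 : Nat.card ↥(X ⊔ Y) = Nat.card ↥(Y.subgroupOf M ⊔ X.subgroupOf M) := by
    rw [← h2]
    exact (Nat.card_congr ((Y.subgroupOf M ⊔ X.subgroupOf M).equivMapOfInjective M.subtype
      (Subgroup.subtype_injective _)).toEquiv).symm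
  rw [h3, mul_comm]
  exact h1

end Cfsg.Agent.Lib.Helper3
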