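import Mathlib
import Cfsg.Agent.Lib.Helper3.Conj

set_option autoImplicit false
open scoped commutatorElement

namespace Cfsg.Agent.Lib.Helper3

variable {G : Type*} [Group G]

/-- an element normalizing `A` and `B` normalizes `⁅A, B⁆` -/
lemma normalizer_inf_le_normalizer_commutator (A B : Subgroup G) :
    Subgroup.normalizer (A : Set G) ⊓ Subgroup.normalizer (B : Set G) ≤
      Subgroup.normalizer ((⁅A, B⁆ : Subgroup G) : Set G) := by
  rintro g ⟨hA, hB⟩
  have hA : g ∈ Subgroup.normalizer (A : Set G) := hA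
  have hB : g ∈ Subgroup.normalizer (B : Set G) := hB
  rw [Subgroup.mem_normalizer_iff_map_conj_eq] at hA hB
  rw [Subgroup.mem_normalizer_iff_map_conj_eq]
  have hA' : A.map (MulAut.conj g).toMonoidHom = A := hA
  have hB' : B.map (MulAut.conj g).toMonoidHom = B := hB
  show (⁅A, B⁆ : Subgroup G).map (MulAut.conj g).toMonoidHom = _
  rw [Subgroup.map_commutator, hA', hB']

/-- stability: if `z = ⁅y, u⁆` commutes with `y`, then `y ^ k * u * y ^ (-k) = z ^ k * u`. -/
lemma conj_pow_of_comm_commutator {y u : G} (h : y * ⁅y, u⁆ = ⁅y, u⁆ * y) (k : ℕ) :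
    y ^ k * u * (y ^ k)⁻¹ = ⁅y, u⁆ ^ k * u := by
  induction k with
  | zero => simp
  | succ k ih =>
    have h1 : y * u * y⁻¹ = ⁅y, u⁆ * u := by
      rw [commutatorElement_def]; group
    have h2 : y * ⁅y, u⁆ ^ k = ⁅y, u⁆ ^ k * y := by
      exact (Commute.pow_right (show Commute y ⁅y, u⁆ from h) k).eq
    calc y ^ (k + 1) * u * (y ^ (k + 1))⁻¹
        = y * (y ^ k * u * (y ^ k)⁻¹) * y⁻¹ := by rw [pow_succ']; group
      _ = y * (⁅y, u⁆ ^ k * u) * y⁻¹ := by rw [ih]
      _ = (y * ⁅y, u⁆ ^ k) * (u * y⁻¹) := by group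
      _ = ⁅y, u⁆ ^ k * y * (u * y⁻¹) := by rw [h2]
      _ = ⁅y, u⁆ ^ k * (y * u * y⁻¹) := by group
      _ = ⁅y, u⁆ ^ k * (⁅y, u⁆ * u) := by rw [h1]
      _ = ⁅y, u⁆ ^ (k + 1) * u := by rw [pow_succ]; group

/-- stability: a `p'`-element `y` commuting with the `p`-element `⁅y, u⁆` commutes with `u`. -/
lemma commute_of_comm_commutator {p : ℕ} [Fact p.Prime] {y u : G}
    (hy : (orderOf y).Coprime p) (hz : ∃ n : ℕ, ⁅y, u⁆ ^ (p ^ n) = 1)
    (h : y * ⁅y, u⁆ = ⁅y, u⁆ * y) : ⁅y, u⁆ = 1 := by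
  have h1 := conj_pow_of_comm_commutator h (orderOf y)
  rw [pow_orderOf_eq_one] at h1
  have h2 : ⁅y, u⁆ ^ (orderOf y) = 1 := by
    have : u = ⁅y, u⁆ ^ (orderOf y) * u := by simpa using h1
    exact (mul_eq_right.mp this.symm)
  obtain ⟨n, hn⟩ := hz
  have h3 : orderOf ⁅y, u⁆ ∣ orderOf y := orderOf_dvd_of_pow_eq_one h2
  have h4 : orderOf ⁅y, u⁆ ∣ p ^ n := orderOf_dvd_of_pow_eq_one hn
  have h5 : (orderOf y).Coprime (p ^ n) := Nat.Coprime.pow_right n hy
  have h6 : orderOf ⁅y, u⁆ = 1 := Nat.eq_one_of_dvd_coprimes h5 h3 h4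
  exact orderOf_eq_one_iff.mp h6

/-- in a finite `p`-group `P ⊔ U` with `P` normalizing `U ≠ ⊥`, `⁅U, P⁆ < U`. -/
lemma commutator_lt_of_pgroup [Finite G] {p : ℕ} [Fact p.Prime] {P U : Subgroup G}
    (hP : IsPGroup p P) (hU : IsPGroup p U)
    (hPU : P ≤ Subgroup.normalizer (U : Set G)) (hne : U ≠ ⊥) : ⁅U, P⁆ < U := by
  have hle : ⁅U, P⁆ ≤ U := Subgroup.le_normalizer_iff_commutator_le_left.mp hPU
  refine lt_of_le_of_ne hle ?_
  intro heq
  apply hne
  have hS : IsPGroup p (P ⊔ U : Subgroup G) := IsPGroup.to_sup_of_normal_right' hP hU hPU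
  have hnil : Group.IsNilpotent ↥(P ⊔ U : Subgroup G) := hS.isNilpotent
  obtain ⟨n, hn⟩ := (Subgroup.isNilpotent_iff_lowerCentralSeries (P ⊔ U)).mp hnil
  have key : ∀ k, U ≤ (P ⊔ U).lowerCentralSeries k := by
    intro k
    induction k with
    | zero => exact le_sup_right
    | succ k ih =>
      rw [Subgroup.lowerCentralSeries_succ]
      calc U = ⁅U, P⁆ := heq.symm
        _ ≤ ⁅(P ⊔ U).lowerCentralSeries k, P ⊔ U⁆ := Subgroup.commutator_mono ih le_sup_left
  rw [eq_bot_iff, ← hn]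
  exact key n

/-- Thompson's `P × Q` lemma, element form: a `p'`-element `y` centralizing the `p`-group `P`,
normalizing the `p`-group `U` (which `P` normalizes), and centralizing `C_U(P)` centralizes `U`. -/
theorem pq_lemma_elem [Finite G] {p : ℕ} [Fact p.Prime] {P : Subgroup G} (hP : IsPGroup p P)
    {y : G} (hy : (orderOf y).Coprime p) (hyP : y ∈ Subgroup.centralizer (P : Set G)) :
    ∀ n : ℕ, ∀ U : Subgroup G, Nat.card U ≤ n → IsPGroup p U →
      P ≤ Subgroup.normalizer (U : Set G) → y ∈ Subgroup.normalizer (U : Set G) →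
      (∀ u ∈ U ⊓ Subgroup.centralizer (P : Set G), y * u = u * y) →
      y ∈ Subgroup.centralizer (U : Set G) := by
  intro n
  induction n using Nat.strong_induction_on with
  | _ n ih =>
    intro U hn hU hPU hyU hC
    by_cases hne : U = ⊥
    · rw [hne]
      rw [Subgroup.mem_centralizer_iff]
      intro u hu
      rw [SetLike.mem_coe, Subgroup.mem_bot] at hu
      rw [hu]; simp
    set Y := Subgroup.zpowers y with hY
    have hYP : Y ≤ Subgroup.centralizer (P : Set G) := by
      rw [hY, Subgroup.zpowers_le]; exact hyP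
    have hYU : Y ≤ Subgroup.normalizer (U : Set G) := by
      rw [hY, Subgroup.zpowers_le]; exact hyU
    have hW : ⁅U, P⁆ < U := commutator_lt_of_pgroup hP hU hPU hne
    -- y centralizes W = ⁅U, P⁆ by induction
    have hWc : y ∈ Subgroup.centralizer ((⁅U, P⁆ : Subgroup G) : Set G) := by
      have hcard : Nat.card ↥(⁅U, P⁆ : Subgroup G) < n := by
        have h1 : Nat.card ↥(⁅U, P⁆ : Subgroup G) < Nat.card U := by
          by_contra hcon
          push Not at hcon
          exact hW.ne (Subgroup.eq_of_le_of_card_ge hW.le hcon)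
        omega
      refine ih _ hcard ⁅U, P⁆ le_rfl (hU.to_le hW.le) ?_ ?_ ?_
      · intro g hg
        apply normalizer_inf_le_normalizer_commutator U P
        exact ⟨hPU hg, Subgroup.le_normalizer hg⟩
      · apply normalizer_inf_le_normalizer_commutator U P
        refine ⟨hyU, ?_⟩
        -- y centralizes P so normalizes it
        show y ∈ Subgroup.normalizer (P : Set G)
        rw [Subgroup.mem_set_normalizer_iff]
        intro x
        have hcomm : ∀ x ∈ P, y * x * y⁻¹ = x := by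
          intro x hx
          have := Subgroup.mem_centralizer_iff.mp hyP x hx
          rw [← this]; group
        constructor
        · intro hx; rw [hcomm x hx]; exact hx
        · intro hx
          have h1 := hcomm _ hx
          have h2 : y * x * y⁻¹ = x := by
            calc y * x * y⁻¹ = y⁻¹ * (y * (y * x * y⁻¹) * y⁻¹) * y := by group
              _ = y⁻¹ * (y * x * y⁻¹) * y := by rw [h1]
              _ = x := by group
          rw [← h2]; exact hx
      · intro u hu
        exact hC u ⟨hW.le hu.1, hu.2⟩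
    have h1 : ⁅⁅U, P⁆, Y⁆ = ⊥ := by
      rw [Subgroup.commutator_comm, Subgroup.commutator_eq_bot_iff_le_centralizer, hY,
        Subgroup.zpowers_le]
      exact hWc
    have h2 : ⁅⁅P, Y⁆, U⁆ = ⊥ := by
      have : ⁅P, Y⁆ = ⊥ := by
        rw [Subgroup.commutator_comm, Subgroup.commutator_eq_bot_iff_le_centralizer]
        exact hYP
      rw [this, Subgroup.commutator_eq_bot_iff_le_centralizer]
      exact bot_le
    -- three subgroups lemma
    have h3 : ⁅⁅Y, U⁆, P⁆ = ⊥ := Subgroup.commutator_commutator_eq_bot_of_rotate h1 h2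
    have h4 : ⁅Y, U⁆ ≤ Subgroup.centralizer (P : Set G) :=
      Subgroup.commutator_eq_bot_iff_le_centralizer.mp h3
    have h5 : ⁅Y, U⁆ ≤ U := by
      rw [Subgroup.commutator_comm]
      exact Subgroup.le_normalizer_iff_commutator_le_left.mp hYU
    rw [Subgroup.mem_centralizer_iff]
    intro u hu
    have hz : ⁅y, u⁆ ∈ ⁅Y, U⁆ :=
      Subgroup.commutator_mem_commutator (Subgroup.mem_zpowers y) hu
    have hzU : ⁅y, u⁆ ∈ U := h5 hz
    have hcomm : y * ⁅y, u⁆ = ⁅y, u⁆ * y := hC _ ⟨hzU, h4 hz⟩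
    have hzp : ∃ n : ℕ, ⁅y, u⁆ ^ (p ^ n) = 1 := by
      obtain ⟨k, hk⟩ := hU ⟨_, hzU⟩
      exact ⟨k, by simpa using congrArg Subtype.val hk⟩
    have := commute_of_comm_commutator hy hzp hcomm
    rw [commutatorElement_eq_one_iff_mul_comm] at this
    exact this.symm

end Cfsg.Agent.Lib.Helper3
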