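import Mathlib
import Cfsg.Prelude.Def_CaseTheorems
import Cfsg.Prelude.Def_Local
import Cfsg.Prelude.Def_Solvable
import Cfsg.Agent.Lib.Helper1.Fitting
import Cfsg.Agent.Lib.Helper1.Fitting2
import Cfsg.Agent.Lib.Helper3.Layer
import Cfsg.Agent.Lib.Helper3.FStar2
import Cfsg.Agent.Lib.Helper3.PRes
import Cfsg.Agent.Lib.Helper3.PQ
import Cfsg.Agent.Lib.Helper3.Transport
import Cfsg.Agent.S1265

set_option autoImplicit false
open scoped commutatorElement

namespace Cfsg.Agent.Lib.Helper3

open Cfsg.Agent.Lib.Helper1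

section typelevel
variable {X : Type*} [Group X] [Finite X]

lemma pCore_solvable (p : ℕ) [Fact p.Prime] : Group.IsSolvable ↥(Cfsg.pCore p X) := by
  have : Group.IsNilpotent ↥(Cfsg.pCore p X) := (pCore_isPGroup (p := p) (G := X)).isNilpotent
  infer_instance

/-- `O_p(X) ≤ F(X)` -/
lemma pCore_le_fitting (p : ℕ) [Fact p.Prime] : Cfsg.pCore p X ≤ Cfsg.fittingSubgroup X :=
  normal_nilpotent_le_fitting (pCore_normal' p) (pCore_isPGroup (p := p) (G := X)).isNilpotent

/-- If `C_X(O_p(X)) ≤ O_p(X)` then `F*(X) = O_p(X)`. -/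
theorem genFitting_eq_pCore_of_centralizer_le (p : ℕ) [Fact p.Prime]
    (h : Subgroup.centralizer (Cfsg.pCore p X : Set X) ≤ Cfsg.pCore p X) :
    Cfsg.generalizedFittingSubgroup X = Cfsg.pCore p X := by
  set D := Cfsg.pCore p X with hD
  have hDn : D.Normal := pCore_normal' p
  have hDp : IsPGroup p D := pCore_isPGroup
  apply le_antisymm
  · unfold Cfsg.generalizedFittingSubgroup
    apply sup_le
    · exact (layer_le_centralizer_of_solvable D (pCore_solvable p)).trans h
    · rw [fitting_eq_pCoreSup]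
      unfold pCoreSup
      apply iSup_le
      intro q
      by_cases hq : (q : ℕ) = p
      · rw [hq]
      · have : Fact (q : ℕ).Prime := ⟨q.2⟩
        have hQn : (Cfsg.pCore (q : ℕ) X).Normal := pCore_normal' _
        have hQq : IsPGroup (q : ℕ) (Cfsg.pCore (q : ℕ) X) := pCore_isPGroup
        have hdisj : Cfsg.pCore (q : ℕ) X ⊓ D = ⊥ :=
          (IsPGroup.disjoint_of_ne (q : ℕ) p hq _ _ hQq hDp).eq_bot
        have hcomm : ⁅Cfsg.pCore (q : ℕ) X, D⁆ = ⊥ := by
          rw [eq_bot_iff, ← hdisj]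
          exact le_inf (Subgroup.commutator_le_left _ _) (Subgroup.commutator_le_right _ _)
        exact (Subgroup.commutator_eq_bot_iff_le_centralizer.mp hcomm).trans h
  · exact (pCore_le_fitting p).trans le_sup_right

/-- If `F*(X) = O_p(X)` then `C_X(O_p(X)) ≤ O_p(X)`. -/
theorem centralizer_pCore_le_of_genFitting_eq (p : ℕ)
    (h : Cfsg.generalizedFittingSubgroup X = Cfsg.pCore p X) :
    Subgroup.centralizer (Cfsg.pCore p X : Set X) ≤ Cfsg.pCore p X := by
  have := Cfsg.Agent.S1265.result (G := X)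
  rwa [h] at this

/-- If `F*(X)` is a `p`-group then `F*(X) = O_p(X)`. -/
theorem genFitting_eq_pCore_of_isPGroup (p : ℕ) [Fact p.Prime]
    (h : IsPGroup p ↥(Cfsg.generalizedFittingSubgroup X)) :
    Cfsg.generalizedFittingSubgroup X = Cfsg.pCore p X := by
  apply le_antisymm
  · have hn : (Cfsg.generalizedFittingSubgroup X).Normal := by
      have : (Cfsg.generalizedFittingSubgroup X).Characteristic := genFitting_characteristic
      infer_instance
    exact le_pCore _ hn h
  · exact (pCore_le_fitting p).trans le_sup_right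

end typelevel

section local_
variable {G : Type*} [Group G] [Finite G]

/-- a subgroup all of whose `p'`-elements are trivial is a `p`-group -/
lemma isPGroup_of_no_pprime {p : ℕ} [Fact p.Prime] (Y : Subgroup G)
    (h : ∀ y ∈ Y, (orderOf y).Coprime p → y = 1) : IsPGroup p ↥Y := by
  intro y
  obtain ⟨a, b, ha, hb, hab, ⟨k, hk⟩, hcop⟩ := exists_p_decomp p (y : G)
  have hbY : b ∈ Y := (Subgroup.zpowers_le.mpr y.2) hb
  have hb1 : b = 1 := h b hbY hcop
  refine ⟨k, ?_⟩
  apply Subtype.ext
  rw [Subgroup.coe_pow, hab, hb1, mul_one, ← hk, pow_orderOf_eq_one]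
  rfl

/-- Local characteristic `p`: the key consequence of Thompson's `P × Q` lemma. -/
theorem charp_local {p : ℕ} [Fact p.Prime] {H P U : Subgroup G}
    (hP : IsPGroup p P) (hU : IsPGroup p U)
    (hPU : P ≤ Subgroup.normalizer (U : Set G)) (hHU : H ≤ Subgroup.normalizer (U : Set G))
    (hCU : H ⊓ Subgroup.centralizer (U : Set G) ≤ U)
    (hUP : U ⊓ Subgroup.centralizer (P : Set G) ≤ (Cfsg.pCore p ↥H).map H.subtype)
    (hcase : P ≤ (Cfsg.pCore p ↥H).map H.subtype ∨ H ≤ Subgroup.centralizer (P : Set G)) :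
    H ⊓ Subgroup.centralizer (((Cfsg.pCore p ↥H).map H.subtype : Subgroup G) : Set G) ≤
      (Cfsg.pCore p ↥H).map H.subtype := by
  set D := (Cfsg.pCore p ↥H).map H.subtype with hD
  set Y := H ⊓ Subgroup.centralizer (D : Set G) with hY
  have hDnorm : H ≤ Subgroup.normalizer (D : Set G) := by
    have : (Cfsg.pCore p ↥H).Normal := pCore_normal' p
    exact le_normalizer_map_of_normal _
  have hYP : Y ≤ Subgroup.centralizer (P : Set G) := by
    rcases hcase with h | h
    · exact inf_le_right.trans (Subgroup.centralizer_le h)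
    · exact inf_le_left.trans h
  have hYp : IsPGroup p ↥Y := by
    apply isPGroup_of_no_pprime
    intro y hy hcop
    have h1 : y ∈ Subgroup.centralizer (U : Set G) := by
      refine pq_lemma_elem hP hcop (hYP hy) _ U le_rfl hU hPU (hHU hy.1) ?_
      intro u hu
      exact (Subgroup.mem_centralizer_iff.mp hy.2 u (hUP hu)).symm
    have h2 : y ∈ U := hCU ⟨hy.1, h1⟩
    obtain ⟨k, hk⟩ := hU ⟨y, h2⟩
    have hk' : y ^ (p ^ k) = 1 := by simpa using congrArg Subtype.val hk
    have h3 : orderOf y ∣ p ^ k := orderOf_dvd_of_pow_eq_one hk'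
    have h4 : orderOf y = 1 :=
      Nat.eq_one_of_dvd_coprimes (Nat.Coprime.pow_right k hcop) dvd_rfl h3
    exact orderOf_eq_one_iff.mp h4
  apply le_pCore_map inf_le_left hYp
  -- H normalizes Y
  intro g hg
  have h1 : g ∈ Subgroup.normalizer ((Subgroup.centralizer (D : Set G) : Subgroup G) : Set G) := by
    have hgD := hDnorm hg
    rw [Subgroup.mem_set_normalizer_iff]
    have key : ∀ g ∈ Subgroup.normalizer (D : Set G), ∀ x ∈ Subgroup.centralizer (D : Set G),
        g * x * g⁻¹ ∈ Subgroup.centralizer (D : Set G) := by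
      intro g hg x hx
      rw [Subgroup.mem_centralizer_iff]
      intro m hm
      have h1 : g⁻¹ * m * g ∈ D := by
        have := (Subgroup.mem_set_normalizer_iff.mp hg (g⁻¹ * m * g)).mpr (by
          have e : g * (g⁻¹ * m * g) * g⁻¹ = m := by group
          rw [e]; exact hm)
        exact this
      have h2 := Subgroup.mem_centralizer_iff.mp hx _ h1
      calc m * (g * x * g⁻¹) = g * ((g⁻¹ * m * g) * x) * g⁻¹ := by group
        _ = g * (x * (g⁻¹ * m * g)) * g⁻¹ := by rw [h2]
        _ = g * x * g⁻¹ * m := by group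
    intro x
    constructor
    · exact key g hgD x
    · intro hx
      have := key g⁻¹ (Subgroup.inv_mem _ hgD) _ hx
      have e : g⁻¹ * (g * x * g⁻¹) * g⁻¹⁻¹ = x := by group
      rwa [e] at this
  rw [Subgroup.mem_set_normalizer_iff]
  intro x
  have h1' := Subgroup.mem_set_normalizer_iff.mp h1 x
  constructor
  · rintro ⟨hx1, hx2⟩
    exact ⟨H.mul_mem (H.mul_mem hg hx1) (H.inv_mem hg), h1'.mp hx2⟩
  · rintro ⟨hx1, hx2⟩
    refine ⟨?_, h1'.mpr hx2⟩
    have := H.mul_mem (H.mul_mem (H.inv_mem hg) hx1) hg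
    have e : g⁻¹ * (g * x * g⁻¹) * g = x := by group
    rwa [e] at this

/-- from the relative statement to the statement about the type `↥H` -/
theorem genFitting_eq_pCore_of_local {p : ℕ} [Fact p.Prime] {H : Subgroup G}
    (h : H ⊓ Subgroup.centralizer (((Cfsg.pCore p ↥H).map H.subtype : Subgroup G) : Set G) ≤
      (Cfsg.pCore p ↥H).map H.subtype) :
    Cfsg.generalizedFittingSubgroup ↥H = Cfsg.pCore p ↥H := by
  apply genFitting_eq_pCore_of_centralizer_le
  intro x hx
  have h1 : (x : G) ∈ (Cfsg.pCore p ↥H).map H.subtype := by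
    apply h
    refine ⟨x.2, ?_⟩
    show (x : G) ∈ Subgroup.centralizer (((Cfsg.pCore p ↥H).map H.subtype : Subgroup G) : Set G)
    rw [Subgroup.mem_centralizer_iff]
    rintro _ ⟨d, hd, rfl⟩
    have := Subgroup.mem_centralizer_iff.mp hx d hd
    exact congrArg Subtype.val this
  obtain ⟨d, hd, hdx⟩ := h1
  have : d = x := Subtype.ext hdx
  rwa [← this]

/-- the converse direction, relative form -/
theorem local_of_genFitting_eq_pCore {p : ℕ} {H : Subgroup G}
    (h : Cfsg.generalizedFittingSubgroup ↥H = Cfsg.pCore p ↥H) :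
    H ⊓ Subgroup.centralizer (((Cfsg.pCore p ↥H).map H.subtype : Subgroup G) : Set G) ≤
      (Cfsg.pCore p ↥H).map H.subtype := by
  rintro x ⟨hxH, hxC⟩
  have h1 := centralizer_pCore_le_of_genFitting_eq p h
  have h2 : (⟨x, hxH⟩ : H) ∈ Subgroup.centralizer (Cfsg.pCore p ↥H : Set ↥H) := by
    rw [Subgroup.mem_centralizer_iff]
    intro d hd
    apply Subtype.ext
    exact Subgroup.mem_centralizer_iff.mp hxC (d : G) ⟨d, hd, rfl⟩
  exact ⟨⟨x, hxH⟩, h1 h2, rfl⟩

end local_

end Cfsg.Agent.Lib.Helper3
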