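import Mathlib
import Cfsg.Prelude.Def_CaseTheorems
import Cfsg.Prelude.Def_Local
import Cfsg.Prelude.Def_Solvable
import Cfsg.Agent.Lib.Helper1.Fitting
import Cfsg.Agent.Lib.Helper3.Quasi
import Cfsg.Agent.Lib.Helper3.Comp
import Cfsg.Agent.Lib.Helper3.Layer
import Cfsg.Agent.Lib.Helper3.Transport
import Cfsg.Agent.Lib.Helper3.Subn

set_option autoImplicit false
open scoped commutatorElement

universe u

namespace Cfsg.Agent.Lib.Helper3

open Cfsg.Agent.Lib.Helper1

section basics

/-- a finite group with no element of order `p` has order prime to `p` -/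
lemma coprime_card_of_no_order_p {p : ℕ} [Fact p.Prime] (L : Type*) [Group L] [Finite L]
    (h : ∀ g : L, orderOf g ≠ p) : (Nat.card L).Coprime p := by
  rw [Nat.coprime_comm, Nat.Prime.coprime_iff_not_dvd Fact.out]
  intro hdvd
  obtain ⟨x, hx⟩ := exists_prime_orderOf_dvd_card' p hdvd
  exact h x hx

/-- a perfect group whose centre has index prime to `p` has order prime to `p` -/
lemma coprime_card_of_perfect_of_index_center {p : ℕ} [Fact p.Prime] (L : Type*) [Group L]
    [Finite L] [hL : Group.IsPerfect L] (h : ((Subgroup.center L).index).Coprime p) :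
    (Nat.card L).Coprime p := by
  have h1 : ∀ g : L, g ^ (Subgroup.center L).index = 1 := by
    intro g
    set f : L →* ↥(Subgroup.center L) := MonoidHom.transferCenterPow L with hf
    have hker : commutator L ≤ f.ker := by
      rw [commutator_def, Subgroup.commutator_le]
      intro a _ b _
      rw [MonoidHom.mem_ker, map_commutatorElement, commutatorElement_eq_one_iff_mul_comm]
      apply Subtype.ext
      exact Subgroup.mem_center_iff.mp (f b).2 (f a)
    have h2 : g ∈ f.ker := by
      apply hker
      rw [hL.commutator_eq_top]; exact Subgroup.mem_top g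
    have h3 := congrArg Subtype.val (MonoidHom.mem_ker.mp h2)
    rw [hf, MonoidHom.transferCenterPow_apply] at h3
    exact h3
  apply coprime_card_of_no_order_p
  intro g hg
  have h2 : orderOf g ∣ (Subgroup.center L).index := orderOf_dvd_of_pow_eq_one (h1 g)
  rw [hg] at h2
  have h3 : p ∣ Nat.gcd ((Subgroup.center L).index) p := Nat.dvd_gcd h2 dvd_rfl
  rw [h] at h3
  exact (Fact.out : p.Prime).one_lt.ne' (Nat.dvd_one.mp h3)

/-- Subnormal subgroups of a quasisimple group are the whole group or central. -/
theorem quasisimple_subnormal {X : Type*} [Group X] (hX : Cfsg.IsQuasisimple X) {H : Subgroup X}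
    (hH : H.IsSubnormal) : H = ⊤ ∨ H ≤ Subgroup.center X := by
  induction hH with
  | top => left; rfl
  | step H K hle hK hN ih =>
    rcases ih with h | h
    · subst h
      have hHn : H.Normal := by
        have := hN.map (⊤ : Subgroup X).subtype (fun x => ⟨⟨x, trivial⟩, rfl⟩)
        rwa [Subgroup.subgroupOf_map_subtype, inf_top_eq] at this
      exact quasisimple_normal hX H
    · right; exact hle.trans h

end basics

section quotient
variable {X : Type u} [Group X] [Finite X]

/-- `O_{p'}(X / O_{p'}(X)) = 1`. -/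
theorem pPrimeCore_quotient_eq_bot (p : ℕ) [Fact p.Prime] :
    Cfsg.pPrimeCore p (X ⧸ Cfsg.pPrimeCore p X) = ⊥ := by
  set N := Cfsg.pPrimeCore p X with hN
  set π := QuotientGroup.mk' N with hπ
  set M := (Cfsg.pPrimeCore p (X ⧸ N)).comap π with hM
  have hMn : M.Normal := by
    have : (Cfsg.pPrimeCore p (X ⧸ N)).Normal := pPrimeCore_normal' p
    exact this.comap π
  have hMc : (Nat.card ↥M).Coprime p := by
    apply coprime_card_of_no_order_p
    intro g hg
    have h1 : π (g : X) ∈ Cfsg.pPrimeCore p (X ⧸ N) := g.2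
    have h2 : orderOf (π (g : X)) ∣ p := by
      have := orderOf_map_dvd π (g : X)
      rwa [Subgroup.orderOf_coe, hg] at this
    have h3 : orderOf (π (g : X)) ∣ Nat.card ↥(Cfsg.pPrimeCore p (X ⧸ N)) := by
      have := orderOf_dvd_natCard (⟨π (g : X), h1⟩ : Cfsg.pPrimeCore p (X ⧸ N))
      rwa [Subgroup.orderOf_mk] at this
    have h4 : orderOf (π (g : X)) = 1 :=
      Nat.eq_one_of_dvd_coprimes (pPrimeCore_coprime p) h3 h2
    have h5 : (g : X) ∈ N := by
      have := orderOf_eq_one_iff.mp h4
      rwa [← MonoidHom.mem_ker, hπ, QuotientGroup.ker_mk'] at this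
    have h6 : orderOf (g : X) ∣ Nat.card ↥N := by
      have := orderOf_dvd_natCard (⟨(g : X), h5⟩ : N)
      rwa [Subgroup.orderOf_mk] at this
    rw [Subgroup.orderOf_coe, hg] at h6
    have h7 : p ∣ Nat.gcd (Nat.card ↥N) p := Nat.dvd_gcd h6 dvd_rfl
    rw [pPrimeCore_coprime p] at h7
    exact (Fact.out : p.Prime).one_lt.ne' (Nat.dvd_one.mp h7)
  have hMN : M ≤ N := le_pPrimeCore M hMn hMc
  rw [eq_bot_iff]
  intro y hy
  obtain ⟨x, rfl⟩ := QuotientGroup.mk'_surjective N y
  have hx : x ∈ M := hy
  rw [Subgroup.mem_bot]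
  exact (QuotientGroup.eq_one_iff x).mpr (hMN hx)

/-- In a group with `O_{p'} = 1`, a component has no proper normal subgroup of index prime to `p`. -/
theorem component_no_pprime_index (p : ℕ) [Fact p.Prime] (h0 : Cfsg.pPrimeCore p X = ⊥)
    {K : Subgroup X} (hK : Cfsg.IsComponent K) (M : Subgroup ↥K) [hM : M.Normal]
    (hidx : (M.index).Coprime p) : M = ⊤ := by
  rcases quasisimple_normal hK.2 M with h | h
  · exact h
  · exfalso
    have hP : Group.IsPerfect ↥K := hK.2.1
    have h1 : ((Subgroup.center ↥K).index).Coprime p :=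
      Nat.Coprime.coprime_dvd_left (Subgroup.index_dvd_of_le h) hidx
    have h2 : (Nat.card ↥K).Coprime p := coprime_card_of_perfect_of_index_center ↥K h1
    have h3 : K ≤ Cfsg.pPrimeCore p X := subnormal_pprime_le_pPrimeCore p hK.1 h2
    rw [h0] at h3
    have := component_nontrivial hK
    exact (Subgroup.nontrivial_iff_ne_bot K).mp this (le_bot_iff.mp h3)

/-- In a group with `O_{p'} = 1`, a component has order divisible by `p`. -/
theorem component_p_dvd_card (p : ℕ) [Fact p.Prime] (h0 : Cfsg.pPrimeCore p X = ⊥)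
    {K : Subgroup X} (hK : Cfsg.IsComponent K) : p ∣ Nat.card ↥K := by
  by_contra hcon
  have h2 : (Nat.card ↥K).Coprime p :=
    (Nat.coprime_comm.mp ((Nat.Prime.coprime_iff_not_dvd Fact.out).mpr hcon))
  have h3 : K ≤ Cfsg.pPrimeCore p X := subnormal_pprime_le_pPrimeCore p hK.1 h2
  rw [h0] at h3
  have := component_nontrivial hK
  exact (Subgroup.nontrivial_iff_ne_bot K).mp this (le_bot_iff.mp h3)

end quotient

end Cfsg.Agent.Lib.Helper3
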