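import Mathlib
import Cfsg.Agent.Lib.Helper3.PComp
import Cfsg.Agent.Lib.Helper3.PQ
import Cfsg.Agent.Lib.Helper3.NormAux
import Cfsg.Agent.Lib.Helper3.PRes

set_option autoImplicit false
open scoped commutatorElement

universe u

namespace Cfsg.Agent.Lib.Helper3

open Cfsg.Agent.Lib.Helper1

variable {X : Type u} [Group X] [Finite X]

/-- notation: the projection onto `X / O_{p'}(X)` -/
abbrev ppi (p : ℕ) (X : Type*) [Group X] : X →* X ⧸ Cfsg.pPrimeCore p X :=
  QuotientGroup.mk' (Cfsg.pPrimeCore p X)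

omit [Finite X] in
lemma ppi_surjective (p : ℕ) : Function.Surjective (ppi p X) := QuotientGroup.mk'_surjective _

omit [Finite X] in
lemma ppi_eq_one_iff (p : ℕ) (x : X) : ppi p X x = 1 ↔ x ∈ Cfsg.pPrimeCore p X :=
  QuotientGroup.eq_one_iff x

omit [Finite X] in
/-- the commutator subgroup of a subnormal subgroup is subnormal -/
lemma commutator_subnormal {K : Subgroup X} (hK : K.IsSubnormal) : (⁅K, K⁆ : Subgroup X).IsSubnormal := by
  have hle : ⁅K, K⁆ ≤ K := by
    rw [Subgroup.commutator_le]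
    intro a ha b hb
    exact K.mul_mem (K.mul_mem (K.mul_mem ha hb) (K.inv_mem ha)) (K.inv_mem hb)
  have hn : K ≤ Subgroup.normalizer ((⁅K, K⁆ : Subgroup X) : Set X) := by
    refine le_trans ?_ (normalizer_inf_le_normalizer_commutator K K)
    exact le_inf Subgroup.le_normalizer Subgroup.le_normalizer
  have h1 : ((⁅K, K⁆ : Subgroup X).subgroupOf K).Normal :=
    Subgroup.normal_subgroupOf_of_le_normalizer hn
  exact Subgroup.IsSubnormal.trans hle h1.isSubnormal hK

omit [Finite X] in
/-- A `p`-component is perfect. -/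
theorem pcomp_perfect {p : ℕ} {K : Subgroup X} (hK : Cfsg.IsPComponent p K) : ⁅K, K⁆ = K := by
  have hle : ⁅K, K⁆ ≤ K := by
    rw [Subgroup.commutator_le]
    intro a ha b hb
    exact K.mul_mem (K.mul_mem (K.mul_mem ha hb) (K.inv_mem ha)) (K.inv_mem hb)
  apply hK.2.2 _ (commutator_subnormal hK.1) hle
  rw [Subgroup.map_commutator]
  exact component_perfect hK.2.1

omit [Finite X] in
/-- A `p`-component is not contained in `O_{p'}(X)`. -/
theorem pcomp_not_le_core {p : ℕ} {K : Subgroup X} (hK : Cfsg.IsPComponent p K) :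
    ¬ K ≤ Cfsg.pPrimeCore p X := by
  intro h
  have h1 : K.map (ppi p X) = ⊥ := by
    rw [Subgroup.map_eq_bot_iff, QuotientGroup.ker_mk']
    exact h
  have := component_nontrivial hK.2.1
  exact (Subgroup.nontrivial_iff_ne_bot _).mp this h1

/-- The order of a `p`-component is divisible by `p`. -/
theorem pcomp_p_dvd_card {p : ℕ} [Fact p.Prime] {K : Subgroup X} (hK : Cfsg.IsPComponent p K) :
    p ∣ Nat.card ↥K := by
  by_contra hcon
  have h2 : (Nat.card ↥K).Coprime p :=
    (Nat.coprime_comm.mp ((Nat.Prime.coprime_iff_not_dvd Fact.out).mpr hcon))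
  exact pcomp_not_le_core hK (subnormal_pprime_le_pPrimeCore p hK.1 h2)

omit [Finite X] in
/-- dichotomy for subnormal subgroups of a `p`-component -/
theorem pcomp_sub_dichotomy {p : ℕ} {K : Subgroup X} (hK : Cfsg.IsPComponent p K)
    {H : Subgroup X} (hH : H.IsSubnormal) (hHK : H ≤ K) :
    H = K ∨ ∀ a ∈ H.map (ppi p X), ∀ b ∈ K.map (ppi p X), b * a = a * b := by
  set Kb := K.map (ppi p X) with hKb
  set Hb := H.map (ppi p X) with hHb
  have hHbK : Hb ≤ Kb := Subgroup.map_mono hHK
  have h1 : Hb.IsSubnormal := hH.map (ppi_surjective p)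
  have h2 : (Hb.subgroupOf Kb).IsSubnormal := h1.subgroupOf
  rcases quasisimple_subnormal hK.2.1.2 h2 with h | h
  · left
    apply hK.2.2 H hH hHK
    apply le_antisymm hHbK
    rw [Subgroup.subgroupOf_eq_top] at h
    exact h
  · right
    intro a ha b hb
    have h3 : (⟨a, hHbK ha⟩ : Kb) ∈ Subgroup.center ↥Kb :=
      h (show (⟨a, hHbK ha⟩ : Kb) ∈ Hb.subgroupOf Kb from ha)
    have h4 := Subgroup.mem_center_iff.mp h3 ⟨b, hb⟩
    exact congrArg Subtype.val h4

/-- Minimality of `p`-components among perfect subnormal subgroups of order divisible by `p`. -/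
theorem pcomp_minimal_perfect {p : ℕ} [Fact p.Prime] {K : Subgroup X} (hK : Cfsg.IsPComponent p K)
    {H : Subgroup X} (hHK : H ≤ K) (hH : H.IsSubnormal) (hperf : ⁅H, H⁆ = H)
    (hp : p ∣ Nat.card ↥H) : H = K := by
  rcases pcomp_sub_dichotomy hK hH hHK with h | h
  · exact h
  · exfalso
    have h1 : ⁅H.map (ppi p X), H.map (ppi p X)⁆ = ⊥ := by
      rw [Subgroup.commutator_eq_bot_iff_le_centralizer]
      intro a ha
      rw [Subgroup.mem_centralizer_iff]
      intro b hb
      exact h a ha b (Subgroup.map_mono hHK hb)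
    rw [← Subgroup.map_commutator, hperf, Subgroup.map_eq_bot_iff, QuotientGroup.ker_mk'] at h1
    have h2 : Nat.card ↥H ∣ Nat.card ↥(Cfsg.pPrimeCore p X) := Subgroup.card_dvd_of_le h1
    have h3 : p ∣ Nat.gcd (Nat.card ↥(Cfsg.pPrimeCore p X)) p := Nat.dvd_gcd (hp.trans h2) dvd_rfl
    rw [pPrimeCore_coprime p] at h3
    exact (Fact.out : p.Prime).one_lt.ne' (Nat.dvd_one.mp h3)

/-- A `p`-component has no proper normal subgroup of index prime to `p`. -/
theorem pcomp_no_pprime_index {p : ℕ} [Fact p.Prime] {K : Subgroup X} (hK : Cfsg.IsPComponent p K)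
    (M : Subgroup ↥K) [hM : M.Normal] (hidx : (M.index).Coprime p) : M = ⊤ := by
  set f : ↥K →* ↥(K.map (ppi p X)) := (ppi p X).subgroupMap K with hf
  have hfs : Function.Surjective f := MonoidHom.subgroupMap_surjective _ _
  have hMn : (M.map f).Normal := hM.map f hfs
  have h1 : ((M.map f).index).Coprime p :=
    Nat.Coprime.coprime_dvd_left (Subgroup.index_map_dvd M hfs) hidx
  have h2 : M.map f = ⊤ :=
    component_no_pprime_index p (pPrimeCore_quotient_eq_bot p) hK.2.1 (M.map f) h1
  -- hence the image of M in X maps onto the image of K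
  have hsub : (M.map K.subtype).IsSubnormal := by
    have h3 : ((M.map K.subtype).subgroupOf K).Normal := by
      have : (M.map K.subtype).subgroupOf K = M :=
        Subgroup.comap_map_eq_self_of_injective K.subtype_injective M
      rw [this]; exact hM
    exact Subgroup.IsSubnormal.trans (Subgroup.map_subtype_le M) h3.isSubnormal hK.1
  have h4 : M.map K.subtype = K := by
    apply hK.2.2 _ hsub (Subgroup.map_subtype_le M)
    apply le_antisymm (Subgroup.map_mono (Subgroup.map_subtype_le M))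
    intro y hy
    have h5 : (⟨y, hy⟩ : K.map (ppi p X)) ∈ M.map f := by rw [h2]; exact Subgroup.mem_top _
    obtain ⟨m, hm, hmy⟩ := h5
    refine ⟨(m : X), ⟨m, hm, rfl⟩, ?_⟩
    exact congrArg Subtype.val hmy
  rw [eq_top_iff]
  intro k _
  have h5 : (k : X) ∈ M.map K.subtype := by rw [h4]; exact k.2
  obtain ⟨m, hm, hmk⟩ := h5
  have : m = k := Subtype.ext hmk
  rwa [← this]

/-- `O_{p'}(K) = K ∩ O_{p'}(X)` for a subnormal subgroup `K`. -/
theorem pPrimeCore_subnormal_eq {p : ℕ} [Fact p.Prime] {K : Subgroup X} (hK : K.IsSubnormal) :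
    Cfsg.pPrimeCore p ↥K = (Cfsg.pPrimeCore p X).subgroupOf K := by
  apply le_antisymm
  · intro x hx
    have := pPrimeCore_subnormal_le p hK
    exact this ⟨x, hx, rfl⟩
  · have hn : ((Cfsg.pPrimeCore p X).subgroupOf K).Normal :=
      (pPrimeCore_normal' p).subgroupOf K
    apply le_pPrimeCore _ hn
    have h1 : Nat.card ↥((Cfsg.pPrimeCore p X).subgroupOf K) ∣ Nat.card ↥(Cfsg.pPrimeCore p X) := by
      rw [← Subgroup.inf_subgroupOf_right,
        Nat.card_congr (Subgroup.subgroupOfEquivOfLe (inf_le_right :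
          Cfsg.pPrimeCore p X ⊓ K ≤ K)).toEquiv]
      exact Subgroup.card_dvd_of_le inf_le_left
    exact Nat.Coprime.coprime_dvd_left h1 (pPrimeCore_coprime p)

end Cfsg.Agent.Lib.Helper3
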