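import Mathlib
import Cfsg.Agent.Lib.Helper3.PComp2

set_option autoImplicit false
open scoped commutatorElement

universe u

namespace Cfsg.Agent.Lib.Helper3

open Cfsg.Agent.Lib.Helper1

variable {X : Type u} [Group X] [Finite X]

/-- For subnormal `K`: `K / O_{p'}(K) ≅` the image of `K` in `X / O_{p'}(X)`. -/
noncomputable def subnormalQuotientEquiv {p : ℕ} [Fact p.Prime] {K : Subgroup X}
    (hK : K.IsSubnormal) : ↥K ⧸ Cfsg.pPrimeCore p ↥K ≃* ↥(K.map (ppi p X)) := by
  have hfs : Function.Surjective ((ppi p X).subgroupMap K) := MonoidHom.subgroupMap_surjective _ _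
  have hker : Cfsg.pPrimeCore p ↥K = ((ppi p X).subgroupMap K).ker := by
    rw [pPrimeCore_subnormal_eq hK]
    ext x
    rw [Subgroup.mem_subgroupOf, MonoidHom.mem_ker, ← ppi_eq_one_iff]
    constructor
    · intro h
      apply Subtype.ext
      exact h
    · intro h
      exact congrArg Subtype.val h
  exact (QuotientGroup.quotientMulEquivOfEq hker).trans
    (QuotientGroup.quotientKerEquivOfSurjective _ hfs)

/-- `K / O_{p'}(K)` is quasisimple for a `p`-component `K`. -/
theorem pcomp_quotient_quasisimple {p : ℕ} [Fact p.Prime] {K : Subgroup X}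
    (hK : Cfsg.IsPComponent p K) : Cfsg.IsQuasisimple (↥K ⧸ Cfsg.pPrimeCore p ↥K) :=
  isQuasisimple_of_mulEquiv (subnormalQuotientEquiv hK.1).symm hK.2.1.2

end Cfsg.Agent.Lib.Helper3
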