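import Mathlib
import Cfsg.Agent.Lib.Helper3.PComp3

set_option autoImplicit false
open scoped commutatorElement

universe u

namespace Cfsg.Agent.Lib.Helper3

open Cfsg.Agent.Lib.Helper1

variable {X : Type u} [Group X] [Finite X]

/-- A `p`-component is generated by its `p`-elements. -/
theorem pcomp_gen_p_elements {p : ℕ} [Fact p.Prime] {K : Subgroup X} (hK : Cfsg.IsPComponent p K) :
    Subgroup.closure {k : ↥K | ∃ n : ℕ, k ^ (p ^ n) = 1} = ⊤ := by
  set M := Subgroup.closure {k : ↥K | ∃ n : ℕ, k ^ (p ^ n) = 1} with hM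
  have hMn : M.Normal := by
    apply closure_normal_of_conj_inv
    rintro g a ⟨n, hn⟩
    refine ⟨n, ?_⟩
    rw [conj_pow, hn]; simp
  have P : Sylow p ↥K := default
  have hPM : (P : Subgroup ↥K) ≤ M := by
    intro x hx
    apply Subgroup.subset_closure
    obtain ⟨n, hn⟩ := P.isPGroup' ⟨x, hx⟩
    exact ⟨n, by simpa using congrArg Subtype.val hn⟩
  have hidx : (M.index).Coprime p := by
    have h1 : M.index ∣ (P : Subgroup ↥K).index := Subgroup.index_dvd_of_le hPM
    have h2 : ¬ p ∣ (P : Subgroup ↥K).index := P.not_dvd_index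
    have h3 : ¬ p ∣ M.index := fun h => h2 (h.trans h1)
    exact (Nat.coprime_comm.mp ((Nat.Prime.coprime_iff_not_dvd Fact.out).mpr h3))
  exact pcomp_no_pprime_index hK M hidx

omit [Finite X] in
lemma pow_conj_mem_of_normalizes {H : Subgroup X} {k : X} (hk : ∀ x ∈ H, k * x * k⁻¹ ∈ H) (m : ℕ) :
    ∀ x ∈ H, k ^ m * x * (k ^ m)⁻¹ ∈ H := by
  induction m with
  | zero => intro x hx; simpa using hx
  | succ m ih =>
    intro x hx
    have := hk _ (ih x hx)
    have e : k ^ (m + 1) * x * (k ^ (m + 1))⁻¹ = k * (k ^ m * x * (k ^ m)⁻¹) * k⁻¹ := by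
      rw [pow_succ']; group
    rw [e]; exact this

omit [Finite X] in
/-- if `k` normalizes `H` then `(h * k)^m ∈ H * k^m` -/
lemma mul_pow_mem_of_normalizes {H : Subgroup X} {k h : X} (hk : ∀ x ∈ H, k * x * k⁻¹ ∈ H)
    (hh : h ∈ H) (m : ℕ) : ∃ h' ∈ H, (h * k) ^ m = h' * k ^ m := by
  induction m with
  | zero => exact ⟨1, H.one_mem, by simp⟩
  | succ m ih =>
    obtain ⟨h', hh', he⟩ := ih
    refine ⟨h' * (k ^ m * h * (k ^ m)⁻¹), H.mul_mem hh' (pow_conj_mem_of_normalizes hk m h hh), ?_⟩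
    rw [pow_succ, he, pow_succ]; group

/-- Key uniqueness lemma: a `p`-component lies in every subnormal subgroup covering its image. -/
theorem pcomp_le_of_map_le {p : ℕ} [Fact p.Prime] {K : Subgroup X} (hK : Cfsg.IsPComponent p K)
    {H : Subgroup X} (hH : H.IsSubnormal)
    (hle : K.map (ppi p X) ≤ H.map (ppi p X)) : K ≤ H := by
  induction hH with
  | top => exact le_top
  | step H H' hHH' hH' hN ih =>
    have hKH' : K ≤ H' := ih (hle.trans (Subgroup.map_mono hHH'))
    have key : ∀ k : ↥K, (∃ n : ℕ, k ^ (p ^ n) = 1) → (k : X) ∈ H := by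
      rintro ⟨k, hkK⟩ ⟨a, ha⟩
      have ha' : k ^ (p ^ a) = 1 := by simpa using congrArg Subtype.val ha
      obtain ⟨h, hh, hhk⟩ := hle ⟨k, hkK, rfl⟩
      have hn : h⁻¹ * k ∈ Cfsg.pPrimeCore p X := by
        rw [← ppi_eq_one_iff, map_mul, map_inv, hhk]; simp
      have hknorm : ∀ x ∈ H, k * x * k⁻¹ ∈ H := by
        intro x hx
        have := hN.conj_mem ⟨x, hHH' hx⟩ (show (⟨x, hHH' hx⟩ : H') ∈ H.subgroupOf H' from hx)
          ⟨k, hKH' hkK⟩
        exact this
      set m := orderOf (h⁻¹ * k) with hm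
      have hmcop : m.Coprime p := by
        have h1 : m ∣ Nat.card ↥(Cfsg.pPrimeCore p X) := by
          have := orderOf_dvd_natCard (⟨h⁻¹ * k, hn⟩ : Cfsg.pPrimeCore p X)
          rwa [Subgroup.orderOf_mk] at this
        exact Nat.Coprime.coprime_dvd_left h1 (pPrimeCore_coprime p)
      obtain ⟨h', hh', he⟩ := mul_pow_mem_of_normalizes hknorm (H.inv_mem hh) m
      rw [hm, pow_orderOf_eq_one] at he
      have hkm : k ^ m ∈ H := by
        have h1 : k ^ m = h'⁻¹ := by
          rw [hm]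
          exact eq_inv_of_mul_eq_one_right he.symm
        rw [h1]; exact H.inv_mem hh'
      have hcop : m.Coprime (orderOf k) := by
        have h1 : orderOf k ∣ p ^ a := orderOf_dvd_of_pow_eq_one ha'
        exact Nat.Coprime.coprime_dvd_right h1 (Nat.Coprime.pow_right a hmcop)
      obtain ⟨j, hj⟩ := exists_pow_eq_self_of_coprime hcop
      show k ∈ H
      have := H.pow_mem hkm j
      rwa [hj] at this
    have hcl : Subgroup.closure {k : ↥K | ∃ n : ℕ, k ^ (p ^ n) = 1} ≤ H.comap K.subtype := by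
      rw [Subgroup.closure_le]
      intro k hk
      exact key k hk
    rw [pcomp_gen_p_elements hK] at hcl
    intro k hk
    exact hcl (show (⟨k, hk⟩ : K) ∈ (⊤ : Subgroup ↥K) from Subgroup.mem_top _)

/-- Uniqueness of the `p`-component over a given component of `X / O_{p'}(X)`. -/
theorem pcomp_unique {p : ℕ} [Fact p.Prime] {K₁ K₂ : Subgroup X} (h₁ : Cfsg.IsPComponent p K₁)
    (h₂ : Cfsg.IsPComponent p K₂) (he : K₁.map (ppi p X) = K₂.map (ppi p X)) : K₁ = K₂ :=
  le_antisymm (pcomp_le_of_map_le h₁ h₂.1 (le_of_eq he)) (pcomp_le_of_map_le h₂ h₁.1 (le_of_eq he.symm))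

/-- Existence of a `p`-component over a given component of `X / O_{p'}(X)`. -/
theorem exists_pcomp_over {p : ℕ} {Kb : Subgroup (X ⧸ Cfsg.pPrimeCore p X)}
    (hKb : Cfsg.IsComponent Kb) : ∃ K : Subgroup X, Cfsg.IsPComponent p K ∧ K.map (ppi p X) = Kb := by
  have hne : ∃ H : Subgroup X, H.IsSubnormal ∧ H.map (ppi p X) = Kb :=
    ⟨Kb.comap (ppi p X), hKb.1.comap _, Subgroup.map_comap_eq_self_of_surjective (ppi_surjective p) _⟩
  obtain ⟨K, hK⟩ := exists_minimal_of_wellFoundedLT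
    (fun H : Subgroup X => H.IsSubnormal ∧ H.map (ppi p X) = Kb) hne
  refine ⟨K, ⟨hK.1.1, ?_, ?_⟩, hK.1.2⟩
  · rw [hK.1.2]; exact hKb
  · intro H hH hHK hmap
    exact le_antisymm hHK (hK.2 ⟨hH, hmap.trans hK.1.2⟩ hHK)

omit [Finite X] in
lemma pLayer_le_iff {p : ℕ} {H : Subgroup X} :
    Cfsg.pLayer p X ≤ H ↔ ∀ K : Subgroup X, Cfsg.IsPComponent p K → K ≤ H := by
  unfold Cfsg.pLayer
  rw [sSup_le_iff]
  rfl

omit [Finite X] in
lemma pcomp_le_pLayer {p : ℕ} {K : Subgroup X} (hK : Cfsg.IsPComponent p K) : K ≤ Cfsg.pLayer p X :=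
  le_sSup hK

/-- The image of the `p`-layer in `X / O_{p'}(X)` is the layer. -/
theorem pLayer_map_eq {p : ℕ} :
    (Cfsg.pLayer p X).map (ppi p X) = Cfsg.layer (X ⧸ Cfsg.pPrimeCore p X) := by
  apply le_antisymm
  · rw [Subgroup.map_le_iff_le_comap, pLayer_le_iff]
    intro K hK
    rw [← Subgroup.map_le_iff_le_comap]
    exact component_le_layer hK.2.1
  · rw [layer_le_iff]
    intro Kb hKb
    obtain ⟨K, hK, rfl⟩ := exists_pcomp_over hKb
    exact Subgroup.map_mono (pcomp_le_pLayer hK)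

omit [Finite X] in
lemma map_conj_map_ppi {p : ℕ} (K : Subgroup X) (x : X) :
    (K.map (MulAut.conj x).toMonoidHom).map (ppi p X) =
      (K.map (ppi p X)).map (MulAut.conj (ppi p X x)).toMonoidHom := by
  rw [Subgroup.map_map, Subgroup.map_map]
  congr 1

omit [Finite X] in
/-- A conjugate of a `p`-component is a `p`-component. -/
theorem pcomp_conj {p : ℕ} {K : Subgroup X} (hK : Cfsg.IsPComponent p K) (x : X) :
    Cfsg.IsPComponent p (K.map (MulAut.conj x).toMonoidHom) := by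
  refine ⟨hK.1.map (MulAut.conj x).surjective, ?_, ?_⟩
  · rw [map_conj_map_ppi]
    exact component_map_equiv hK.2.1 _
  · intro H hH hHK hmap
    have h1 : H.map (MulAut.conj x⁻¹).toMonoidHom = K := by
      apply hK.2.2 _ (hH.map (MulAut.conj x⁻¹).surjective)
      · have := Subgroup.map_mono (f := (MulAut.conj x⁻¹).toMonoidHom) hHK
        rwa [map_conj_inv_map_conj] at this
      · rw [map_conj_map_ppi, hmap, map_conj_map_ppi, map_inv, map_conj_inv_map_conj]
    rw [← h1, map_conj_map_conj_inv]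

/-- Each `p`-component is normalized by the `p`-layer. -/
theorem pLayer_le_normalizer_pcomp {p : ℕ} [Fact p.Prime] {K : Subgroup X}
    (hK : Cfsg.IsPComponent p K) : Cfsg.pLayer p X ≤ Subgroup.normalizer (K : Set X) := by
  intro g hg
  have h1 : ppi p X g ∈ Cfsg.layer (X ⧸ Cfsg.pPrimeCore p X) := by
    rw [← pLayer_map_eq]; exact ⟨g, hg, rfl⟩
  have h2 := layer_le_normalizer_component hK.2.1 h1
  rw [Subgroup.mem_normalizer_iff_map_conj_eq] at h2
  have h2' : (K.map (ppi p X)).map (MulAut.conj (ppi p X g)).toMonoidHom = K.map (ppi p X) := h2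
  have h3 : K.map (MulAut.conj g).toMonoidHom = K := by
    apply pcomp_unique (pcomp_conj hK g) hK
    rw [map_conj_map_ppi, h2']
  rw [Subgroup.mem_normalizer_iff_map_conj_eq]
  exact h3

end Cfsg.Agent.Lib.Helper3
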