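import Mathlib
import Cfsg.Prelude.Def_CaseTheorems
import Cfsg.Agent.Lib.Helper3.Quasi

set_option autoImplicit false
open scoped commutatorElement

namespace Cfsg.Agent.Lib.Helper3

/-- In a perfect group, an element whose commutators are all central is central. -/
lemma mem_center_of_commutator_central {L : Type*} [Group L] [hL : Group.IsPerfect L] (z : L)
    (h : ∀ g : L, ⁅z, g⁆ ∈ Subgroup.center L) : z ∈ Subgroup.center L := by
  -- g ↦ ⁅z, g⁆ is a homomorphism
  let φ : L →* L :=
    { toFun := fun g => ⁅z, g⁆
      map_one' := by simp [commutatorElement_def]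
      map_mul' := by
        intro a b
        have hb := Subgroup.mem_center_iff.mp (h b) a
        calc ⁅z, a * b⁆ = (z * a * z⁻¹ * a⁻¹) * (a * ⁅z, b⁆) * a⁻¹ := by
              simp only [commutatorElement_def]; group
          _ = (z * a * z⁻¹ * a⁻¹) * (⁅z, b⁆ * a) * a⁻¹ := by rw [hb]
          _ = ⁅z, a⁆ * ⁅z, b⁆ := by simp only [commutatorElement_def]; group }
  have hker : commutator L ≤ φ.ker := by
    rw [commutator_def, Subgroup.commutator_le]
    intro a _ b _
    rw [MonoidHom.mem_ker, map_commutatorElement, commutatorElement_eq_one_iff_mul_comm]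
    exact (Subgroup.mem_center_iff.mp (h b) (φ a))
  rw [Subgroup.mem_center_iff]
  intro g
  have h1 : g ∈ φ.ker := by
    apply hker
    rw [hL.commutator_eq_top]; exact Subgroup.mem_top g
  have h2 : ⁅z, g⁆ = 1 := MonoidHom.mem_ker.mp h1
  rw [commutatorElement_eq_one_iff_mul_comm] at h2
  exact h2.symm

/-- A perfect central extension of a quasisimple group is quasisimple. -/
theorem quasisimple_of_central_quotient {L : Type*} [Group L] [hL : Group.IsPerfect L]
    (O : Subgroup L) [hOn : O.Normal] (hO : O ≤ Subgroup.center L)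
    (hq : Cfsg.IsQuasisimple (L ⧸ O)) : Cfsg.IsQuasisimple L := by
  refine ⟨hL, ?_⟩
  have key : (Subgroup.center L).map (QuotientGroup.mk' O) = Subgroup.center (L ⧸ O) := by
    apply le_antisymm
    · rintro _ ⟨z, hz, rfl⟩
      rw [Subgroup.mem_center_iff]
      intro y
      obtain ⟨g, rfl⟩ := QuotientGroup.mk'_surjective O y
      rw [← map_mul, ← map_mul, Subgroup.mem_center_iff.mp hz g]
    · intro y hy
      obtain ⟨z, rfl⟩ := QuotientGroup.mk'_surjective O y
      refine ⟨z, ?_, rfl⟩
      apply mem_center_of_commutator_central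
      intro g
      apply hO
      have h1 : (QuotientGroup.mk' O) ⁅z, g⁆ = 1 := by
        rw [map_commutatorElement, commutatorElement_eq_one_iff_mul_comm]
        exact (Subgroup.mem_center_iff.mp hy _).symm
      exact (QuotientGroup.eq_one_iff _).mp h1
  have hs : IsSimpleGroup ((L ⧸ O) ⧸ Subgroup.center (L ⧸ O)) := hq.2
  have e1 : (L ⧸ O) ⧸ ((Subgroup.center L).map (QuotientGroup.mk' O)) ≃* L ⧸ Subgroup.center L :=
    QuotientGroup.quotientQuotientEquivQuotient O (Subgroup.center L) hO
  have e2 : (L ⧸ O) ⧸ Subgroup.center (L ⧸ O) ≃*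
      (L ⧸ O) ⧸ ((Subgroup.center L).map (QuotientGroup.mk' O)) :=
    QuotientGroup.quotientMulEquivOfEq key.symm
  exact (e2.trans e1).symm.isSimpleGroup


/-- the centre of a central quotient of a perfect group -/
theorem center_quotient_central {L : Type*} [Group L] [hL : Group.IsPerfect L]
    (O : Subgroup L) [hOn : O.Normal] (hO : O ≤ Subgroup.center L) :
    (Subgroup.center L).map (QuotientGroup.mk' O) = Subgroup.center (L ⧸ O) := by
  apply le_antisymm
  · rintro _ ⟨z, hz, rfl⟩
    rw [Subgroup.mem_center_iff]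
    intro y
    obtain ⟨g, rfl⟩ := QuotientGroup.mk'_surjective O y
    rw [← map_mul, ← map_mul, Subgroup.mem_center_iff.mp hz g]
  · intro y hy
    obtain ⟨z, rfl⟩ := QuotientGroup.mk'_surjective O y
    refine ⟨z, ?_, rfl⟩
    apply mem_center_of_commutator_central
    intro g
    apply hO
    have h1 : (QuotientGroup.mk' O) ⁅z, g⁆ = 1 := by
      rw [map_commutatorElement, commutatorElement_eq_one_iff_mul_comm]
      exact (Subgroup.mem_center_iff.mp hy _).symm
    exact (QuotientGroup.eq_one_iff _).mp h1

/-- A central quotient of a quasisimple group is quasisimple. -/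
theorem quasisimple_quotient_central {L : Type*} [Group L] (hq : Cfsg.IsQuasisimple L)
    (O : Subgroup L) [hOn : O.Normal] (hO : O ≤ Subgroup.center L) :
    Cfsg.IsQuasisimple (L ⧸ O) := by
  have hL : Group.IsPerfect L := hq.1
  refine ⟨inferInstance, ?_⟩
  have key := center_quotient_central O hO
  have hs : IsSimpleGroup (L ⧸ Subgroup.center L) := hq.2
  have e1 : (L ⧸ O) ⧸ ((Subgroup.center L).map (QuotientGroup.mk' O)) ≃* L ⧸ Subgroup.center L :=
    QuotientGroup.quotientQuotientEquivQuotient O (Subgroup.center L) hO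
  have e2 : (L ⧸ O) ⧸ Subgroup.center (L ⧸ O) ≃*
      (L ⧸ O) ⧸ ((Subgroup.center L).map (QuotientGroup.mk' O)) :=
    QuotientGroup.quotientMulEquivOfEq key.symm
  exact (e2.trans e1).isSimpleGroup

/-- The image of a quasisimple group under a homomorphism is trivial or quasisimple. -/
theorem quasisimple_range {L M : Type*} [Group L] [Group M] (hq : Cfsg.IsQuasisimple L)
    (f : L →* M) (hf : Function.Surjective f) : Subsingleton M ∨ Cfsg.IsQuasisimple M := by
  rcases quasisimple_normal hq f.ker with h | h
  · left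
    constructor
    intro a b
    obtain ⟨x, rfl⟩ := hf a
    obtain ⟨y, rfl⟩ := hf b
    have hx : x ∈ f.ker := by rw [h]; exact Subgroup.mem_top _
    have hy : y ∈ f.ker := by rw [h]; exact Subgroup.mem_top _
    rw [MonoidHom.mem_ker.mp hx, MonoidHom.mem_ker.mp hy]
  · right
    have h1 : Cfsg.IsQuasisimple (L ⧸ f.ker) := quasisimple_quotient_central hq f.ker h
    exact isQuasisimple_of_mulEquiv (QuotientGroup.quotientKerEquivOfSurjective f hf) h1

end Cfsg.Agent.Lib.Helper3
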