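import Mathlib
import Cfsg.Agent.Lib.Helper3.PComp4
import Cfsg.Agent.Lib.Helper3.Quasi2

set_option autoImplicit false
open scoped commutatorElement

universe u

namespace Cfsg.Agent.Lib.Helper3

/-- The image of a component under a surjective homomorphism is trivial or a component. -/
theorem component_map_surjective {G G' : Type*} [Group G] [Group G'] {L : Subgroup G}
    (hL : Cfsg.IsComponent L) (f : G →* G') (hf : Function.Surjective f) :
    L.map f = ⊥ ∨ Cfsg.IsComponent (L.map f) := by
  rcases quasisimple_range hL.2 (f.subgroupMap L) (MonoidHom.subgroupMap_surjective _ _) with h | h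
  · left; exact Subgroup.eq_bot_of_subsingleton _
  · right; exact ⟨hL.1.map hf, h⟩

/-- The image of the layer lies in the layer of the quotient. -/
theorem layer_map_le_layer {G G' : Type*} [Group G] [Group G'] (f : G →* G')
    (hf : Function.Surjective f) : (Cfsg.layer G).map f ≤ Cfsg.layer G' := by
  rw [Subgroup.map_le_iff_le_comap, layer_le_iff]
  intro L hL
  rw [← Subgroup.map_le_iff_le_comap]
  rcases component_map_surjective hL f hf with h | h
  · rw [h]; exact bot_le
  · exact component_le_layer h

end Cfsg.Agent.Lib.Helper3
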