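import Mathlib
import Cfsg.Agent.Lib.Helper3.PComp5
import Cfsg.Agent.Lib.Helper3.CharP
import Cfsg.Agent.Lib.Helper3.QN

set_option autoImplicit false
open scoped commutatorElement

universe u

namespace Cfsg.Agent.Lib.Helper3

open Cfsg.Agent.Lib.Helper1

variable {X : Type u} [Group X] [Finite X]

omit [Finite X] in
lemma pPrimePCore_normal (p : ℕ) : (Cfsg.pPrimePCore p X).Normal := by
  unfold Cfsg.pPrimePCore
  have : (Cfsg.pCore p (X ⧸ Cfsg.pPrimeCore p X)).Normal := pCore_normal' p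
  exact this.comap _

omit [Finite X] in
lemma mem_pPrimePCore_iff (p : ℕ) (x : X) :
    x ∈ Cfsg.pPrimePCore p X ↔ ppi p X x ∈ Cfsg.pCore p (X ⧸ Cfsg.pPrimeCore p X) := Iff.rfl

/-- The image of a Sylow `p`-subgroup of `O_{p',p}(X)` in `X / O_{p'}(X)` is `O_p(X / O_{p'}(X))`. -/
theorem sylow_pPrimePCore_map_eq (p : ℕ) [Fact p.Prime] (P : Sylow p ↥(Cfsg.pPrimePCore p X)) :
    (((P : Subgroup ↥(Cfsg.pPrimePCore p X)).map (Cfsg.pPrimePCore p X).subtype).map (ppi p X)) =
      Cfsg.pCore p (X ⧸ Cfsg.pPrimeCore p X) := by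
  set D := Cfsg.pCore p (X ⧸ Cfsg.pPrimeCore p X) with hD
  apply le_antisymm
  · rintro _ ⟨_, ⟨x, -, rfl⟩, rfl⟩
    exact x.2
  · intro d hd
    let f : ↥(Cfsg.pPrimePCore p X) →* ↥D := (ppi p X).subgroupComap D
    have hf : Function.Surjective f :=
      MonoidHom.subgroupComap_surjective_of_surjective _ _ (ppi_surjective p)
    have hDp : IsPGroup p ↥D := pCore_isPGroup
    have htop : IsPGroup p ↥(⊤ : Subgroup ↥D) := hDp.to_subgroup _
    have h1 : (⊤ : Subgroup ↥D) = (P.mapSurjective hf : Subgroup ↥D) :=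
      (P.mapSurjective hf).is_maximal' htop le_top
    have h2 : (⟨d, hd⟩ : D) ∈ (P : Subgroup ↥(Cfsg.pPrimePCore p X)).map f := by
      have : (⟨d, hd⟩ : D) ∈ (P.mapSurjective hf : Subgroup ↥D) := by
        rw [← h1]; exact Subgroup.mem_top _
      exact this
    obtain ⟨x, hx, hxd⟩ := h2
    refine ⟨(x : X), ⟨x, hx, rfl⟩, ?_⟩
    exact congrArg Subtype.val hxd

/-- If the `p`-layer is trivial then `X / O_{p'}(X)` has characteristic `p`. -/
theorem centralizer_pCore_quotient_le_of_pLayer (p : ℕ) [Fact p.Prime] (h : Cfsg.pLayer p X = ⊥) :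
    Subgroup.centralizer (Cfsg.pCore p (X ⧸ Cfsg.pPrimeCore p X) : Set (X ⧸ Cfsg.pPrimeCore p X)) ≤
      Cfsg.pCore p (X ⧸ Cfsg.pPrimeCore p X) := by
  set Q := X ⧸ Cfsg.pPrimeCore p X with hQ
  set D := Cfsg.pCore p Q with hD
  have hlayer : Cfsg.layer Q = ⊥ := by
    rw [← pLayer_map_eq, h, Subgroup.map_bot]
  have hfit : Cfsg.fittingSubgroup Q ≤ D := by
    rw [fitting_eq_pCoreSup]
    unfold pCoreSup
    apply iSup_le
    intro q
    by_cases hq : (q : ℕ) = p
    · rw [hq]
    · have : Fact (q : ℕ).Prime := ⟨q.2⟩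
      have h1 : Cfsg.pCore (q : ℕ) Q ≤ Cfsg.pPrimeCore p Q := by
        apply le_pPrimeCore _ (pCore_normal' _)
        obtain ⟨k, hk⟩ := IsPGroup.iff_card.1 (pCore_isPGroup (p := (q : ℕ)) (G := Q))
        rw [hk]
        apply Nat.Coprime.pow_left
        exact (Nat.coprime_primes q.2 Fact.out).2 hq
      rw [pPrimeCore_quotient_eq_bot] at h1
      exact h1.trans bot_le
  have hF : Cfsg.generalizedFittingSubgroup Q = D := by
    apply le_antisymm
    · unfold Cfsg.generalizedFittingSubgroup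
      rw [hlayer, bot_sup_eq]; exact hfit
    · exact (pCore_le_fitting p).trans le_sup_right
  exact centralizer_pCore_le_of_genFitting_eq p hF

/-- If `X / O_{p'}(X)` has characteristic `p` then the `p`-layer is trivial. -/
theorem pLayer_eq_bot_of_centralizer_pCore_quotient_le (p : ℕ) [Fact p.Prime]
    (h : Subgroup.centralizer (Cfsg.pCore p (X ⧸ Cfsg.pPrimeCore p X) :
      Set (X ⧸ Cfsg.pPrimeCore p X)) ≤ Cfsg.pCore p (X ⧸ Cfsg.pPrimeCore p X)) :
    Cfsg.pLayer p X = ⊥ := by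
  set Q := X ⧸ Cfsg.pPrimeCore p X with hQ
  have hF : Cfsg.generalizedFittingSubgroup Q = Cfsg.pCore p Q :=
    genFitting_eq_pCore_of_centralizer_le p h
  rw [eq_bot_iff, pLayer_le_iff]
  intro K hK
  exfalso
  have hKb : Cfsg.IsComponent (K.map (ppi p X)) := hK.2.1
  have h1 : K.map (ppi p X) ≤ Cfsg.pCore p Q := by
    rw [← hF]; exact (component_le_layer hKb).trans le_sup_left
  apply component_not_solvable hKb
  have h2 : IsPGroup p ↥(K.map (ppi p X)) := (pCore_isPGroup (p := p) (G := Q)).to_le h1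
  have h3 : Group.IsNilpotent ↥(K.map (ppi p X)) := h2.isNilpotent
  infer_instance

/-- `p`-constraint is equivalent to `X / O_{p'}(X)` having characteristic `p`. -/
theorem isPConstrained_iff (p : ℕ) [Fact p.Prime] :
    Cfsg.IsPConstrained p X ↔
      Subgroup.centralizer (Cfsg.pCore p (X ⧸ Cfsg.pPrimeCore p X) :
        Set (X ⧸ Cfsg.pPrimeCore p X)) ≤ Cfsg.pCore p (X ⧸ Cfsg.pPrimeCore p X) := by
  set N := Cfsg.pPrimeCore p X with hN
  set Q := X ⧸ N with hQ
  set D := Cfsg.pCore p Q with hD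
  set M := Cfsg.pPrimePCore p X with hM
  have hMn : M.Normal := pPrimePCore_normal p
  constructor
  · intro hpc
    have P : Sylow p ↥M := default
    set P' := (P : Subgroup ↥M).map M.subtype with hP'
    have hP'map : P'.map (ppi p X) = D := sylow_pPrimePCore_map_eq p P
    have hP'p : IsPGroup p ↥P' := P.isPGroup'.map _
    have hfr : Subgroup.normalizer (P' : Set X) ⊔ M = ⊤ := Sylow.normalizer_sup_eq_top P
    intro ybar hy
    obtain ⟨y, rfl⟩ := ppi_surjective p ybar
    have hy1 : y ∈ Subgroup.normalizer (P' : Set X) ⊔ M := by rw [hfr]; exact Subgroup.mem_top _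
    obtain ⟨r, hr, m, hm, hyrm⟩ := mem_mul_of_mem_sup_left_normal
      (show Subgroup.normalizer (P' : Set X) ≤ Subgroup.normalizer (M : Set X) by
        rw [Subgroup.normalizer_eq_top_iff.mpr hMn]; exact le_top) hy1
    have hm' : ppi p X m ∈ D := hm
    rw [← hP'map] at hm'
    obtain ⟨u, hu, hum⟩ := hm'
    have hr' : r * u ∈ Subgroup.normalizer (P' : Set X) :=
      Subgroup.mul_mem _ hr (Subgroup.le_normalizer hu)
    have hpi : ppi p X (r * u) = ppi p X y := by
      rw [map_mul, hum, hyrm, map_mul]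
    -- r * u centralizes P'
    have hcent : r * u ∈ Subgroup.centralizer (P' : Set X) := by
      rw [Subgroup.mem_centralizer_iff]
      intro v hv
      have hc1 : ⁅r * u, v⁆ ∈ P' := by
        rw [commutatorElement_def]
        exact P'.mul_mem ((Subgroup.mem_set_normalizer_iff.mp hr' v).mp hv) (P'.inv_mem hv)
      have hc2 : ⁅r * u, v⁆ ∈ N := by
        rw [← ppi_eq_one_iff, map_commutatorElement, hpi, commutatorElement_eq_one_iff_mul_comm]
        have hvD : ppi p X v ∈ D := by rw [← hP'map]; exact ⟨v, hv, rfl⟩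
        exact (Subgroup.mem_centralizer_iff.mp hy _ hvD).symm
      have hc3 : ⁅r * u, v⁆ = 1 := by
        obtain ⟨k, hk⟩ := hP'p ⟨_, hc1⟩
        have hk' : ⁅r * u, v⁆ ^ (p ^ k) = 1 := by simpa using congrArg Subtype.val hk
        have h3 : orderOf ⁅r * u, v⁆ ∣ p ^ k := orderOf_dvd_of_pow_eq_one hk'
        have h4 : orderOf ⁅r * u, v⁆ ∣ Nat.card ↥N := by
          have := orderOf_dvd_natCard (⟨_, hc2⟩ : N)
          rwa [Subgroup.orderOf_mk] at this
        have h5 : orderOf ⁅r * u, v⁆ = 1 :=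
          Nat.eq_one_of_dvd_coprimes (Nat.Coprime.pow_right k (pPrimeCore_coprime p)) h4 h3
        exact orderOf_eq_one_iff.mp h5
      rw [commutatorElement_eq_one_iff_mul_comm] at hc3
      exact hc3.symm
    have hruM : r * u ∈ M := hpc P hcent
    rw [← hpi]
    exact hruM
  · intro hC P x hx
    rw [mem_pPrimePCore_iff]
    apply hC
    rw [Subgroup.mem_centralizer_iff]
    intro d hd
    have hd' : d ∈ (((P : Subgroup ↥(Cfsg.pPrimePCore p X)).map
        (Cfsg.pPrimePCore p X).subtype).map (ppi p X)) := by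
      rw [sylow_pPrimePCore_map_eq p P]; exact hd
    obtain ⟨v, hv, rfl⟩ := hd'
    rw [← map_mul, ← map_mul, Subgroup.mem_centralizer_iff.mp hx v hv]

end Cfsg.Agent.Lib.Helper3
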