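import Mathlib

set_option autoImplicit false
set_option linter.unusedSectionVars false
set_option linter.style.haveILetI false
open scoped IsMulCommutative

/-! An elementary form of the Frobenius-partition argument: a quadratically acting element of
order `p` cannot act fixed-point-freely on a nontrivially acting abelian `p'`-group. -/

namespace Cfsg.Agent.Lib.Helper3

section fp
variable {H : Type*} [Group H]

lemma conj_fix_of_pow {p : ℕ} (hp : p.Prime) {b e : H} (hbp : b ^ p * e * (b ^ p)⁻¹ = e)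
    {i : ℕ} (hi0 : 0 < i) (hip : i < p) (h : b ^ i * e * (b ^ i)⁻¹ = e) : b * e * b⁻¹ = e := by
  have hcop : Nat.Coprime i p :=
    Nat.Coprime.symm ((Nat.Prime.coprime_iff_not_dvd hp).2 (Nat.not_dvd_of_pos_of_lt hi0 hip))
  have h1 : Commute (b ^ (i : ℤ)) e := by
    rw [zpow_natCast]
    exact mul_inv_eq_iff_eq_mul.mp h
  have h2 : Commute (b ^ (p : ℤ)) e := by
    rw [zpow_natCast]
    exact mul_inv_eq_iff_eq_mul.mp hbp
  have h4 : (i : ℤ) * Nat.gcdA i p + (p : ℤ) * Nat.gcdB i p = 1 := by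
    have := Nat.gcd_eq_gcd_ab i p
    rw [hcop] at this
    rw [← this]; rfl
  have h3 : Commute (b ^ ((i : ℤ) * Nat.gcdA i p + (p : ℤ) * Nat.gcdB i p)) e := by
    rw [zpow_add, zpow_mul, zpow_mul]
    exact (h1.zpow_left _).mul_left (h2.zpow_left _)
  rw [h4, zpow_one] at h3
  exact mul_inv_eq_iff_eq_mul.mpr h3

variable {U : Type*} [Group U] [IsMulCommutative U]

theorem fp_lemma {p : ℕ} [Fact p.Prime] (hp2 : p ≠ 2)
    (hUexp : ∀ u : U, u ^ p = 1) (θ : H →* MulAut U)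
    (E : Subgroup H) [Finite E] (hEcop : (Nat.card E).Coprime p)
    (b : H) (hbE : ∀ e ∈ E, b * e * b⁻¹ ∈ E)
    (hbp : ∀ e ∈ E, b ^ p * e * (b ^ p)⁻¹ = e)
    (hfpf : ∀ e ∈ E, b * e * b⁻¹ = e → e = 1)
    (hquad : ∀ u : U, θ b (θ b u * u⁻¹) = θ b u * u⁻¹) :
    ∀ e ∈ E, ∀ u : U, θ e u = u := by
  classical
  letI : Fintype E := Fintype.ofFinite _
  have hpp : p.Prime := Fact.out
  -- the norm of `⟨b⟩` vanishes
  have hS1 : ∀ w : U, ∏ i ∈ Finset.range p, θ (b ^ i) w = 1 := by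
    intro w
    set c := θ b w * w⁻¹ with hc
    have hcfix : θ b c = c := hquad w
    have hbw : θ b w = w * c := by
      rw [hc, mul_comm (θ b w), ← mul_assoc, mul_inv_cancel, one_mul]
    have hpow : ∀ i : ℕ, θ (b ^ i) w = w * c ^ i := by
      intro i
      induction i with
      | zero => simp
      | succ i ih =>
        rw [pow_succ', map_mul, MulAut.mul_apply, ih, map_mul, map_pow, hcfix, hbw, pow_succ,
          mul_assoc, mul_comm c (c ^ i)]
    have hsum : ∑ i ∈ Finset.range p, i = p * ((p - 1) / 2) := by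
      rw [Finset.sum_range_id]
      obtain ⟨k, hk⟩ := hpp.eq_two_or_odd'.resolve_left hp2
      have h1 : p - 1 = 2 * k := by omega
      rw [h1, Nat.mul_div_cancel_left k (by norm_num : 0 < 2),
        show p * (2 * k) = 2 * (p * k) by ring, Nat.mul_div_cancel_left _ (by norm_num : 0 < 2)]
    simp_rw [hpow]
    rw [Finset.prod_mul_distrib, Finset.prod_const, Finset.card_range, hUexp, one_mul,
      Finset.prod_pow_eq_pow_sum, hsum, pow_mul, hUexp, one_pow]
  have hS2 : ∀ (x : H) (u : U), ∏ i ∈ Finset.range p, θ (x * b ^ i * x⁻¹) u = 1 := by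
    intro x u
    have h : ∀ i, θ (x * b ^ i * x⁻¹) u = θ x (θ (b ^ i) (θ x⁻¹ u)) := by
      intro i
      rw [map_mul, map_mul, MulAut.mul_apply, MulAut.mul_apply]
    simp_rw [h]
    rw [← map_prod, hS1, map_one]
  have hbiE : ∀ i : ℕ, ∀ e ∈ E, b ^ i * e * (b ^ i)⁻¹ ∈ E := by
    intro i
    induction i with
    | zero => intro e he; simpa using he
    | succ i ih =>
      intro e he
      have := hbE _ (ih e he)
      have e' : b ^ (i + 1) * e * (b ^ (i + 1))⁻¹ = b * (b ^ i * e * (b ^ i)⁻¹) * b⁻¹ := by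
        rw [pow_succ']; group
      rw [e']; exact this
  -- the norm over `E` is fixed by `E`
  have hNE : ∀ (w : U) (e : H), e ∈ E → θ e (∏ x : E, θ (x : H) w) = ∏ x : E, θ (x : H) w := by
    intro w e he
    rw [map_prod]
    have h1 : ∀ z : E, θ e (θ (z : H) w) = θ (((⟨e, he⟩ : E) * z : E) : H) w := by
      intro z
      rw [Subgroup.coe_mul, map_mul, MulAut.mul_apply]
    simp_rw [h1]
    exact Fintype.prod_equiv (Equiv.mulLeft (⟨e, he⟩ : E)) _ _ (fun z => rfl)
  -- reindexing for `0 < i < p`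
  have hre : ∀ i : ℕ, 0 < i → i < p → ∀ u : U,
      ∏ x : E, θ ((x : H) * b ^ i * (x : H)⁻¹) u = ∏ x : E, θ (x : H) (θ (b ^ i) u) := by
    intro i hi0 hip u
    let ψ : E → E := fun x => ⟨(x : H) * (b ^ i * (x : H) * (b ^ i)⁻¹)⁻¹,
      E.mul_mem x.2 (E.inv_mem (hbiE i _ x.2))⟩
    have hψinj : Function.Injective ψ := by
      intro x y hxy
      have h0 : (x : H) * (b ^ i * (x : H) * (b ^ i)⁻¹)⁻¹ =
          (y : H) * (b ^ i * (y : H) * (b ^ i)⁻¹)⁻¹ := congrArg Subtype.val hxy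
      have hz : b ^ i * ((y : H)⁻¹ * (x : H)) * (b ^ i)⁻¹ = (y : H)⁻¹ * (x : H) := by
        have h1 : (y : H)⁻¹ * (x : H) =
            (b ^ i * (y : H) * (b ^ i)⁻¹)⁻¹ * (b ^ i * (x : H) * (b ^ i)⁻¹) := by
          have h2 : (y : H)⁻¹ * ((x : H) * (b ^ i * (x : H) * (b ^ i)⁻¹)⁻¹) *
              (b ^ i * (x : H) * (b ^ i)⁻¹) = (y : H)⁻¹ * (x : H) := by group
          rw [← h2, h0]; group
        have h3 : b ^ i * ((y : H)⁻¹ * (x : H)) * (b ^ i)⁻¹ =
            (b ^ i * (y : H) * (b ^ i)⁻¹)⁻¹ * (b ^ i * (x : H) * (b ^ i)⁻¹) := by group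
        rw [h3, ← h1]
      have hzE : (y : H)⁻¹ * (x : H) ∈ E := E.mul_mem (E.inv_mem y.2) x.2
      have hfix := conj_fix_of_pow hpp (hbp _ hzE) hi0 hip hz
      have h1 := hfpf _ hzE hfix
      apply Subtype.ext
      have : (x : H) = (y : H) * ((y : H)⁻¹ * (x : H)) := by group
      rw [this, h1, mul_one]
    have hψ : Function.Bijective ψ := hψinj.bijective_of_finite
    have h1 : ∀ x : E, θ ((x : H) * b ^ i * (x : H)⁻¹) u = θ ((ψ x : E) : H) (θ (b ^ i) u) := by
      intro x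
      rw [← MulAut.mul_apply, ← map_mul]
      congr 2
      show (x : H) * b ^ i * (x : H)⁻¹ = (x : H) * (b ^ i * (x : H) * (b ^ i)⁻¹)⁻¹ * b ^ i
      group
    simp_rw [h1]
    exact Fintype.prod_bijective ψ hψ _ _ (fun x => rfl)
  intro e he u
  have hmain : ∏ x : E, ∏ i ∈ Finset.range p, θ ((x : H) * b ^ i * (x : H)⁻¹) u = 1 :=
    Finset.prod_eq_one (fun x _ => hS2 x u)
  rw [Finset.prod_comm] at hmain
  obtain ⟨n, hn⟩ : ∃ n, p = n + 1 := ⟨p - 1, by have := hpp.pos; omega⟩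
  have hmain' : ∏ i ∈ Finset.range (n + 1), ∏ x : E, θ ((x : H) * b ^ i * (x : H)⁻¹) u = 1 := by
    rw [← hn]; exact hmain
  rw [Finset.prod_range_succ'] at hmain'
  have h0 : ∏ x : E, θ ((x : H) * b ^ 0 * (x : H)⁻¹) u = u ^ Nat.card E := by
    have : ∀ x : E, θ ((x : H) * b ^ 0 * (x : H)⁻¹) u = u := by
      intro x
      rw [pow_zero, mul_one, mul_inv_cancel, map_one, MulAut.one_apply]
    simp_rw [this]
    rw [Finset.prod_const, Finset.card_univ, Nat.card_eq_fintype_card]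
  rw [h0] at hmain'
  set z := ∏ i ∈ Finset.range n, ∏ x : E, θ ((x : H) * b ^ (i + 1) * (x : H)⁻¹) u with hz
  have hzfix : θ e z = z := by
    rw [hz, map_prod]
    refine Finset.prod_congr rfl ?_
    intro i hi
    have hi' : i + 1 < p := by rw [hn]; have := Finset.mem_range.mp hi; omega
    rw [hre (i + 1) (Nat.succ_pos i) hi' u]
    exact hNE _ e he
  have hufix : θ e (u ^ Nat.card E) = u ^ Nat.card E := by
    have h1 : u ^ Nat.card E = z⁻¹ := eq_inv_of_mul_eq_one_right hmain'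
    rw [h1, map_inv, hzfix]
  have h1 : (θ e u * u⁻¹) ^ Nat.card E = 1 := by
    rw [mul_pow, inv_pow, ← map_pow, hufix, mul_inv_cancel]
  have h2 : (θ e u * u⁻¹) ^ p = 1 := hUexp _
  have h3 : orderOf (θ e u * u⁻¹) = 1 :=
    Nat.eq_one_of_dvd_coprimes hEcop (orderOf_dvd_of_pow_eq_one h1) (orderOf_dvd_of_pow_eq_one h2)
  exact mul_inv_eq_one.mp (orderOf_eq_one_iff.mp h3)

end fp

end Cfsg.Agent.Lib.Helper3
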