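import Mathlib
import Cfsg.Agent.Lib.Helper3.NormAux
import Cfsg.Agent.S0648

set_option autoImplicit false
set_option linter.unusedSectionVars false
open scoped commutatorElement

namespace Cfsg.Agent.Lib.Helper3

/-- element-level class two power formula -/
lemma mul_pow_of_commute_comm {G : Type*} [Group G] (x y : G) (hx : Commute ⁅y, x⁆ x)
    (hy : Commute ⁅y, x⁆ y) (n : ℕ) :
    (x * y) ^ n = x ^ n * y ^ n * ⁅y, x⁆ ^ (n.choose 2) := by
  have h1 : ∀ m : ℕ, y ^ m * x = ⁅y, x⁆ ^ m * (x * y ^ m) := by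
    intro m
    induction m with
    | zero => simp
    | succ m ihm =>
      have hyx : y * x = ⁅y, x⁆ * (x * y) := by simp only [commutatorElement_def]; group
      calc y ^ (m + 1) * x = y * (y ^ m * x) := by rw [pow_succ']; group
        _ = y * (⁅y, x⁆ ^ m * (x * y ^ m)) := by rw [ihm]
        _ = (y * ⁅y, x⁆ ^ m) * (x * y ^ m) := by group
        _ = (⁅y, x⁆ ^ m * y) * (x * y ^ m) := by rw [(hy.pow_left m).eq]
        _ = ⁅y, x⁆ ^ m * (y * x) * y ^ m := by group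
        _ = ⁅y, x⁆ ^ m * (⁅y, x⁆ * (x * y)) * y ^ m := by rw [hyx]
        _ = ⁅y, x⁆ ^ (m + 1) * (x * y ^ (m + 1)) := by rw [pow_succ, pow_succ]; group
  induction n with
  | zero => simp
  | succ n ih =>
    have hcen1 : ∀ k : ℕ, ⁅y, x⁆ ^ k * (x * y) = (x * y) * ⁅y, x⁆ ^ k := fun k =>
      ((hx.mul_right hy).pow_left k).eq
    have hcen2 : ∀ k : ℕ, ⁅y, x⁆ ^ k * (x * y ^ n) = (x * y ^ n) * ⁅y, x⁆ ^ k := fun k =>
      ((hx.mul_right (hy.pow_right n)).pow_left k).eq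
    have hcen3 : ∀ k : ℕ, ⁅y, x⁆ ^ k * y = y * ⁅y, x⁆ ^ k := fun k => (hy.pow_left k).eq
    have h2 : Nat.choose (n + 1) 2 = Nat.choose n 2 + n := by
      rw [Nat.choose_succ_succ' n 1, Nat.choose_one_right, add_comm]
    calc (x * y) ^ (n + 1) = (x * y) ^ n * (x * y) := pow_succ _ _
      _ = x ^ n * y ^ n * ⁅y, x⁆ ^ (n.choose 2) * (x * y) := by rw [ih]
      _ = x ^ n * y ^ n * ((x * y) * ⁅y, x⁆ ^ (n.choose 2)) := by
          rw [mul_assoc (x ^ n * y ^ n), hcen1]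
      _ = x ^ n * (y ^ n * x) * y * ⁅y, x⁆ ^ (n.choose 2) := by group
      _ = x ^ n * (⁅y, x⁆ ^ n * (x * y ^ n)) * y * ⁅y, x⁆ ^ (n.choose 2) := by rw [h1]
      _ = x ^ n * ((x * y ^ n) * ⁅y, x⁆ ^ n) * y * ⁅y, x⁆ ^ (n.choose 2) := by rw [hcen2]
      _ = x ^ (n + 1) * y ^ n * (⁅y, x⁆ ^ n * y) * ⁅y, x⁆ ^ (n.choose 2) := by
          rw [pow_succ]; group
      _ = x ^ (n + 1) * y ^ n * (y * ⁅y, x⁆ ^ n) * ⁅y, x⁆ ^ (n.choose 2) := by rw [hcen3]
      _ = x ^ (n + 1) * y ^ (n + 1) * (⁅y, x⁆ ^ n * ⁅y, x⁆ ^ (n.choose 2)) := by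
          rw [pow_succ y]; group
      _ = x ^ (n + 1) * y ^ (n + 1) * ⁅y, x⁆ ^ ((n + 1).choose 2) := by
          congr 1
          rw [h2, add_comm (n.choose 2) n, pow_add]

/-- one-sided normalizer criterion in a finite group -/
lemma mem_normalizer_of_conj_inv_mem_finite {G : Type*} [Group G] [Finite G] {H : Subgroup G}
    {g : G} (h1 : ∀ x ∈ H, g⁻¹ * x * g ∈ H) : g ∈ Subgroup.normalizer (H : Set G) := by
  have hk : ∀ k : ℕ, ∀ x ∈ H, (g ^ k)⁻¹ * x * g ^ k ∈ H := by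
    intro k
    induction k with
    | zero => intro x hx; simpa using hx
    | succ k ih =>
      intro x hx
      have := h1 _ (ih x hx)
      have e : (g ^ (k + 1))⁻¹ * x * g ^ (k + 1) = g⁻¹ * ((g ^ k)⁻¹ * x * g ^ k) * g := by
        rw [pow_succ]; group
      rw [e]; exact this
  have hpos := orderOf_pos g
  have e' : g ^ (orderOf g - 1) = g⁻¹ := by
    have : g ^ (orderOf g - 1) * g = 1 := by
      rw [← pow_succ, Nat.sub_add_cancel hpos, pow_orderOf_eq_one]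
    exact eq_inv_of_mul_eq_one_left this
  refine mem_normalizer_of_conj_mem (fun x hx => ?_) h1
  have := hk (orderOf g - 1) x hx
  rw [e', inv_inv] at this
  exact this

section replacement
variable {S : Type*} [Group S]

/-- `A₁ = b⁻¹ A b` -/
def rA1 (A : Subgroup S) (b : S) : Subgroup S := A.map (MulAut.conj b⁻¹).toMonoidHom
/-- `D = A ∩ A₁` -/
def rD (A : Subgroup S) (b : S) : Subgroup S := A ⊓ rA1 A b
/-- `X = [A, b⁻¹]` -/
def rX (A : Subgroup S) (b : S) : Subgroup S :=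
  Subgroup.closure {g : S | ∃ a ∈ A, g = a * b⁻¹ * a⁻¹ * b}
/-- `A* = D X` -/
def rStar (A : Subgroup S) (b : S) : Subgroup S := rD A b ⊔ rX A b
/-- the map `a ↦ [a, b⁻¹]` -/
def rphi (b a : S) : S := a * b⁻¹ * a⁻¹ * b

lemma rphi_eq (b a : S) : rphi b a = a * (b⁻¹ * a * b)⁻¹ := by unfold rphi; group
lemma rphi_one (b : S) : rphi b 1 = 1 := by unfold rphi; group

lemma mem_rA1 {A : Subgroup S} {b x : S} : x ∈ rA1 A b ↔ b * x * b⁻¹ ∈ A := by
  unfold rA1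
  rw [Subgroup.mem_map]
  constructor
  · rintro ⟨a, ha, rfl⟩
    have e : b * ((MulAut.conj b⁻¹).toMonoidHom a) * b⁻¹ = a := by
      simp only [MulEquiv.coe_toMonoidHom, MulAut.conj_apply, inv_inv]; group
    rw [e]; exact ha
  · intro hx
    refine ⟨b * x * b⁻¹, hx, ?_⟩
    simp only [MulEquiv.coe_toMonoidHom, MulAut.conj_apply, inv_inv]; group

lemma conj_inv_mem_rA1 {A : Subgroup S} {b a : S} (ha : a ∈ A) : b⁻¹ * a * b ∈ rA1 A b := by
  rw [mem_rA1]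
  have e : b * (b⁻¹ * a * b) * b⁻¹ = a := by group
  rw [e]; exact ha

lemma rD_le_rStar (A : Subgroup S) (b : S) : rD A b ≤ rStar A b := le_sup_left
lemma rX_le_rStar (A : Subgroup S) (b : S) : rX A b ≤ rStar A b := le_sup_right
lemma rD_le (A : Subgroup S) (b : S) : rD A b ≤ A := inf_le_left
lemma rphi_mem_rX {A : Subgroup S} {b a : S} (ha : a ∈ A) : rphi b a ∈ rX A b :=
  Subgroup.subset_closure ⟨a, ha, rfl⟩
lemma rphi_mem_rStar {A : Subgroup S} {b a : S} (ha : a ∈ A) : rphi b a ∈ rStar A b :=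
  rX_le_rStar A b (rphi_mem_rX ha)

/-- the standing hypotheses of the replacement theorem -/
structure RepHyp (A B : Subgroup S) (b : S) : Prop where
  comm : ∀ x ∈ A, ∀ y ∈ A, x * y = y * x
  normal : B.Normal
  der : ⁅B, B⁆ ≤ A
  hb : b ∈ B
  hbN : b ∈ Subgroup.normalizer ((Subgroup.normalizer (A : Set S) : Subgroup S) : Set S)

namespace RepHyp
variable {A B : Subgroup S} {b : S} (h : RepHyp A B b)
include h

lemma rA1_comm : ∀ x ∈ rA1 A b, ∀ y ∈ rA1 A b, x * y = y * x := by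
  intro x hx y hy
  have := h.comm _ (mem_rA1.mp hx) _ (mem_rA1.mp hy)
  have e1 : x * y = b⁻¹ * ((b * x * b⁻¹) * (b * y * b⁻¹)) * b := by group
  have e2 : y * x = b⁻¹ * ((b * y * b⁻¹) * (b * x * b⁻¹)) * b := by group
  rw [e1, e2, this]

lemma rA1_le_normalizer : rA1 A b ≤ Subgroup.normalizer (A : Set S) := by
  intro x hx
  have ha : b * x * b⁻¹ ∈ Subgroup.normalizer (A : Set S) :=
    Subgroup.le_normalizer (mem_rA1.mp hx)
  have := conj_inv_mem_of_mem_normalizer' h.hbN ha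
  have e : b⁻¹ * (b * x * b⁻¹) * b = x := by group
  rwa [e] at this

lemma conj_mem_rA1 {n x : S} (hn : n ∈ Subgroup.normalizer (A : Set S)) (hx : x ∈ rA1 A b) :
    n * x * n⁻¹ ∈ rA1 A b := by
  rw [mem_rA1] at hx ⊢
  have hn' : b * n * b⁻¹ ∈ Subgroup.normalizer (A : Set S) :=
    conj_mem_of_mem_normalizer' h.hbN hn
  have := conj_mem_of_mem_normalizer' hn' hx
  have e : b * n * b⁻¹ * (b * x * b⁻¹) * (b * n * b⁻¹)⁻¹ = b * (n * x * n⁻¹) * b⁻¹ := by group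
  rwa [e] at this

lemma comm_mem_rD {a x : S} (ha : a ∈ A) (hx : x ∈ rA1 A b) : ⁅a, x⁆ ∈ rD A b := by
  refine Subgroup.mem_inf.mpr ⟨?_, ?_⟩
  · have hxN := h.rA1_le_normalizer hx
    have := conj_mem_of_mem_normalizer' hxN (A.inv_mem ha)
    have e : ⁅a, x⁆ = a * (x * a⁻¹ * x⁻¹) := by simp only [commutatorElement_def]; group
    rw [e]; exact A.mul_mem ha this
  · have := h.conj_mem_rA1 (Subgroup.le_normalizer ha) hx
    have e : ⁅a, x⁆ = (a * x * a⁻¹) * x⁻¹ := by simp only [commutatorElement_def]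
    rw [e]; exact (rA1 A b).mul_mem this ((rA1 A b).inv_mem hx)

lemma rD_comm_A {d a : S} (hd : d ∈ rD A b) (ha : a ∈ A) : d * a = a * d :=
  h.comm d (Subgroup.mem_inf.mp hd).1 a ha

lemma rD_comm_A1 {d x : S} (hd : d ∈ rD A b) (hx : x ∈ rA1 A b) : d * x = x * d :=
  h.rA1_comm d (Subgroup.mem_inf.mp hd).2 x hx

lemma conj_mem_of_mem_inf {c w : S} (hc : c ∈ B) (hw : w ∈ A) (hwB : w ∈ B) :
    c * w * c⁻¹ ∈ A := by
  have h1 : ⁅c, w⁆ ∈ A := h.der (Subgroup.commutator_mem_commutator hc hwB)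
  have e : c * w * c⁻¹ = ⁅c, w⁆ * w := by simp only [commutatorElement_def]; group
  rw [e]; exact A.mul_mem h1 hw

lemma conj_inv_mem_rD {x : S} (hx : x ∈ rD A b) : b⁻¹ * x * b ∈ rD A b := by
  obtain ⟨hxA, hxA1⟩ := Subgroup.mem_inf.mp hx
  have ha : b * x * b⁻¹ ∈ A := mem_rA1.mp hxA1
  have hwA : (b * x * b⁻¹)⁻¹ * x ∈ A := A.mul_mem (A.inv_mem ha) hxA
  have hwB : (b * x * b⁻¹)⁻¹ * x ∈ B := by
    have e : (b * x * b⁻¹)⁻¹ * x = b * (x⁻¹ * b⁻¹ * x⁻¹⁻¹) := by group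
    rw [e]; exact B.mul_mem h.hb (h.normal.conj_mem _ (B.inv_mem h.hb) _)
  have h2 : b⁻¹ * ((b * x * b⁻¹)⁻¹ * x) * b⁻¹⁻¹ ∈ A :=
    h.conj_mem_of_mem_inf (B.inv_mem h.hb) hwA hwB
  refine Subgroup.mem_inf.mpr ⟨?_, conj_inv_mem_rA1 hxA⟩
  have e : b⁻¹ * x * b = x * (b⁻¹ * ((b * x * b⁻¹)⁻¹ * x) * b⁻¹⁻¹) := by group
  rw [e]; exact A.mul_mem hxA h2

lemma conj_mem_rD {x : S} (hx : x ∈ rD A b) : b * x * b⁻¹ ∈ rD A b := by
  obtain ⟨hxA, hxA1⟩ := Subgroup.mem_inf.mp hx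
  have ha : b * x * b⁻¹ ∈ A := mem_rA1.mp hxA1
  have hwA : x⁻¹ * (b * x * b⁻¹) ∈ A := A.mul_mem (A.inv_mem hxA) ha
  have hwB : x⁻¹ * (b * x * b⁻¹) ∈ B := by
    have e : x⁻¹ * (b * x * b⁻¹) = (x⁻¹ * b * x⁻¹⁻¹) * b⁻¹ := by group
    rw [e]; exact B.mul_mem (h.normal.conj_mem _ h.hb _) (B.inv_mem h.hb)
  have h2 : b * (x⁻¹ * (b * x * b⁻¹)) * b⁻¹ ∈ A := h.conj_mem_of_mem_inf h.hb hwA hwB
  refine Subgroup.mem_inf.mpr ⟨ha, mem_rA1.mpr ?_⟩
  have e : b * (b * x * b⁻¹) * b⁻¹ = (b * x * b⁻¹) * (b * (x⁻¹ * (b * x * b⁻¹)) * b⁻¹) := by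
    group
  rw [e]; exact A.mul_mem ha h2

lemma inf_le_rD : A ⊓ B ≤ rD A b := by
  intro x hx
  obtain ⟨hxA, hxB⟩ := Subgroup.mem_inf.mp hx
  exact Subgroup.mem_inf.mpr ⟨hxA, mem_rA1.mpr (h.conj_mem_of_mem_inf h.hb hxA hxB)⟩

lemma der_le_rD : ⁅B, B⁆ ≤ rD A b := by
  have := h.normal
  exact le_trans (le_inf h.der (Subgroup.commutator_le_left B B)) h.inf_le_rD

lemma rphi_mem_B {a : S} : rphi b a ∈ B := by
  unfold rphi
  have e : a * b⁻¹ * a⁻¹ * b = (a * b⁻¹ * a⁻¹) * b := by group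
  rw [e]; exact B.mul_mem (h.normal.conj_mem _ (B.inv_mem h.hb) _) h.hb

lemma rX_le : rX A b ≤ B := by
  refine (Subgroup.closure_le _).mpr ?_
  rintro g ⟨a, _, rfl⟩
  exact h.rphi_mem_B (a := a)

lemma rD_comm_rphi {d a : S} (hd : d ∈ rD A b) (ha : a ∈ A) :
    d * rphi b a = rphi b a * d := by
  have h1 := h.rD_comm_A hd ha
  have h2 := h.rD_comm_A1 hd ((rA1 A b).inv_mem (conj_inv_mem_rA1 (b := b) ha))
  rw [rphi_eq, ← mul_assoc, h1, mul_assoc, h2, ← mul_assoc]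

lemma rphi_mul {a a' : S} (ha : a ∈ A) (ha' : a' ∈ A) :
    ∃ c ∈ rD A b, rphi b (a * a') = rphi b a * rphi b a' * c := by
  have hu : (b⁻¹ * a * b)⁻¹ ∈ rA1 A b := (rA1 A b).inv_mem (conj_inv_mem_rA1 ha)
  have hv : (b⁻¹ * a' * b)⁻¹ ∈ rA1 A b := (rA1 A b).inv_mem (conj_inv_mem_rA1 ha')
  have hc : ⁅a'⁻¹, b⁻¹ * a * b⁆ ∈ rD A b :=
    h.comm_mem_rD (A.inv_mem ha') (conj_inv_mem_rA1 ha)
  refine ⟨⁅a'⁻¹, b⁻¹ * a * b⁆, hc, ?_⟩
  have huv : (b⁻¹ * a' * b)⁻¹ * (b⁻¹ * a * b)⁻¹ = (b⁻¹ * a * b)⁻¹ * (b⁻¹ * a' * b)⁻¹ :=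
    h.rA1_comm _ hv _ hu
  have hcv : ⁅a'⁻¹, b⁻¹ * a * b⁆ * (b⁻¹ * a' * b)⁻¹ = (b⁻¹ * a' * b)⁻¹ * ⁅a'⁻¹, b⁻¹ * a * b⁆ :=
    h.rD_comm_A1 hc hv
  calc rphi b (a * a') = a * a' * ((b⁻¹ * a' * b)⁻¹ * (b⁻¹ * a * b)⁻¹) := by
        unfold rphi; group
    _ = a * a' * ((b⁻¹ * a * b)⁻¹ * (b⁻¹ * a' * b)⁻¹) := by rw [huv]
    _ = a * (b⁻¹ * a * b)⁻¹ * a' * (⁅a'⁻¹, b⁻¹ * a * b⁆ * (b⁻¹ * a' * b)⁻¹) := by
        simp only [commutatorElement_def]; group
    _ = a * (b⁻¹ * a * b)⁻¹ * a' * ((b⁻¹ * a' * b)⁻¹ * ⁅a'⁻¹, b⁻¹ * a * b⁆) := by rw [hcv]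
    _ = rphi b a * rphi b a' * ⁅a'⁻¹, b⁻¹ * a * b⁆ := by
        rw [rphi_eq, rphi_eq]; group

lemma rphi_inv {a : S} (ha : a ∈ A) : ∃ c ∈ rD A b, (rphi b a)⁻¹ = c * rphi b a⁻¹ := by
  obtain ⟨c, hc, e⟩ := h.rphi_mul ha (A.inv_mem ha)
  refine ⟨c, hc, ?_⟩
  rw [mul_inv_cancel, rphi_one] at e
  rw [h.rD_comm_rphi hc (A.inv_mem ha)]
  have : rphi b a * (rphi b a⁻¹ * c) = 1 := by rw [← mul_assoc]; exact e.symm
  exact inv_eq_of_mul_eq_one_right this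

lemma mem_rStar_iff {x : S} :
    x ∈ rStar A b ↔ ∃ d ∈ rD A b, ∃ a ∈ A, x = d * rphi b a := by
  let T : Subgroup S :=
    { carrier := {x | ∃ d ∈ rD A b, ∃ a ∈ A, x = d * rphi b a}
      one_mem' := ⟨1, one_mem _, 1, one_mem _, by rw [rphi_one, one_mul]⟩
      mul_mem' := by
        rintro x y ⟨d, hd, a, ha, rfl⟩ ⟨d', hd', a', ha', rfl⟩
        obtain ⟨c, hc, e⟩ := h.rphi_mul ha ha'
        refine ⟨d * d' * c⁻¹, (rD A b).mul_mem ((rD A b).mul_mem hd hd') ((rD A b).inv_mem hc),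
          a * a', A.mul_mem ha ha', ?_⟩
        have h1 := h.rD_comm_rphi hd' ha
        have hc' := h.rD_comm_rphi ((rD A b).inv_mem hc) (A.mul_mem ha ha')
        calc d * rphi b a * (d' * rphi b a') = d * (rphi b a * d') * rphi b a' := by group
          _ = d * (d' * rphi b a) * rphi b a' := by rw [h1]
          _ = d * d' * (rphi b a * rphi b a' * c) * c⁻¹ := by group
          _ = d * d' * rphi b (a * a') * c⁻¹ := by rw [← e]
          _ = d * d' * (rphi b (a * a') * c⁻¹) := by group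
          _ = d * d' * (c⁻¹ * rphi b (a * a')) := by rw [← hc']
          _ = d * d' * c⁻¹ * rphi b (a * a') := by group
      inv_mem' := by
        rintro x ⟨d, hd, a, ha, rfl⟩
        obtain ⟨c, hc, e⟩ := h.rphi_inv ha
        refine ⟨c * d⁻¹, (rD A b).mul_mem hc ((rD A b).inv_mem hd), a⁻¹, A.inv_mem ha, ?_⟩
        have h1 := h.rD_comm_rphi ((rD A b).inv_mem hd) (A.inv_mem ha)
        calc (d * rphi b a)⁻¹ = (rphi b a)⁻¹ * d⁻¹ := mul_inv_rev _ _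
          _ = c * rphi b a⁻¹ * d⁻¹ := by rw [e]
          _ = c * (rphi b a⁻¹ * d⁻¹) := by group
          _ = c * (d⁻¹ * rphi b a⁻¹) := by rw [← h1]
          _ = c * d⁻¹ * rphi b a⁻¹ := by group }
  have hT : rStar A b ≤ T := by
    refine sup_le (fun d hd => ⟨d, hd, 1, one_mem _, by rw [rphi_one, mul_one]⟩)
      ((Subgroup.closure_le _).mpr ?_)
    rintro g ⟨a, ha, rfl⟩
    exact ⟨1, one_mem _, a, ha, by rw [one_mul]; rfl⟩
  constructor
  · intro hx; exact hT hx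
  · rintro ⟨d, hd, a, ha, rfl⟩
    exact (rStar A b).mul_mem (rD_le_rStar A b hd) (rphi_mem_rStar ha)

lemma rphi_mem_normalizer {a : S} (ha : a ∈ A) :
    rphi b a ∈ Subgroup.normalizer (A : Set S) := by
  rw [rphi_eq]
  exact Subgroup.mul_mem _ (Subgroup.le_normalizer ha)
    (Subgroup.inv_mem _ (h.rA1_le_normalizer (conj_inv_mem_rA1 ha)))

lemma rStar_le_normalizer : rStar A b ≤ Subgroup.normalizer (A : Set S) := by
  intro x hx
  obtain ⟨d, hd, a, ha, rfl⟩ := h.mem_rStar_iff.mp hx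
  exact Subgroup.mul_mem _ (Subgroup.le_normalizer (Subgroup.mem_inf.mp hd).1)
    (h.rphi_mem_normalizer ha)

lemma comm_rphi_mem {a a' : S} (ha : a ∈ A) (ha' : a' ∈ A) : ⁅a, rphi b a'⁆ ∈ rD A b := by
  have hy : (b⁻¹ * a' * b)⁻¹ ∈ rA1 A b := (rA1 A b).inv_mem (conj_inv_mem_rA1 ha')
  have hc := h.comm_mem_rD ha hy
  have h1 : a * a' = a' * a := h.comm a ha a' ha'
  have h2 := h.rD_comm_A hc ha'
  have e : ⁅a, rphi b a'⁆ = ⁅a, (b⁻¹ * a' * b)⁻¹⁆ := by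
    rw [rphi_eq]
    calc ⁅a, a' * (b⁻¹ * a' * b)⁻¹⁆
        = (a * a') * (b⁻¹ * a' * b)⁻¹ * a⁻¹ * (b⁻¹ * a' * b)⁻¹⁻¹ * a'⁻¹ := by
          simp only [commutatorElement_def]; group
      _ = (a' * a) * (b⁻¹ * a' * b)⁻¹ * a⁻¹ * (b⁻¹ * a' * b)⁻¹⁻¹ * a'⁻¹ := by rw [h1]
      _ = a' * ⁅a, (b⁻¹ * a' * b)⁻¹⁆ * a'⁻¹ := by simp only [commutatorElement_def]; group
      _ = ⁅a, (b⁻¹ * a' * b)⁻¹⁆ * a' * a'⁻¹ := by rw [h2]
      _ = ⁅a, (b⁻¹ * a' * b)⁻¹⁆ := by group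
  rw [e]; exact hc

lemma conj_eq {a d a' : S} (ha : a ∈ A) (hd : d ∈ rD A b) :
    a * (d * rphi b a') * a⁻¹ = d * ⁅a, rphi b a'⁆ * rphi b a' := by
  have h1 := h.rD_comm_A hd ha
  calc a * (d * rphi b a') * a⁻¹ = (a * d) * rphi b a' * a⁻¹ := by group
    _ = (d * a) * rphi b a' * a⁻¹ := by rw [h1]
    _ = d * ⁅a, rphi b a'⁆ * rphi b a' := by simp only [commutatorElement_def]; group

lemma conj_mem_rStar {a x : S} (ha : a ∈ A) (hx : x ∈ rStar A b) :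
    a * x * a⁻¹ ∈ rStar A b := by
  obtain ⟨d, hd, a', ha', rfl⟩ := h.mem_rStar_iff.mp hx
  rw [h.conj_eq ha hd]
  exact h.mem_rStar_iff.mpr
    ⟨d * ⁅a, rphi b a'⁆, (rD A b).mul_mem hd (h.comm_rphi_mem ha ha'), a', ha', rfl⟩

lemma comm_rStar_mem {a x : S} (ha : a ∈ A) (hx : x ∈ rStar A b) : ⁅a, x⁆ ∈ rD A b := by
  obtain ⟨d, hd, a', ha', rfl⟩ := h.mem_rStar_iff.mp hx
  have e : ⁅a, d * rphi b a'⁆ = (a * (d * rphi b a') * a⁻¹) * (d * rphi b a')⁻¹ := by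
    simp only [commutatorElement_def]
  rw [e, h.conj_eq ha hd]
  have e2 : d * ⁅a, rphi b a'⁆ * rphi b a' * (d * rphi b a')⁻¹ = d * ⁅a, rphi b a'⁆ * d⁻¹ := by
    group
  rw [e2]
  exact (rD A b).mul_mem ((rD A b).mul_mem hd (h.comm_rphi_mem ha ha')) ((rD A b).inv_mem hd)

lemma le_normalizer_rStar : A ≤ Subgroup.normalizer ((rStar A b : Subgroup S) : Set S) := by
  intro a ha
  refine mem_normalizer_of_conj_mem (fun x hx => h.conj_mem_rStar ha hx) (fun x hx => ?_)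
  have := h.conj_mem_rStar (A.inv_mem ha) hx
  simpa using this

lemma conj_B_mem_rStar {c x : S} (hc : c ∈ B)
    (hcD : ∀ d ∈ rD A b, c * d * c⁻¹ ∈ rD A b) (hx : x ∈ rStar A b) :
    c * x * c⁻¹ ∈ rStar A b := by
  obtain ⟨d, hd, a, ha, rfl⟩ := h.mem_rStar_iff.mp hx
  have h1 : ⁅c, rphi b a⁆ ∈ rD A b :=
    h.der_le_rD (Subgroup.commutator_mem_commutator hc h.rphi_mem_B)
  have e : c * (d * rphi b a) * c⁻¹ = (c * d * c⁻¹) * ⁅c, rphi b a⁆ * rphi b a := by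
    simp only [commutatorElement_def]; group
  rw [e]
  exact h.mem_rStar_iff.mpr ⟨_, (rD A b).mul_mem (hcD d hd) h1, a, ha, rfl⟩

lemma b_mem_normalizer_rStar :
    b ∈ Subgroup.normalizer ((rStar A b : Subgroup S) : Set S) := by
  refine mem_normalizer_of_conj_mem
    (fun x hx => h.conj_B_mem_rStar h.hb (fun d hd => h.conj_mem_rD hd) hx) (fun x hx => ?_)
  have := h.conj_B_mem_rStar (B.inv_mem h.hb)
    (fun d hd => by simpa using h.conj_inv_mem_rD hd) hx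
  simpa using this

lemma conj_N_rphi {n a : S} (hn : n ∈ Subgroup.normalizer (A : Set S)) (ha : a ∈ A) :
    n * rphi b a * n⁻¹ ∈ rStar A b := by
  have ha' : n * a * n⁻¹ ∈ A := conj_mem_of_mem_normalizer' hn ha
  have hbn : b * n * b⁻¹ ∈ Subgroup.normalizer (A : Set S) :=
    conj_mem_of_mem_normalizer' h.hbN hn
  have hmN : b * n * b⁻¹ * n⁻¹ ∈ Subgroup.normalizer (A : Set S) :=
    Subgroup.mul_mem _ hbn (Subgroup.inv_mem _ hn)
  have hmB : b * n * b⁻¹ * n⁻¹ ∈ B := by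
    have e : b * n * b⁻¹ * n⁻¹ = b * (n * b⁻¹ * n⁻¹) := by group
    rw [e]; exact B.mul_mem h.hb (h.normal.conj_mem _ (B.inv_mem h.hb) _)
  have ha'' : (b * n * b⁻¹ * n⁻¹) * (n * a * n⁻¹) * (b * n * b⁻¹ * n⁻¹)⁻¹ ∈ A :=
    conj_mem_of_mem_normalizer' hmN ha'
  have heA : (n * a * n⁻¹) *
      ((b * n * b⁻¹ * n⁻¹) * (n * a * n⁻¹) * (b * n * b⁻¹ * n⁻¹)⁻¹)⁻¹ ∈ A :=
    A.mul_mem ha' (A.inv_mem ha'')
  have heB : (n * a * n⁻¹) *
      ((b * n * b⁻¹ * n⁻¹) * (n * a * n⁻¹) * (b * n * b⁻¹ * n⁻¹)⁻¹)⁻¹ ∈ B := by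
    have e : (n * a * n⁻¹) *
        ((b * n * b⁻¹ * n⁻¹) * (n * a * n⁻¹) * (b * n * b⁻¹ * n⁻¹)⁻¹)⁻¹ =
        ((n * a * n⁻¹) * (b * n * b⁻¹ * n⁻¹) * (n * a * n⁻¹)⁻¹) * (b * n * b⁻¹ * n⁻¹)⁻¹ := by
      group
    rw [e]; exact B.mul_mem (h.normal.conj_mem _ hmB _) (B.inv_mem hmB)
  have heD := h.inf_le_rD (Subgroup.mem_inf.mpr ⟨heA, heB⟩)
  have e : n * rphi b a * n⁻¹ = ((n * a * n⁻¹) *
      ((b * n * b⁻¹ * n⁻¹) * (n * a * n⁻¹) * (b * n * b⁻¹ * n⁻¹)⁻¹)⁻¹) *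
      rphi b ((b * n * b⁻¹ * n⁻¹) * (n * a * n⁻¹) * (b * n * b⁻¹ * n⁻¹)⁻¹) := by
    unfold rphi; group
  rw [e]
  exact h.mem_rStar_iff.mpr ⟨_, heD, _, ha'', rfl⟩

lemma normalizer_le_normalizer_rStar : Subgroup.normalizer (A : Set S) ≤
    Subgroup.normalizer ((rStar A b : Subgroup S) : Set S) := by
  have key : ∀ n ∈ Subgroup.normalizer (A : Set S), ∀ x ∈ rStar A b,
      n * x * n⁻¹ ∈ rStar A b := by
    intro n hn x hx
    obtain ⟨d, hd, a, ha, rfl⟩ := h.mem_rStar_iff.mp hx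
    have hd' : n * d * n⁻¹ ∈ rD A b :=
      Subgroup.mem_inf.mpr ⟨conj_mem_of_mem_normalizer' hn (Subgroup.mem_inf.mp hd).1,
        h.conj_mem_rA1 hn (Subgroup.mem_inf.mp hd).2⟩
    have e : n * (d * rphi b a) * n⁻¹ = (n * d * n⁻¹) * (n * rphi b a * n⁻¹) := by group
    rw [e]
    exact (rStar A b).mul_mem (rD_le_rStar A b hd') (h.conj_N_rphi hn ha)
  intro n hn
  refine mem_normalizer_of_conj_mem (key n hn) (fun x hx => ?_)
  have := key n⁻¹ (Subgroup.inv_mem _ hn) x hx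
  simpa using this

lemma rphi_mem_rD_iff {a : S} (ha : a ∈ A) : rphi b a ∈ rD A b ↔ a ∈ rD A b := by
  constructor
  · intro hphi
    have h1 : b⁻¹ * a * b ∈ A := by
      have e : b⁻¹ * a * b = (rphi b a)⁻¹ * a := by unfold rphi; group
      rw [e]; exact A.mul_mem (A.inv_mem (Subgroup.mem_inf.mp hphi).1) ha
    have h2 : b⁻¹ * a * b ∈ rD A b := Subgroup.mem_inf.mpr ⟨h1, conj_inv_mem_rA1 ha⟩
    have h3 := h.conj_mem_rD h2
    have e : b * (b⁻¹ * a * b) * b⁻¹ = a := by group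
    rwa [e] at h3
  · intro haD
    have h2 := h.conj_inv_mem_rD haD
    rw [rphi_eq]
    exact (rD A b).mul_mem haD ((rD A b).inv_mem h2)

lemma rStar_comm (hX : ∀ u ∈ rX A b, ∀ v ∈ rX A b, u * v = v * u) :
    ∀ x ∈ rStar A b, ∀ y ∈ rStar A b, x * y = y * x := by
  intro x hx y hy
  obtain ⟨d, hd, a, ha, rfl⟩ := h.mem_rStar_iff.mp hx
  obtain ⟨d', hd', a', ha', rfl⟩ := h.mem_rStar_iff.mp hy
  have h1 := h.comm d (rD_le A b hd) d' (rD_le A b hd')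
  have h2 := h.rD_comm_rphi hd ha'
  have h3 := h.rD_comm_rphi hd' ha
  have h4 := hX _ (rphi_mem_rX ha) _ (rphi_mem_rX ha')
  calc d * rphi b a * (d' * rphi b a') = d * (rphi b a * d') * rphi b a' := by group
    _ = d * (d' * rphi b a) * rphi b a' := by rw [h3]
    _ = (d * d') * (rphi b a * rphi b a') := by group
    _ = (d' * d) * (rphi b a' * rphi b a) := by rw [h1, h4]
    _ = d' * (d * rphi b a') * rphi b a := by group
    _ = d' * (rphi b a' * d) * rphi b a := by rw [h2]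
    _ = d' * rphi b a' * (d * rphi b a) := by group


section finite
variable [Finite S]

lemma exists_rphi_not_mem (hbA : b ∉ Subgroup.normalizer (A : Set S)) :
    ∃ a ∈ A, rphi b a ∉ A := by
  by_contra hcon
  push Not at hcon
  apply hbA
  apply mem_normalizer_of_conj_inv_mem_finite
  intro x hx
  have h1 := hcon x hx
  have e : b⁻¹ * x * b = (rphi b x)⁻¹ * x := by unfold rphi; group
  rw [e]; exact A.mul_mem (A.inv_mem h1) hx

lemma inf_lt (hbA : b ∉ Subgroup.normalizer (A : Set S)) : A ⊓ B < rStar A b ⊓ B := by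
  obtain ⟨a, ha, hna⟩ := h.exists_rphi_not_mem hbA
  rw [SetLike.lt_iff_le_and_exists]
  refine ⟨le_inf (h.inf_le_rD.trans (rD_le_rStar A b)) inf_le_right, rphi b a,
    Subgroup.mem_inf.mpr ⟨rphi_mem_rStar ha, h.rphi_mem_B⟩, ?_⟩
  intro hmem
  exact hna (Subgroup.mem_inf.mp hmem).1

lemma inf_lt_right (hnot : ¬ B ≤ Subgroup.normalizer (A : Set S)) : rStar A b ⊓ B < B := by
  refine lt_of_le_of_ne inf_le_right (fun e => hnot ?_)
  have : B ≤ rStar A b := inf_eq_right.mp e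
  exact this.trans h.rStar_le_normalizer

lemma normalizer_lt (hbA : b ∉ Subgroup.normalizer (A : Set S)) :
    Subgroup.normalizer (A : Set S) <
      Subgroup.normalizer ((rStar A b : Subgroup S) : Set S) := by
  rw [SetLike.lt_iff_le_and_exists]
  exact ⟨h.normalizer_le_normalizer_rStar, b, h.b_mem_normalizer_rStar, hbA⟩

lemma card_rStar : Nat.card (rStar A b) = Nat.card A := by
  have hDA : rD A b ≤ A := rD_le A b
  have hDS : rD A b ≤ rStar A b := rD_le_rStar A b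
  have hnorm : ((rD A b).subgroupOf (rStar A b)).Normal := by
    constructor
    intro n hn g
    rw [Subgroup.mem_subgroupOf] at hn ⊢
    obtain ⟨d, hd, a, ha, hg⟩ := h.mem_rStar_iff.mp g.2
    have h1 : (n : S) * (g : S) = (g : S) * (n : S) := by
      rw [hg]
      have e1 := h.comm _ (hDA hn) _ (hDA hd)
      have e2 := h.rD_comm_rphi hn ha
      rw [← mul_assoc, e1, mul_assoc, e2, mul_assoc]
    have e : ((g * n * g⁻¹ : ↥(rStar A b)) : S) = (n : S) := by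
      push_cast
      rw [← h1, mul_inv_cancel_right]
    rw [e]; exact hn
  let ψ : ↥A →* (↥(rStar A b) ⧸ (rD A b).subgroupOf (rStar A b)) :=
    MonoidHom.mk' (fun a => QuotientGroup.mk
      (⟨rphi b (a : S), rphi_mem_rStar a.2⟩ : ↥(rStar A b))) (by
      intro a a'
      obtain ⟨c, hc, e⟩ := h.rphi_mul a.2 a'.2
      rw [← QuotientGroup.mk_mul, QuotientGroup.eq, Subgroup.mem_subgroupOf]
      show (rphi b ((a : S) * (a' : S)))⁻¹ * (rphi b a * rphi b a') ∈ rD A b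
      rw [e]
      have e2 : (rphi b ↑a * rphi b ↑a' * c)⁻¹ * (rphi b ↑a * rphi b ↑a') = c⁻¹ := by group
      rw [e2]; exact (rD A b).inv_mem hc)
  have hψ : ∀ a : ↥A, ψ a = QuotientGroup.mk
      (⟨rphi b (a : S), rphi_mem_rStar a.2⟩ : ↥(rStar A b)) := fun a => rfl
  have hker : ψ.ker = (rD A b).subgroupOf A := by
    ext a
    rw [MonoidHom.mem_ker, hψ, QuotientGroup.eq_one_iff, Subgroup.mem_subgroupOf,
      Subgroup.mem_subgroupOf]
    exact h.rphi_mem_rD_iff a.2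
  have hsurj : Function.Surjective ψ := by
    intro q
    obtain ⟨x, rfl⟩ := QuotientGroup.mk_surjective q
    obtain ⟨d, hd, a, ha, hx⟩ := h.mem_rStar_iff.mp x.2
    refine ⟨⟨a, ha⟩, ?_⟩
    rw [hψ, QuotientGroup.eq, Subgroup.mem_subgroupOf]
    show (rphi b a)⁻¹ * (x : S) ∈ rD A b
    rw [hx, h.rD_comm_rphi hd ha, inv_mul_cancel_left]
    exact hd
  have c1 : Nat.card ↥A = Nat.card (↥A ⧸ ψ.ker) * Nat.card ψ.ker :=
    Subgroup.card_eq_card_quotient_mul_card_subgroup _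
  have c2 : Nat.card (↥A ⧸ ψ.ker) =
      Nat.card (↥(rStar A b) ⧸ (rD A b).subgroupOf (rStar A b)) :=
    Nat.card_congr (QuotientGroup.quotientKerEquivOfSurjective ψ hsurj).toEquiv
  have c3 : Nat.card ψ.ker = Nat.card (rD A b) := by
    rw [hker]; exact Nat.card_congr (Subgroup.subgroupOfEquivOfLe hDA).toEquiv
  have c4 : Nat.card ↥(rStar A b) =
      Nat.card (↥(rStar A b) ⧸ (rD A b).subgroupOf (rStar A b)) *
        Nat.card ((rD A b).subgroupOf (rStar A b)) :=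
    Subgroup.card_eq_card_quotient_mul_card_subgroup _
  have c5 : Nat.card ((rD A b).subgroupOf (rStar A b)) = Nat.card (rD A b) :=
    Nat.card_congr (Subgroup.subgroupOfEquivOfLe hDS).toEquiv
  rw [c4, c5, c1, c2, c3]

lemma rX_eq : rX A b = Subgroup.closure {g : S | ∃ a ∈ A, g = b⁻¹ * a * b * a⁻¹} := by
  apply le_antisymm
  · refine (Subgroup.closure_le _).mpr ?_
    rintro g ⟨a, ha, rfl⟩
    have e : a * b⁻¹ * a⁻¹ * b = (b⁻¹ * a * b * a⁻¹)⁻¹ := by group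
    rw [e]
    exact Subgroup.inv_mem _ (Subgroup.subset_closure ⟨a, ha, rfl⟩)
  · refine (Subgroup.closure_le _).mpr ?_
    rintro g ⟨a, ha, rfl⟩
    have e : b⁻¹ * a * b * a⁻¹ = (rphi b a)⁻¹ := by unfold rphi; group
    rw [e]
    exact Subgroup.inv_mem _ (rphi_mem_rX ha)

lemma rX_comm_of_odd {p : ℕ} [Fact p.Prime] (hS : IsPGroup p S) (hp : p ≠ 2) :
    ∀ u ∈ rX A b, ∀ v ∈ rX A b, u * v = v * u := by
  have hAc : A ≤ Subgroup.centralizer (A : Set S) := by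
    intro x hx
    rw [Subgroup.mem_centralizer_iff]
    intro y hy
    exact h.comm y hy x hx
  have hAcomm : IsMulCommutative ↥A := Subgroup.le_centralizer_iff_isMulCommutative.mp hAc
  have hAB : A ≤ Subgroup.normalizer (B : Set S) := le_normalizer_of_normal h.normal A
  have hc : ⁅⁅B, B⁆, A⁆ = ⊥ :=
    Subgroup.commutator_eq_bot_iff_le_centralizer.mpr (h.der.trans hAc)
  have hXA : ⁅rX A b, A⁆ ≤ rD A b := by
    rw [Subgroup.commutator_le]
    intro x hx a ha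
    have := (rD A b).inv_mem (h.comm_rStar_mem ha (rX_le_rStar A b hx))
    rwa [commutatorElement_inv] at this
  have hXAA : ⁅⁅rX A b, A⁆, A⁆ = ⊥ :=
    Subgroup.commutator_eq_bot_iff_le_centralizer.mpr (hXA.trans ((rD_le A b).trans hAc))
  have key := (Cfsg.Agent.S0648.result A B hAB hc).2 hAcomm b h.hb
  rw [← h.rX_eq] at key
  have key2 := key hXAA
  have hbot : ⁅rX A b, rX A b⁆ = ⊥ := by
    rw [eq_bot_iff]
    intro w hw
    have hw2 := key2 w hw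
    rw [Subgroup.mem_bot]
    obtain ⟨k, hk⟩ := hS w
    have h1 : orderOf w ∣ 2 := orderOf_dvd_of_pow_eq_one hw2
    have h2 : orderOf w ∣ p ^ k := orderOf_dvd_of_pow_eq_one hk
    have hcop : Nat.Coprime 2 (p ^ k) := by
      apply Nat.Coprime.pow_right
      rw [Nat.coprime_primes Nat.prime_two (Fact.out : p.Prime)]
      exact fun e => hp e.symm
    have : orderOf w = 1 := Nat.eq_one_of_dvd_coprimes hcop h1 h2
    exact orderOf_eq_one_iff.mp this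
  have hle := Subgroup.commutator_eq_bot_iff_le_centralizer.mp hbot
  intro u hu v hv
  exact (Subgroup.mem_centralizer_iff.mp (hle hv) u hu)

lemma pow_eq_one_of_mem_rStar {p : ℕ} [Fact p.Prime] (hS : IsPGroup p S) (hp : p ≠ 2)
    {x : S} (hx : x ∈ rStar A b) : x ^ Monoid.exponent ↥A = 1 := by
  have hpp : p.Prime := Fact.out
  set e := Monoid.exponent ↥A with he
  have hA : ∀ a ∈ A, a ^ e = 1 := by
    intro a ha
    have := Monoid.pow_exponent_eq_one (⟨a, ha⟩ : ↥A)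
    have := congrArg (Subtype.val) this
    simpa using this
  have hA1 : ∀ y ∈ rA1 A b, y ^ e = 1 := by
    intro y hy
    have := hA _ (mem_rA1.mp hy)
    rw [conj_pow] at this
    have e2 : y ^ e = b⁻¹ * (b * y ^ e * b⁻¹) * b := by group
    rw [e2, this]; group
  -- e is odd
  have hodd : Odd e := by
    have hdvd : e ∣ Nat.card ↥A := Group.exponent_dvd_nat_card
    obtain ⟨n, hn⟩ := (hS.to_subgroup A).exists_card_eq
    rw [hn] at hdvd
    obtain ⟨j, _, hj⟩ := (Nat.dvd_prime_pow hpp).mp hdvd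
    rw [hj]
    exact (hpp.odd_of_ne_two hp).pow
  obtain ⟨k, hk⟩ := hodd
  have hchoose : e.choose 2 = e * k := by
    rw [Nat.choose_two_right]
    have : e * (e - 1) = 2 * (e * k) := by
      have : e - 1 = 2 * k := by omega
      rw [this]; ring
    rw [this, Nat.mul_div_cancel_left _ (by norm_num : 0 < 2)]
  obtain ⟨d, hd, a, ha, rfl⟩ := h.mem_rStar_iff.mp hx
  have hy : (b⁻¹ * a * b)⁻¹ ∈ rA1 A b := (rA1 A b).inv_mem (conj_inv_mem_rA1 ha)
  have hc : ⁅(b⁻¹ * a * b)⁻¹, a⁆ ∈ rD A b := by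
    have := (rD A b).inv_mem (h.comm_mem_rD ha hy)
    rwa [commutatorElement_inv] at this
  have hphi : rphi b a ^ e = 1 := by
    rw [rphi_eq, mul_pow_of_commute_comm a (b⁻¹ * a * b)⁻¹ (h.rD_comm_A hc ha)
      (h.rD_comm_A1 hc hy) e, hA a ha, hA1 _ hy, hchoose, pow_mul, hA _ (rD_le A b hc)]
    simp
  have hcomm : Commute d (rphi b a) := h.rD_comm_rphi hd ha
  rw [hcomm.mul_pow, hA d (rD_le A b hd), hphi, one_mul]

end finite

end RepHyp
end replacement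

end Cfsg.Agent.Lib.Helper3
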