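import Mathlib
import Cfsg.Prelude.Def_PLocal
import Cfsg.Agent.Lib.Helper3.Replacement
import Cfsg.Agent.S0649

set_option autoImplicit false
set_option linter.unusedSectionVars false
open scoped commutatorElement

namespace Cfsg.Agent.Lib.Helper3

section maxfam
variable {S : Type*} [Group S]

/-- elementwise commutativity of a subgroup -/
def IsAb (A : Subgroup S) : Prop := ∀ x ∈ A, ∀ y ∈ A, x * y = y * x

/-- abelian of exponent dividing `e` (`e = 0`: just abelian) -/
def QE (e : ℕ) (A : Subgroup S) : Prop := IsAb A ∧ ∀ a ∈ A, a ^ e = 1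

/-- members of largest order among the `Q`-subgroups of `D` -/
def maxFam (Q : Subgroup S → Prop) (D : Subgroup S) : Set (Subgroup S) :=
  {A | A ≤ D ∧ Q A ∧ ∀ V : Subgroup S, V ≤ D → Q V → Nat.card V ≤ Nat.card A}

lemma isAb_iff (A : Subgroup S) : IsAb A ↔ IsMulCommutative ↥A := by
  constructor
  · intro h; exact ⟨⟨fun a b => Subtype.ext (h a a.2 b b.2)⟩⟩
  · intro h x hx y hy
    have := Subgroup.le_centralizer_iff_isMulCommutative.mpr h
    exact Subgroup.mem_centralizer_iff.mp (this hy) x hx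

lemma isAb_iff_le_centralizer (A : Subgroup S) : IsAb A ↔ A ≤ Subgroup.centralizer (A : Set S) := by
  rw [isAb_iff]; exact Subgroup.le_centralizer_iff_isMulCommutative.symm

lemma IsAb.mono {A B : Subgroup S} (h : IsAb B) (hle : A ≤ B) : IsAb A :=
  fun x hx y hy => h x (hle hx) y (hle hy)

lemma QE.mono {e : ℕ} {A B : Subgroup S} (h : QE e B) (hle : A ≤ B) : QE e A :=
  ⟨h.1.mono hle, fun a ha => h.2 a (hle ha)⟩

lemma isAb_map_subtype (D : Subgroup S) (A' : Subgroup ↥D) :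
    IsAb A' ↔ IsAb (A'.map D.subtype) := by
  constructor
  · intro h x hx y hy
    obtain ⟨x', hx', rfl⟩ := Subgroup.mem_map.mp hx
    obtain ⟨y', hy', rfl⟩ := Subgroup.mem_map.mp hy
    have := h x' hx' y' hy'
    rw [← map_mul, ← map_mul, this]
  · intro h x hx y hy
    have := h _ (Subgroup.mem_map_of_mem D.subtype hx) _ (Subgroup.mem_map_of_mem D.subtype hy)
    apply Subtype.ext
    simpa using this

lemma qe_map_subtype (e : ℕ) (D : Subgroup S) (A' : Subgroup ↥D) :
    QE e A' ↔ QE e (A'.map D.subtype) := by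
  unfold QE
  rw [isAb_map_subtype D A']
  constructor
  · rintro ⟨h1, h2⟩
    refine ⟨h1, ?_⟩
    intro a ha
    obtain ⟨a', ha', rfl⟩ := Subgroup.mem_map.mp ha
    rw [← map_pow, h2 a' ha', map_one]
  · rintro ⟨h1, h2⟩
    refine ⟨h1, ?_⟩
    intro a ha
    have := h2 _ (Subgroup.mem_map_of_mem D.subtype ha)
    apply Subtype.ext
    simpa using this

lemma card_map_subtype (D : Subgroup S) (A' : Subgroup ↥D) :
    Nat.card (A'.map D.subtype) = Nat.card A' :=
  Subgroup.card_map_of_injective D.subtype_injective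

lemma card_subgroupOf_of_le {V D : Subgroup S} (h : V ≤ D) :
    Nat.card (V.subgroupOf D) = Nat.card V := by
  rw [← card_map_subtype D (V.subgroupOf D), Subgroup.map_subgroupOf_eq_of_le h]

lemma image_max_eq (D : Subgroup S) (Q' : Subgroup ↥D → Prop) (Q : Subgroup S → Prop)
    (hQ : ∀ A', Q' A' ↔ Q (A'.map D.subtype)) :
    Set.image (fun A' : Subgroup ↥D => A'.map D.subtype)
      {A' | Q' A' ∧ ∀ B', Q' B' → Nat.card B' ≤ Nat.card A'} = maxFam Q D := by
  ext A
  constructor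
  · rintro ⟨A', ⟨hQA', hmax⟩, rfl⟩
    refine ⟨Subgroup.map_subtype_le A', (hQ A').mp hQA', fun V hV hQV => ?_⟩
    have hV' : (V.subgroupOf D).map D.subtype = V := Subgroup.map_subgroupOf_eq_of_le hV
    have := hmax (V.subgroupOf D) ((hQ _).mpr (by rw [hV']; exact hQV))
    calc Nat.card V = Nat.card (V.subgroupOf D) := (card_subgroupOf_of_le hV).symm
      _ ≤ Nat.card A' := this
      _ = Nat.card (A'.map D.subtype) := (card_map_subtype D A').symm
  · rintro ⟨hAD, hQA, hmax⟩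
    have hA' : (A.subgroupOf D).map D.subtype = A := Subgroup.map_subgroupOf_eq_of_le hAD
    refine ⟨A.subgroupOf D, ⟨(hQ _).mpr (by rw [hA']; exact hQA), fun B' hB' => ?_⟩, hA'⟩
    have := hmax (B'.map D.subtype) (Subgroup.map_subtype_le B') ((hQ B').mp hB')
    calc Nat.card B' = Nat.card (B'.map D.subtype) := (card_map_subtype D B').symm
      _ ≤ Nat.card A := this
      _ = Nat.card (A.subgroupOf D) := (card_subgroupOf_of_le hAD).symm

lemma image_maxAbelian_eq (D : Subgroup S) :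
    Set.image (fun A' : Subgroup ↥D => A'.map D.subtype) (Cfsg.maxAbelianSubgroups ↥D) =
      maxFam (QE 0) D := by
  refine image_max_eq D (fun A' => IsMulCommutative ↥A') (QE 0) (fun A' => ?_)
  rw [← qe_map_subtype, ← isAb_iff]
  unfold QE
  simp

lemma image_maxElAb_eq (p : ℕ) (D : Subgroup S) :
    Set.image (fun A' : Subgroup ↥D => A'.map D.subtype)
      (Cfsg.maxElementaryAbelianSubgroups p ↥D) = maxFam (QE p) D := by
  refine image_max_eq D (fun A' => Cfsg.IsElementaryAbelian p A') (QE p) (fun A' => ?_)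
  rw [← qe_map_subtype]
  unfold QE Cfsg.IsElementaryAbelian
  rw [← isAb_iff]

lemma maxFam_nonempty [Finite S] (e : ℕ) (D : Subgroup S) : (maxFam (QE e) D).Nonempty := by
  classical
  let 𝒮 : Set (Subgroup S) := {A | A ≤ D ∧ QE e A}
  have hne : 𝒮.Nonempty := ⟨⊥, bot_le, by
    constructor
    · intro x hx y hy
      rw [Subgroup.mem_bot] at hx hy
      rw [hx, hy]
    · intro a ha
      rw [Subgroup.mem_bot] at ha
      rw [ha, one_pow]⟩
  obtain ⟨A, hA, hmax⟩ := Set.exists_max_image 𝒮 (fun A => Nat.card ↥A) (Set.toFinite _) hne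
  exact ⟨A, hA.1, hA.2, fun V hV hQV => hmax V ⟨hV, hQV⟩⟩

end maxfam

section repl

theorem qe_rStar {S : Type*} [Group S] [Finite S] {p : ℕ} [Fact p.Prime] (hS : IsPGroup p S)
    (hp : p ≠ 2) (e : ℕ) {A B : Subgroup S} {b : S} (h : RepHyp A B b) (hA : QE e A) :
    QE e (rStar A b) := by
  refine ⟨h.rStar_comm (h.rX_comm_of_odd hS hp), ?_⟩
  intro x hx
  have h1 := h.pow_eq_one_of_mem_rStar hS hp hx
  have h2 : Monoid.exponent ↥A ∣ e := by
    apply Monoid.exponent_dvd_of_forall_pow_eq_one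
    intro a
    apply Subtype.ext
    have := hA.2 a a.2
    simpa using this
  obtain ⟨k, hk⟩ := h2
  rw [hk, pow_mul, h1, one_pow]

/-- the replacement property of the families `maxFam (QE e) D` in a `p`-group, `p` odd -/
theorem replacement_property {S : Type*} [Group S] [Finite S] {p : ℕ} [Fact p.Prime]
    (hS : IsPGroup p S) (hp : p ≠ 2) (e : ℕ) (D : Subgroup S) [hD : D.Normal]
    (B : Subgroup S) [B.Normal] (U : Subgroup S) (hU : U ∈ maxFam (QE e) D)
    (hBU : ⁅B, B⁆ ≤ U) (hnBU : ¬ B ≤ U) :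
    ∃ A ∈ maxFam (QE e) D, ⁅B, B⁆ ≤ A ∧ ¬ B ≤ A ∧ B ≤ Subgroup.normalizer (A : Set S) := by
  classical
  let 𝒮 : Set (Subgroup S) := {A | A ∈ maxFam (QE e) D ∧ ⁅B, B⁆ ≤ A ∧ ¬ B ≤ A}
  have h𝒮ne : 𝒮.Nonempty := ⟨U, hU, hBU, hnBU⟩
  obtain ⟨A, hA𝒮, hAmax⟩ :=
    Set.exists_max_image 𝒮 (fun A => Nat.card ↥(A ⊓ B)) (Set.toFinite _) h𝒮ne
  obtain ⟨hAfam, hBA, hnBA⟩ := hA𝒮
  refine ⟨A, hAfam, hBA, hnBA, ?_⟩
  by_contra hnot
  have hAab : IsAb A := hAfam.2.1.1
  have hAcomm : IsMulCommutative ↥A := (isAb_iff A).mp hAab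
  obtain ⟨b, hb, hbN, hbA⟩ :=
    Cfsg.Agent.S0649.result hS B (fun h => absurd h hp) A hAcomm hBA hnot
  have h : RepHyp A B b :=
    { comm := hAab, normal := inferInstance, der := hBA, hb := hb, hbN := hbN }
  have hstarD : rStar A b ≤ D := by
    refine sup_le ((rD_le A b).trans hAfam.1) ((Subgroup.closure_le _).mpr ?_)
    rintro g ⟨a, ha, rfl⟩
    have haD := hAfam.1 ha
    have e' : a * b⁻¹ * a⁻¹ * b = a * (b⁻¹ * a⁻¹ * b⁻¹⁻¹) := by group
    rw [e']
    exact D.mul_mem haD (hD.conj_mem _ (D.inv_mem haD) _)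
  have hcard := h.card_rStar
  have hstarFam : rStar A b ∈ maxFam (QE e) D :=
    ⟨hstarD, qe_rStar hS hp e h hAfam.2.1, fun V hV hQV => by
      rw [hcard]; exact hAfam.2.2 V hV hQV⟩
  have hlt := h.inf_lt hbA
  have hlt2 := h.inf_lt_right hnot
  have hnB : ¬ B ≤ rStar A b := fun hle => (ne_of_lt hlt2) (inf_eq_right.mpr hle)
  have hmem : rStar A b ∈ 𝒮 := ⟨hstarFam, h.der_le_rD.trans (rD_le_rStar A b), hnB⟩
  have hle := hAmax _ hmem
  have heq : A ⊓ B = rStar A b ⊓ B := Subgroup.eq_of_le_of_card_ge hlt.le hle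
  exact (ne_of_lt hlt) heq

/-- the replacement property inside a `p`-subgroup `P` of an arbitrary finite group -/
theorem replacement_in_subgroup {G : Type*} [Group G] [Finite G] {p : ℕ} [Fact p.Prime]
    (hp : p ≠ 2) (e : ℕ) (P : Subgroup G) (hP : IsPGroup p P) (B : Subgroup G) [B.Normal]
    (hBP : B ≤ P) (U : Subgroup G) (hU : U ∈ maxFam (QE e) P)
    (hBU : ⁅B, B⁆ ≤ U) (hnBU : ¬ B ≤ U) :
    ∃ A ∈ maxFam (QE e) P, ⁅B, B⁆ ≤ A ∧ ¬ B ≤ A ∧ B ≤ Subgroup.normalizer (A : Set G) := by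
  have hU' : U.subgroupOf P ∈ maxFam (QE e) (⊤ : Subgroup ↥P) := by
    refine ⟨le_top, ?_, fun V' _ hV' => ?_⟩
    · rw [qe_map_subtype, Subgroup.map_subgroupOf_eq_of_le hU.1]; exact hU.2.1
    · have := hU.2.2 (V'.map P.subtype) (Subgroup.map_subtype_le V')
        ((qe_map_subtype e P V').mp hV')
      rw [card_map_subtype] at this
      rw [card_subgroupOf_of_le hU.1]
      exact this
  have hBU' : ⁅B.subgroupOf P, B.subgroupOf P⁆ ≤ U.subgroupOf P := by
    rw [Subgroup.commutator_le]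
    intro x hx y hy
    rw [Subgroup.mem_subgroupOf] at hx hy ⊢
    have : ((⁅x, y⁆ : ↥P) : G) = ⁅(x : G), (y : G)⁆ := by
      simp [commutatorElement_def]
    rw [this]
    exact hBU (Subgroup.commutator_mem_commutator hx hy)
  have hnBU' : ¬ B.subgroupOf P ≤ U.subgroupOf P := by
    intro hle
    apply hnBU
    intro x hx
    have : (⟨x, hBP hx⟩ : ↥P) ∈ U.subgroupOf P := hle (by rw [Subgroup.mem_subgroupOf]; exact hx)
    rw [Subgroup.mem_subgroupOf] at this
    exact this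
  obtain ⟨A', hA', hBA', hnBA', hBN'⟩ :=
    replacement_property (S := ↥P) hP hp e ⊤ (B.subgroupOf P) (U.subgroupOf P) hU' hBU' hnBU'
  refine ⟨A'.map P.subtype, ?_, ?_, ?_, ?_⟩
  · refine ⟨Subgroup.map_subtype_le A', (qe_map_subtype e P A').mp hA'.2.1, fun V hV hQV => ?_⟩
    have hV' : (V.subgroupOf P).map P.subtype = V := Subgroup.map_subgroupOf_eq_of_le hV
    have := hA'.2.2 (V.subgroupOf P) le_top ((qe_map_subtype e P _).mpr (by rw [hV']; exact hQV))
    rw [card_subgroupOf_of_le hV] at this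
    rw [card_map_subtype]
    exact this
  · rw [Subgroup.commutator_le]
    intro x hx y hy
    have hx' : (⟨x, hBP hx⟩ : ↥P) ∈ B.subgroupOf P := by rw [Subgroup.mem_subgroupOf]; exact hx
    have hy' : (⟨y, hBP hy⟩ : ↥P) ∈ B.subgroupOf P := by rw [Subgroup.mem_subgroupOf]; exact hy
    have := hBA' (Subgroup.commutator_mem_commutator hx' hy')
    refine Subgroup.mem_map.mpr ⟨_, this, ?_⟩
    simp [commutatorElement_def]
  · intro hle
    apply hnBA'
    intro x hx
    rw [Subgroup.mem_subgroupOf] at hx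
    obtain ⟨a', ha', hax⟩ := Subgroup.mem_map.mp (hle hx)
    have : a' = x := Subtype.ext hax
    rw [← this]; exact ha'
  · have key : ∀ b ∈ B, ∀ x ∈ A'.map P.subtype, b * x * b⁻¹ ∈ A'.map P.subtype := by
      intro b hb x hx
      obtain ⟨a', ha', rfl⟩ := Subgroup.mem_map.mp hx
      have hb' : (⟨b, hBP hb⟩ : ↥P) ∈ B.subgroupOf P := by
        rw [Subgroup.mem_subgroupOf]; exact hb
      have := conj_mem_of_mem_normalizer' (hBN' hb') ha'
      refine Subgroup.mem_map.mpr ⟨_, this, ?_⟩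
      simp
    intro b hb
    refine mem_normalizer_of_conj_mem (key b hb) (fun x hx => ?_)
    have := key b⁻¹ (B.inv_mem hb) x hx
    simpa using this

end repl

end Cfsg.Agent.Lib.Helper3
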