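import Mathlib
import Cfsg.Prelude.Def_PLocal
import Cfsg.Agent.Lib.Helper3.MaxAb
import Cfsg.Agent.Lib.Helper3.Transport
import Cfsg.Agent.Lib.Helper3.PQ
import Cfsg.Agent.Lib.Helper1.Fitting
import Cfsg.Agent.S0542

set_option autoImplicit false
set_option linter.unusedSectionVars false
open scoped commutatorElement
open Cfsg.Agent.Lib.Helper1

namespace Cfsg.Agent.Lib.Helper3

section zj
variable {G : Type*} [Group G]

/-- the Thompson subgroup built from the family `maxFam (QE e) P` -/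
def jq (e : ℕ) (P : Subgroup G) : Subgroup G := sSup (maxFam (QE e) P)

/-- the elements of exponent `e` in the centre of `jq e P` -/
def zq (e : ℕ) (P : Subgroup G) : Subgroup G :=
  Subgroup.closure {x | x ∈ jq e P ⊓ Subgroup.centralizer (jq e P : Set G) ∧ x ^ e = 1}

lemma le_jq {e : ℕ} {P A : Subgroup G} (hA : A ∈ maxFam (QE e) P) : A ≤ jq e P := le_sSup hA

lemma jq_le (e : ℕ) (P : Subgroup G) : jq e P ≤ P := sSup_le (fun _ hA => hA.1)

lemma zq_le_inf (e : ℕ) (P : Subgroup G) :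
    zq e P ≤ jq e P ⊓ Subgroup.centralizer (jq e P : Set G) :=
  (Subgroup.closure_le _).mpr (fun _ hx => hx.1)

lemma zq_le_jq (e : ℕ) (P : Subgroup G) : zq e P ≤ jq e P := (zq_le_inf e P).trans inf_le_left

lemma zq_le_centralizer (e : ℕ) (P : Subgroup G) :
    zq e P ≤ Subgroup.centralizer (jq e P : Set G) := (zq_le_inf e P).trans inf_le_right

lemma zq_isAb (e : ℕ) (P : Subgroup G) : IsAb (zq e P) := by
  intro x hx y hy
  exact Subgroup.mem_centralizer_iff.mp (zq_le_centralizer e P hy) x (zq_le_jq e P hx)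

lemma zq_qe (e : ℕ) (P : Subgroup G) : QE e (zq e P) := by
  refine ⟨zq_isAb e P, ?_⟩
  intro x hx
  induction hx using Subgroup.closure_induction with
  | mem x hx => exact hx.2
  | one => exact one_pow e
  | mul x y hx hy ihx ihy =>
    have hc : Commute x y := zq_isAb e P x hx y hy
    rw [hc.mul_pow, ihx, ihy, one_mul]
  | inv x hx ihx => rw [inv_pow, ihx, inv_one]

lemma mem_zq {e : ℕ} {P : Subgroup G} {x : G} (hJ : x ∈ jq e P)
    (hC : x ∈ Subgroup.centralizer (jq e P : Set G)) (hx : x ^ e = 1) : x ∈ zq e P :=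
  Subgroup.subset_closure ⟨Subgroup.mem_inf.mpr ⟨hJ, hC⟩, hx⟩

lemma le_centralizer_symm' {H K : Subgroup G} (h : H ≤ Subgroup.centralizer (K : Set G)) :
    K ≤ Subgroup.centralizer (H : Set G) := Subgroup.le_centralizer_iff.mp h

lemma qe_sup {e : ℕ} {A Z : Subgroup G} (hA : QE e A) (hZ : QE e Z)
    (hAZ : A ≤ Subgroup.centralizer (Z : Set G)) : QE e (A ⊔ Z) := by
  have hZA : Z ≤ Subgroup.centralizer (A : Set G) := le_centralizer_symm' hAZ
  have hAA : A ≤ Subgroup.centralizer (A : Set G) := (isAb_iff_le_centralizer A).mp hA.1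
  have hZZ : Z ≤ Subgroup.centralizer (Z : Set G) := (isAb_iff_le_centralizer Z).mp hZ.1
  have h1 : A ≤ Subgroup.centralizer ((A ⊔ Z : Subgroup G) : Set G) :=
    le_centralizer_symm' (sup_le hAA hZA)
  have h2 : Z ≤ Subgroup.centralizer ((A ⊔ Z : Subgroup G) : Set G) :=
    le_centralizer_symm' (sup_le hAZ hZZ)
  have hab : IsAb (A ⊔ Z) := (isAb_iff_le_centralizer _).mpr (sup_le h1 h2)
  refine ⟨hab, ?_⟩
  let K : Subgroup G :=
    { carrier := {x | x ∈ A ⊔ Z ∧ x ^ e = 1}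
      one_mem' := ⟨one_mem _, one_pow e⟩
      mul_mem' := by
        rintro x y ⟨hx, hxe⟩ ⟨hy, hye⟩
        have hc : Commute x y := hab x hx y hy
        exact ⟨mul_mem hx hy, by rw [hc.mul_pow, hxe, hye, one_mul]⟩
      inv_mem' := by
        rintro x ⟨hx, hxe⟩
        exact ⟨inv_mem hx, by rw [inv_pow, hxe, inv_one]⟩ }
  have hK : A ⊔ Z ≤ K :=
    sup_le (fun a ha => ⟨(le_sup_left : A ≤ A ⊔ Z) ha, hA.2 a ha⟩)
      (fun z hz => ⟨(le_sup_right : Z ≤ A ⊔ Z) hz, hZ.2 z hz⟩)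
  intro x hx
  exact (hK hx).2

lemma le_of_mem_maxFam_of_qe [Finite G] {e : ℕ} {P A Z : Subgroup G}
    (hA : A ∈ maxFam (QE e) P) (hZP : Z ≤ P) (hZ : QE e Z)
    (hAZ : A ≤ Subgroup.centralizer (Z : Set G)) : Z ≤ A := by
  have h1 : QE e (A ⊔ Z) := qe_sup hA.2.1 hZ hAZ
  have h2 := hA.2.2 (A ⊔ Z) (sup_le hA.1 hZP) h1
  have h3 : A = A ⊔ Z := Subgroup.eq_of_le_of_card_ge le_sup_left h2
  rw [h3]; exact le_sup_right

lemma zq_le_of_mem [Finite G] {e : ℕ} {P A : Subgroup G} (hA : A ∈ maxFam (QE e) P) :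
    zq e P ≤ A := by
  refine le_of_mem_maxFam_of_qe hA ((zq_le_jq e P).trans (jq_le e P)) (zq_qe e P) ?_
  exact le_centralizer_symm'
    ((zq_le_centralizer e P).trans (Subgroup.centralizer_le (le_jq hA)))

lemma maxFam_of_le {Q : Subgroup G → Prop} {R P A : Subgroup G} (hRP : R ≤ P)
    (hA : A ∈ maxFam Q P) (hAR : A ≤ R) : A ∈ maxFam Q R :=
  ⟨hAR, hA.2.1, fun V hV hQ => hA.2.2 V (hV.trans hRP) hQ⟩

lemma maxFam_subset_of_le {Q : Subgroup G → Prop} {R P A : Subgroup G} (hRP : R ≤ P)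
    (hA : A ∈ maxFam Q P) (hAR : A ≤ R) : maxFam Q R ⊆ maxFam Q P := by
  intro A₁ hA₁
  exact ⟨hA₁.1.trans hRP, hA₁.2.1, fun V hV hQV =>
    (hA.2.2 V hV hQV).trans (hA₁.2.2 A hAR hA.2.1)⟩

lemma zq_le_zq_of_le [Finite G] {e : ℕ} {R P A : Subgroup G} (hRP : R ≤ P)
    (hA : A ∈ maxFam (QE e) P) (hAR : A ≤ R) : zq e P ≤ zq e R := by
  have hJ : jq e R ≤ jq e P := sSup_le_sSup (maxFam_subset_of_le hRP hA hAR)
  have hAJ : A ≤ jq e R := le_jq (maxFam_of_le hRP hA hAR)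
  intro x hx
  refine mem_zq (hAJ (zq_le_of_mem hA hx)) ?_ ((zq_qe e P).2 x hx)
  exact Subgroup.centralizer_le hJ (zq_le_centralizer e P hx)

/-! ### transport along isomorphisms -/

lemma qe_map_equiv {H : Type*} [Group H] (φ : G ≃* H) {e : ℕ} {A : Subgroup G}
    (hA : QE e A) : QE e (A.map φ.toMonoidHom) := by
  constructor
  · intro x hx y hy
    obtain ⟨a, ha, rfl⟩ := Subgroup.mem_map.mp hx
    obtain ⟨a', ha', rfl⟩ := Subgroup.mem_map.mp hy
    rw [← map_mul, ← map_mul, hA.1 a ha a' ha']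
  · intro x hx
    obtain ⟨a, ha, rfl⟩ := Subgroup.mem_map.mp hx
    rw [← map_pow, hA.2 a ha, map_one]

lemma maxFam_map_equiv {H : Type*} [Group H] (φ : G ≃* H) {e : ℕ} {P A : Subgroup G}
    (hA : A ∈ maxFam (QE e) P) :
    A.map φ.toMonoidHom ∈ maxFam (QE e) (P.map φ.toMonoidHom) := by
  refine ⟨Subgroup.map_mono hA.1, qe_map_equiv φ hA.2.1, fun V hV hQV => ?_⟩
  have h1 : V.map φ.symm.toMonoidHom ≤ P := by
    calc V.map φ.symm.toMonoidHom ≤ (P.map φ.toMonoidHom).map φ.symm.toMonoidHom :=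
          Subgroup.map_mono hV
      _ = P := map_map_symm φ P
  have := hA.2.2 _ h1 (qe_map_equiv φ.symm hQV)
  rw [card_map_equiv] at this ⊢
  exact this

lemma jq_map_equiv {H : Type*} [Group H] (φ : G ≃* H) (e : ℕ) (P : Subgroup G) :
    (jq e P).map φ.toMonoidHom = jq e (P.map φ.toMonoidHom) :=
  map_sSup_equiv φ _ _ (fun _ hK => maxFam_map_equiv φ hK) (fun K hK => by
    have := maxFam_map_equiv φ.symm hK
    rwa [map_map_symm] at this)

lemma zq_map_le {H : Type*} [Group H] (φ : G ≃* H) (e : ℕ) (P : Subgroup G) :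
    (zq e P).map φ.toMonoidHom ≤ zq e (P.map φ.toMonoidHom) := by
  rw [Subgroup.map_le_iff_le_comap]
  refine (Subgroup.closure_le _).mpr ?_
  rintro x ⟨hx, hxe⟩
  obtain ⟨hxJ, hxC⟩ := Subgroup.mem_inf.mp hx
  show φ.toMonoidHom x ∈ zq e (P.map φ.toMonoidHom)
  refine mem_zq ?_ ?_ ?_
  · rw [← jq_map_equiv]; exact Subgroup.mem_map_of_mem _ hxJ
  · rw [← jq_map_equiv, Subgroup.mem_centralizer_iff]
    intro y hy
    obtain ⟨y₀, hy₀, rfl⟩ := Subgroup.mem_map.mp hy
    have := Subgroup.mem_centralizer_iff.mp hxC y₀ hy₀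
    rw [← map_mul, ← map_mul, this]
  · rw [← map_pow, hxe, map_one]

lemma zq_map_equiv {H : Type*} [Group H] (φ : G ≃* H) (e : ℕ) (P : Subgroup G) :
    (zq e P).map φ.toMonoidHom = zq e (P.map φ.toMonoidHom) := by
  apply le_antisymm (zq_map_le φ e P)
  have := zq_map_le φ.symm e (P.map φ.toMonoidHom)
  rw [map_map_symm] at this
  calc zq e (P.map φ.toMonoidHom)
      = ((zq e (P.map φ.toMonoidHom)).map φ.symm.toMonoidHom).map φ.toMonoidHom :=
        (map_symm_map φ _).symm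
    _ ≤ (zq e P).map φ.toMonoidHom := Subgroup.map_mono this

lemma normalizer_le_normalizer_zq (e : ℕ) (P : Subgroup G) :
    Subgroup.normalizer (P : Set G) ≤ Subgroup.normalizer ((zq e P : Subgroup G) : Set G) := by
  intro g hg
  rw [Subgroup.mem_normalizer_iff_map_conj_eq] at hg ⊢
  have := zq_map_equiv (MulAut.conj g) e P
  have hg' : P.map (MulAut.conj g).toMonoidHom = P := hg
  rw [hg'] at this
  exact this

/-! ### the commutator kernel -/

/-- the elements `g` with `[g, B] ⊆ W` -/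
def commKernel (B W : Subgroup G) (hW : W.Normal) : Subgroup G where
  carrier := {g | ∀ y ∈ B, ⁅g, y⁆ ∈ W}
  one_mem' := by
    intro y _
    rw [commutatorElement_one_left]; exact W.one_mem
  mul_mem' := by
    intro g h hg hh y hy
    have e : ⁅g * h, y⁆ = g * ⁅h, y⁆ * g⁻¹ * ⁅g, y⁆ := by
      simp only [commutatorElement_def]; group
    rw [e]; exact W.mul_mem (hW.conj_mem _ (hh y hy) g) (hg y hy)
  inv_mem' := by
    intro g hg y hy
    have e : ⁅g⁻¹, y⁆ = g⁻¹ * (⁅g, y⁆)⁻¹ * g⁻¹⁻¹ := by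
      simp only [commutatorElement_def]; group
    rw [e]; exact hW.conj_mem _ (W.inv_mem (hg y hy)) g⁻¹

lemma commKernel_normal {B W : Subgroup G} (hB : B.Normal) (hW : W.Normal) :
    (commKernel B W hW).Normal := by
  constructor
  intro g hg n y hy
  have e : ⁅n * g * n⁻¹, y⁆ = n * ⁅g, n⁻¹ * y * n⁻¹⁻¹⁆ * n⁻¹ := by
    simp only [commutatorElement_def]; group
  rw [e]; exact hW.conj_mem _ (hg _ (hB.conj_mem y hy n⁻¹)) n

lemma card_lt_card_of_lt [Finite G] {H K : Subgroup G} (h : H < K) :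
    Nat.card H < Nat.card K := by
  by_contra hcon
  push Not at hcon
  exact (ne_of_lt h) (Subgroup.eq_of_le_of_card_ge h.le hcon)

end zj

end Cfsg.Agent.Lib.Helper3
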