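import Mathlib
import Cfsg.Prelude.Def_CaseTheorems
import Cfsg.Agent.Lib.Helper3.FrobPart
import Cfsg.Agent.Lib.Helper3.PQ
import Cfsg.Agent.Lib.Helper3.ZJ

set_option autoImplicit false
set_option linter.unusedSectionVars false
set_option linter.style.haveILetI false
open scoped commutatorElement

/-! Quadratic action in groups of the shape met in the Glauberman–Thompson theorem. -/

namespace Cfsg.Agent.Lib.Helper3

section mn
variable {X : Type*} [Group X] [Finite X]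

/-- a minimal normal subgroup inside a normal `p`-subgroup is central in it -/
theorem minimal_normal_central {p : ℕ} [Fact p.Prime] (Qh Uh : Subgroup X) [Qh.Normal]
    [Uh.Normal] (hQp : IsPGroup p Qh) (hUQ : Uh ≤ Qh)
    (hmin : ∀ Y : Subgroup X, Y.Normal → Y ≤ Uh → Y = ⊥ ∨ Y = Uh) :
    ∀ u ∈ Uh, ∀ y ∈ Qh, y * u = u * y := by
  have hUp : IsPGroup p Uh := hQp.to_le hUQ
  have hcomm : ⁅Uh, Qh⁆ = ⊥ := by
    by_cases hne : Uh = ⊥
    · rw [hne, eq_bot_iff]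
      exact Subgroup.commutator_le_left ⊥ Qh
    · have hlt : ⁅Uh, Qh⁆ < Uh :=
        commutator_lt_of_pgroup hQp hUp (le_normalizer_of_normal inferInstance Qh) hne
      rcases hmin ⁅Uh, Qh⁆ inferInstance hlt.le with h | h
      · exact h
      · exact absurd h hlt.ne
  intro u hu y hy
  have := (Subgroup.commutator_eq_bot_iff_le_centralizer.mp hcomm) hu
  exact Subgroup.mem_centralizer_iff.mp this y hy

/-- a minimal normal subgroup inside a normal `p`-subgroup has exponent `p` -/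
theorem minimal_normal_exponent {p : ℕ} [Fact p.Prime] (Qh Uh : Subgroup X) [Qh.Normal]
    [hUn : Uh.Normal] (hQp : IsPGroup p Qh) (hUQ : Uh ≤ Qh)
    (hmin : ∀ Y : Subgroup X, Y.Normal → Y ≤ Uh → Y = ⊥ ∨ Y = Uh) :
    ∀ u ∈ Uh, u ^ p = 1 := by
  have hpp : p.Prime := Fact.out
  have hUp : IsPGroup p Uh := hQp.to_le hUQ
  have hab : ∀ u ∈ Uh, ∀ w ∈ Uh, w * u = u * w :=
    fun u hu w hw => minimal_normal_central Qh Uh hQp hUQ hmin u hu w (hUQ hw)
  let S : Subgroup X :=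
    { carrier := {y | ∃ u ∈ Uh, y = u ^ p}
      one_mem' := ⟨1, Uh.one_mem, (one_pow p).symm⟩
      mul_mem' := by
        rintro _ _ ⟨u, hu, rfl⟩ ⟨w, hw, rfl⟩
        refine ⟨u * w, Uh.mul_mem hu hw, ?_⟩
        have hc : Commute u w := (hab u hu w hw).symm
        rw [hc.mul_pow]
      inv_mem' := by
        rintro _ ⟨u, hu, rfl⟩
        exact ⟨u⁻¹, Uh.inv_mem hu, by rw [inv_pow]⟩ }
  have hSn : S.Normal := by
    constructor
    rintro _ ⟨u, hu, rfl⟩ g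
    refine ⟨g * u * g⁻¹, hUn.conj_mem u hu g, ?_⟩
    rw [conj_pow]
  have hSU : S ≤ Uh := by
    rintro _ ⟨u, hu, rfl⟩
    exact Uh.pow_mem hu p
  by_cases hne : Uh = ⊥
  · intro u hu
    rw [hne, Subgroup.mem_bot] at hu
    rw [hu, one_pow]
  rcases hmin S hSn hSU with h | h
  · intro u hu
    have : u ^ p ∈ S := ⟨u, hu, rfl⟩
    rw [h] at this
    exact Subgroup.mem_bot.mp this
  · exfalso
    let f : ↥Uh → ↥Uh := fun u => ⟨(u : X) ^ p, Uh.pow_mem u.2 p⟩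
    have hfs : Function.Surjective f := by
      rintro ⟨y, hy⟩
      have hyS : y ∈ S := by rw [h]; exact hy
      obtain ⟨u, hu, rfl⟩ := hyS
      exact ⟨⟨u, hu⟩, rfl⟩
    have hfi : Function.Injective f := Finite.injective_iff_surjective.mpr hfs
    have hnt : Nontrivial ↥Uh := (Subgroup.nontrivial_iff_ne_bot Uh).mpr hne
    obtain ⟨k, hk⟩ := IsPGroup.iff_card.mp hUp
    have hk0 : k ≠ 0 := by
      intro h0
      rw [h0, pow_zero] at hk
      have := Finite.one_lt_card_iff_nontrivial.mpr hnt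
      omega
    have hdvd : p ∣ Nat.card ↥Uh := by rw [hk]; exact dvd_pow_self p hk0
    obtain ⟨u, hu⟩ := exists_prime_orderOf_dvd_card' (G := ↥Uh) p hdvd
    have h1 : f u = f 1 := by
      apply Subtype.ext
      show (u : X) ^ p = ((1 : ↥Uh) : X) ^ p
      rw [Subgroup.coe_one, one_pow, ← Subgroup.coe_pow, ← hu, pow_orderOf_eq_one, Subgroup.coe_one]
    have h2 : u = 1 := hfi h1
    rw [h2, orderOf_one] at hu
    exact hpp.one_lt.ne hu

end mn

section cp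
variable {H : Type*} [Group H]

/-- the subgroup `{k⁻¹ * (b k b⁻¹)}` of an abelian `b`-invariant subgroup -/
def commPart (Kb : Subgroup H) (b : H) (hab : ∀ x ∈ Kb, ∀ y ∈ Kb, x * y = y * x)
    (hb : ∀ k ∈ Kb, b * k * b⁻¹ ∈ Kb) : Subgroup H where
  carrier := {y | ∃ k ∈ Kb, y = k⁻¹ * (b * k * b⁻¹)}
  one_mem' := ⟨1, Kb.one_mem, by simp⟩
  mul_mem' := by
    rintro _ _ ⟨k, hk, rfl⟩ ⟨l, hl, rfl⟩
    refine ⟨k * l, Kb.mul_mem hk hl, ?_⟩
    have h1 : (b * k * b⁻¹) * l⁻¹ = l⁻¹ * (b * k * b⁻¹) := hab _ (hb k hk) _ (Kb.inv_mem hl)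
    have h2 : k⁻¹ * l⁻¹ = l⁻¹ * k⁻¹ := hab _ (Kb.inv_mem hk) _ (Kb.inv_mem hl)
    calc k⁻¹ * (b * k * b⁻¹) * (l⁻¹ * (b * l * b⁻¹))
        = k⁻¹ * ((b * k * b⁻¹) * l⁻¹) * (b * l * b⁻¹) := by group
      _ = k⁻¹ * (l⁻¹ * (b * k * b⁻¹)) * (b * l * b⁻¹) := by rw [h1]
      _ = (k⁻¹ * l⁻¹) * ((b * k * b⁻¹) * (b * l * b⁻¹)) := by group
      _ = (l⁻¹ * k⁻¹) * ((b * k * b⁻¹) * (b * l * b⁻¹)) := by rw [h2]
      _ = (k * l)⁻¹ * (b * (k * l) * b⁻¹) := by group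
  inv_mem' := by
    rintro _ ⟨k, hk, rfl⟩
    refine ⟨k⁻¹, Kb.inv_mem hk, ?_⟩
    have h1 : (b * k * b⁻¹)⁻¹ * k = k * (b * k * b⁻¹)⁻¹ := hab _ (Kb.inv_mem (hb k hk)) _ hk
    calc (k⁻¹ * (b * k * b⁻¹))⁻¹ = (b * k * b⁻¹)⁻¹ * k := by group
      _ = k * (b * k * b⁻¹)⁻¹ := h1
      _ = k⁻¹⁻¹ * (b * k⁻¹ * b⁻¹) := by group

variable {Kb : Subgroup H} {b : H} {hab : ∀ x ∈ Kb, ∀ y ∈ Kb, x * y = y * x}
  {hb : ∀ k ∈ Kb, b * k * b⁻¹ ∈ Kb}

lemma mem_commPart {y : H} : y ∈ commPart Kb b hab hb ↔ ∃ k ∈ Kb, y = k⁻¹ * (b * k * b⁻¹) :=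
  Iff.rfl

lemma commPart_le : commPart Kb b hab hb ≤ Kb := by
  rintro _ ⟨k, hk, rfl⟩
  exact Kb.mul_mem (Kb.inv_mem hk) (hb k hk)

lemma commPart_conj : ∀ e ∈ commPart Kb b hab hb, b * e * b⁻¹ ∈ commPart Kb b hab hb := by
  rintro _ ⟨k, hk, rfl⟩
  refine ⟨b * k * b⁻¹, hb k hk, ?_⟩
  group

lemma commPart_fpf [Finite ↥Kb] {p : ℕ} (hcop : (Nat.card ↥Kb).Coprime p)
    (hbp : ∀ k ∈ Kb, b ^ p * k * (b ^ p)⁻¹ = k) :
    ∀ e ∈ commPart Kb b hab hb, b * e * b⁻¹ = e → e = 1 := by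
  rintro e ⟨k, hk, rfl⟩ hfix
  set e := k⁻¹ * (b * k * b⁻¹) with he
  have hbk : b * k * b⁻¹ = k * e := by rw [he]; group
  have hpow : ∀ j : ℕ, b ^ j * k * (b ^ j)⁻¹ = k * e ^ j := by
    intro j
    induction j with
    | zero => simp
    | succ j ih =>
      calc b ^ (j + 1) * k * (b ^ (j + 1))⁻¹ = b * (b ^ j * k * (b ^ j)⁻¹) * b⁻¹ := by
            rw [pow_succ']; group
        _ = b * (k * e ^ j) * b⁻¹ := by rw [ih]
        _ = (b * k * b⁻¹) * (b * e * b⁻¹) ^ j := by rw [conj_pow]; group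
        _ = k * e * e ^ j := by rw [hbk, hfix]
        _ = k * e ^ (j + 1) := by rw [pow_succ']; group
  have h1 : e ^ p = 1 := by
    have := hpow p
    rw [hbp k hk] at this
    exact (mul_eq_left.mp this.symm)
  have heK : e ∈ Kb := Kb.mul_mem (Kb.inv_mem hk) (hb k hk)
  have h2 : orderOf e ∣ Nat.card ↥Kb := by
    rw [← Subgroup.orderOf_mk e heK]; exact orderOf_dvd_natCard _
  have h3 : orderOf e = 1 :=
    Nat.eq_one_of_dvd_coprimes hcop h2 (orderOf_dvd_of_pow_eq_one h1)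
  exact orderOf_eq_one_iff.mp h3

lemma commPart_eq_bot_iff : commPart Kb b hab hb = ⊥ ↔ ∀ k ∈ Kb, b * k * b⁻¹ = k := by
  constructor
  · intro h k hk
    have : k⁻¹ * (b * k * b⁻¹) ∈ commPart Kb b hab hb := ⟨k, hk, rfl⟩
    rw [h, Subgroup.mem_bot] at this
    calc b * k * b⁻¹ = k * (k⁻¹ * (b * k * b⁻¹)) := by group
      _ = k := by rw [this, mul_one]
  · intro h
    rw [eq_bot_iff]
    rintro _ ⟨k, hk, rfl⟩
    rw [h k hk, inv_mul_cancel]
    exact Subgroup.one_mem _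

end cp

section lemA
variable {G : Type*} [Group G] [Finite G] {p : ℕ} [Fact p.Prime]

/-- if `a` acts quadratically on the normal `p`-subgroup `V ≤ Q`, the commutator part of an abelian
`p'`-subgroup of `G ⧸ Q` acts on `V` as a `p`-group -/
theorem unipotent_of_quadratic (hp2 : p ≠ 2) (Q : Subgroup G) [hQn : Q.Normal]
    (hQp : IsPGroup p Q)
    (Kb : Subgroup (G ⧸ Q)) (habK : ∀ x ∈ Kb, ∀ y ∈ Kb, x * y = y * x)
    (hKcop : (Nat.card ↥Kb).Coprime p) (a : G)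
    (haK : ∀ k ∈ Kb, (QuotientGroup.mk' Q a) * k * (QuotientGroup.mk' Q a)⁻¹ ∈ Kb)
    (hap : ∀ k ∈ Kb, (QuotientGroup.mk' Q a) ^ p * k * ((QuotientGroup.mk' Q a) ^ p)⁻¹ = k) :
    ∀ n : ℕ, ∀ V : Subgroup G, V.Normal → V ≤ Q → Nat.card V = n →
      (∀ v ∈ V, a * (a * v * a⁻¹ * v⁻¹) * a⁻¹ = a * v * a⁻¹ * v⁻¹) →
      ∀ x : G, QuotientGroup.mk' Q x ∈ commPart Kb (QuotientGroup.mk' Q a) habK haK →
        ∃ N : ℕ, ∀ v ∈ V, x ^ (p ^ N) * v = v * x ^ (p ^ N) := by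
  intro n
  induction n using Nat.strong_induction_on with
  | _ n ih =>
  intro V hVn hVQ hcard hquad x hx
  by_cases hV1 : V = ⊥
  · refine ⟨0, ?_⟩
    intro v hv
    rw [hV1, Subgroup.mem_bot] at hv
    rw [hv, mul_one, one_mul]
  let 𝒮 : Set (Subgroup G) := {Y | Y.Normal ∧ Y < V}
  have hne : 𝒮.Nonempty := ⟨⊥, inferInstance, bot_lt_iff_ne_bot.mpr hV1⟩
  obtain ⟨W, ⟨hWn, hWlt⟩, hWmax⟩ :=
    Set.exists_max_image 𝒮 (fun Y => Nat.card ↥Y) (Set.toFinite _) hne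
  haveI := hWn
  have hsurj : Function.Surjective (QuotientGroup.mk' W) := QuotientGroup.mk'_surjective W
  have hUhn : (V.map (QuotientGroup.mk' W)).Normal := hVn.map _ hsurj
  have hQhn : (Q.map (QuotientGroup.mk' W)).Normal := hQn.map _ hsurj
  have hQhp : IsPGroup p (Q.map (QuotientGroup.mk' W)) := hQp.map _
  have hUQ : V.map (QuotientGroup.mk' W) ≤ Q.map (QuotientGroup.mk' W) := Subgroup.map_mono hVQ
  have hmin : ∀ Y : Subgroup (G ⧸ W), Y.Normal → Y ≤ V.map (QuotientGroup.mk' W) →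
      Y = ⊥ ∨ Y = V.map (QuotientGroup.mk' W) := by
    intro Y hYn hYU
    have hY₀n : (Y.comap (QuotientGroup.mk' W)).Normal := hYn.comap _
    have hWY₀ : W ≤ Y.comap (QuotientGroup.mk' W) := by
      intro w hw
      show QuotientGroup.mk' W w ∈ Y
      have : QuotientGroup.mk' W w = 1 := (QuotientGroup.eq_one_iff w).mpr hw
      rw [this]; exact Y.one_mem
    have hY₀V : Y.comap (QuotientGroup.mk' W) ≤ V := by
      intro y hy
      have h1 : QuotientGroup.mk' W y ∈ V.map (QuotientGroup.mk' W) := hYU hy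
      obtain ⟨v, hv, hvy⟩ := Subgroup.mem_map.mp h1
      have h2 : v⁻¹ * y ∈ W := QuotientGroup.eq.mp hvy
      have : y = v * (v⁻¹ * y) := by group
      rw [this]; exact V.mul_mem hv (hWlt.le h2)
    have hmap : (Y.comap (QuotientGroup.mk' W)).map (QuotientGroup.mk' W) = Y :=
      Subgroup.map_comap_eq_self_of_surjective hsurj Y
    by_cases hYV : Y.comap (QuotientGroup.mk' W) = V
    · right; rw [← hmap, hYV]
    · left
      have hlt : Y.comap (QuotientGroup.mk' W) < V := lt_of_le_of_ne hY₀V hYV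
      have hc := hWmax _ ⟨hY₀n, hlt⟩
      have hYW : Y.comap (QuotientGroup.mk' W) = W := (Subgroup.eq_of_le_of_card_ge hWY₀ hc).symm
      rw [← hmap, hYW, eq_bot_iff]
      rintro _ ⟨w, hw, rfl⟩
      exact Subgroup.mem_bot.mpr ((QuotientGroup.eq_one_iff w).mpr hw)
  have hcent := minimal_normal_central _ _ hQhp hUQ hmin
  have hexp := minimal_normal_exponent _ _ hQhp hUQ hmin
  haveI : IsMulCommutative ↥(V.map (QuotientGroup.mk' W)) :=
    IsMulCommutative.of_comm (fun u w => Subtype.ext (hcent w.1 w.2 u.1 (hUQ u.2)))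
  let θG : G →* MulAut ↥(V.map (QuotientGroup.mk' W)) :=
    (MulAut.conjNormal (H := V.map (QuotientGroup.mk' W))).comp (QuotientGroup.mk' W)
  have hker : Q ≤ θG.ker := by
    intro y hy
    rw [MonoidHom.mem_ker]
    ext u
    show ((MulAut.conjNormal (QuotientGroup.mk' W y) u : ↥(V.map (QuotientGroup.mk' W))) : G ⧸ W)
      = (u : G ⧸ W)
    rw [MulAut.conjNormal_apply]
    have h1 := hcent u.1 u.2 (QuotientGroup.mk' W y) (Subgroup.mem_map_of_mem _ hy)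
    rw [h1]; group
  let θ : G ⧸ Q →* MulAut ↥(V.map (QuotientGroup.mk' W)) := QuotientGroup.lift Q θG hker
  have hθ : ∀ (g : G) (u : ↥(V.map (QuotientGroup.mk' W))),
      ((θ (QuotientGroup.mk' Q g) u : ↥(V.map (QuotientGroup.mk' W))) : G ⧸ W) =
        QuotientGroup.mk' W g * u * (QuotientGroup.mk' W g)⁻¹ := by
    intro g u
    show ((QuotientGroup.lift Q θG hker (QuotientGroup.mk g) u :
      ↥(V.map (QuotientGroup.mk' W))) : G ⧸ W) = _
    rw [QuotientGroup.lift_mk]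
    exact MulAut.conjNormal_apply _ _
  have hcop' : (Nat.card ↥(commPart Kb (QuotientGroup.mk' Q a) habK haK)).Coprime p :=
    Nat.Coprime.coprime_dvd_left (Subgroup.card_dvd_of_le commPart_le) hKcop
  have hquad' : ∀ u : ↥(V.map (QuotientGroup.mk' W)),
      θ (QuotientGroup.mk' Q a) (θ (QuotientGroup.mk' Q a) u * u⁻¹) =
        θ (QuotientGroup.mk' Q a) u * u⁻¹ := by
    intro u
    obtain ⟨v, hv, hvu⟩ := Subgroup.mem_map.mp u.2
    apply Subtype.ext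
    rw [hθ a, Subgroup.coe_mul, Subgroup.coe_inv, hθ a, ← hvu]
    have := congrArg (QuotientGroup.mk' W) (hquad v hv)
    simpa only [map_mul, map_inv] using this
  have hfp := fp_lemma (H := G ⧸ Q) (U := ↥(V.map (QuotientGroup.mk' W))) hp2
    (fun u => Subtype.ext (by rw [Subgroup.coe_pow]; exact hexp u.1 u.2)) θ
    (commPart Kb (QuotientGroup.mk' Q a) habK haK) hcop' (QuotientGroup.mk' Q a) commPart_conj
    (fun e he => hap e (commPart_le he)) (commPart_fpf hKcop hap) hquad'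
  have hxW : ∀ v ∈ V, x * v * x⁻¹ * v⁻¹ ∈ W := by
    intro v hv
    have h1 := hfp _ hx ⟨QuotientGroup.mk' W v, Subgroup.mem_map_of_mem _ hv⟩
    have h2 := congrArg Subtype.val h1
    rw [hθ x] at h2
    change QuotientGroup.mk' W x * QuotientGroup.mk' W v * (QuotientGroup.mk' W x)⁻¹ =
      QuotientGroup.mk' W v at h2
    apply (QuotientGroup.eq_one_iff _).mp
    show QuotientGroup.mk' W (x * v * x⁻¹ * v⁻¹) = 1
    rw [map_mul, map_mul, map_mul, map_inv, map_inv, h2, mul_inv_cancel]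
  have hpowW : ∀ m : ℕ, ∀ v ∈ V, x ^ m * v * (x ^ m)⁻¹ * v⁻¹ ∈ W := by
    intro m
    induction m with
    | zero => intro v hv; simp
    | succ m ihm =>
      intro v hv
      have h1 := hWn.conj_mem _ (ihm v hv) x
      have h2 := W.mul_mem h1 (hxW v hv)
      have e' : x ^ (m + 1) * v * (x ^ (m + 1))⁻¹ * v⁻¹ =
          x * (x ^ m * v * (x ^ m)⁻¹ * v⁻¹) * x⁻¹ * (x * v * x⁻¹ * v⁻¹) := by
        rw [pow_succ']; group
      rw [e']; exact h2
  have hWcard : Nat.card ↥W < n := by rw [← hcard]; exact card_lt_card_of_lt hWlt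
  obtain ⟨N₀, hN₀⟩ := ih _ hWcard W hWn (hWlt.le.trans hVQ) rfl
    (fun v hv => hquad v (hWlt.le hv)) x hx
  obtain ⟨e, he⟩ := IsPGroup.iff_card.mp (hQp.to_le (hWlt.le.trans hVQ))
  refine ⟨N₀ + e, ?_⟩
  intro v hv
  have hcW : ⁅x ^ (p ^ N₀), v⁆ ∈ W := by
    rw [commutatorElement_def]; exact hpowW _ v hv
  have hcomm : x ^ (p ^ N₀) * ⁅x ^ (p ^ N₀), v⁆ = ⁅x ^ (p ^ N₀), v⁆ * x ^ (p ^ N₀) :=
    hN₀ _ hcW
  have h1 := conj_pow_of_comm_commutator hcomm (p ^ e)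
  have h2 : ⁅x ^ (p ^ N₀), v⁆ ^ (p ^ e) = 1 := by
    have := pow_card_eq_one' (G := ↥W) (x := ⟨_, hcW⟩)
    rw [he] at this
    exact congrArg Subtype.val this
  rw [h2, one_mul, ← pow_mul, ← pow_add] at h1
  exact mul_inv_eq_iff_eq_mul.mp h1

/-- under quadratic action on a normal `p`-subgroup with centralizer inside `Q`, the acting element
centralizes the abelian `p'`-subgroup -/
theorem commPart_eq_bot_of_quadratic (hp2 : p ≠ 2) (Q : Subgroup G) [hQn : Q.Normal]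
    (hQp : IsPGroup p Q)
    (Kb : Subgroup (G ⧸ Q)) (habK : ∀ x ∈ Kb, ∀ y ∈ Kb, x * y = y * x)
    (hKcop : (Nat.card ↥Kb).Coprime p) (a : G)
    (haK : ∀ k ∈ Kb, (QuotientGroup.mk' Q a) * k * (QuotientGroup.mk' Q a)⁻¹ ∈ Kb)
    (hap : ∀ k ∈ Kb, (QuotientGroup.mk' Q a) ^ p * k * ((QuotientGroup.mk' Q a) ^ p)⁻¹ = k)
    (V : Subgroup G) (hVn : V.Normal) (hVQ : V ≤ Q)
    (hCV : Subgroup.centralizer (V : Set G) ≤ Q)
    (hquad : ∀ v ∈ V, a * (a * v * a⁻¹ * v⁻¹) * a⁻¹ = a * v * a⁻¹ * v⁻¹) :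
    ∀ k ∈ Kb, (QuotientGroup.mk' Q a) * k * (QuotientGroup.mk' Q a)⁻¹ = k := by
  rw [← commPart_eq_bot_iff (hab := habK) (hb := haK), eq_bot_iff]
  intro e he
  obtain ⟨x, rfl⟩ := QuotientGroup.mk'_surjective Q e
  obtain ⟨N, hN⟩ := unipotent_of_quadratic hp2 Q hQp Kb habK hKcop a haK hap _ V hVn hVQ rfl
    hquad x he
  have h1 : x ^ (p ^ N) ∈ Subgroup.centralizer (V : Set G) := by
    rw [Subgroup.mem_centralizer_iff]
    intro v hv
    exact (hN v hv).symm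
  have h2 : (QuotientGroup.mk' Q x) ^ (p ^ N) = 1 := by
    rw [← map_pow]; exact (QuotientGroup.eq_one_iff _).mpr (hCV h1)
  have heK : QuotientGroup.mk' Q x ∈ Kb := commPart_le he
  have h3 : orderOf (QuotientGroup.mk' Q x) ∣ Nat.card ↥Kb := by
    rw [← Subgroup.orderOf_mk _ heK]; exact orderOf_dvd_natCard _
  have h4 : orderOf (QuotientGroup.mk' Q x) = 1 :=
    Nat.eq_one_of_dvd_coprimes (Nat.Coprime.pow_right N hKcop) h3 (orderOf_dvd_of_pow_eq_one h2)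
  exact Subgroup.mem_bot.mpr (orderOf_eq_one_iff.mp h4)

end lemA

end Cfsg.Agent.Lib.Helper3
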