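import Mathlib
import Cfsg.Prelude
import Cfsg.Agent.Lib.Helper1.Fitting
import Cfsg.Agent.Lib.Helper3.Conj
import Cfsg.Agent.Lib.Helper3.NormAux
import Cfsg.Agent.Lib.Helper3.PQ
import Cfsg.Agent.Lib.Helper3.Subn

set_option autoImplicit false
open scoped commutatorElement

namespace Cfsg.Agent.Lib.Helper3

open Cfsg.Agent.Lib.Helper1

set_option linter.unusedSectionVars false
variable {G : Type*} [Group G] [Finite G]

/-- `O_{p'}(N_G(P))` as a subgroup of `G`. -/
abbrev normPPrimeCore (p : ℕ) (P : Subgroup G) : Subgroup G :=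
  (Cfsg.pPrimeCore p ↥(Subgroup.normalizer (P : Set G))).map
    (Subgroup.normalizer (P : Set G)).subtype

lemma normPPrimeCore_le_normalizer (p : ℕ) (P : Subgroup G) :
    normPPrimeCore p P ≤ Subgroup.normalizer (P : Set G) := by
  intro x hx
  obtain ⟨y, _, rfl⟩ := Subgroup.mem_map.mp hx
  exact y.2

lemma normPPrimeCore_coprime (p : ℕ) [Fact p.Prime] (P : Subgroup G) :
    (Nat.card ↥(normPPrimeCore p P)).Coprime p := by
  have h := pPrimeCore_coprime (G := ↥(Subgroup.normalizer (P : Set G))) p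
  have e : Nat.card ↥(normPPrimeCore p P) =
      Nat.card ↥(Cfsg.pPrimeCore p ↥(Subgroup.normalizer (P : Set G))) := by
    symm
    exact Nat.card_congr ((Cfsg.pPrimeCore p ↥(Subgroup.normalizer (P : Set G))).equivMapOfInjective _
      (Subgroup.subtype_injective _)).toEquiv
  rw [e]; exact h

lemma normalizer_le_normalizer_normPPrimeCore (p : ℕ) (P : Subgroup G) :
    Subgroup.normalizer (P : Set G) ≤ Subgroup.normalizer ((normPPrimeCore p P : Subgroup G) : Set G) := by
  have hn : (Cfsg.pPrimeCore p ↥(Subgroup.normalizer (P : Set G))).Normal := Cfsg.pPrimeCore_normal p _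
  have key : ∀ g ∈ Subgroup.normalizer (P : Set G), ∀ x ∈ normPPrimeCore p P,
      g * x * g⁻¹ ∈ normPPrimeCore p P := by
    intro g hg x hx
    obtain ⟨y, hy, rfl⟩ := Subgroup.mem_map.mp hx
    exact Subgroup.mem_map.mpr ⟨⟨g, hg⟩ * y * ⟨g, hg⟩⁻¹, hn.conj_mem y hy ⟨g, hg⟩, rfl⟩
  intro g hg
  apply mem_normalizer_of_conj_mem
  · exact key g hg
  · intro x hx
    have := key g⁻¹ (Subgroup.inv_mem _ hg) x hx
    simpa using this

/-- a `p`-subgroup and a subgroup of order prime to `p` meet trivially -/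
lemma inf_eq_bot_of_pgroup_coprime {p : ℕ} [Fact p.Prime] {A B : Subgroup G} (hA : IsPGroup p A)
    (hB : (Nat.card B).Coprime p) : A ⊓ B = ⊥ := by
  have h1 : IsPGroup p ↥(A ⊓ B : Subgroup G) := hA.to_le inf_le_left
  obtain ⟨k, hk⟩ := IsPGroup.iff_card.mp h1
  have h2 : Nat.card ↥(A ⊓ B : Subgroup G) ∣ Nat.card B := Subgroup.card_dvd_of_le inf_le_right
  have h3 : (Nat.card ↥(A ⊓ B : Subgroup G)).Coprime p := Nat.Coprime.coprime_dvd_left h2 hB
  rw [hk] at h3
  have hk0 : k = 0 := by
    by_contra hne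
    have : p ∣ p ^ k := dvd_pow_self p hne
    have h4 := Nat.Coprime.eq_one_of_dvd h3.symm this
    exact (Fact.out : p.Prime).one_lt.ne' h4
  rw [hk0, pow_zero] at hk
  exact Subgroup.card_eq_one.mp hk

/-- `O_{p'}(N_G(P))` centralizes the `p`-group `P`. -/
theorem normPPrimeCore_le_centralizer {p : ℕ} [Fact p.Prime] {P : Subgroup G} (hP : IsPGroup p P) :
    normPPrimeCore p P ≤ Subgroup.centralizer (P : Set G) := by
  intro w hw
  rw [Subgroup.mem_centralizer_iff]
  intro g hg
  have hgN : g ∈ Subgroup.normalizer (P : Set G) := Subgroup.le_normalizer hg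
  have hwN := normPPrimeCore_le_normalizer p P hw
  have h1 : ⁅w, g⁆ ∈ P := by
    rw [commutatorElement_def]
    have := conj_mem_of_mem_normalizer' hwN hg
    exact P.mul_mem this (P.inv_mem hg)
  have h2 : ⁅w, g⁆ ∈ normPPrimeCore p P := by
    rw [commutatorElement_def]
    have := conj_mem_of_mem_normalizer' (normalizer_le_normalizer_normPPrimeCore p P hgN)
      (Subgroup.inv_mem _ hw)
    have e : w * g * w⁻¹ * g⁻¹ = w * (g * w⁻¹ * g⁻¹) := by group
    rw [e]
    exact Subgroup.mul_mem _ hw this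
  have h3 : ⁅w, g⁆ ∈ (P ⊓ normPPrimeCore p P : Subgroup G) := ⟨h1, h2⟩
  rw [inf_eq_bot_of_pgroup_coprime hP (normPPrimeCore_coprime p P), Subgroup.mem_bot] at h3
  rw [commutatorElement_def] at h3
  have : w * g = g * w := by
    have e : w * g = (w * g * w⁻¹ * g⁻¹) * (g * w) := by group
    rw [e, h3, one_mul]
  exact this.symm

lemma orderOf_coprime_of_mem {p : ℕ} {B : Subgroup G} (hB : (Nat.card B).Coprime p) {w : G}
    (hw : w ∈ B) : (orderOf w).Coprime p := by
  have h1 : orderOf (⟨w, hw⟩ : B) ∣ Nat.card B := orderOf_dvd_natCard _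
  have h2 : orderOf (⟨w, hw⟩ : B) = orderOf w := Subgroup.orderOf_mk w hw
  rw [h2] at h1
  exact Nat.Coprime.coprime_dvd_left h1 hB

/-- `O_{p'}(N_G(P))` centralizes every normal `p`-subgroup of `G` (Thompson's `P × Q` lemma). -/
theorem normPPrimeCore_le_centralizer_normal {p : ℕ} [Fact p.Prime] {P : Subgroup G}
    (hP : IsPGroup p P) {V : Subgroup G} (hVn : V.Normal) (hV : IsPGroup p V) :
    normPPrimeCore p P ≤ Subgroup.centralizer (V : Set G) := by
  intro w hw
  have hwc := normPPrimeCore_le_centralizer hP hw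
  have hwo : (orderOf w).Coprime p := orderOf_coprime_of_mem (normPPrimeCore_coprime p P) hw
  refine pq_lemma_elem hP hwo hwc (Nat.card V) V le_rfl hV (le_normalizer_of_normal hVn P)
    (le_normalizer_of_normal hVn _ (Subgroup.mem_top w)) ?_
  rintro u ⟨huV, huC⟩
  have huC : u ∈ Subgroup.centralizer (P : Set G) := huC
  have huN : u ∈ Subgroup.normalizer (P : Set G) := Subgroup.centralizer_le_normalizer _ huC
  have h1 : ⁅w, u⁆ ∈ V := by
    rw [commutatorElement_def]
    exact V.mul_mem (hVn.conj_mem u huV w) (V.inv_mem huV)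
  have h2 : ⁅w, u⁆ ∈ normPPrimeCore p P := by
    rw [commutatorElement_def]
    have := conj_mem_of_mem_normalizer' (normalizer_le_normalizer_normPPrimeCore p P huN)
      (Subgroup.inv_mem _ hw)
    have e : w * u * w⁻¹ * u⁻¹ = w * (u * w⁻¹ * u⁻¹) := by group
    rw [e]
    exact Subgroup.mul_mem _ hw this
  have h3 : ⁅w, u⁆ ∈ (V ⊓ normPPrimeCore p P : Subgroup G) := ⟨h1, h2⟩
  rw [inf_eq_bot_of_pgroup_coprime hV (normPPrimeCore_coprime p P), Subgroup.mem_bot] at h3
  rw [commutatorElement_def] at h3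
  have e : w * u = (w * u * w⁻¹ * u⁻¹) * (u * w) := by group
  rw [e, h3, one_mul]

/-- a `p'`-subgroup `V` of `N_G(P)` which is normalized by a normal subgroup `C ≥ V` of `N_G(P)`
lies in `O_{p'}(N_G(P))`. -/
theorem le_normPPrimeCore_of_two_step {p : ℕ} [Fact p.Prime] {P V C : Subgroup G}
    (hVC : V ≤ C) (hCN : C ≤ Subgroup.normalizer (P : Set G))
    (hCn : Subgroup.normalizer (P : Set G) ≤ Subgroup.normalizer (C : Set G))
    (hCV : C ≤ Subgroup.normalizer (V : Set G)) (hV : (Nat.card V).Coprime p) :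
    V ≤ normPPrimeCore p P := by
  set K := Subgroup.normalizer (P : Set G) with hK
  have hC' : (C.subgroupOf K).Normal := by
    constructor
    intro c hc k
    rw [Subgroup.mem_subgroupOf] at hc ⊢
    exact conj_mem_of_mem_normalizer' (hCn k.2) hc
  have hCs : (C.subgroupOf K).IsSubnormal := hC'.isSubnormal
  have hle : V.subgroupOf K ≤ C.subgroupOf K := by
    intro x hx
    rw [Subgroup.mem_subgroupOf] at hx ⊢
    exact hVC hx
  have hVs : (V.subgroupOf K).IsSubnormal := by
    refine Subgroup.IsSubnormal.step _ _ hle hCs ?_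
    constructor
    intro v hv c
    rw [Subgroup.mem_subgroupOf] at hv ⊢
    rw [Subgroup.mem_subgroupOf] at hv
    have hc : ((c : ↥K) : G) ∈ C := c.2
    exact conj_mem_of_mem_normalizer' (hCV hc) hv
  have hVK : V ≤ K := hVC.trans hCN
  have hcard : (Nat.card ↥(V.subgroupOf K)).Coprime p := by
    rw [Nat.card_congr (Subgroup.subgroupOfEquivOfLe hVK).toEquiv]; exact hV
  have h := subnormal_pprime_le_pPrimeCore p hVs hcard
  intro v hv
  exact Subgroup.mem_map.mpr ⟨⟨v, hVK hv⟩, h (by rw [Subgroup.mem_subgroupOf]; exact hv), rfl⟩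

/-- enlarging `P` inside its centralizer: if `P ≤ Q` and `O_{p'}(N_G(P))` centralizes `Q`, then
`O_{p'}(N_G(P)) ≤ O_{p'}(N_G(Q))`. -/
theorem normPPrimeCore_le_of_le_centralizer {p : ℕ} [Fact p.Prime] {P Q : Subgroup G}
    (hPQ : P ≤ Q) (hc : normPPrimeCore p P ≤ Subgroup.centralizer (Q : Set G)) :
    normPPrimeCore p P ≤ normPPrimeCore p Q := by
  apply le_normPPrimeCore_of_two_step (C := Subgroup.centralizer (Q : Set G)) hc
    (Subgroup.centralizer_le_normalizer _) (normalizer_le_normalizer_centralizer Q) ?_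
    (normPPrimeCore_coprime p P)
  calc Subgroup.centralizer (Q : Set G) ≤ Subgroup.centralizer (P : Set G) :=
        Subgroup.centralizer_le (by exact_mod_cast hPQ)
    _ ≤ Subgroup.normalizer (P : Set G) := Subgroup.centralizer_le_normalizer _
    _ ≤ _ := normalizer_le_normalizer_normPPrimeCore p P

end Cfsg.Agent.Lib.Helper3
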