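import Mathlib
import Cfsg.Prelude.Def_PLocal
import Cfsg.Agent.Lib.Helper3.ZJ

set_option autoImplicit false
set_option linter.unusedSectionVars false
set_option linter.style.haveILetI false
open scoped commutatorElement
open Cfsg.Agent.Lib.Helper1

namespace Cfsg.Agent.Lib.Helper3

section zj2
variable {G : Type*} [Group G] [Finite G]

/-- the end of the proof of the ZJ-theorem: a maximal member normalized by `B` contains `B` -/
theorem le_of_normalizes {p : ℕ} [Fact p.Prime] (e : ℕ) (P : Sylow p G)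
    (B : Subgroup G) [B.Normal] (hBp : IsPGroup p B)
    (hstB : ∀ a ∈ (P : Subgroup G), ⁅⁅B, Subgroup.zpowers a⁆, Subgroup.zpowers a⁆ = ⊥ →
      (QuotientGroup.mk a : G ⧸ Subgroup.centralizer (B : Set G)) ∈
        Cfsg.pCore p (G ⧸ Subgroup.centralizer (B : Set G)))
    (hcl : Subgroup.normalClosure ((zq e (P : Subgroup G) ⊓ B : Subgroup G) : Set G) = B)
    (A : Subgroup G) (hA : A ∈ maxFam (QE e) (P : Subgroup G))
    (hBNA : B ≤ Subgroup.normalizer (A : Set G)) : B ≤ A := by
  classical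
  set C := Subgroup.centralizer (B : Set G) with hC
  set L : Subgroup G := (Cfsg.pCore p (G ⧸ C)).comap (QuotientGroup.mk' C) with hL
  have hLn : L.Normal := (pCore_normal' (G := G ⧸ C) p).comap _
  have hAab : IsAb A := hA.2.1.1
  have hAL : A ≤ L := by
    intro a ha
    have hquad : ⁅⁅B, Subgroup.zpowers a⁆, Subgroup.zpowers a⁆ = ⊥ := by
      have hzA : Subgroup.zpowers a ≤ A := Subgroup.zpowers_le.mpr ha
      have h1 : ⁅B, Subgroup.zpowers a⁆ ≤ A := by
        rw [Subgroup.commutator_le]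
        intro x hx z hz
        have hzA' := hzA hz
        have : x * z * x⁻¹ ∈ A := conj_mem_of_mem_normalizer' (hBNA hx) hzA'
        have e' : ⁅x, z⁆ = (x * z * x⁻¹) * z⁻¹ := by simp only [commutatorElement_def]
        rw [e']; exact A.mul_mem this (A.inv_mem hzA')
      rw [Subgroup.commutator_eq_bot_iff_le_centralizer]
      refine h1.trans ?_
      intro w hw
      rw [Subgroup.mem_centralizer_iff]
      intro z hz
      exact hAab z (hzA hz) w hw
    exact hstB a (hA.1 ha) hquad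
  set R : Subgroup G := (P : Subgroup G) ⊓ L with hR
  have hAR : A ≤ R := le_inf hA.1 hAL
  have hCL : C ≤ L := by
    intro c hc
    show QuotientGroup.mk' C c ∈ Cfsg.pCore p (G ⧸ C)
    have : QuotientGroup.mk' C c = 1 := (QuotientGroup.eq_one_iff c).mpr hc
    rw [this]; exact one_mem _
  have hLRC : L ≤ Subgroup.normalizer (R : Set G) ⊔ C := by
    intro l hl
    let P' := P.mapSurjective (QuotientGroup.mk'_surjective C)
    have h1 : QuotientGroup.mk' C l ∈ (P' : Subgroup (G ⧸ C)) := pCore_le_sylow P' hl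
    rw [Sylow.coe_mapSurjective] at h1
    obtain ⟨x, hx, hxl⟩ := Subgroup.mem_map.mp h1
    have hc : x⁻¹ * l ∈ C := QuotientGroup.eq.mp hxl
    have hxL : x ∈ L := by
      have e' : x = l * (x⁻¹ * l)⁻¹ := by group
      rw [e']; exact L.mul_mem hl (L.inv_mem (hCL hc))
    have e' : l = x * (x⁻¹ * l) := by group
    rw [e']
    exact Subgroup.mul_mem _
      ((le_sup_left : Subgroup.normalizer (R : Set G) ≤ _)
        (Subgroup.le_normalizer (Subgroup.mem_inf.mpr ⟨hx, hxL⟩)))
      ((le_sup_right : C ≤ Subgroup.normalizer (R : Set G) ⊔ C) hc)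
  obtain ⟨Q, hQ⟩ := Cfsg.Agent.S0542.result p L hLn.isSubnormal P
  have hfr := Sylow.normalizer_sup_eq_top Q
  rw [hQ, Subgroup.subgroupOf_map_subtype] at hfr
  have hG : Subgroup.normalizer (R : Set G) ⊔ C = ⊤ := by
    rw [eq_top_iff, ← hfr]
    exact sup_le le_sup_left hLRC
  set Z₁ := zq e R with hZ₁
  have hZ1n : (Z₁ ⊓ B).Normal := by
    rw [← Subgroup.normalizer_eq_top_iff, eq_top_iff, ← hG]
    refine sup_le ?_ ?_
    · have h1 : Subgroup.normalizer (R : Set G) ≤ Subgroup.normalizer ((Z₁ : Subgroup G) : Set G) :=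
        normalizer_le_normalizer_zq e R
      have h2 : Subgroup.normalizer (R : Set G) ≤ Subgroup.normalizer (B : Set G) :=
        le_normalizer_of_normal (inferInstance : B.Normal) _
      exact (le_inf h1 h2).trans (normalizer_inf_normalizer_le Z₁ B)
    · intro c hc
      have hcomm : ∀ x ∈ Z₁ ⊓ B, c * x * c⁻¹ = x := by
        intro x hx
        have := Subgroup.mem_centralizer_iff.mp hc x (Subgroup.mem_inf.mp hx).2
        rw [← this]; group
      refine mem_normalizer_of_conj_mem (fun x hx => by rw [hcomm x hx]; exact hx)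
        (fun x hx => ?_)
      have : c⁻¹ * x * c = x := by
        have := hcomm x hx
        calc c⁻¹ * x * c = c⁻¹ * (c * x * c⁻¹) * c := by rw [this]
          _ = x := by group
      rw [this]; exact hx
  have hZZ1 : zq e (P : Subgroup G) ≤ Z₁ := zq_le_zq_of_le inf_le_left hA hAR
  have hBZ1 : B ≤ Z₁ := by
    have : Subgroup.normalClosure ((zq e (P : Subgroup G) ⊓ B : Subgroup G) : Set G) ≤ Z₁ ⊓ B :=
      Subgroup.normalClosure_le_normal (N := Z₁ ⊓ B)
        (SetLike.coe_subset_coe.mpr (le_inf (inf_le_left.trans hZZ1) inf_le_right))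
    rw [hcl] at this
    exact this.trans inf_le_left
  have hARfam : A ∈ maxFam (QE e) R := maxFam_of_le inf_le_left hA hAR
  have hBcA : B ≤ Subgroup.centralizer (A : Set G) :=
    (hBZ1.trans (zq_le_centralizer e R)).trans (Subgroup.centralizer_le (le_jq hARfam))
  have hBq : QE e B := (zq_qe e R).mono hBZ1
  have hBP : B ≤ P := (le_pCore B inferInstance hBp).trans (pCore_le_sylow P)
  exact le_of_mem_maxFam_of_qe hA hBP hBq (le_centralizer_symm' hBcA)

/-- the core of Glauberman's ZJ-theorem -/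
theorem zq_inf_normal {p : ℕ} [Fact p.Prime] (hp : p ≠ 2) (e : ℕ) (P : Sylow p G)
    (hst : ∀ (V : Subgroup G) [V.Normal], IsPGroup p V → ∀ a ∈ (P : Subgroup G),
      ⁅⁅V, Subgroup.zpowers a⁆, Subgroup.zpowers a⁆ = ⊥ →
      (QuotientGroup.mk a : G ⧸ Subgroup.centralizer (V : Set G)) ∈
        Cfsg.pCore p (G ⧸ Subgroup.centralizer (V : Set G))) :
    ∀ (n : ℕ) (B : Subgroup G), B.Normal → IsPGroup p B → Nat.card B = n →
      (zq e (P : Subgroup G) ⊓ B).Normal := by
  intro n
  induction n using Nat.strong_induction_on with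
  | _ n ih =>
  intro B hBn hBp hcard
  haveI := hBn
  by_contra hcon
  set Z := zq e (P : Subgroup G) with hZ
  have hPZ : (P : Subgroup G) ≤ Subgroup.normalizer (Z : Set G) :=
    le_trans Subgroup.le_normalizer (normalizer_le_normalizer_zq e (P : Subgroup G))
  have hBP : B ≤ P := (le_pCore B hBn hBp).trans (pCore_le_sylow P)
  have hcl : Subgroup.normalClosure ((Z ⊓ B : Subgroup G) : Set G) = B := by
    by_contra hne
    have hle : Subgroup.normalClosure ((Z ⊓ B : Subgroup G) : Set G) ≤ B :=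
      Subgroup.normalClosure_le_normal (SetLike.coe_subset_coe.mpr inf_le_right)
    have hlt := lt_of_le_of_ne hle hne
    have hcardlt : Nat.card (Subgroup.normalClosure ((Z ⊓ B : Subgroup G) : Set G)) < n := by
      rw [← hcard]; exact card_lt_card_of_lt hlt
    have hN := ih _ hcardlt _ Subgroup.normalClosure_normal (hBp.to_le hle) rfl
    have heq : Z ⊓ Subgroup.normalClosure ((Z ⊓ B : Subgroup G) : Set G) = Z ⊓ B :=
      le_antisymm (inf_le_inf_left _ hle) (le_inf inf_le_left Subgroup.le_normalClosure)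
    rw [heq] at hN
    exact hcon hN
  have hBne : B ≠ ⊥ := by
    intro hB
    apply hcon
    rw [hB, inf_bot_eq]
    infer_instance
  have hder_lt : ⁅B, B⁆ < B := commutator_lt_of_pgroup hBp hBp Subgroup.le_normalizer hBne
  have hW : (Z ⊓ ⁅B, B⁆).Normal :=
    ih _ (by rw [← hcard]; exact card_lt_card_of_lt hder_lt) ⁅B, B⁆ inferInstance
      (hBp.to_le hder_lt.le) rfl
  have h3 : ∀ x ∈ Z ⊓ B, ∀ y ∈ B, ⁅x, y⁆ ∈ Z ⊓ ⁅B, B⁆ := by
    intro x hx y hy
    obtain ⟨hxZ, hxB⟩ := Subgroup.mem_inf.mp hx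
    refine Subgroup.mem_inf.mpr ⟨?_, Subgroup.commutator_mem_commutator hxB hy⟩
    have h1 : y * x⁻¹ * y⁻¹ ∈ Z := conj_mem_of_mem_normalizer' (hPZ (hBP hy)) (Z.inv_mem hxZ)
    have e' : ⁅x, y⁆ = x * (y * x⁻¹ * y⁻¹) := by simp only [commutatorElement_def]; group
    rw [e']; exact Z.mul_mem hxZ h1
  have hBK : B ≤ commKernel B (Z ⊓ ⁅B, B⁆) hW := by
    haveI hKn := commKernel_normal hBn hW
    have : Subgroup.normalClosure ((Z ⊓ B : Subgroup G) : Set G) ≤
        commKernel B (Z ⊓ ⁅B, B⁆) hW :=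
      Subgroup.normalClosure_le_normal (fun x hx => h3 x hx)
    rwa [hcl] at this
  have hderZ : ⁅B, B⁆ ≤ Z := by
    rw [Subgroup.commutator_le]
    intro x hx y hy
    exact (Subgroup.mem_inf.mp (hBK hx y hy)).1
  obtain ⟨U, hU, hnBU⟩ : ∃ U ∈ maxFam (QE e) (P : Subgroup G), ¬ B ≤ U := by
    by_contra hall
    push Not at hall
    apply hcon
    have hBZ : B ≤ Z := by
      obtain ⟨A₀, hA₀⟩ := maxFam_nonempty e (P : Subgroup G)
      have hBJ : B ≤ jq e (P : Subgroup G) := (hall A₀ hA₀).trans (le_jq hA₀)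
      have hBC : B ≤ Subgroup.centralizer (jq e (P : Subgroup G) : Set G) := by
        apply le_centralizer_symm'
        unfold jq
        refine sSup_le ?_
        intro A hA a ha
        rw [Subgroup.mem_centralizer_iff]
        intro y hy
        exact hA.2.1.1 y (hall A hA hy) a ha
      intro x hx
      exact mem_zq (hBJ hx) (hBC hx) ((hA₀.2.1).2 x (hall A₀ hA₀ hx))
    rw [inf_eq_right.mpr hBZ]
    exact hBn
  obtain ⟨A, hA, -, hnBA, hBNA⟩ := replacement_in_subgroup hp e (P : Subgroup G) P.isPGroup' B hBP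
    U hU (hderZ.trans (zq_le_of_mem hU)) hnBU
  exact hnBA (le_of_normalizes e P B hBp (fun a ha hq => hst B hBp a ha hq) hcl A hA hBNA)

/-- if `C_G(O_p(G)) ≤ O_p(G)`, quadratic `p`-stability puts `zq e P` inside `O_p(G)` -/
theorem zq_le_pCore {p : ℕ} [Fact p.Prime] (e : ℕ) (P : Sylow p G)
    (hc : Subgroup.centralizer (Cfsg.pCore p G : Set G) ≤ Cfsg.pCore p G)
    (hst : ∀ a ∈ (P : Subgroup G),
      ⁅⁅Cfsg.pCore p G, Subgroup.zpowers a⁆, Subgroup.zpowers a⁆ = ⊥ →
      (QuotientGroup.mk a : G ⧸ Subgroup.centralizer (Cfsg.pCore p G : Set G)) ∈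
        Cfsg.pCore p (G ⧸ Subgroup.centralizer (Cfsg.pCore p G : Set G))) :
    zq e (P : Subgroup G) ≤ Cfsg.pCore p G := by
  have hBpg : IsPGroup p (Cfsg.pCore p G) := pCore_isPGroup
  set Z := zq e (P : Subgroup G) with hZ
  have hPZ : (P : Subgroup G) ≤ Subgroup.normalizer (Z : Set G) :=
    le_trans Subgroup.le_normalizer (normalizer_le_normalizer_zq e (P : Subgroup G))
  intro z hz
  have hzP : z ∈ (P : Subgroup G) := ((zq_le_jq e _).trans (jq_le e _)) hz
  have hquad : ⁅⁅Cfsg.pCore p G, Subgroup.zpowers z⁆, Subgroup.zpowers z⁆ = ⊥ := by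
    have hzZ : Subgroup.zpowers z ≤ Z := Subgroup.zpowers_le.mpr hz
    have h1 : ⁅Cfsg.pCore p G, Subgroup.zpowers z⁆ ≤ Z := by
      rw [Subgroup.commutator_le]
      intro x hx w hw
      have hwZ := hzZ hw
      have : x * w * x⁻¹ ∈ Z := conj_mem_of_mem_normalizer' (hPZ (pCore_le_sylow P hx)) hwZ
      have e' : ⁅x, w⁆ = (x * w * x⁻¹) * w⁻¹ := by simp only [commutatorElement_def]
      rw [e']; exact Z.mul_mem this (Z.inv_mem hwZ)
    rw [Subgroup.commutator_eq_bot_iff_le_centralizer]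
    refine h1.trans ?_
    intro w hw
    rw [Subgroup.mem_centralizer_iff]
    intro y hy
    exact zq_isAb e _ y (hzZ hy) w hw
  have hmem := hst z hzP hquad
  set C := Subgroup.centralizer (Cfsg.pCore p G : Set G) with hC
  set L : Subgroup G := (Cfsg.pCore p (G ⧸ C)).comap (QuotientGroup.mk' C) with hL
  have hLn : L.Normal := (pCore_normal' (G := G ⧸ C) p).comap _
  have hLp : IsPGroup p L := by
    intro l
    have hl : QuotientGroup.mk' C (l : G) ∈ Cfsg.pCore p (G ⧸ C) := l.2
    obtain ⟨k, hk⟩ := (pCore_isPGroup (G := G ⧸ C) (p := p)) ⟨_, hl⟩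
    have hk' : (QuotientGroup.mk' C (l : G)) ^ (p ^ k) = 1 := by
      have := congrArg Subtype.val hk
      simpa using this
    have h1 : (l : G) ^ (p ^ k) ∈ C := by
      rw [← QuotientGroup.eq_one_iff]
      rw [← map_pow] at hk'
      exact hk'
    obtain ⟨m, hm⟩ := hBpg ⟨(l : G) ^ (p ^ k), hc h1⟩
    have hm' : ((l : G) ^ (p ^ k)) ^ (p ^ m) = 1 := by
      have := congrArg Subtype.val hm
      simpa using this
    refine ⟨k + m, ?_⟩
    apply Subtype.ext
    rw [Subgroup.coe_pow, pow_add, pow_mul, hm']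
    rfl
  exact le_pCore L hLn hLp hmem

/-- Glauberman's ZJ-theorem for the families `QE e` -/
theorem zq_characteristic {p : ℕ} [Fact p.Prime] (hp : p ≠ 2) (e : ℕ)
    (hc : Subgroup.centralizer (Cfsg.pCore p G : Set G) ≤ Cfsg.pCore p G)
    (hst : ∀ (P : Subgroup G) [P.Normal], IsPGroup p P → Cfsg.IsPStableOn p P) (S : Sylow p G) :
    (zq e (S : Subgroup G)).Characteristic := by
  haveI hBn : (Cfsg.pCore p G).Normal := pCore_normal' p
  have hBpg : IsPGroup p (Cfsg.pCore p G) := pCore_isPGroup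
  have hZle : zq e (S : Subgroup G) ≤ Cfsg.pCore p G :=
    zq_le_pCore e S hc (fun a _ hq => hst (Cfsg.pCore p G) hBpg a hq)
  have hZn : (zq e (S : Subgroup G)).Normal := by
    have := zq_inf_normal hp e S (fun V _ hV a _ hq => hst V hV a hq) _ (Cfsg.pCore p G) hBn hBpg rfl
    rwa [inf_eq_left.mpr hZle] at this
  rw [Subgroup.characteristic_iff_map_eq]
  intro φ
  rw [zq_map_equiv]
  let S' : Sylow p G := S.mapSurjective (f := φ.toMonoidHom) φ.surjective
  obtain ⟨g, hg⟩ := MulAction.exists_smul_eq G S S'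
  have h1 : (S : Subgroup G).map φ.toMonoidHom = (S : Subgroup G).map (MulAut.conj g).toMonoidHom := by
    have h2 : ((g • S : Sylow p G) : Subgroup G) = (S' : Subgroup G) := by rw [hg]
    have h3 : (S' : Subgroup G) = (S : Subgroup G).map φ.toMonoidHom := rfl
    rw [← h3, ← h2]
    rfl
  rw [h1, ← zq_map_equiv]
  exact Subgroup.normal_iff_map_conj_eq.mp hZn g

end zj2

end Cfsg.Agent.Lib.Helper3
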