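import Mathlib
import Cfsg.Prelude.Def_PLocal
import Cfsg.Agent.Lib.Helper3.ZJ2

set_option autoImplicit false
set_option linter.unusedSectionVars false
open scoped commutatorElement

namespace Cfsg.Agent.Lib.Helper3

section zj3
variable {G : Type*} [Group G]

lemma thompsonSubgroupAOf_eq (P : Subgroup G) : Cfsg.thompsonSubgroupAOf P = jq 0 P := by
  unfold Cfsg.thompsonSubgroupAOf Cfsg.thompsonSubgroupA jq
  rw [(Subgroup.gc_map_comap P.subtype).l_sSup, ← sSup_image, image_maxAbelian_eq]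

lemma centerThompsonAOf_eq (P : Subgroup G) : Cfsg.centerThompsonAOf P = zq 0 P := by
  unfold Cfsg.centerThompsonAOf zq
  rw [thompsonSubgroupAOf_eq]
  have : {x | x ∈ jq 0 P ⊓ Subgroup.centralizer (jq 0 P : Set G) ∧ x ^ 0 = 1} =
      ((jq 0 P ⊓ Subgroup.centralizer (jq 0 P : Set G) : Subgroup G) : Set G) := by
    ext x; simp
  rw [this, Subgroup.closure_eq]

lemma thompsonSubgroup_map_eq (p : ℕ) (P : Subgroup G) :
    (Cfsg.thompsonSubgroup p ↥P).map P.subtype = jq p P := by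
  unfold Cfsg.thompsonSubgroup jq
  rw [(Subgroup.gc_map_comap P.subtype).l_sSup, ← sSup_image, image_maxElAb_eq]

lemma omegaCenterThompson_map_eq (p : ℕ) (P : Subgroup G) :
    (Cfsg.omegaCenterThompson p ↥P).map P.subtype = zq p P := by
  unfold Cfsg.omegaCenterThompson Cfsg.omegaOne zq
  rw [MonoidHom.map_closure]
  congr 1
  have hJ := thompsonSubgroup_map_eq p P
  ext y
  constructor
  · rintro ⟨x, ⟨hx, hxp⟩, rfl⟩
    obtain ⟨hxJ, hxC⟩ := Subgroup.mem_inf.mp hx
    refine ⟨Subgroup.mem_inf.mpr ⟨?_, ?_⟩, ?_⟩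
    · rw [← hJ]; exact Subgroup.mem_map_of_mem _ hxJ
    · rw [← hJ, Subgroup.mem_centralizer_iff]
      intro z hz
      obtain ⟨z', hz', rfl⟩ := Subgroup.mem_map.mp hz
      have := Subgroup.mem_centralizer_iff.mp hxC z' hz'
      rw [← map_mul, ← map_mul, this]
    · rw [← map_pow, hxp, map_one]
  · rintro ⟨hy, hyp⟩
    obtain ⟨hyJ, hyC⟩ := Subgroup.mem_inf.mp hy
    rw [← hJ] at hyJ
    obtain ⟨x, hx, rfl⟩ := Subgroup.mem_map.mp hyJ
    refine ⟨x, ⟨Subgroup.mem_inf.mpr ⟨hx, ?_⟩, ?_⟩, rfl⟩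
    · rw [Subgroup.mem_centralizer_iff]
      intro z' hz'
      have hzJ : P.subtype z' ∈ jq p P := by rw [← hJ]; exact Subgroup.mem_map_of_mem _ hz'
      have := Subgroup.mem_centralizer_iff.mp hyC _ hzJ
      apply Subtype.ext
      simpa using this
    · apply Subtype.ext
      simpa using hyp

end zj3

end Cfsg.Agent.Lib.Helper3
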