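import Mathlib
import Cfsg.Prelude.Def_PLocal
import Cfsg.Prelude.Def_Local
import Cfsg.Agent.Lib.Helper3.ZJ3
import Cfsg.Agent.Lib.Helper3.PConstr
import Cfsg.Agent.Lib.Helper3.CoreNorm

set_option autoImplicit false
set_option linter.unusedSectionVars false
set_option linter.style.haveILetI false
open scoped commutatorElement
open Cfsg.Agent.Lib.Helper1

namespace Cfsg.Agent.Lib.Helper3

section injOn
variable {G : Type*} [Group G] [Finite G] {H : Type*} [Group H]

/-- injectivity of `f` on the subgroup `P` -/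
def InjOnSub (f : G →* H) (P : Subgroup G) : Prop := ∀ x ∈ P, f x = 1 → x = 1

lemma InjOnSub.eq {f : G →* H} {P : Subgroup G} (hf : InjOnSub f P) {x y : G} (hx : x ∈ P)
    (hy : y ∈ P) (h : f x = f y) : x = y := by
  have h1 : x * y⁻¹ = 1 := hf _ (P.mul_mem hx (P.inv_mem hy)) (by rw [map_mul, map_inv, h, mul_inv_cancel])
  exact mul_inv_eq_one.mp h1

lemma qe_map_hom (f : G →* H) {e : ℕ} {A : Subgroup G} (hA : QE e A) : QE e (A.map f) := by
  constructor
  · intro x hx y hy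
    obtain ⟨a, ha, rfl⟩ := Subgroup.mem_map.mp hx
    obtain ⟨a', ha', rfl⟩ := Subgroup.mem_map.mp hy
    rw [← map_mul, ← map_mul, hA.1 a ha a' ha']
  · intro x hx
    obtain ⟨a, ha, rfl⟩ := Subgroup.mem_map.mp hx
    rw [← map_pow, hA.2 a ha, map_one]

lemma qe_comap_inf {f : G →* H} {P : Subgroup G} (hf : InjOnSub f P) {e : ℕ} {V : Subgroup H}
    (hV : QE e V) : QE e (V.comap f ⊓ P) := by
  constructor
  · intro x hx y hy
    obtain ⟨hxV, hxP⟩ := Subgroup.mem_inf.mp hx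
    obtain ⟨hyV, hyP⟩ := Subgroup.mem_inf.mp hy
    apply hf.eq (P.mul_mem hxP hyP) (P.mul_mem hyP hxP)
    rw [map_mul, map_mul]
    exact hV.1 _ hxV _ hyV
  · intro x hx
    obtain ⟨hxV, hxP⟩ := Subgroup.mem_inf.mp hx
    apply hf _ (P.pow_mem hxP e)
    rw [map_pow]
    exact hV.2 _ hxV

lemma map_comap_inf_eq {f : G →* H} {P : Subgroup G} {V : Subgroup H} (hV : V ≤ P.map f) :
    (V.comap f ⊓ P).map f = V := by
  apply le_antisymm
  · rintro y ⟨x, hx, rfl⟩
    exact (Subgroup.mem_inf.mp hx).1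
  · intro y hy
    obtain ⟨x, hxP, rfl⟩ := Subgroup.mem_map.mp (hV hy)
    exact Subgroup.mem_map.mpr ⟨x, Subgroup.mem_inf.mpr ⟨hy, hxP⟩, rfl⟩

lemma card_map_of_injOnSub {f : G →* H} {P A : Subgroup G} (hf : InjOnSub f P) (hA : A ≤ P) :
    Nat.card (A.map f) = Nat.card A := by
  have hinj : Function.Injective (f.comp A.subtype) := by
    intro x y hxy
    apply Subtype.ext
    exact hf.eq (hA x.2) (hA y.2) hxy
  have h1 := Subgroup.card_map_of_injective (K := (⊤ : Subgroup ↥A)) hinj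
  rw [Subgroup.card_top] at h1
  rw [← h1]
  congr 2
  rw [← Subgroup.map_map, ← MonoidHom.range_eq_map, Subgroup.range_subtype]

lemma maxFam_map_injOn {f : G →* H} {P : Subgroup G} (hf : InjOnSub f P) {e : ℕ}
    {A : Subgroup G} (hA : A ∈ maxFam (QE e) P) : A.map f ∈ maxFam (QE e) (P.map f) := by
  refine ⟨Subgroup.map_mono hA.1, qe_map_hom f hA.2.1, fun V hV hQV => ?_⟩
  have h1 := hA.2.2 (V.comap f ⊓ P) inf_le_right (qe_comap_inf hf hQV)
  rw [card_map_of_injOnSub hf hA.1]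
  calc Nat.card V = Nat.card ((V.comap f ⊓ P).map f) := by rw [map_comap_inf_eq hV]
    _ = Nat.card (V.comap f ⊓ P : Subgroup G) := card_map_of_injOnSub hf inf_le_right
    _ ≤ Nat.card A := h1

lemma maxFam_comap_injOn {f : G →* H} {P : Subgroup G} (hf : InjOnSub f P) {e : ℕ}
    {B : Subgroup H} (hB : B ∈ maxFam (QE e) (P.map f)) :
    (B.comap f ⊓ P) ∈ maxFam (QE e) P := by
  refine ⟨inf_le_right, qe_comap_inf hf hB.2.1, fun V hV hQV => ?_⟩
  have h1 := hB.2.2 (V.map f) (Subgroup.map_mono hV) (qe_map_hom f hQV)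
  rw [card_map_of_injOnSub hf hV] at h1
  calc Nat.card V ≤ Nat.card B := h1
    _ = Nat.card ((B.comap f ⊓ P).map f) := by rw [map_comap_inf_eq hB.1]
    _ = Nat.card (B.comap f ⊓ P : Subgroup G) := card_map_of_injOnSub hf inf_le_right

lemma jq_map_injOn {f : G →* H} {P : Subgroup G} (hf : InjOnSub f P) (e : ℕ) :
    (jq e P).map f = jq e (P.map f) := by
  unfold jq
  rw [(Subgroup.gc_map_comap f).l_sSup, ← sSup_image]
  congr 1
  ext B
  constructor
  · rintro ⟨A, hA, rfl⟩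
    exact maxFam_map_injOn hf hA
  · intro hB
    exact ⟨B.comap f ⊓ P, maxFam_comap_injOn hf hB, map_comap_inf_eq hB.1⟩

lemma zq_map_injOn {f : G →* H} {P : Subgroup G} (hf : InjOnSub f P) (e : ℕ) :
    (zq e P).map f = zq e (P.map f) := by
  have hJ := jq_map_injOn hf e
  unfold zq
  rw [MonoidHom.map_closure]
  congr 1
  ext y
  constructor
  · rintro ⟨x, ⟨hx, hxe⟩, rfl⟩
    obtain ⟨hxJ, hxC⟩ := Subgroup.mem_inf.mp hx
    refine ⟨Subgroup.mem_inf.mpr ⟨?_, ?_⟩, ?_⟩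
    · rw [← hJ]; exact Subgroup.mem_map_of_mem _ hxJ
    · rw [← hJ, Subgroup.mem_centralizer_iff]
      intro z hz
      obtain ⟨z', hz', rfl⟩ := Subgroup.mem_map.mp hz
      have := Subgroup.mem_centralizer_iff.mp hxC z' hz'
      rw [← map_mul, ← map_mul, this]
    · rw [← map_pow, hxe, map_one]
  · rintro ⟨hy, hye⟩
    obtain ⟨hyJ, hyC⟩ := Subgroup.mem_inf.mp hy
    rw [← hJ] at hyJ
    obtain ⟨x, hx, rfl⟩ := Subgroup.mem_map.mp hyJ
    have hxP : x ∈ P := jq_le e P hx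
    refine ⟨x, ⟨Subgroup.mem_inf.mpr ⟨hx, ?_⟩, ?_⟩, rfl⟩
    · rw [Subgroup.mem_centralizer_iff]
      intro z hz
      have hzP : z ∈ P := jq_le e P hz
      have hzJ : f z ∈ jq e (P.map f) := by rw [← hJ]; exact Subgroup.mem_map_of_mem _ hz
      have := Subgroup.mem_centralizer_iff.mp hyC _ hzJ
      apply hf.eq (P.mul_mem hzP hxP) (P.mul_mem hxP hzP)
      rw [map_mul, map_mul]; exact this
    · apply hf _ (P.pow_mem hxP e)
      rw [map_pow]; exact hye

end injOn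

section stable
variable {G : Type*} [Group G] [Finite G]

/-- the ZJ-theorem with stability only required of the elements of the Sylow subgroup -/
theorem zq_normal_of_stable {p : ℕ} [Fact p.Prime] (hp : p ≠ 2) (e : ℕ) (P : Sylow p G)
    (hc : Subgroup.centralizer (Cfsg.pCore p G : Set G) ≤ Cfsg.pCore p G)
    (hst : ∀ (V : Subgroup G) [V.Normal], IsPGroup p V → ∀ a ∈ (P : Subgroup G),
      ⁅⁅V, Subgroup.zpowers a⁆, Subgroup.zpowers a⁆ = ⊥ →
      (QuotientGroup.mk a : G ⧸ Subgroup.centralizer (V : Set G)) ∈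
        Cfsg.pCore p (G ⧸ Subgroup.centralizer (V : Set G))) :
    (zq e (P : Subgroup G)).Normal := by
  haveI hBn : (Cfsg.pCore p G).Normal := pCore_normal' p
  have hBpg : IsPGroup p (Cfsg.pCore p G) := pCore_isPGroup
  have hZle : zq e (P : Subgroup G) ≤ Cfsg.pCore p G :=
    zq_le_pCore e P hc (fun a ha hq => hst (Cfsg.pCore p G) hBpg a ha hq)
  have := zq_inf_normal hp e P hst _ (Cfsg.pCore p G) hBn hBpg rfl
  rwa [inf_eq_left.mpr hZle] at this

/-- `p`-stability (in the form with an acting `p`-subgroup) passes to `G / O_{p'}(G)` in the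
form needed by the ZJ-theorem -/
theorem stable_quotient {p : ℕ} [Fact p.Prime] (hs : Cfsg.IsPStable p G) (P : Sylow p G)
    (V : Subgroup (G ⧸ Cfsg.pPrimeCore p G)) [V.Normal] (hV : IsPGroup p V)
    (a' : G ⧸ Cfsg.pPrimeCore p G) (ha' : a' ∈ (P : Subgroup G).map (ppi p G))
    (hquad : ⁅⁅V, Subgroup.zpowers a'⁆, Subgroup.zpowers a'⁆ = ⊥) :
    (QuotientGroup.mk a' : (G ⧸ Cfsg.pPrimeCore p G) ⧸ Subgroup.centralizer (V : Set _)) ∈
      Cfsg.pCore p ((G ⧸ Cfsg.pPrimeCore p G) ⧸ Subgroup.centralizer (V : Set _)) := by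
  classical
  set K := Cfsg.pPrimeCore p G with hK
  haveI hKn : K.Normal := pPrimeCore_normal' p
  have hKc : (Nat.card K).Coprime p := pPrimeCore_coprime p
  obtain ⟨a, haP, rfl⟩ := Subgroup.mem_map.mp ha'
  set L : Subgroup G := V.comap (ppi p G) with hL
  haveI hLn : L.Normal := (inferInstance : V.Normal).comap _
  set P₀ : Subgroup G := (P : Subgroup G) ⊓ L with hP₀
  set A : Subgroup G := Subgroup.zpowers a with hA
  have hAP : A ≤ (P : Subgroup G) := Subgroup.zpowers_le.mpr haP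
  have hAp : IsPGroup p A := P.isPGroup'.to_le hAP
  have hP₀p : IsPGroup p P₀ := P.isPGroup'.to_le inf_le_left
  have hAP₀ : ∀ x ∈ A, ∀ y ∈ P₀, x * y * x⁻¹ ∈ P₀ := by
    intro x hx y hy
    obtain ⟨hyP, hyL⟩ := Subgroup.mem_inf.mp hy
    exact Subgroup.mem_inf.mpr ⟨(P : Subgroup G).mul_mem ((P : Subgroup G).mul_mem (hAP hx) hyP)
      ((P : Subgroup G).inv_mem (hAP hx)), hLn.conj_mem y hyL x⟩
  have hVle : V ≤ Cfsg.pCore p (G ⧸ K) := le_pCore V inferInstance hV
  have hπP₀ : P₀.map (ppi p G) = V := by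
    apply le_antisymm
    · rintro y ⟨x, hx, rfl⟩
      exact (Subgroup.mem_inf.mp hx).2
    · intro v hv
      let P' := P.mapSurjective (ppi_surjective (X := G) p)
      have h1 : v ∈ (P' : Subgroup (G ⧸ K)) := pCore_le_sylow P' (hVle hv)
      rw [Sylow.coe_mapSurjective] at h1
      obtain ⟨x, hxP, rfl⟩ := Subgroup.mem_map.mp h1
      exact Subgroup.mem_map.mpr ⟨x, Subgroup.mem_inf.mpr ⟨hxP, hv⟩, rfl⟩
  have hP₀le : P₀ ≤ Cfsg.pPrimePCore p G := by
    intro x hx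
    rw [mem_pPrimePCore_iff]
    exact hVle (Subgroup.mem_inf.mp hx).2
  have hKL : K ≤ L := by
    intro k hk
    show ppi p G k ∈ V
    have : ppi p G k = 1 := (QuotientGroup.eq_one_iff k).mpr hk
    rw [this]; exact one_mem _
  have hKP₀ : K ⊔ P₀ = L := by
    apply le_antisymm (sup_le hKL inf_le_right)
    intro x hx
    have hxV : ppi p G x ∈ V := hx
    rw [← hπP₀] at hxV
    obtain ⟨y, hy, hyx⟩ := Subgroup.mem_map.mp hxV
    have hk : y⁻¹ * x ∈ K := QuotientGroup.eq.mp hyx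
    have e' : x = y * (y⁻¹ * x) := by group
    rw [e']
    exact Subgroup.mul_mem _ ((le_sup_right : P₀ ≤ K ⊔ P₀) hy) ((le_sup_left : K ≤ K ⊔ P₀) hk)
  have hnorm : (K ⊔ P₀).Normal := by rw [hKP₀]; exact hLn
  have hPA : ⁅P₀, A⁆ ≤ P₀ := by
    rw [Subgroup.commutator_le]
    intro x hx y hy
    have := hAP₀ y hy x⁻¹ (P₀.inv_mem hx)
    have e' : ⁅x, y⁆ = x * (y * x⁻¹ * y⁻¹) := by simp only [commutatorElement_def]; group
    rw [e']; exact P₀.mul_mem hx this
  have hcomm : ⁅⁅P₀, A⁆, A⁆ = ⊥ := by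
    have h1 : ⁅⁅P₀, A⁆, A⁆ ≤ P₀ := (Subgroup.commutator_mono hPA le_rfl).trans hPA
    have h2 : (⁅⁅P₀, A⁆, A⁆).map (ppi p G) = ⊥ := by
      rw [Subgroup.map_commutator, Subgroup.map_commutator, hπP₀, hA, MonoidHom.map_zpowers]
      exact hquad
    have h3 : ⁅⁅P₀, A⁆, A⁆ ≤ K := by
      intro x hx
      have : ppi p G x ∈ (⁅⁅P₀, A⁆, A⁆).map (ppi p G) := Subgroup.mem_map_of_mem _ hx
      rw [h2, Subgroup.mem_bot] at this
      exact (QuotientGroup.eq_one_iff x).mp this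
    rw [eq_bot_iff, ← inf_eq_bot_of_pgroup_coprime hP₀p hKc]
    exact le_inf h1 h3
  have hconcl := hs.2.2 A P₀ hAp hP₀p hAP₀ hP₀le hnorm hcomm
  set N := Subgroup.normalizer (P₀ : Set G) with hN
  set C := Subgroup.centralizer (P₀ : Set G) with hC
  set Cb := Subgroup.centralizer (V : Set (G ⧸ K)) with hCb
  let ψ : ↥N →* (G ⧸ K) ⧸ Cb := (QuotientGroup.mk' Cb).comp ((ppi p G).comp N.subtype)
  have hker : C.subgroupOf N ≤ ψ.ker := by
    intro n hn
    rw [Subgroup.mem_subgroupOf] at hn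
    rw [MonoidHom.mem_ker]
    show QuotientGroup.mk' Cb (ppi p G (n : G)) = 1
    rw [QuotientGroup.mk'_apply, QuotientGroup.eq_one_iff, hCb, Subgroup.mem_centralizer_iff]
    intro v hv
    rw [← hπP₀] at hv
    obtain ⟨y, hy, rfl⟩ := Subgroup.mem_map.mp hv
    have := Subgroup.mem_centralizer_iff.mp hn y hy
    rw [← map_mul, ← map_mul, this]
  let ψb : ↥N ⧸ C.subgroupOf N →* (G ⧸ K) ⧸ Cb := QuotientGroup.lift (C.subgroupOf N) ψ hker
  -- Frattini
  obtain ⟨Q, hQ⟩ := Cfsg.Agent.S0542.result p L hLn.isSubnormal P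
  have hfr := Sylow.normalizer_sup_eq_top Q
  rw [hQ, Subgroup.subgroupOf_map_subtype] at hfr
  have hNK : N ⊔ K = ⊤ := by
    rw [eq_top_iff, ← hfr]
    refine sup_le le_sup_left ?_
    rw [← hKP₀]
    exact sup_le le_sup_right (le_trans Subgroup.le_normalizer le_sup_left)
  have hNmap : N.map (ppi p G) = ⊤ := by
    have h1 : (N ⊔ K).map (ppi p G) = ⊤ := by
      rw [hNK, ← MonoidHom.range_eq_map, MonoidHom.range_eq_top]
      exact ppi_surjective p
    rw [Subgroup.map_sup] at h1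
    have h2 : K.map (ppi p G) = ⊥ := by
      rw [eq_bot_iff]
      rintro y ⟨k, hk, rfl⟩
      rw [Subgroup.mem_bot]
      exact (QuotientGroup.eq_one_iff k).mpr hk
    rw [h2, sup_bot_eq] at h1
    exact h1
  have hsurj : Function.Surjective ψb := by
    intro q
    obtain ⟨g', rfl⟩ := QuotientGroup.mk_surjective q
    have : g' ∈ N.map (ppi p G) := by rw [hNmap]; trivial
    obtain ⟨n, hn, rfl⟩ := Subgroup.mem_map.mp this
    exact ⟨QuotientGroup.mk ⟨n, hn⟩, rfl⟩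
  have hMn : ((Cfsg.pCore p (↥N ⧸ C.subgroupOf N)).map ψb).Normal :=
    (pCore_normal' (G := ↥N ⧸ C.subgroupOf N) p).map ψb hsurj
  have hMp : IsPGroup p ((Cfsg.pCore p (↥N ⧸ C.subgroupOf N)).map ψb) :=
    (pCore_isPGroup (G := ↥N ⧸ C.subgroupOf N) (p := p)).map ψb
  have hMle := le_pCore _ hMn hMp
  have haN : a ∈ N := by
    apply mem_normalizer_of_conj_mem
    · intro x hx; exact hAP₀ a (Subgroup.mem_zpowers a) x hx
    · intro x hx
      have := hAP₀ a⁻¹ (A.inv_mem (Subgroup.mem_zpowers a)) x hx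
      simpa using this
  have hamem : (QuotientGroup.mk' (C.subgroupOf N)) ⟨a, haN⟩ ∈
      (A.subgroupOf N).map (QuotientGroup.mk' (C.subgroupOf N)) :=
    Subgroup.mem_map_of_mem _ (by rw [Subgroup.mem_subgroupOf]; exact Subgroup.mem_zpowers a)
  have h4 := hMle (Subgroup.mem_map_of_mem ψb (hconcl hamem))
  exact h4

end stable

end Cfsg.Agent.Lib.Helper3
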