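import Mathlib
import Cfsg.Prelude.Def_CaseTheorems
import Cfsg.Agent.Lib.Helper3.GTStable
import Cfsg.Agent.Lib.Helper3.ZJ4

set_option autoImplicit false
set_option linter.unusedSectionVars false
set_option linter.style.haveILetI false
open scoped commutatorElement
open Cfsg.Agent.Lib.Helper1

/-! The final configuration in the Glauberman--Thompson normal `p`-complement theorem: a group
`G = K P` with `K / O_p(G)` a `p'`-group, `P` a maximal subgroup and `C_G(O_p(G)) ≤ O_p(G)`
satisfies the restricted stability hypothesis of the `ZJ`-theorem. -/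

namespace Cfsg.Agent.Lib.Helper3

section sylowfix
open scoped Pointwise
variable {X : Type*} [Group X] [Finite X]

/-- a `p`-subgroup normalizing a normal `p'`-subgroup fixes one of its Sylow `q`-subgroups -/
theorem exists_invariant_sylow {p q : ℕ} [Fact p.Prime] [Fact q.Prime] (Kb Pb : Subgroup X)
    [hKn : Kb.Normal] (hPb : IsPGroup p Pb) (hcop : (Nat.card ↥Kb).Coprime p) :
    ∃ S : Sylow q ↥Kb, ∀ x ∈ Pb, ∀ s ∈ (S : Subgroup ↥Kb),
      (⟨x * (s : X) * x⁻¹, hKn.conj_mem _ s.2 x⟩ : ↥Kb) ∈ (S : Subgroup ↥Kb) := by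
  let _ : MulDistribMulAction ↥Pb ↥Kb :=
    MulDistribMulAction.compHom ↥Kb ((MulAut.conjNormal (H := Kb)).comp Pb.subtype)
  have hpp : p.Prime := Fact.out
  have hcard : ¬ p ∣ Nat.card (Sylow q ↥Kb) := by
    intro hdvd
    obtain ⟨S₀⟩ : Nonempty (Sylow q ↥Kb) := inferInstance
    have h1 : Nat.card (Sylow q ↥Kb) ∣ Nat.card ↥Kb :=
      (S₀.card_dvd_index).trans (Subgroup.index_dvd_card _)
    exact (Nat.Prime.coprime_iff_not_dvd hpp).mp hcop.symm (hdvd.trans h1)
  have hPb' : IsPGroup p ↥Pb := hPb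
  obtain ⟨S, hS⟩ := hPb'.nonempty_fixed_point_of_prime_not_dvd_card (Sylow q ↥Kb) hcard
  refine ⟨S, ?_⟩
  intro x hx s hs
  have h1 : (⟨x, hx⟩ : ↥Pb) • S = S := hS ⟨x, hx⟩
  have h2 : (⟨x, hx⟩ : ↥Pb) • s ∈ ((⟨x, hx⟩ : ↥Pb) • (S : Subgroup ↥Kb)) :=
    Subgroup.smul_mem_pointwise_smul _ _ _ hs
  rw [← Sylow.pointwise_smul_def, h1] at h2
  have h3 : (⟨x, hx⟩ : ↥Pb) • s = (⟨x * (s : X) * x⁻¹, hKn.conj_mem _ s.2 x⟩ : ↥Kb) := by
    apply Subtype.ext
    rfl
  rw [h3] at h2
  exact h2

end sylowfix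

section config
variable {G : Type*} [Group G] [Finite G] {p : ℕ} [Fact p.Prime]

/-- the quotient map modulo `O_p(G)` -/
abbrev opi (p : ℕ) (G : Type*) [Group G] : G →* G ⧸ Cfsg.pCore p G :=
  QuotientGroup.mk' (Cfsg.pCore p G)

lemma opi_surjective : Function.Surjective (opi p G) := QuotientGroup.mk'_surjective _

lemma opi_eq_one_iff {g : G} : opi p G g = 1 ↔ g ∈ Cfsg.pCore p G := QuotientGroup.eq_one_iff g

/-- `O_p(G / O_p(G)) = 1` -/
theorem normal_pgroup_quot_pCore_eq_bot (Mb : Subgroup (G ⧸ Cfsg.pCore p G)) (hn : Mb.Normal)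
    (hM : IsPGroup p Mb) : Mb = ⊥ := by
  have hMn : (Mb.comap (opi p G)).Normal := hn.comap _
  have hMp : IsPGroup p ↥(Mb.comap (opi p G)) := by
    apply hM.comap_of_ker_isPGroup
    rw [QuotientGroup.ker_mk']
    exact pCore_isPGroup
  have hle : Mb.comap (opi p G) ≤ Cfsg.pCore p G := le_pCore _ hMn hMp
  rw [eq_bot_iff]
  intro x hx
  obtain ⟨g, rfl⟩ := opi_surjective (p := p) x
  rw [Subgroup.mem_bot, opi_eq_one_iff]
  exact hle hx

/-- the final configuration -/
structure GTConf (P : Sylow p G) (K : Subgroup G) : Prop where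
  hc : Subgroup.centralizer (Cfsg.pCore p G : Set G) ≤ Cfsg.pCore p G
  hmax : ∀ G₁ : Subgroup G, (P : Subgroup G) ≤ G₁ → G₁ = (P : Subgroup G) ∨ G₁ = ⊤
  hKn : K.Normal
  hQK : Cfsg.pCore p G ≤ K
  hcop : (Nat.card ↥(K.map (opi p G))).Coprime p
  hKP : K ⊔ (P : Subgroup G) = ⊤

namespace GTConf
variable {P : Sylow p G} {K : Subgroup G}

lemma kb_normal (h : GTConf P K) : (K.map (opi p G)).Normal :=
  h.hKn.map _ opi_surjective

lemma pb_isPGroup (P : Sylow p G) : IsPGroup p ↥((P : Subgroup G).map (opi p G)) :=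
  P.isPGroup'.map _

lemma sup_eq_top (h : GTConf P K) : K.map (opi p G) ⊔ (P : Subgroup G).map (opi p G) = ⊤ := by
  rw [← Subgroup.map_sup, h.hKP]
  exact Subgroup.map_top_of_surjective _ opi_surjective

lemma kb_inf_pb (h : GTConf P K) : K.map (opi p G) ⊓ (P : Subgroup G).map (opi p G) = ⊥ := by
  rw [inf_comm]
  exact inf_eq_bot_of_pgroup_coprime (pb_isPGroup P) h.hcop

lemma k_inf_p_le (h : GTConf P K) : K ⊓ (P : Subgroup G) ≤ Cfsg.pCore p G := by
  intro x hx
  obtain ⟨hxK, hxP⟩ := Subgroup.mem_inf.mp hx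
  have h1 : opi p G x ∈ K.map (opi p G) ⊓ (P : Subgroup G).map (opi p G) :=
    Subgroup.mem_inf.mpr ⟨Subgroup.mem_map_of_mem _ hxK, Subgroup.mem_map_of_mem _ hxP⟩
  rw [h.kb_inf_pb, Subgroup.mem_bot] at h1
  exact opi_eq_one_iff.mp h1

lemma comap_kb (h : GTConf P K) : (K.map (opi p G)).comap (opi p G) = K := by
  rw [Subgroup.comap_map_eq, QuotientGroup.ker_mk']
  exact sup_eq_left.mpr h.hQK

/-- irreducibility of the action of `P` on `K / O_p(G)` -/
theorem irred (h : GTConf P K) (Mb : Subgroup (G ⧸ Cfsg.pCore p G)) (hMK : Mb ≤ K.map (opi p G))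
    (hinv : ∀ x ∈ (P : Subgroup G).map (opi p G), ∀ m ∈ Mb, x * m * x⁻¹ ∈ Mb) :
    Mb = ⊥ ∨ Mb = K.map (opi p G) := by
  have hMK' : Mb.comap (opi p G) ≤ K := by
    rw [← h.comap_kb]
    exact Subgroup.comap_mono hMK
  have hPM : (P : Subgroup G) ≤ Subgroup.normalizer ((Mb.comap (opi p G) : Subgroup G) : Set G) := by
    have key : ∀ x ∈ (P : Subgroup G), ∀ m ∈ Mb.comap (opi p G), x * m * x⁻¹ ∈ Mb.comap (opi p G) := by
      intro x hx m hm
      rw [Subgroup.mem_comap, map_mul, map_mul, map_inv]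
      exact hinv _ (Subgroup.mem_map_of_mem _ hx) _ hm
    intro x hx
    apply mem_normalizer_of_conj_mem (key x hx)
    intro m hm
    have := key x⁻¹ ((P : Subgroup G).inv_mem hx) m hm
    rwa [inv_inv] at this
  rcases h.hmax (Mb.comap (opi p G) ⊔ (P : Subgroup G)) le_sup_right with h1 | h1
  · left
    have hMP : Mb.comap (opi p G) ≤ (P : Subgroup G) := by
      rw [← h1]; exact le_sup_left
    have hMbp : IsPGroup p Mb := by
      rw [← Subgroup.map_comap_eq_self_of_surjective (opi_surjective (p := p)) Mb]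
      exact (P.isPGroup'.to_le hMP).map _
    have := inf_eq_bot_of_pgroup_coprime hMbp h.hcop
    rwa [inf_eq_left.mpr hMK] at this
  · right
    apply le_antisymm hMK
    intro y hy
    obtain ⟨k, hk, rfl⟩ := Subgroup.mem_map.mp hy
    have hk' : k ∈ ((Mb.comap (opi p G) ⊔ (P : Subgroup G) : Subgroup G) : Set G) := by
      rw [h1]; exact Set.mem_univ _
    rw [Subgroup.coe_mul_of_right_le_normalizer_left _ _ hPM] at hk'
    obtain ⟨m, hm, x, hx, rfl⟩ := hk'
    have hxK : x ∈ K := by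
      have : x = m⁻¹ * (m * x) := by group
      rw [this]
      exact K.mul_mem (K.inv_mem (hMK' hm)) hk
    have hxQ : opi p G x = 1 := opi_eq_one_iff.mpr (h.k_inf_p_le (Subgroup.mem_inf.mpr ⟨hxK, hx⟩))
    rw [map_mul, hxQ, mul_one]
    exact hm

/-- `K / O_p(G)` is a `q`-group -/
theorem kb_qgroup (h : GTConf P K) (hne : K.map (opi p G) ≠ ⊥) :
    ∃ q : ℕ, q.Prime ∧ IsPGroup q ↥(K.map (opi p G)) := by
  have hcard : Nat.card ↥(K.map (opi p G)) ≠ 1 := by
    intro h1
    exact hne (Subgroup.card_eq_one.mp h1)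
  obtain ⟨q, hq, hqd⟩ := Nat.exists_prime_and_dvd hcard
  refine ⟨q, hq, ?_⟩
  haveI : Fact q.Prime := ⟨hq⟩
  haveI := h.kb_normal
  obtain ⟨S, hS⟩ := exists_invariant_sylow (q := q) (K.map (opi p G)) ((P : Subgroup G).map (opi p G))
    (pb_isPGroup P) h.hcop
  have h1 := h.irred ((S : Subgroup ↥(K.map (opi p G))).map (K.map (opi p G)).subtype)
    (Subgroup.map_subtype_le _) (by
      intro x hx m hm
      obtain ⟨s, hs, rfl⟩ := Subgroup.mem_map.mp hm
      exact Subgroup.mem_map.mpr ⟨_, hS x hx s hs, rfl⟩)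
  rcases h1 with h1 | h1
  · exfalso
    have h2 : (S : Subgroup ↥(K.map (opi p G))) = ⊥ :=
      (Subgroup.map_eq_bot_iff_of_injective _ (Subgroup.subtype_injective _)).mp h1
    exact S.ne_bot_of_dvd_card hqd h2
  · have h2 : IsPGroup q ↥((S : Subgroup ↥(K.map (opi p G))).map (K.map (opi p G)).subtype) :=
      S.isPGroup'.map _
    rwa [h1] at h2

/-- `K / O_p(G)` is abelian -/
theorem kb_comm (h : GTConf P K) : ∀ x ∈ K.map (opi p G), ∀ y ∈ K.map (opi p G), x * y = y * x := by
  by_cases hne : K.map (opi p G) = ⊥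
  · intro x hx y hy
    rw [hne, Subgroup.mem_bot] at hx hy
    rw [hx, hy]
  obtain ⟨q, hq, hKq⟩ := h.kb_qgroup hne
  haveI : Fact q.Prime := ⟨hq⟩
  haveI := h.kb_normal
  have hlt : ⁅K.map (opi p G), K.map (opi p G)⁆ < K.map (opi p G) :=
    commutator_lt_of_pgroup hKq hKq (le_normalizer_of_normal inferInstance _) hne
  have h1 := h.irred ⁅K.map (opi p G), K.map (opi p G)⁆ hlt.le (by
    intro x _ m hm
    exact (inferInstance : (⁅K.map (opi p G), K.map (opi p G)⁆).Normal).conj_mem m hm x)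
  rcases h1 with h1 | h1
  · intro x hx y hy
    have h2 : ⁅x, y⁆ ∈ ⁅K.map (opi p G), K.map (opi p G)⁆ := Subgroup.commutator_mem_commutator hx hy
    rw [h1, Subgroup.mem_bot] at h2
    exact commutatorElement_eq_one_iff_mul_comm.mp h2
  · exact absurd h1 hlt.ne

/-- `P / O_p(G)` acts faithfully on `K / O_p(G)` -/
theorem pb_inf_centralizer (h : GTConf P K) :
    (P : Subgroup G).map (opi p G) ⊓ Subgroup.centralizer ((K.map (opi p G) : Subgroup _) : Set _) = ⊥ := by
  haveI := h.kb_normal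
  apply normal_pgroup_quot_pCore_eq_bot _ _ ((pb_isPGroup P).to_le inf_le_left)
  rw [← Subgroup.normalizer_eq_top_iff, eq_top_iff, ← h.sup_eq_top]
  apply sup_le
  · refine le_trans ?_ (Subgroup.centralizer_le_normalizer _)
    rw [Subgroup.le_centralizer_iff]
    exact inf_le_right
  · refine le_trans ?_ (normalizer_inf_normalizer_le _ _)
    apply le_inf
    · exact Subgroup.le_normalizer
    · exact le_normalizer_of_normal inferInstance _

/-- the restricted stability hypothesis of the `ZJ`-theorem holds in the final configuration -/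
theorem stable (h : GTConf P K) (hp : p ≠ 2) (V : Subgroup G) [hVn : V.Normal] (hV : IsPGroup p V)
    (a : G) (ha : a ∈ (P : Subgroup G))
    (hq : ⁅⁅V, Subgroup.zpowers a⁆, Subgroup.zpowers a⁆ = ⊥) :
    (QuotientGroup.mk a : G ⧸ Subgroup.centralizer (V : Set G)) ∈
      Cfsg.pCore p (G ⧸ Subgroup.centralizer (V : Set G)) := by
  have hpp : p.Prime := Fact.out
  set C : Subgroup G := Subgroup.centralizer (V : Set G) with hC
  have hsurj : Function.Surjective (QuotientGroup.mk' C) := QuotientGroup.mk'_surjective C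
  have hLn : ((Cfsg.pCore p (G ⧸ C)).comap (QuotientGroup.mk' C)).Normal :=
    (Cfsg.pCore_normal p (G ⧸ C)).comap _
  rcases h.hmax ((Cfsg.pCore p (G ⧸ C)).comap (QuotientGroup.mk' C) ⊔ (P : Subgroup G)) le_sup_right
    with h1 | h1
  · -- `C_G(V) ≤ O_p(G)`
    have hLP : (Cfsg.pCore p (G ⧸ C)).comap (QuotientGroup.mk' C) ≤ (P : Subgroup G) := by
      rw [← h1]; exact le_sup_left
    have hLQ : (Cfsg.pCore p (G ⧸ C)).comap (QuotientGroup.mk' C) ≤ Cfsg.pCore p G :=
      le_pCore _ hLn (P.isPGroup'.to_le hLP)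
    have hCQ : C ≤ Cfsg.pCore p G := by
      refine le_trans ?_ hLQ
      intro c hc
      rw [Subgroup.mem_comap]
      have : QuotientGroup.mk' C c = 1 := (QuotientGroup.eq_one_iff c).mpr hc
      rw [this]; exact Subgroup.one_mem _
    have hVQ : V ≤ Cfsg.pCore p G := le_pCore V hVn hV
    by_cases haQ : a ∈ Cfsg.pCore p G
    · have hQn : ((Cfsg.pCore p G).map (QuotientGroup.mk' C)).Normal :=
        (Cfsg.pCore_normal p G).map _ hsurj
      have hQp : IsPGroup p ↥((Cfsg.pCore p G).map (QuotientGroup.mk' C)) :=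
        (pCore_isPGroup).map _
      exact le_pCore _ hQn hQp (Subgroup.mem_map_of_mem _ haQ)
    · exfalso
      -- a power `a'` of `a` outside `O_p(G)` with `a' ^ p ∈ O_p(G)`
      obtain ⟨a', ha'z, ha'Q, ha'p⟩ : ∃ a' ∈ Subgroup.zpowers a, a' ∉ Cfsg.pCore p G ∧
          a' ^ p ∈ Cfsg.pCore p G := by
        classical
        have hex : ∃ i : ℕ, a ^ (p ^ i) ∈ Cfsg.pCore p G := by
          obtain ⟨k, hk⟩ := P.isPGroup' ⟨a, ha⟩
          refine ⟨k, ?_⟩
          have : a ^ (p ^ k) = 1 := by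
            have := congrArg Subtype.val hk
            simpa using this
          rw [this]; exact Subgroup.one_mem _
        have hi0 : Nat.find hex ≠ 0 := by
          intro h0
          have := Nat.find_spec hex
          rw [h0, pow_zero, pow_one] at this
          exact haQ this
        obtain ⟨j, hj⟩ := Nat.exists_eq_succ_of_ne_zero hi0
        refine ⟨a ^ (p ^ j), Subgroup.pow_mem _ (Subgroup.mem_zpowers a) _, ?_, ?_⟩
        · exact Nat.find_min hex (by rw [hj]; exact Nat.lt_succ_self j)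
        · rw [← pow_mul, ← pow_succ, ← Nat.succ_eq_add_one, ← hj]
          exact Nat.find_spec hex
      have ha'P : a' ∈ (P : Subgroup G) := (Subgroup.zpowers_le.mpr ha) ha'z
      have hzle : Subgroup.zpowers a' ≤ Subgroup.zpowers a := Subgroup.zpowers_le.mpr ha'z
      have hq' : ⁅⁅V, Subgroup.zpowers a'⁆, Subgroup.zpowers a'⁆ = ⊥ := by
        rw [eq_bot_iff, ← hq]
        exact Subgroup.commutator_mono (Subgroup.commutator_mono le_rfl hzle) hzle
      have hquad : ∀ v ∈ V, a' * (a' * v * a'⁻¹ * v⁻¹) * a'⁻¹ = a' * v * a'⁻¹ * v⁻¹ := by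
        intro v hv
        have h2 : ⁅a', v⁆ ∈ ⁅V, Subgroup.zpowers a'⁆ := by
          rw [Subgroup.commutator_comm]
          exact Subgroup.commutator_mem_commutator (Subgroup.mem_zpowers a') hv
        have h3 : ⁅⁅a', v⁆, a'⁆ ∈ ⁅⁅V, Subgroup.zpowers a'⁆, Subgroup.zpowers a'⁆ :=
          Subgroup.commutator_mem_commutator h2 (Subgroup.mem_zpowers a')
        rw [hq', Subgroup.mem_bot] at h3
        have h4 : ⁅a', v⁆ * a' = a' * ⁅a', v⁆ := commutatorElement_eq_one_iff_mul_comm.mp h3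
        rw [commutatorElement_def] at h4
        rw [← h4]; group
      have hcent := commPart_eq_bot_of_quadratic hp (Cfsg.pCore p G) pCore_isPGroup
        (K.map (opi p G)) h.kb_comm h.hcop a'
        (fun k hk => h.kb_normal.conj_mem k hk _)
        (fun k hk => by
          have : (QuotientGroup.mk' (Cfsg.pCore p G) a') ^ p = 1 := by
            rw [← map_pow]; exact opi_eq_one_iff.mpr ha'p
          rw [this, one_mul, inv_one, mul_one])
        V hVn hVQ hCQ hquad
      have h5 : opi p G a' ∈ (P : Subgroup G).map (opi p G) ⊓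
          Subgroup.centralizer ((K.map (opi p G) : Subgroup _) : Set _) := by
        refine Subgroup.mem_inf.mpr ⟨Subgroup.mem_map_of_mem _ ha'P, ?_⟩
        rw [Subgroup.mem_centralizer_iff]
        intro k hk
        have := hcent k hk
        exact (mul_inv_eq_iff_eq_mul.mp this).symm
      rw [h.pb_inf_centralizer, Subgroup.mem_bot] at h5
      exact ha'Q (opi_eq_one_iff.mp h5)
  · -- `G / C_G(V)` is a `p`-group
    have h2 : Cfsg.pCore p (G ⧸ C) ⊔ (P : Subgroup G).map (QuotientGroup.mk' C) = ⊤ := by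
      have h3 := congrArg (Subgroup.map (QuotientGroup.mk' C)) h1
      rw [Subgroup.map_sup, Subgroup.map_comap_eq_self_of_surjective hsurj,
        Subgroup.map_top_of_surjective _ hsurj] at h3
      exact h3
    have h3 : IsPGroup p ↥(Cfsg.pCore p (G ⧸ C) ⊔ (P : Subgroup G).map (QuotientGroup.mk' C) :
        Subgroup (G ⧸ C)) :=
      IsPGroup.to_sup_of_normal_left pCore_isPGroup (P.isPGroup'.map _)
    rw [h2] at h3
    have h4 : (⊤ : Subgroup (G ⧸ C)) ≤ Cfsg.pCore p (G ⧸ C) := le_pCore _ inferInstance h3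
    exact h4 (Subgroup.mem_top _)

/-- in the final configuration `Z(J(P))` is normal -/
theorem zq_normal (h : GTConf P K) (hp : p ≠ 2) (e : ℕ) : (zq e (P : Subgroup G)).Normal :=
  zq_normal_of_stable hp e P h.hc (fun V _ hV a ha hq => h.stable hp V hV a ha hq)

end GTConf

end config

end Cfsg.Agent.Lib.Helper3
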