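import Mathlib
import Cfsg.Prelude.Def_Transfer
import Cfsg.Agent.Lib.Helper4.Frobenius2
import Cfsg.Agent.Lib.Helper3.Transport

set_option autoImplicit false
set_option linter.unusedSectionVars false

/-! Transport lemmas for normal `p`-complements. -/

namespace Cfsg.Agent.Lib.Helper3

open Cfsg Cfsg.Agent.Lib.Helper4

section npc
variable {X : Type*} [Group X] [Finite X] {p : ℕ} [Fact p.Prime]

/-- normal `p`-complements pass to homomorphic images -/
theorem npc_of_surjective {Y : Type*} [Group Y] [Finite Y] (f : X →* Y)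
    (hf : Function.Surjective f) (h : HasNormalPComplement p X) : HasNormalPComplement p Y := by
  obtain ⟨K, hKn, hc, hq⟩ := exists_normal_hall_of_hasNormalPComplement p h
  have hn : (K.map f).Normal := hKn.map f hf
  have hcard : (Nat.card (K.map f)).Coprime p :=
    Nat.Coprime.coprime_dvd_left (Subgroup.card_map_dvd K f) hc
  refine hasNormalPComplement_of_normal_hall p (K.map f) hcard ?_
  intro y
  induction y using QuotientGroup.induction_on with
  | H y =>
    obtain ⟨x, rfl⟩ := hf y
    obtain ⟨n, hn'⟩ := hq (x : X ⧸ K)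
    refine ⟨n, ?_⟩
    rw [← QuotientGroup.mk_pow, QuotientGroup.eq_one_iff, ← map_pow]
    refine Subgroup.mem_map_of_mem f ?_
    rw [← QuotientGroup.mk_pow, QuotientGroup.eq_one_iff] at hn'
    exact hn'

theorem npc_of_equiv {Y : Type*} [Group Y] [Finite Y] (e : X ≃* Y)
    (h : HasNormalPComplement p X) : HasNormalPComplement p Y :=
  npc_of_surjective e.toMonoidHom e.surjective h

theorem npc_of_top (h : HasNormalPComplement p ↥(⊤ : Subgroup X)) : HasNormalPComplement p X :=
  npc_of_equiv Subgroup.topEquiv h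

theorem npc_of_eq {A B : Subgroup X} (hAB : A = B) (h : HasNormalPComplement p ↥A) :
    HasNormalPComplement p ↥B :=
  npc_of_equiv (MulEquiv.subgroupCongr hAB) h

theorem npc_of_le {A B : Subgroup X} (hAB : A ≤ B) (h : HasNormalPComplement p ↥B) :
    HasNormalPComplement p ↥A :=
  npc_of_equiv (Subgroup.subgroupOfEquivOfLe hAB) (hasNormalPComplement_subgroup p h (A.subgroupOf B))

theorem npc_map {Y : Type*} [Group Y] [Finite Y] (f : X →* Y) (A : Subgroup X)
    (h : HasNormalPComplement p ↥A) : HasNormalPComplement p ↥(A.map f) :=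
  npc_of_surjective (f.subgroupMap A) (f.subgroupMap_surjective A) h

theorem npc_of_isPGroup (h : IsPGroup p X) : HasNormalPComplement p X := by
  refine hasNormalPComplement_of_normal_hall p (⊥ : Subgroup X) ?_ (h.to_quotient ⊥)
  rw [Subgroup.card_bot]
  exact Nat.coprime_one_left p

/-- a normal `p'`-subgroup with a `p`-nilpotent quotient -/
theorem npc_of_pprime_quotient (N : Subgroup X) [N.Normal] (hN : (Nat.card N).Coprime p)
    (h : HasNormalPComplement p (X ⧸ N)) : HasNormalPComplement p X := by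
  obtain ⟨K, hKn, hc, hq⟩ := exists_normal_hall_of_hasNormalPComplement p h
  have hpp : p.Prime := Fact.out
  set M : Subgroup X := K.comap (QuotientGroup.mk' N) with hM
  have hMn : M.Normal := hKn.comap _
  have hcard : (Nat.card M).Coprime p := by
    rw [Nat.coprime_comm, Nat.Prime.coprime_iff_not_dvd hpp]
    intro hdvd
    obtain ⟨m, hm⟩ := exists_prime_orderOf_dvd_card' (G := ↥M) p hdvd
    have hmK : (QuotientGroup.mk' N (m : X)) ∈ K := m.2
    have h1 : (QuotientGroup.mk' N (m : X)) ^ p = 1 := by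
      rw [← map_pow, ← Subgroup.coe_pow, ← hm, pow_orderOf_eq_one, Subgroup.coe_one, map_one]
    have h2 : orderOf (⟨_, hmK⟩ : ↥K) ∣ p := by
      apply orderOf_dvd_of_pow_eq_one
      apply Subtype.ext
      rw [Subgroup.coe_pow]; exact h1
    have h3 : orderOf (⟨_, hmK⟩ : ↥K) ∣ Nat.card K := orderOf_dvd_natCard _
    have h4 : orderOf (⟨_, hmK⟩ : ↥K) = 1 :=
      Nat.eq_one_of_dvd_coprimes hc h3 h2
    have h5 : (QuotientGroup.mk' N (m : X)) = 1 := by
      have := orderOf_eq_one_iff.mp h4
      exact congrArg Subtype.val this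
    have hmN : (m : X) ∈ N := (QuotientGroup.eq_one_iff _).mp h5
    have h6 : orderOf (⟨(m : X), hmN⟩ : ↥N) = p := by
      rw [Subgroup.orderOf_mk, ← hm, Subgroup.orderOf_coe]
    have h7 : p ∣ Nat.card N := by rw [← h6]; exact orderOf_dvd_natCard _
    exact (Nat.Prime.coprime_iff_not_dvd hpp).mp hN.symm h7
  refine hasNormalPComplement_of_normal_hall p M hcard ?_
  intro y
  induction y using QuotientGroup.induction_on with
  | H x =>
    obtain ⟨n, hn⟩ := hq ((QuotientGroup.mk' N x : X ⧸ N) : (X ⧸ N) ⧸ K)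
    refine ⟨n, ?_⟩
    rw [← QuotientGroup.mk_pow, QuotientGroup.eq_one_iff]
    rw [← QuotientGroup.mk_pow, QuotientGroup.eq_one_iff, ← map_pow] at hn
    exact hn

/-- internal description of a normal `p`-complement of a subgroup -/
theorem npc_internal {A : Subgroup X} (h : HasNormalPComplement p ↥A) :
    ∃ K : Subgroup X, K ≤ A ∧ A ≤ Subgroup.normalizer (K : Set X) ∧ (Nat.card K).Coprime p ∧
      ∀ a ∈ A, ∃ n : ℕ, a ^ (p ^ n) ∈ K := by
  obtain ⟨K, hKn, hc, hq⟩ := exists_normal_hall_of_hasNormalPComplement p h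
  refine ⟨K.map A.subtype, ?_, le_normalizer_map_of_normal K, ?_, ?_⟩
  · rintro x ⟨k, _, rfl⟩
    exact k.2
  · rw [Subgroup.card_map_of_injective A.subtype_injective]
    exact hc
  · intro a ha
    obtain ⟨n, hn⟩ := hq ((⟨a, ha⟩ : ↥A) : ↥A ⧸ K)
    refine ⟨n, ?_⟩
    rw [← QuotientGroup.mk_pow, QuotientGroup.eq_one_iff] at hn
    exact ⟨_, hn, rfl⟩

theorem npc_map_conj (g : X) (A : Subgroup X) (h : HasNormalPComplement p ↥A) :
    HasNormalPComplement p ↥(A.map (MulAut.conj g).toMonoidHom) :=
  npc_map _ A h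

end npc

end Cfsg.Agent.Lib.Helper3
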