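import Mathlib
import Cfsg.Agent.Lib.Helper3.Conj

set_option autoImplicit false

namespace Cfsg.Agent.Lib.Helper3

variable {G : Type*} [Group G]

/-- Normalizers grow in finite `p`-groups: if `P < Q` with `Q` a finite `p`-group, some element of
`Q` outside `P` normalizes `P`. -/
lemma exists_mem_normalizer_not_mem {p : ℕ} [Fact p.Prime] (P Q : Subgroup G) [Finite Q]
    (hQ : IsPGroup p Q) (hPQ : P ≤ Q) (hne : P ≠ Q) :
    ∃ q ∈ Q, q ∉ P ∧ q ∈ Subgroup.normalizer (P : Set G) := by
  have : Group.IsNilpotent Q := hQ.isNilpotent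
  have hnc : NormalizerCondition Q := Group.normalizerCondition_of_isNilpotent
  have hP' : P.subgroupOf Q ≠ ⊤ := by
    intro h
    rw [Subgroup.subgroupOf_eq_top] at h
    exact hne (le_antisymm hPQ h)
  have hlt := hnc (P.subgroupOf Q) (lt_top_iff_ne_top.mpr hP')
  obtain ⟨q, hqN, hqP⟩ := SetLike.exists_of_lt hlt
  refine ⟨q, q.2, ?_, ?_⟩
  · intro h; exact hqP (by simpa [Subgroup.mem_subgroupOf] using h)
  · rw [Subgroup.mem_set_normalizer_iff]
    rw [Subgroup.mem_set_normalizer_iff] at hqN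
    intro h
    constructor
    · intro hh
      have := (hqN ⟨h, hPQ hh⟩).mp (by simpa [Subgroup.mem_subgroupOf] using hh)
      simpa [Subgroup.mem_subgroupOf] using this
    · intro hh
      have hhQ : h ∈ Q := by
        have h1 : (q:G) * h * (q:G)⁻¹ ∈ Q := hPQ hh
        have h2 := Q.mul_mem (Q.mul_mem (Q.inv_mem q.2) h1) q.2
        have e : (q:G)⁻¹ * ((q:G) * h * (q:G)⁻¹) * (q:G) = h := by group
        rwa [e] at h2
      have := (hqN ⟨h, hhQ⟩).mpr (by simpa [Subgroup.mem_subgroupOf] using hh)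
      simpa [Subgroup.mem_subgroupOf] using this

end Cfsg.Agent.Lib.Helper3
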