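import Mathlib
import Cfsg.Agent.Lib.Helper3.PConstr
import Cfsg.Agent.Lib.Helper3.Frattini
import Cfsg.Agent.Lib.Helper3.CharP
import Cfsg.Agent.Lib.Helper3.NormAux

set_option autoImplicit false
open scoped commutatorElement

universe u

namespace Cfsg.Agent.Lib.Helper3

open Cfsg.Agent.Lib.Helper1

/-- characteristic `p` (`C(O_p) ≤ O_p`) is invariant under isomorphism -/
lemma charp_of_equiv {A B : Type*} [Group A] [Group B] (p : ℕ) (e : A ≃* B)
    (h : Subgroup.centralizer (Cfsg.pCore p A : Set A) ≤ Cfsg.pCore p A) :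
    Subgroup.centralizer (Cfsg.pCore p B : Set B) ≤ Cfsg.pCore p B := by
  intro b hb
  have h1 : e.symm b ∈ Subgroup.centralizer (Cfsg.pCore p A : Set A) := by
    rw [Subgroup.mem_centralizer_iff]
    intro a ha
    have ha' : e a ∈ Cfsg.pCore p B := by
      rw [← pCore_map_equiv p e]; exact ⟨a, ha, rfl⟩
    have := Subgroup.mem_centralizer_iff.mp hb (e a) ha'
    apply e.injective
    rw [map_mul, map_mul, MulEquiv.apply_symm_apply]
    exact this
  have h2 := h h1
  rw [← pCore_map_equiv p e]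
  exact ⟨e.symm b, h2, by simp⟩

/-- a finite group of characteristic `p` has trivial `p'`-core -/
lemma pPrimeCore_eq_bot_of_charp {A : Type*} [Group A] [Finite A] (p : ℕ) [Fact p.Prime]
    (h : Subgroup.centralizer (Cfsg.pCore p A : Set A) ≤ Cfsg.pCore p A) :
    Cfsg.pPrimeCore p A = ⊥ := by
  have hDn : (Cfsg.pCore p A).Normal := pCore_normal' p
  have hKn : (Cfsg.pPrimeCore p A).Normal := pPrimeCore_normal' p
  have hdisj : Cfsg.pPrimeCore p A ⊓ Cfsg.pCore p A = ⊥ := by
    apply Disjoint.eq_bot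
    apply Subgroup.disjoint_of_coprime_natCard
    obtain ⟨k, hk⟩ := IsPGroup.iff_card.mp (pCore_isPGroup (p := p) (G := A))
    rw [hk]
    exact Nat.Coprime.pow_right k (pPrimeCore_coprime p)
  have hcomm : ⁅Cfsg.pPrimeCore p A, Cfsg.pCore p A⁆ = ⊥ := by
    rw [eq_bot_iff, ← hdisj]
    exact le_inf (Subgroup.commutator_le_left _ _) (Subgroup.commutator_le_right _ _)
  have h1 : Cfsg.pPrimeCore p A ≤ Cfsg.pCore p A :=
    (Subgroup.commutator_eq_bot_iff_le_centralizer.mp hcomm).trans h
  rw [eq_bot_iff, ← hdisj]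
  exact le_inf le_rfl h1

variable {G : Type u} [Group G] [Finite G]

/-- Local subgroups of `p`-constrained groups are `p`-constrained (general form). -/
theorem pconstrained_local {p : ℕ} [Fact p.Prime] (hG : Cfsg.IsPConstrained p G)
    {P H : Subgroup G} (hP : IsPGroup p P) (hHN : H ≤ Subgroup.normalizer (P : Set G))
    (hCH : Subgroup.centralizer (P : Set G) ≤ H)
    (hcase : P ≤ H ∨ H ≤ Subgroup.centralizer (P : Set G)) :
    Cfsg.IsPConstrained p ↥H ∧
      Cfsg.pPrimeCore p ↥H = (Cfsg.pPrimeCore p G).subgroupOf H := by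
  set N := Cfsg.pPrimeCore p G with hN
  have hNn : N.Normal := pPrimeCore_normal' p
  have hNc : (Nat.card ↥N).Coprime p := pPrimeCore_coprime p
  set Q := G ⧸ N with hQ
  set D := Cfsg.pCore p Q with hDdef
  have hDn : D.Normal := pCore_normal' p
  have hDp : IsPGroup p ↥D := pCore_isPGroup
  have hD : Subgroup.centralizer (D : Set Q) ≤ D := (isPConstrained_iff p).mp hG
  set Hb := H.map (ppi p G) with hHb
  set Pb := P.map (ppi p G) with hPb
  have hPbp : IsPGroup p ↥Pb := hP.map _
  -- Hb normalizes Pb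
  have hHbPb : Hb ≤ Subgroup.normalizer (Pb : Set Q) := by
    rintro _ ⟨h, hh, rfl⟩
    apply mem_normalizer_of_conj_mem
    · rintro _ ⟨x, hx, rfl⟩
      exact ⟨h * x * h⁻¹, conj_mem_of_mem_normalizer' (hHN hh) hx, by simp⟩
    · rintro _ ⟨x, hx, rfl⟩
      exact ⟨h⁻¹ * x * h, conj_inv_mem_of_mem_normalizer' (hHN hh) hx, by simp⟩
  -- Step 1: lifting
  have hlift : D ⊓ Subgroup.centralizer (Pb : Set Q) ≤ Hb := by
    rintro dbar ⟨-, hdC⟩
    obtain ⟨d, rfl⟩ := ppi_surjective p dbar
    have hd : ∀ x ∈ P, ⁅d, x⁆ ∈ N := by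
      intro x hx
      rw [← ppi_eq_one_iff, map_commutatorElement, commutatorElement_eq_one_iff_mul_comm]
      exact (Subgroup.mem_centralizer_iff.mp hdC _ ⟨x, hx, rfl⟩).symm
    obtain ⟨n, hn, hnd⟩ := exists_mul_mem_centralizer hNn hNc hP d hd
    refine ⟨n * d, hCH hnd, ?_⟩
    rw [map_mul, (ppi_eq_one_iff p n).mpr hn, one_mul]
  -- Step 2: local characteristic p for Hb
  have hloc : Hb ⊓ Subgroup.centralizer (((Cfsg.pCore p ↥Hb).map Hb.subtype : Subgroup Q) : Set Q) ≤
      (Cfsg.pCore p ↥Hb).map Hb.subtype := by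
    apply charp_local hPbp hDp (le_normalizer_of_normal hDn _) (le_normalizer_of_normal hDn _)
      (inf_le_right.trans hD)
    · apply le_pCore_map hlift (hDp.to_le inf_le_left)
      refine le_trans ?_ (normalizer_inf_normalizer_le D _)
      exact le_inf (le_normalizer_of_normal hDn _)
        (hHbPb.trans (normalizer_le_normalizer_centralizer Pb))
    · rcases hcase with h | h
      · left
        exact le_pCore_map (Subgroup.map_mono h) hPbp hHbPb
      · right
        rintro _ ⟨x, hx, rfl⟩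
        rw [Subgroup.mem_centralizer_iff]
        rintro _ ⟨y, hy, rfl⟩
        rw [← map_mul, ← map_mul, Subgroup.mem_centralizer_iff.mp (h hx) y hy]
  have hFHb : Cfsg.generalizedFittingSubgroup ↥Hb = Cfsg.pCore p ↥Hb :=
    genFitting_eq_pCore_of_local hloc
  have hcharp : Subgroup.centralizer (Cfsg.pCore p ↥Hb : Set ↥Hb) ≤ Cfsg.pCore p ↥Hb :=
    centralizer_pCore_le_of_genFitting_eq p hFHb
  -- Step 3
  have hHb0 : Cfsg.pPrimeCore p ↥Hb = ⊥ := pPrimeCore_eq_bot_of_charp p hcharp
  -- Step 4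
  set f : ↥H →* ↥Hb := (ppi p G).subgroupMap H with hf
  have hfs : Function.Surjective f := MonoidHom.subgroupMap_surjective _ _
  have hker : f.ker = N.subgroupOf H := by
    ext x
    rw [Subgroup.mem_subgroupOf, MonoidHom.mem_ker, ← ppi_eq_one_iff]
    constructor
    · intro h
      exact congrArg Subtype.val h
    · intro h
      apply Subtype.ext
      exact h
  have hcore : Cfsg.pPrimeCore p ↥H = N.subgroupOf H := by
    apply le_antisymm
    · have hn : ((Cfsg.pPrimeCore p ↥H).map f).Normal :=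
        (pPrimeCore_normal' p).map f hfs
      have hc : (Nat.card ↥((Cfsg.pPrimeCore p ↥H).map f)).Coprime p :=
        Nat.Coprime.coprime_dvd_left (Subgroup.card_map_dvd _ f) (pPrimeCore_coprime p)
      have h1 : (Cfsg.pPrimeCore p ↥H).map f ≤ Cfsg.pPrimeCore p ↥Hb := le_pPrimeCore _ hn hc
      rw [hHb0, le_bot_iff, Subgroup.map_eq_bot_iff, hker] at h1
      exact h1
    · have hn : (N.subgroupOf H).Normal := hNn.subgroupOf H
      apply le_pPrimeCore _ hn
      have h1 : Nat.card ↥(N.subgroupOf H) ∣ Nat.card ↥N := by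
        rw [← Subgroup.inf_subgroupOf_right,
          Nat.card_congr (Subgroup.subgroupOfEquivOfLe (inf_le_right : N ⊓ H ≤ H)).toEquiv]
        exact Subgroup.card_dvd_of_le inf_le_left
      exact Nat.Coprime.coprime_dvd_left h1 hNc
  refine ⟨?_, hcore⟩
  -- Step 5
  rw [isPConstrained_iff]
  have hk : Cfsg.pPrimeCore p ↥H = f.ker := hcore.trans hker.symm
  have e : ↥H ⧸ Cfsg.pPrimeCore p ↥H ≃* ↥Hb :=
    (QuotientGroup.quotientMulEquivOfEq hk).trans (QuotientGroup.quotientKerEquivOfSurjective f hfs)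
  exact charp_of_equiv p e.symm hcharp

end Cfsg.Agent.Lib.Helper3
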