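import Mathlib
import Cfsg.Prelude.Def_CaseTheorems
import Cfsg.Prelude.Def_Local
import Cfsg.Agent.Lib.Helper3.Quasi
import Cfsg.Agent.Lib.Helper3.PComp

set_option autoImplicit false
open scoped commutatorElement

namespace Cfsg.Agent.Lib.Helper3

/-- a quasisimple group is nontrivial: not every element is central -/
lemma quasisimple_center_ne_top {M : Type*} [Group M] (hM : Cfsg.IsQuasisimple M) :
    Subgroup.center M ≠ ⊤ := by
  intro h
  have hs : IsSimpleGroup (M ⧸ Subgroup.center M) := hM.2
  have : Subsingleton (M ⧸ Subgroup.center M) := by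
    rw [h]; exact QuotientGroup.subsingleton_quotient_top
  exact not_subsingleton (M ⧸ Subgroup.center M) this

/-- A quasisimple quotient of a subgroup of a `p`-solvable finite group has order prime to `p`. -/
theorem coprime_card_of_psolvable_section {C : Type*} [Group C] [Finite C] {p : ℕ} [Fact p.Prime]
    (hsol : Cfsg.IsPSolvable p C) (Y : Subgroup C) {M : Type*} [Group M] [Finite M]
    (hM : Cfsg.IsQuasisimple M) (f : ↥Y →* M) (hf : Function.Surjective f) :
    (Nat.card M).Coprime p := by
  obtain ⟨n, H, h0, hlast, hmono, hnormal, hfactor⟩ := hsol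
  have hP : Group.IsPerfect M := hM.1
  let B : Fin (n + 1) → Subgroup M := fun i => ((H i).subgroupOf Y).map f
  have hBn : ∀ i, (B i).Normal := by
    intro i
    have h1 : ((H i).subgroupOf Y).Normal := (hnormal i).subgroupOf Y
    exact h1.map f hf
  have hBd : ∀ i, B i = ⊤ ∨ B i ≤ Subgroup.center M := by
    intro i
    have := hBn i
    exact quasisimple_normal hM (B i)
  have hB0 : B 0 = ⊥ := by
    show ((H 0).subgroupOf Y).map f = ⊥
    rw [h0, Subgroup.bot_subgroupOf, Subgroup.map_bot]
  have hBlast : B (Fin.last n) = ⊤ := by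
    show ((H (Fin.last n)).subgroupOf Y).map f = ⊤
    rw [hlast, Subgroup.top_subgroupOf, ← MonoidHom.range_eq_map, MonoidHom.range_eq_top]
    exact hf
  -- the least index with B i = ⊤
  have hex : ∃ k : ℕ, ∃ hk : k < n + 1, B ⟨k, hk⟩ = ⊤ := ⟨n, Nat.lt_succ_self n, hBlast⟩
  classical
  set k := Nat.find hex with hk
  obtain ⟨hkn, hBk⟩ := Nat.find_spec hex
  have hk0 : k ≠ 0 := by
    intro h
    have h1 : B ⟨k, hkn⟩ = B 0 := by congr 1; ext; exact h
    rw [h1, hB0] at hBk
    apply quasisimple_center_ne_top hM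
    rw [eq_top_iff, ← hBk]; exact bot_le
  obtain ⟨j, hj⟩ := Nat.exists_eq_succ_of_ne_zero hk0
  have hjn : j < n := by omega
  have hBj : B ⟨j, by omega⟩ ≤ Subgroup.center M := by
    rcases hBd ⟨j, by omega⟩ with h | h
    · exfalso
      have := Nat.find_min hex (m := j) (by omega)
      exact this ⟨by omega, h⟩
    · exact h
  set e := (H (Fin.castSucc ⟨j, hjn⟩)).relIndex (H (Fin.succ ⟨j, hjn⟩)) with he
  have hsucc : (Fin.succ ⟨j, hjn⟩ : Fin (n + 1)) = ⟨k, hkn⟩ := by
    ext; simp [hj]
  have hcast : (Fin.castSucc ⟨j, hjn⟩ : Fin (n + 1)) = ⟨j, by omega⟩ := by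
    ext; simp
  -- every m ∈ M has m ^ e central
  have hpow : ∀ m : M, m ^ e ∈ Subgroup.center M := by
    intro m
    have hm : m ∈ B ⟨k, hkn⟩ := by rw [hBk]; exact Subgroup.mem_top m
    obtain ⟨y, hy, rfl⟩ := hm
    have hy' : (y : C) ∈ H (Fin.succ ⟨j, hjn⟩) := by rw [hsucc]; exact hy
    have := hnormal (Fin.castSucc ⟨j, hjn⟩)
    have h1 : (y : C) ^ e ∈ H (Fin.castSucc ⟨j, hjn⟩) := Subgroup.pow_relIndex_mem _ hy'
    rw [hcast] at h1
    apply hBj
    refine ⟨y ^ e, ?_, map_pow f y e⟩
    show ((y ^ e : ↥Y) : C) ∈ H ⟨j, by omega⟩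
    rw [Subgroup.coe_pow]; exact h1
  rcases hfactor ⟨j, hjn⟩ with ⟨m, hm⟩ | hcop
  · -- p-group factor: M / Z(M) is a p-group, impossible
    exfalso
    have hs : IsSimpleGroup (M ⧸ Subgroup.center M) := hM.2
    have hpg : IsPGroup p (M ⧸ Subgroup.center M) := by
      intro x
      induction x using QuotientGroup.induction_on with
      | H g =>
        refine ⟨m, ?_⟩
        rw [← QuotientGroup.mk_pow, ← hm]
        exact (QuotientGroup.eq_one_iff _).mpr (hpow g)
    have hnil : Group.IsNilpotent (M ⧸ Subgroup.center M) := hpg.isNilpotent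
    have hsolv : Group.IsSolvable (M ⧸ Subgroup.center M) := inferInstance
    have hcomm := IsSimpleGroup.comm_iff_isSolvable.mpr hsolv
    have hperf : Group.IsPerfect (M ⧸ Subgroup.center M) := inferInstance
    have hcm : IsMulCommutative (M ⧸ Subgroup.center M) := ⟨⟨hcomm⟩⟩
    have : Subsingleton (M ⧸ Subgroup.center M) := Group.IsPerfect.subsingleton_of_isMulCommutative
    exact not_subsingleton (M ⧸ Subgroup.center M) this
  · -- p'-factor
    apply coprime_card_of_perfect_of_index_center
    rw [Subgroup.index_eq_card]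
    apply coprime_card_of_no_order_p
    intro x hx
    induction x using QuotientGroup.induction_on with
    | H g =>
      have h1 : (QuotientGroup.mk g : M ⧸ Subgroup.center M) ^ e = 1 := by
        rw [← QuotientGroup.mk_pow]
        exact (QuotientGroup.eq_one_iff _).mpr (hpow g)
      have h2 : orderOf (QuotientGroup.mk g : M ⧸ Subgroup.center M) ∣ e := orderOf_dvd_of_pow_eq_one h1
      rw [hx] at h2
      have h3 : p ∣ Nat.gcd e p := Nat.dvd_gcd h2 dvd_rfl
      rw [hcop] at h3
      exact (Fact.out : p.Prime).one_lt.ne' (Nat.dvd_one.mp h3)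

end Cfsg.Agent.Lib.Helper3
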