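import Mathlib
import Cfsg.Prelude.Def_CaseTheorems
import Cfsg.Prelude.Def_Local
import Cfsg.Agent.Lib.Helper3.PConstr2
import Cfsg.Agent.Lib.Helper3.PSolv
import Cfsg.Agent.Lib.Helper3.FStar

set_option autoImplicit false
open Cfsg
open Cfsg.Agent.Lib.Helper1
open scoped commutatorElement

namespace Cfsg.Agent.Lib.Helper3

/-- Hall–Higman Lemma 1.2.3 for a quotient of a `p`-solvable group with trivial `p'`-core. -/
theorem centralizer_pCore_le_of_psolvable_quotient {C : Type*} [Group C] [Finite C] {p : ℕ}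
    [Fact p.Prime] (hsol : Cfsg.IsPSolvable p C) (N : Subgroup C) [hN : N.Normal]
    (h0 : Cfsg.pPrimeCore p (C ⧸ N) = ⊥) :
    Subgroup.centralizer (Cfsg.pCore p (C ⧸ N) : Set (C ⧸ N)) ≤ Cfsg.pCore p (C ⧸ N) := by
  set Q := C ⧸ N with hQ
  set D := Cfsg.pCore p Q with hDdef
  have hDn : D.Normal := pCore_normal' p
  by_contra hnot
  have hfit : Cfsg.fittingSubgroup Q ≤ D := by
    rw [fitting_eq_pCoreSup]
    unfold pCoreSup
    apply iSup_le
    intro q
    by_cases hq : (q : ℕ) = p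
    · rw [hq]
    · have : Fact (q : ℕ).Prime := ⟨q.2⟩
      have h1 : Cfsg.pCore (q : ℕ) Q ≤ Cfsg.pPrimeCore p Q := by
        apply le_pPrimeCore _ (pCore_normal' _)
        obtain ⟨k, hk⟩ := IsPGroup.iff_card.1 (pCore_isPGroup (p := (q : ℕ)) (G := Q))
        rw [hk]
        apply Nat.Coprime.pow_left
        exact (Nat.coprime_primes q.2 Fact.out).2 hq
      rw [h0] at h1
      exact h1.trans bot_le
  obtain ⟨L, hL, hLC⟩ := exists_component_le_centralizer D hfit hnot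
  set Y : Subgroup C := L.comap (QuotientGroup.mk' N) with hY
  let f : ↥Y →* ↥L :=
    ((QuotientGroup.mk' N).comp Y.subtype).codRestrict L (fun y => y.2)
  have hf : Function.Surjective f := by
    rintro ⟨lbar, hl⟩
    obtain ⟨l, rfl⟩ := QuotientGroup.mk'_surjective N lbar
    exact ⟨⟨l, hl⟩, rfl⟩
  have h1 : (Nat.card ↥L).Coprime p := coprime_card_of_psolvable_section hsol Y hL.2 f hf
  have h2 : p ∣ Nat.card ↥L := component_p_dvd_card p h0 hL
  have h3 : p ∣ Nat.gcd (Nat.card ↥L) p := Nat.dvd_gcd h2 dvd_rfl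
  rw [h1] at h3
  exact (Fact.out : p.Prime).one_lt.ne' (Nat.dvd_one.mp h3)

/-- `O_{p'}` of the quotient by the full preimage of `O_{p'}(G/U)` is trivial. -/
theorem pPrimeCore_quotient_comap_eq_bot {G : Type*} [Group G] [Finite G] (p : ℕ) [Fact p.Prime]
    (U : Subgroup G) [hU : U.Normal] :
    Cfsg.pPrimeCore p
      (G ⧸ ((Cfsg.pPrimeCore p (G ⧸ U)).comap (QuotientGroup.mk' U))) = ⊥ := by
  have hn : (Cfsg.pPrimeCore p (G ⧸ U)).Normal := pPrimeCore_normal' p
  set M : Subgroup G := (Cfsg.pPrimeCore p (G ⧸ U)).comap (QuotientGroup.mk' U) with hM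
  have hUM : U ≤ M := by
    intro x hx
    show (QuotientGroup.mk' U x) ∈ Cfsg.pPrimeCore p (G ⧸ U)
    have h1 : (QuotientGroup.mk' U) x = 1 := (QuotientGroup.eq_one_iff x).mpr hx
    rw [h1]; exact Subgroup.one_mem _
  have hmap : M.map (QuotientGroup.mk' U) = Cfsg.pPrimeCore p (G ⧸ U) :=
    Subgroup.map_comap_eq_self_of_surjective (QuotientGroup.mk'_surjective U) _
  have e1 : (G ⧸ U) ⧸ M.map (QuotientGroup.mk' U) ≃* G ⧸ M :=
    QuotientGroup.quotientQuotientEquivQuotient U M hUM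
  have e2 : (G ⧸ U) ⧸ Cfsg.pPrimeCore p (G ⧸ U) ≃* (G ⧸ U) ⧸ M.map (QuotientGroup.mk' U) :=
    QuotientGroup.quotientMulEquivOfEq hmap.symm
  have h := pPrimeCore_map_equiv p (e2.trans e1)
  rw [pPrimeCore_quotient_eq_bot, Subgroup.map_bot] at h
  exact h.symm

end Cfsg.Agent.Lib.Helper3
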