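import Mathlib
import Cfsg.Prelude.Def_Transfer
import Cfsg.Prelude.Def_Local
import Cfsg.Agent.Lib.Helper3.NPC
import Cfsg.Agent.Lib.Helper3.GTConfig
import Cfsg.Agent.Lib.Helper3.Frattini
import Cfsg.Agent.Lib.Helper3.PSolv2
import Cfsg.Agent.Lib.Helper3.PGroupAux
import Cfsg.Agent.S0658

set_option autoImplicit false
set_option linter.unusedSectionVars false
set_option linter.style.haveILetI false
open scoped commutatorElement
open Cfsg Cfsg.Agent.Lib.Helper1 Cfsg.Agent.Lib.Helper4

/-! The Glauberman--Thompson normal `p`-complement theorem (for the abelian version of the Thompson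
subgroup): if `p` is odd and `N_G(Z(J(P)))` has a normal `p`-complement then so has `G`. -/

namespace Cfsg.Agent.Lib.Helper3

universe u

section gt
variable {G : Type u} [Group G] [Finite G] {p : ℕ} [Fact p.Prime]

/-- induction hypothesis of the Glauberman--Thompson theorem -/
def GTHyp (p : ℕ) (G : Type u) [Group G] : Prop :=
  ∀ (H : Type u) [Group H] [Finite H], Nat.card H < Nat.card G → ∀ P : Sylow p H,
    HasNormalPComplement p ↥(Subgroup.normalizer ((zq 0 (P : Subgroup H) : Subgroup H) : Set H)) →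
      HasNormalPComplement p H

lemma npc_subgroupOf {N : Subgroup G} (L : Subgroup G) (h : HasNormalPComplement p ↥N) :
    HasNormalPComplement p ↥(N.subgroupOf L) := by
  have h3 : HasNormalPComplement p ↥(N ⊓ L : Subgroup G) := npc_of_le inf_le_left h
  have h4 : HasNormalPComplement p ↥((N ⊓ L).subgroupOf L) :=
    npc_of_equiv (Subgroup.subgroupOfEquivOfLe inf_le_right).symm h3
  exact npc_of_eq (Subgroup.inf_subgroupOf_right N L) h4

lemma npc_normalizer_conj (g : G) (Z : Subgroup G)
    (h : HasNormalPComplement p ↥(Subgroup.normalizer (Z : Set G))) :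
    HasNormalPComplement p
      ↥(Subgroup.normalizer ((Z.map (MulAut.conj g).toMonoidHom : Subgroup G) : Set G)) :=
  npc_of_eq (Subgroup.map_equiv_normalizer_eq Z (MulAut.conj g)) (npc_map_conj g _ h)

lemma card_quotient_lt (N : Subgroup G) [N.Normal] (hN : N ≠ ⊥) :
    Nat.card (G ⧸ N) < Nat.card G := by
  have h1 := Subgroup.card_eq_card_quotient_mul_card_subgroup N
  have h2 : 1 < Nat.card N := by
    rw [Subgroup.one_lt_card_iff_ne_bot]; exact hN
  have h3 : 0 < Nat.card (G ⧸ N) := Nat.card_pos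
  nlinarith

/-- the induction hypothesis applied to a proper subgroup -/
theorem npc_subgroup_of_ih (ih : GTHyp p G) (L : Subgroup G) (hL : L ≠ ⊤) (P' : Sylow p ↥L)
    (h : HasNormalPComplement p ↥(Subgroup.normalizer
      ((zq 0 ((P' : Subgroup ↥L).map L.subtype) : Subgroup G) : Set G))) :
    HasNormalPComplement p ↥L := by
  have hcard : Nat.card ↥L < Nat.card G := by
    have := card_lt_card_of_lt (lt_top_iff_ne_top.mpr hL)
    rwa [Subgroup.card_top] at this
  apply ih ↥L hcard P'
  have hinj : InjOnSub L.subtype (P' : Subgroup ↥L) :=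
    fun x _ hx => Subtype.ext (by simpa using hx)
  have hz := zq_map_injOn hinj 0
  rw [← hz] at h
  have hle : (zq 0 (P' : Subgroup ↥L)).map L.subtype ≤ L := Subgroup.map_subtype_le _
  have h1 := Subgroup.subgroupOf_normalizer_eq hle
  have h2 : ((zq 0 (P' : Subgroup ↥L)).map L.subtype).subgroupOf L = zq 0 (P' : Subgroup ↥L) :=
    Subgroup.comap_map_eq_self_of_injective (Subgroup.subtype_injective L) _
  rw [h2] at h1
  exact npc_of_eq h1 (npc_subgroupOf L h)

/-- when `O_p(G) = 1`, all `p`-local subgroups have normal `p`-complements -/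
theorem npc_normalizer_of_pCore_eq_bot (ih : GTHyp p G) (P : Sylow p G)
    (hN : HasNormalPComplement p
      ↥(Subgroup.normalizer ((zq 0 (P : Subgroup G) : Subgroup G) : Set G)))
    (hQ : Cfsg.pCore p G = ⊥) :
    ∀ k : ℕ, ∀ H : Subgroup G, IsPGroup p H → H ≠ ⊥ →
      Nat.card (P : Subgroup G) -
        p ^ ((Nat.card ↥(Subgroup.normalizer (H : Set G))).factorization p) = k →
      HasNormalPComplement p ↥(Subgroup.normalizer (H : Set G)) := by
  intro k
  induction k using Nat.strong_induction_on with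
  | _ k ihk =>
  intro H hHp hH1 hk
  have hpp : p.Prime := Fact.out
  have hNtop : Subgroup.normalizer (H : Set G) ≠ ⊤ := by
    intro htop
    have hn : H.Normal := Subgroup.normalizer_eq_top_iff.mp htop
    have := le_pCore H hn hHp
    rw [hQ] at this
    exact hH1 (le_bot_iff.mp this)
  obtain ⟨P'⟩ : Nonempty (Sylow p ↥(Subgroup.normalizer (H : Set G))) := inferInstance
  apply npc_subgroup_of_ih ih _ hNtop P'
  have hRsp : IsPGroup p ↥((P' : Subgroup ↥(Subgroup.normalizer (H : Set G))).map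
      (Subgroup.normalizer (H : Set G)).subtype) := P'.isPGroup'.map _
  have hRscard : Nat.card ↥((P' : Subgroup ↥(Subgroup.normalizer (H : Set G))).map
      (Subgroup.normalizer (H : Set G)).subtype) =
      p ^ ((Nat.card ↥(Subgroup.normalizer (H : Set G))).factorization p) := by
    rw [Subgroup.card_map_of_injective (Subgroup.subtype_injective _)]
    exact P'.card_eq_multiplicity
  have hHRs : H ≤ (P' : Subgroup ↥(Subgroup.normalizer (H : Set G))).map
      (Subgroup.normalizer (H : Set G)).subtype := by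
    have hn : (H.subgroupOf (Subgroup.normalizer (H : Set G))).Normal :=
      Subgroup.normal_in_normalizer
    have hp' : IsPGroup p ↥(H.subgroupOf (Subgroup.normalizer (H : Set G))) := hHp.comap_subtype
    have h1 : H.subgroupOf (Subgroup.normalizer (H : Set G)) ≤
        (P' : Subgroup ↥(Subgroup.normalizer (H : Set G))) := hp'.le_sylow_of_normal P'
    intro x hx
    exact Subgroup.mem_map.mpr
      ⟨⟨x, Subgroup.le_normalizer hx⟩, h1 (by simpa [Subgroup.mem_subgroupOf] using hx), rfl⟩
  generalize hRs : (P' : Subgroup ↥(Subgroup.normalizer (H : Set G))).map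
      (Subgroup.normalizer (H : Set G)).subtype = Rs at hRsp hRscard hHRs ⊢
  have hRs1 : Rs ≠ ⊥ := by
    intro h
    rw [h] at hHRs
    exact hH1 (le_bot_iff.mp hHRs)
  have hZ1 : zq 0 Rs ≠ ⊥ := Cfsg.Agent.S0658.zq_ne_bot hRsp hRs1
  have hZRs : zq 0 Rs ≤ Rs := (zq_le_jq 0 _).trans (jq_le 0 _)
  have hZp : IsPGroup p ↥(zq 0 Rs) := hRsp.to_le hZRs
  have hPcard := P.card_eq_multiplicity
  have hfle : ∀ M : Subgroup G, (Nat.card ↥M).factorization p ≤ (Nat.card G).factorization p := by
    intro M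
    exact (Nat.factorization_le_iff_dvd Nat.card_pos.ne' Nat.card_pos.ne').mpr
      (Subgroup.card_subgroup_dvd_card M) p
  by_cases hcs : (Nat.card ↥(Subgroup.normalizer (H : Set G))).factorization p =
      (Nat.card G).factorization p
  · -- `Rs` is a Sylow `p`-subgroup of `G`
    let S : Sylow p G := Sylow.ofCard Rs (by rw [hRscard, hcs])
    have hS : (S : Subgroup G) = Rs := Sylow.coe_ofCard _ _
    obtain ⟨g, hg⟩ := MulAction.exists_smul_eq G P S
    have h1 : Rs = (P : Subgroup G).map (MulAut.conj g).toMonoidHom := by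
      rw [← hS, ← hg, sylow_smul_coe]
    rw [h1, ← zq_map_equiv (MulAut.conj g) 0 (P : Subgroup G)]
    exact npc_normalizer_conj g _ hN
  · have hlt : (Nat.card ↥(Subgroup.normalizer (H : Set G))).factorization p <
        (Nat.card G).factorization p := lt_of_le_of_ne (hfle _) hcs
    obtain ⟨S, hS⟩ := hRsp.exists_le_sylow
    have hne : Rs ≠ (S : Subgroup G) := by
      intro h
      have := S.card_eq_multiplicity
      rw [← h, hRscard] at this
      exact hcs (Nat.pow_right_injective hpp.two_le this)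
    obtain ⟨t, htS, htR, htN⟩ := exists_mem_normalizer_not_mem Rs (S : Subgroup G) S.isPGroup' hS hne
    have hT : Rs < (S : Subgroup G) ⊓ Subgroup.normalizer (Rs : Set G) := by
      refine lt_of_le_of_ne (le_inf hS Subgroup.le_normalizer) ?_
      intro h
      apply htR
      rw [h]
      exact Subgroup.mem_inf.mpr ⟨htS, htN⟩
    have hTp : IsPGroup p ↥((S : Subgroup G) ⊓ Subgroup.normalizer (Rs : Set G) : Subgroup G) :=
      S.isPGroup'.to_le inf_le_left
    have hTle : (S : Subgroup G) ⊓ Subgroup.normalizer (Rs : Set G) ≤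
        Subgroup.normalizer ((zq 0 Rs : Subgroup G) : Set G) :=
      inf_le_right.trans (normalizer_le_normalizer_zq 0 Rs)
    obtain ⟨j, hj⟩ := IsPGroup.iff_card.mp hTp
    have hjd : p ^ j ∣ Nat.card ↥(Subgroup.normalizer ((zq 0 Rs : Subgroup G) : Set G)) := by
      rw [← hj]; exact Subgroup.card_dvd_of_le hTle
    have hjle : j ≤ (Nat.card ↥(Subgroup.normalizer
        ((zq 0 Rs : Subgroup G) : Set G))).factorization p :=
      (hpp.pow_dvd_iff_le_factorization Nat.card_pos.ne').mp hjd
    have hlt2 : (Nat.card ↥(Subgroup.normalizer (H : Set G))).factorization p < j := by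
      have := card_lt_card_of_lt hT
      rw [hRscard, hj] at this
      exact (Nat.pow_lt_pow_iff_right hpp.one_lt).mp this
    refine ihk _ ?_ (zq 0 Rs) hZp hZ1 rfl
    have h1 : p ^ ((Nat.card ↥(Subgroup.normalizer (H : Set G))).factorization p) <
        p ^ ((Nat.card ↥(Subgroup.normalizer
          ((zq 0 Rs : Subgroup G) : Set G))).factorization p) :=
      Nat.pow_lt_pow_right hpp.one_lt (lt_of_lt_of_le hlt2 hjle)
    have h2 : p ^ ((Nat.card ↥(Subgroup.normalizer
          ((zq 0 Rs : Subgroup G) : Set G))).factorization p) ≤ Nat.card (P : Subgroup G) := by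
      rw [hPcard]
      exact Nat.pow_le_pow_right hpp.pos (hfle _)
    omega

/-- reduction to `O_{p'}(G) = 1` -/
theorem npc_of_pPrimeCore_ne_bot (ih : GTHyp p G) (P : Sylow p G)
    (hN : HasNormalPComplement p
      ↥(Subgroup.normalizer ((zq 0 (P : Subgroup G) : Subgroup G) : Set G)))
    (hD : Cfsg.pPrimeCore p G ≠ ⊥) : HasNormalPComplement p G := by
  have hDn : (Cfsg.pPrimeCore p G).Normal := Cfsg.pPrimeCore_normal p G
  have hDc : (Nat.card (Cfsg.pPrimeCore p G)).Coprime p := pPrimeCore_coprime p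
  apply npc_of_pprime_quotient (Cfsg.pPrimeCore p G) hDc
  have hcard : Nat.card (G ⧸ Cfsg.pPrimeCore p G) < Nat.card G := card_quotient_lt _ hD
  let P' : Sylow p (G ⧸ Cfsg.pPrimeCore p G) := P.mapSurjective (ppi_surjective (X := G) p)
  have hP' : (P' : Subgroup (G ⧸ Cfsg.pPrimeCore p G)) = (P : Subgroup G).map (ppi p G) := rfl
  apply ih _ hcard P'
  have hinj : InjOnSub (ppi p G) (P : Subgroup G) := by
    intro x hx h1
    have hxK : x ∈ Cfsg.pPrimeCore p G := (QuotientGroup.eq_one_iff x).mp h1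
    exact eq_one_of_mem_pgroup_of_mem_pprime P.isPGroup' hDc hx hxK
  rw [hP', ← zq_map_injOn hinj 0]
  have hZp : IsPGroup p ↥(zq 0 (P : Subgroup G)) :=
    P.isPGroup'.to_le ((zq_le_jq 0 _).trans (jq_le 0 _))
  refine npc_of_le ?_ (npc_map (ppi p G) _ hN)
  intro y hy
  obtain ⟨x, rfl⟩ := ppi_surjective (X := G) p y
  have hx : x ∈ (Subgroup.normalizer
      (((zq 0 (P : Subgroup G)).map (ppi p G) : Subgroup _) : Set _)).comap (ppi p G) := hy
  rw [Subgroup.comap_normalizer_eq_of_surjective _ (ppi_surjective (X := G) p),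
    Subgroup.comap_map_eq, QuotientGroup.ker_mk'] at hx
  obtain ⟨n, hnD, hn⟩ := exists_mul_mem_normalizer hDn hDc hZp x
    (fun z hz => conj_mem_of_mem_normalizer' hx (Subgroup.mem_sup_left hz))
  refine Subgroup.mem_map.mpr ⟨n * x, hn, ?_⟩
  have : ppi p G n = 1 := (QuotientGroup.eq_one_iff n).mpr hnD
  rw [map_mul, this, one_mul]

/-- `G / O_p(G)` has a normal `p`-complement -/
theorem npc_quot_pCore (ih : GTHyp p G) (P : Sylow p G)
    (hN : HasNormalPComplement p
      ↥(Subgroup.normalizer ((zq 0 (P : Subgroup G) : Subgroup G) : Set G)))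
    (hQ : Cfsg.pCore p G ≠ ⊥) (hPQ : ¬ (P : Subgroup G) ≤ Cfsg.pCore p G) :
    HasNormalPComplement p (G ⧸ Cfsg.pCore p G) := by
  have hcard : Nat.card (G ⧸ Cfsg.pCore p G) < Nat.card G := card_quotient_lt _ hQ
  have hsurj : Function.Surjective (opi p G) := opi_surjective
  let P' : Sylow p (G ⧸ Cfsg.pCore p G) := P.mapSurjective hsurj
  have hP' : (P' : Subgroup (G ⧸ Cfsg.pCore p G)) = (P : Subgroup G).map (opi p G) := rfl
  apply ih _ hcard P'
  rw [hP']
  have hPb1 : (P : Subgroup G).map (opi p G) ≠ ⊥ := by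
    intro h
    apply hPQ
    intro x hx
    have : opi p G x ∈ (P : Subgroup G).map (opi p G) := Subgroup.mem_map_of_mem _ hx
    rw [h, Subgroup.mem_bot] at this
    exact opi_eq_one_iff.mp this
  have hPbp : IsPGroup p ↥((P : Subgroup G).map (opi p G)) := P.isPGroup'.map _
  have hZb1 : zq 0 ((P : Subgroup G).map (opi p G)) ≠ ⊥ := Cfsg.Agent.S0658.zq_ne_bot hPbp hPb1
  have hZbP : zq 0 ((P : Subgroup G).map (opi p G)) ≤ (P : Subgroup G).map (opi p G) :=
    (zq_le_jq 0 _).trans (jq_le 0 _)
  have hYtop : Subgroup.normalizer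
      (((zq 0 ((P : Subgroup G).map (opi p G))).comap (opi p G) : Subgroup G) : Set G) ≠ ⊤ := by
    intro htop
    have hn : ((zq 0 ((P : Subgroup G).map (opi p G))).comap (opi p G)).Normal :=
      Subgroup.normalizer_eq_top_iff.mp htop
    have hn' : (zq 0 ((P : Subgroup G).map (opi p G))).Normal := by
      have := hn.map (opi p G) hsurj
      rwa [Subgroup.map_comap_eq_self_of_surjective hsurj] at this
    exact hZb1 (normal_pgroup_quot_pCore_eq_bot _ hn' (hPbp.to_le hZbP))
  have hcomapN : (Subgroup.normalizer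
      ((zq 0 ((P : Subgroup G).map (opi p G)) : Subgroup _) : Set _)).comap (opi p G) =
      Subgroup.normalizer
        (((zq 0 ((P : Subgroup G).map (opi p G))).comap (opi p G) : Subgroup G) : Set G) :=
    Subgroup.comap_normalizer_eq_of_surjective _ hsurj
  have hPY : (P : Subgroup G) ≤ Subgroup.normalizer
      (((zq 0 ((P : Subgroup G).map (opi p G))).comap (opi p G) : Subgroup G) : Set G) := by
    have h1 : (P : Subgroup G).map (opi p G) ≤ Subgroup.normalizer
        ((zq 0 ((P : Subgroup G).map (opi p G)) : Subgroup _) : Set _) :=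
      Subgroup.le_normalizer.trans (normalizer_le_normalizer_zq 0 _)
    rw [← hcomapN]
    intro x hx
    exact h1 (Subgroup.mem_map_of_mem _ hx)
  have hNY : HasNormalPComplement p ↥(Subgroup.normalizer
      (((zq 0 ((P : Subgroup G).map (opi p G))).comap (opi p G) : Subgroup G) : Set G)) := by
    apply npc_subgroup_of_ih ih _ hYtop (P.subtype hPY)
    rw [Sylow.coe_subtype, Subgroup.subgroupOf_map_subtype, inf_eq_left.mpr hPY]
    exact hN
  have h2 : (Subgroup.normalizer
      (((zq 0 ((P : Subgroup G).map (opi p G))).comap (opi p G) : Subgroup G) : Set G)).map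
        (opi p G) =
      Subgroup.normalizer ((zq 0 ((P : Subgroup G).map (opi p G)) : Subgroup _) : Set _) := by
    rw [← hcomapN, Subgroup.map_comap_eq_self_of_surjective hsurj]
  exact npc_of_eq h2 (npc_map _ _ hNY)

lemma sup_sylow_eq_top (K : Subgroup G) [K.Normal] (hGK : IsPGroup p (G ⧸ K)) (P : Sylow p G) :
    K ⊔ (P : Subgroup G) = ⊤ := by
  have hpp : p.Prime := Fact.out
  rw [← Subgroup.index_eq_one]
  obtain ⟨m, hm⟩ := IsPGroup.iff_card.mp hGK
  have h1 : (K ⊔ (P : Subgroup G)).index ∣ K.index := Subgroup.index_dvd_of_le le_sup_left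
  have h2 : (K ⊔ (P : Subgroup G)).index ∣ (P : Subgroup G).index :=
    Subgroup.index_dvd_of_le le_sup_right
  rw [Subgroup.index_eq_card K, hm] at h1
  obtain ⟨j, _, hj⟩ := (Nat.dvd_prime_pow hpp).mp h1
  rw [hj] at h2 ⊢
  cases j with
  | zero => rfl
  | succ j => exact absurd ((dvd_pow_self p (Nat.succ_ne_zero j)).trans h2) P.not_dvd_index

theorem centralizer_pCore_le_of_psolvable (hsol : Cfsg.IsPSolvable p G)
    (h0 : Cfsg.pPrimeCore p G = ⊥) :
    Subgroup.centralizer (Cfsg.pCore p G : Set G) ≤ Cfsg.pCore p G := by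
  let e : G ⧸ (⊥ : Subgroup G) ≃* G := QuotientGroup.quotientBot
  have h0' : Cfsg.pPrimeCore p (G ⧸ (⊥ : Subgroup G)) = ⊥ := by
    have := pPrimeCore_map_equiv p e.symm
    rw [h0, Subgroup.map_bot] at this
    exact this.symm
  have h1 := centralizer_pCore_le_of_psolvable_quotient hsol (⊥ : Subgroup G) h0'
  have h2 : (Cfsg.pCore p (G ⧸ (⊥ : Subgroup G))).map e.toMonoidHom = Cfsg.pCore p G :=
    pCore_map_equiv p e
  intro x hx
  have hx' : e.symm x ∈ Subgroup.centralizer
      (Cfsg.pCore p (G ⧸ (⊥ : Subgroup G)) : Set (G ⧸ (⊥ : Subgroup G))) := by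
    rw [Subgroup.mem_centralizer_iff]
    intro y hy
    have hy' : e y ∈ Cfsg.pCore p G := by
      rw [← h2]; exact Subgroup.mem_map_of_mem _ hy
    have := Subgroup.mem_centralizer_iff.mp hx (e y) hy'
    apply e.injective
    rw [map_mul, map_mul, e.apply_symm_apply]; exact this
  have := h1 hx'
  rw [← h2]
  exact ⟨e.symm x, this, e.apply_symm_apply x⟩

lemma isPSolvable_of_series (K : Subgroup G) [hKn : K.Normal] (hQK : Cfsg.pCore p G ≤ K)
    (hcop : (Nat.card ↥(K.map (opi p G))).Coprime p) (hGK : IsPGroup p (G ⧸ K)) :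
    Cfsg.IsPSolvable p G := by
  refine ⟨3, ![⊥, Cfsg.pCore p G, K, ⊤], rfl, rfl, ?_, ?_, ?_⟩
  · rw [Fin.monotone_iff_le_succ]
    intro i
    fin_cases i
    · exact bot_le
    · exact hQK
    · exact le_top
  · intro i
    fin_cases i
    · exact Subgroup.normal_bot
    · exact Cfsg.pCore_normal p G
    · exact hKn
    · exact Subgroup.normal_top
  · intro i
    fin_cases i
    · left
      obtain ⟨m, hm⟩ := IsPGroup.iff_card.mp (pCore_isPGroup (p := p) (G := G))
      refine ⟨m, ?_⟩
      show (⊥ : Subgroup G).relIndex (Cfsg.pCore p G) = p ^ m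
      rw [Subgroup.relIndex_bot_left]; exact hm
    · right
      show ((Cfsg.pCore p G).relIndex K).Coprime p
      have : (Cfsg.pCore p G).relIndex K = Nat.card ↥(K.map (opi p G)) := by
        have h := Subgroup.relIndex_comap (⊥ : Subgroup (G ⧸ Cfsg.pCore p G)) (opi p G) K
        rw [Subgroup.relIndex_bot_left, MonoidHom.comap_bot, QuotientGroup.ker_mk'] at h
        exact h
      rw [this]; exact hcop
    · left
      obtain ⟨m, hm⟩ := IsPGroup.iff_card.mp hGK
      refine ⟨m, ?_⟩
      show K.relIndex ⊤ = p ^ m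
      rw [Subgroup.relIndex_top_right, Subgroup.index_eq_card]; exact hm

/-- a Sylow `p`-subgroup is a maximal subgroup in a minimal counterexample -/
theorem sylow_maximal_of_ih (ih : GTHyp p G) (P : Sylow p G)
    (hN : HasNormalPComplement p
      ↥(Subgroup.normalizer ((zq 0 (P : Subgroup G) : Subgroup G) : Set G)))
    (hc : Subgroup.centralizer (Cfsg.pCore p G : Set G) ≤ Cfsg.pCore p G) :
    ∀ G₁ : Subgroup G, (P : Subgroup G) ≤ G₁ → G₁ = (P : Subgroup G) ∨ G₁ = ⊤ := by
  intro G₁ hPG
  by_cases htop : G₁ = ⊤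
  · right; exact htop
  left
  have h1 : HasNormalPComplement p ↥G₁ := by
    apply npc_subgroup_of_ih ih _ htop (P.subtype hPG)
    rw [Sylow.coe_subtype, Subgroup.subgroupOf_map_subtype, inf_eq_left.mpr hPG]
    exact hN
  obtain ⟨K₁, hK₁G, hGN, hK₁c, hpow⟩ := npc_internal h1
  have hQp : IsPGroup p ↥(Cfsg.pCore p G) := pCore_isPGroup
  have hQG : Cfsg.pCore p G ≤ G₁ := (pCore_le_sylow P).trans hPG
  have hK₁Q : K₁ ≤ Subgroup.centralizer (Cfsg.pCore p G : Set G) := by
    intro k hk
    rw [Subgroup.mem_centralizer_iff]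
    intro x hx
    have h2 : x * k * x⁻¹ * k⁻¹ ∈ K₁ :=
      K₁.mul_mem (conj_mem_of_mem_normalizer' (hGN (hQG hx)) hk) (K₁.inv_mem hk)
    have h3 : x * k * x⁻¹ * k⁻¹ ∈ Cfsg.pCore p G := by
      have : x * k * x⁻¹ * k⁻¹ = x * (k * x⁻¹ * k⁻¹) := by group
      rw [this]
      exact (Cfsg.pCore p G).mul_mem hx
        ((Cfsg.pCore_normal p G).conj_mem _ ((Cfsg.pCore p G).inv_mem hx) k)
    have h4 : x * k * x⁻¹ * k⁻¹ = 1 := eq_one_of_mem_pgroup_of_mem_pprime hQp hK₁c h3 h2
    have e : x * k = (x * k * x⁻¹ * k⁻¹) * (k * x) := by group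
    rw [e, h4, one_mul]
  have hK₁bot : K₁ = ⊥ := by
    rw [eq_bot_iff]
    intro k hk
    exact Subgroup.mem_bot.mpr (eq_one_of_mem_pgroup_of_mem_pprime hQp hK₁c (hc (hK₁Q hk)) hk)
  have hG₁p : IsPGroup p ↥G₁ := by
    intro a
    obtain ⟨n, hn⟩ := hpow a a.2
    rw [hK₁bot, Subgroup.mem_bot] at hn
    exact ⟨n, Subtype.ext (by simpa using hn)⟩
  exact P.is_maximal' hG₁p hPG

/-- the final step: `G / O_p(G)` has a normal `p`-complement and `O_{p'}(G) = 1` -/
theorem npc_of_quot (ih : GTHyp p G) (hp : p ≠ 2) (P : Sylow p G)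
    (hN : HasNormalPComplement p
      ↥(Subgroup.normalizer ((zq 0 (P : Subgroup G) : Subgroup G) : Set G)))
    (hD : Cfsg.pPrimeCore p G = ⊥) (hK : HasNormalPComplement p (G ⧸ Cfsg.pCore p G)) :
    HasNormalPComplement p G := by
  obtain ⟨Kb, hKbn, hKbc, hKbq⟩ := exists_normal_hall_of_hasNormalPComplement p hK
  have hsurj : Function.Surjective (opi p G) := opi_surjective
  haveI hKn : (Kb.comap (opi p G)).Normal := hKbn.comap _
  have hQK : Cfsg.pCore p G ≤ Kb.comap (opi p G) := by
    intro x hx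
    rw [Subgroup.mem_comap, opi_eq_one_iff.mpr hx]
    exact Subgroup.one_mem _
  have hmapK : (Kb.comap (opi p G)).map (opi p G) = Kb :=
    Subgroup.map_comap_eq_self_of_surjective hsurj _
  have hGK : IsPGroup p (G ⧸ Kb.comap (opi p G)) := by
    intro y
    induction y using QuotientGroup.induction_on with
    | H x =>
      obtain ⟨n, hn⟩ := hKbq ((opi p G x : G ⧸ Cfsg.pCore p G) : (G ⧸ Cfsg.pCore p G) ⧸ Kb)
      refine ⟨n, ?_⟩
      rw [← QuotientGroup.mk_pow, QuotientGroup.eq_one_iff]
      rw [← QuotientGroup.mk_pow, QuotientGroup.eq_one_iff, ← map_pow] at hn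
      exact hn
  have hcop : (Nat.card ↥((Kb.comap (opi p G)).map (opi p G))).Coprime p := by
    rw [hmapK]; exact hKbc
  have hKP : Kb.comap (opi p G) ⊔ (P : Subgroup G) = ⊤ := sup_sylow_eq_top _ hGK P
  have hsol : Cfsg.IsPSolvable p G := isPSolvable_of_series _ hQK hcop hGK
  have hc := centralizer_pCore_le_of_psolvable hsol hD
  have conf : GTConf P (Kb.comap (opi p G)) :=
    ⟨hc, sylow_maximal_of_ih ih P hN hc, hKn, hQK, hcop, hKP⟩
  have hZn := conf.zq_normal hp 0
  have h2 : Subgroup.normalizer ((zq 0 (P : Subgroup G) : Subgroup G) : Set G) = ⊤ :=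
    Subgroup.normalizer_eq_top_iff.mpr hZn
  exact npc_of_top (npc_of_eq h2 hN)

end gt

/-- **Glauberman--Thompson**: for odd `p`, if `N_G(Z(J(P)))` has a normal `p`-complement then so
has `G` -/
theorem gt_main {p : ℕ} [Fact p.Prime] (hp : p ≠ 2) :
    ∀ (n : ℕ) (G : Type u) [Group G] [Finite G], Nat.card G = n → ∀ P : Sylow p G,
      HasNormalPComplement p
        ↥(Subgroup.normalizer ((zq 0 (P : Subgroup G) : Subgroup G) : Set G)) →
      HasNormalPComplement p G := by
  intro n
  induction n using Nat.strong_induction_on with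
  | _ n IH =>
  intro G _ _ hn P hN
  have ih : GTHyp p G := by
    intro H _ _ hlt P' h'
    exact IH (Nat.card H) (hn ▸ hlt) H rfl P' h'
  by_cases hD : Cfsg.pPrimeCore p G = ⊥
  swap
  · exact npc_of_pPrimeCore_ne_bot ih P hN hD
  by_cases hQ : Cfsg.pCore p G = ⊥
  · apply hasNormalPComplement_of_local p
    intro H hHp hH1
    exact npc_normalizer_of_pCore_eq_bot ih P hN hQ _ H hHp hH1 rfl
  by_cases hPQ : (P : Subgroup G) ≤ Cfsg.pCore p G
  · have hPeq : (P : Subgroup G) = Cfsg.pCore p G := le_antisymm hPQ (pCore_le_sylow P)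
    have hPn : (P : Subgroup G).Normal := hPeq ▸ Cfsg.pCore_normal p G
    have h1 : Subgroup.normalizer ((P : Subgroup G) : Set G) = ⊤ :=
      Subgroup.normalizer_eq_top_iff.mpr hPn
    have h2 : Subgroup.normalizer ((zq 0 (P : Subgroup G) : Subgroup G) : Set G) = ⊤ := by
      rw [eq_top_iff, ← h1]; exact normalizer_le_normalizer_zq 0 _
    exact npc_of_top (npc_of_eq h2 hN)
  · exact npc_of_quot ih hp P hN hD (npc_quot_pCore ih P hN hQ hPQ)

end Cfsg.Agent.Lib.Helper3
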