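import Mathlib
import Cfsg.Prelude.Def_LocalEven

set_option autoImplicit false
set_option linter.unusedSectionVars false
set_option linter.style.haveILetI false

/-! Sections of a group (`Cfsg.Involves`): sections of sections are sections. -/

namespace Cfsg.Agent.Lib.Helper3

universe u v w

section sections
variable {G : Type v} [Group G]

/-- a surjection from a subgroup whose kernel is cut out by a subgroup gives a section -/
lemma involves_of_surjective {X : Type u} [Group X] (K R : Subgroup G) (ψ : ↥K →* X)
    (hs : Function.Surjective ψ) (hk : ψ.ker = R.subgroupOf K) : Cfsg.Involves X G := by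
  haveI hn : (R.subgroupOf K).Normal := hk ▸ ψ.normal_ker
  exact ⟨K, R, hn, ⟨(QuotientGroup.quotientMulEquivOfEq hk.symm).trans
    (QuotientGroup.quotientKerEquivOfSurjective ψ hs)⟩⟩

/-- a section is the image of a subgroup -/
lemma exists_surjective_of_involves {X : Type u} [Group X] (h : Cfsg.Involves X G) :
    ∃ (K R : Subgroup G) (ψ : ↥K →* X), Function.Surjective ψ ∧ ψ.ker = R.subgroupOf K := by
  obtain ⟨K, R, hn, ⟨e⟩⟩ := h
  haveI := hn
  refine ⟨K, R, e.toMonoidHom.comp (QuotientGroup.mk' (R.subgroupOf K)), ?_, ?_⟩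
  · exact e.surjective.comp (QuotientGroup.mk'_surjective _)
  · ext x
    rw [MonoidHom.mem_ker, MonoidHom.comp_apply]
    constructor
    · intro hx
      have h1 : (QuotientGroup.mk' (R.subgroupOf K)) x = 1 := by
        apply e.injective
        rw [map_one]; exact hx
      exact (QuotientGroup.eq_one_iff x).mp h1
    · intro hx
      have h1 : (QuotientGroup.mk' (R.subgroupOf K)) x = 1 := (QuotientGroup.eq_one_iff x).mpr hx
      rw [h1]; exact map_one _

lemma involves_self : Cfsg.Involves G G := by
  refine involves_of_surjective (X := G) ⊤ ⊥ (Subgroup.topEquiv (G := G)).toMonoidHom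
    (Subgroup.topEquiv (G := G)).surjective ?_
  ext x
  rw [MonoidHom.mem_ker, Subgroup.mem_subgroupOf, Subgroup.mem_bot]
  constructor
  · intro hx
    exact hx
  · intro hx
    exact hx

lemma involves_of_equiv {X : Type u} [Group X] {Y : Type w} [Group Y] (e : X ≃* Y)
    (h : Cfsg.Involves X G) : Cfsg.Involves Y G := by
  obtain ⟨K, R, hn, ⟨e'⟩⟩ := h
  exact ⟨K, R, hn, ⟨e'.trans e⟩⟩

/-- subgroups of sections are sections -/
lemma involves_subgroup {X : Type u} [Group X] (h : Cfsg.Involves X G) (L : Subgroup X) :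
    Cfsg.Involves ↥L G := by
  obtain ⟨K, R, ψ, hs, hk⟩ := exists_surjective_of_involves h
  have hle : (L.comap ψ).map K.subtype ≤ K := Subgroup.map_subtype_le _
  have hmem : ∀ x : ↥((L.comap ψ).map K.subtype), ψ (Subgroup.inclusion hle x) ∈ L := by
    intro x
    obtain ⟨k, hkL, hkx⟩ := Subgroup.mem_map.mp x.2
    have : Subgroup.inclusion hle x = k := Subtype.ext hkx.symm
    rw [this]; exact hkL
  refine involves_of_surjective (X := ↥L) ((L.comap ψ).map K.subtype) R
    ((ψ.comp (Subgroup.inclusion hle)).codRestrict L hmem) ?_ ?_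
  · rintro ⟨l, hl⟩
    obtain ⟨k, rfl⟩ := hs l
    refine ⟨⟨(k : G), Subgroup.mem_map.mpr ⟨k, hl, rfl⟩⟩, ?_⟩
    apply Subtype.ext
    rfl
  · ext x
    rw [MonoidHom.mem_ker, Subgroup.mem_subgroupOf]
    have h1 : ((ψ.comp (Subgroup.inclusion hle)).codRestrict L hmem) x = 1 ↔
        ψ (Subgroup.inclusion hle x) = 1 := by
      constructor
      · intro hx; exact congrArg Subtype.val hx
      · intro hx; exact Subtype.ext hx
    rw [h1, ← MonoidHom.mem_ker, hk, Subgroup.mem_subgroupOf]
    rfl

/-- quotients of sections are sections -/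
lemma involves_quotient {X : Type u} [Group X] (h : Cfsg.Involves X G) (N : Subgroup X)
    [N.Normal] : Cfsg.Involves (X ⧸ N) G := by
  obtain ⟨K, R, ψ, hs, _⟩ := exists_surjective_of_involves h
  refine involves_of_surjective (X := X ⧸ N) K ((N.comap ψ).map K.subtype)
    ((QuotientGroup.mk' N).comp ψ) ((QuotientGroup.mk'_surjective N).comp hs) ?_
  have h1 : ((N.comap ψ).map K.subtype).subgroupOf K = N.comap ψ :=
    Subgroup.comap_map_eq_self_of_injective (Subgroup.subtype_injective K) _
  rw [h1]
  ext x
  rw [MonoidHom.mem_ker, MonoidHom.comp_apply, Subgroup.mem_comap]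
  exact QuotientGroup.eq_one_iff (ψ x)

end sections

end Cfsg.Agent.Lib.Helper3
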