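import Mathlib
import Cfsg.Prelude.Def_ConjugacyFunctors
import Cfsg.Agent.Lib.Helper3.Sections
import Cfsg.Agent.Lib.Helper3.GTMain

set_option autoImplicit false
set_option linter.unusedSectionVars false
set_option linter.style.haveILetI false
open scoped commutatorElement
open Cfsg Cfsg.Agent.Lib.Helper1 Cfsg.Agent.Lib.Helper4

/-! The Glauberman--Thompson induction for an arbitrary isomorphism-invariant `p`-group functor `W`:
if `N_G(W(S))` has a normal `p`-complement and `W(T)` is normal in every section of `G` in the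
"final configuration", then `G` has a normal `p`-complement. -/

namespace Cfsg.Agent.Lib.Helper3

universe u

section functor
variable {p : ℕ} [Fact p.Prime] {W : ∀ (Q : Type u) [Group Q], Subgroup Q}

lemma wf_le {X : Type u} [Group X] (P : Subgroup X) : Cfsg.inducedFunctor W P ≤ P :=
  Subgroup.map_subtype_le _

lemma wf_ne_bot (hW : Cfsg.IsCharPFunctor.{u} p W) {X : Type u} [Group X] [Finite X]
    {P : Subgroup X} (hP : IsPGroup p P) (hne : P ≠ ⊥) : Cfsg.inducedFunctor W P ≠ ⊥ := by
  have hnt : Nontrivial ↥P := (Subgroup.nontrivial_iff_ne_bot P).mpr hne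
  have h1 : W ↥P ≠ ⊥ := hW.1 ↥P hP hnt
  intro h
  exact h1 ((Subgroup.map_eq_bot_iff_of_injective _ (Subgroup.subtype_injective P)).mp h)

/-- the induced functor commutes with homomorphisms which are injective on the subgroup -/
theorem wf_map_injOn (hW : Cfsg.IsCharPFunctor.{u} p W) {X Y : Type u} [Group X] [Finite X]
    [Group Y] (f : X →* Y) {P : Subgroup X} (hP : IsPGroup p P) (hf : InjOnSub f P) :
    Cfsg.inducedFunctor W (P.map f) = (Cfsg.inducedFunctor W P).map f := by
  have hinj : Function.Injective (f.subgroupMap P) := by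
    intro x y hxy
    have h1 : f (x : X) = f (y : X) := congrArg Subtype.val hxy
    exact Subtype.ext (hf.eq x.2 y.2 h1)
  let e : ↥P ≃* ↥(P.map f) :=
    MulEquiv.ofBijective (f.subgroupMap P) ⟨hinj, f.subgroupMap_surjective P⟩
  have h := hW.2 ↥P ↥(P.map f) hP e
  unfold Cfsg.inducedFunctor
  rw [← h, Subgroup.map_map, Subgroup.map_map]
  rfl

lemma wf_map_conj (hW : Cfsg.IsCharPFunctor.{u} p W) {X : Type u} [Group X] [Finite X]
    {P : Subgroup X} (hP : IsPGroup p P) (g : X) :
    Cfsg.inducedFunctor W (P.map (MulAut.conj g).toMonoidHom) =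
      (Cfsg.inducedFunctor W P).map (MulAut.conj g).toMonoidHom :=
  wf_map_injOn hW _ hP (fun x _ hx => by
    have : (MulAut.conj g) x = (MulAut.conj g) 1 := by rw [map_one]; exact hx
    exact (MulAut.conj g).injective this)

lemma normalizer_le_normalizer_wf (hW : Cfsg.IsCharPFunctor.{u} p W) {X : Type u} [Group X]
    [Finite X] {P : Subgroup X} (hP : IsPGroup p P) :
    Subgroup.normalizer (P : Set X) ≤
      Subgroup.normalizer ((Cfsg.inducedFunctor W P : Subgroup X) : Set X) := by
  intro g hg
  rw [Subgroup.mem_normalizer_iff_map_conj_eq] at hg ⊢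
  have := wf_map_conj hW hP g
  have hg' : P.map (MulAut.conj g).toMonoidHom = P := hg
  rw [hg'] at this
  exact this.symm

/-- the property of the functor in the final configuration -/
def GoodW (p : ℕ) (W : ∀ (Q : Type u) [Group Q], Subgroup Q) (X : Type u) [Group X] : Prop :=
  ∀ T : Sylow p X, IsCoatom (T : Subgroup X) →
    Subgroup.centralizer (Cfsg.pCore p X : Set X) ≤ Cfsg.pCore p X →
    Cfsg.HasNormalPComplement p (X ⧸ Cfsg.pCore p X) →
    (Cfsg.inducedFunctor W (T : Subgroup X)).Normal

/-- `GoodW` is invariant under isomorphisms -/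
theorem goodW_of_equiv (hW : Cfsg.IsCharPFunctor.{u} p W) {X Y : Type u} [Group X] [Finite X]
    [Group Y] [Finite Y] (e : X ≃* Y) (h : GoodW p W X) : GoodW p W Y := by
  intro T' hco hc hnpc
  let T : Sylow p X := T'.mapSurjective (f := e.symm.toMonoidHom) e.symm.surjective
  have hT : (T : Subgroup X) = (T' : Subgroup Y).map e.symm.toMonoidHom := rfl
  have hTT' : (T : Subgroup X).map e.toMonoidHom = (T' : Subgroup Y) := by
    rw [hT, map_symm_map]
  have hpc : (Cfsg.pCore p X).map e.toMonoidHom = Cfsg.pCore p Y := pCore_map_equiv p e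
  -- coatom
  have hcoT : IsCoatom (T : Subgroup X) := by
    constructor
    · intro htop
      apply hco.1
      rw [← hTT', htop]
      exact Subgroup.map_top_of_surjective _ e.surjective
    · intro M hM
      have h1 : (T' : Subgroup Y) < M.map e.toMonoidHom := by
        rw [← hTT']
        refine lt_of_le_of_ne (Subgroup.map_mono hM.le) ?_
        intro heq
        have := congrArg (Subgroup.map e.symm.toMonoidHom) heq
        rw [map_map_symm, map_map_symm] at this
        exact hM.ne this
      have h2 := hco.2 _ h1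
      have := congrArg (Subgroup.map e.symm.toMonoidHom) h2
      rw [map_map_symm, Subgroup.map_top_of_surjective _ e.symm.surjective] at this
      exact this
  -- centralizer
  have hcX : Subgroup.centralizer (Cfsg.pCore p X : Set X) ≤ Cfsg.pCore p X := by
    intro x hx
    have hx' : e x ∈ Subgroup.centralizer (Cfsg.pCore p Y : Set Y) := by
      rw [Subgroup.mem_centralizer_iff]
      intro y hy
      rw [← hpc] at hy
      obtain ⟨z, hz, rfl⟩ := hy
      have := Subgroup.mem_centralizer_iff.mp hx z hz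
      show e z * e x = e x * e z
      rw [← map_mul, ← map_mul, this]
    have h1 := hc hx'
    rw [← hpc] at h1
    obtain ⟨z, hz, hzx⟩ := h1
    have : z = x := e.injective hzx
    rw [← this]; exact hz
  -- quotient
  have hnpcX : Cfsg.HasNormalPComplement p (X ⧸ Cfsg.pCore p X) := by
    have hpc' : (Cfsg.pCore p Y).map (e.symm : Y →* X) = Cfsg.pCore p X := pCore_map_equiv p e.symm
    exact npc_of_equiv (QuotientGroup.congr (Cfsg.pCore p Y) (Cfsg.pCore p X) e.symm hpc') hnpc
  have hn := h T hcoT hcX hnpcX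
  have h3 : Cfsg.inducedFunctor W (T' : Subgroup Y) =
      (Cfsg.inducedFunctor W (T : Subgroup X)).map e.toMonoidHom := by
    rw [← hTT']
    exact wf_map_injOn hW e.toMonoidHom T.isPGroup' (fun x _ hx => by
      have : e x = e 1 := by rw [map_one]; exact hx
      exact e.injective this)
  rw [h3]
  exact hn.map _ e.surjective

variable (G₀ : Type u) [Group G₀]

/-- induction hypothesis -/
def FHyp (p : ℕ) (W : ∀ (Q : Type u) [Group Q], Subgroup Q) (G₀ : Type u) [Group G₀]
    (X : Type u) [Group X] : Prop :=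
  ∀ (H : Type u) [Group H] [Finite H], Cfsg.Involves H G₀ → Nat.card H < Nat.card X →
    ∀ P : Sylow p H,
      HasNormalPComplement p ↥(Subgroup.normalizer
        ((Cfsg.inducedFunctor W (P : Subgroup H) : Subgroup H) : Set H)) →
      HasNormalPComplement p H

variable {G₀} {X : Type u} [Group X] [Finite X]

/-- the induction hypothesis applied to a proper subgroup -/
theorem f_npc_subgroup_of_ih (hW : Cfsg.IsCharPFunctor.{u} p W) (hX : Cfsg.Involves X G₀)
    (ih : FHyp p W G₀ X) (L : Subgroup X) (hL : L ≠ ⊤) (P' : Sylow p ↥L)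
    (h : HasNormalPComplement p ↥(Subgroup.normalizer
      ((Cfsg.inducedFunctor W ((P' : Subgroup ↥L).map L.subtype) : Subgroup X) : Set X))) :
    HasNormalPComplement p ↥L := by
  have hcard : Nat.card ↥L < Nat.card X := by
    have := card_lt_card_of_lt (lt_top_iff_ne_top.mpr hL)
    rwa [Subgroup.card_top] at this
  apply ih ↥L (involves_subgroup hX L) hcard P'
  have hinj : InjOnSub L.subtype (P' : Subgroup ↥L) :=
    fun x _ hx => Subtype.ext (by simpa using hx)
  have hz := wf_map_injOn hW L.subtype P'.isPGroup' hinj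
  rw [hz] at h
  have hle : (Cfsg.inducedFunctor W (P' : Subgroup ↥L)).map L.subtype ≤ L :=
    Subgroup.map_subtype_le _
  have h1 := Subgroup.subgroupOf_normalizer_eq hle
  have h2 : ((Cfsg.inducedFunctor W (P' : Subgroup ↥L)).map L.subtype).subgroupOf L =
      Cfsg.inducedFunctor W (P' : Subgroup ↥L) :=
    Subgroup.comap_map_eq_self_of_injective (Subgroup.subtype_injective L) _
  rw [h2] at h1
  exact npc_of_eq h1 (npc_subgroupOf L h)

/-- when `O_p(X) = 1`, all `p`-local subgroups have normal `p`-complements -/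
theorem f_npc_normalizer_of_pCore_eq_bot (hW : Cfsg.IsCharPFunctor.{u} p W)
    (hX : Cfsg.Involves X G₀) (ih : FHyp p W G₀ X) (P : Sylow p X)
    (hN : HasNormalPComplement p
      ↥(Subgroup.normalizer ((Cfsg.inducedFunctor W (P : Subgroup X) : Subgroup X) : Set X)))
    (hQ : Cfsg.pCore p X = ⊥) :
    ∀ k : ℕ, ∀ H : Subgroup X, IsPGroup p H → H ≠ ⊥ →
      Nat.card (P : Subgroup X) -
        p ^ ((Nat.card ↥(Subgroup.normalizer (H : Set X))).factorization p) = k →
      HasNormalPComplement p ↥(Subgroup.normalizer (H : Set X)) := by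
  intro k
  induction k using Nat.strong_induction_on with
  | _ k ihk =>
  intro H hHp hH1 hk
  have hpp : p.Prime := Fact.out
  have hNtop : Subgroup.normalizer (H : Set X) ≠ ⊤ := by
    intro htop
    have hn : H.Normal := Subgroup.normalizer_eq_top_iff.mp htop
    have := le_pCore H hn hHp
    rw [hQ] at this
    exact hH1 (le_bot_iff.mp this)
  obtain ⟨P'⟩ : Nonempty (Sylow p ↥(Subgroup.normalizer (H : Set X))) := inferInstance
  apply f_npc_subgroup_of_ih hW hX ih _ hNtop P'
  have hRsp : IsPGroup p ↥((P' : Subgroup ↥(Subgroup.normalizer (H : Set X))).map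
      (Subgroup.normalizer (H : Set X)).subtype) := P'.isPGroup'.map _
  have hRscard : Nat.card ↥((P' : Subgroup ↥(Subgroup.normalizer (H : Set X))).map
      (Subgroup.normalizer (H : Set X)).subtype) =
      p ^ ((Nat.card ↥(Subgroup.normalizer (H : Set X))).factorization p) := by
    rw [Subgroup.card_map_of_injective (Subgroup.subtype_injective _)]
    exact P'.card_eq_multiplicity
  have hHRs : H ≤ (P' : Subgroup ↥(Subgroup.normalizer (H : Set X))).map
      (Subgroup.normalizer (H : Set X)).subtype := by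
    have hn : (H.subgroupOf (Subgroup.normalizer (H : Set X))).Normal :=
      Subgroup.normal_in_normalizer
    have hp' : IsPGroup p ↥(H.subgroupOf (Subgroup.normalizer (H : Set X))) := hHp.comap_subtype
    have h1 : H.subgroupOf (Subgroup.normalizer (H : Set X)) ≤
        (P' : Subgroup ↥(Subgroup.normalizer (H : Set X))) := hp'.le_sylow_of_normal P'
    intro x hx
    exact Subgroup.mem_map.mpr
      ⟨⟨x, Subgroup.le_normalizer hx⟩, h1 (by simpa [Subgroup.mem_subgroupOf] using hx), rfl⟩
  generalize hRs : (P' : Subgroup ↥(Subgroup.normalizer (H : Set X))).map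
      (Subgroup.normalizer (H : Set X)).subtype = Rs at hRsp hRscard hHRs ⊢
  have hRs1 : Rs ≠ ⊥ := by
    intro h
    rw [h] at hHRs
    exact hH1 (le_bot_iff.mp hHRs)
  have hZ1 : Cfsg.inducedFunctor W Rs ≠ ⊥ := wf_ne_bot hW hRsp hRs1
  have hZRs : Cfsg.inducedFunctor W Rs ≤ Rs := wf_le Rs
  have hZp : IsPGroup p ↥(Cfsg.inducedFunctor W Rs) := hRsp.to_le hZRs
  have hPcard := P.card_eq_multiplicity
  have hfle : ∀ M : Subgroup X, (Nat.card ↥M).factorization p ≤ (Nat.card X).factorization p := by
    intro M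
    exact (Nat.factorization_le_iff_dvd Nat.card_pos.ne' Nat.card_pos.ne').mpr
      (Subgroup.card_subgroup_dvd_card M) p
  by_cases hcs : (Nat.card ↥(Subgroup.normalizer (H : Set X))).factorization p =
      (Nat.card X).factorization p
  · let S : Sylow p X := Sylow.ofCard Rs (by rw [hRscard, hcs])
    have hS : (S : Subgroup X) = Rs := Sylow.coe_ofCard _ _
    obtain ⟨g, hg⟩ := MulAction.exists_smul_eq X P S
    have h1 : Rs = (P : Subgroup X).map (MulAut.conj g).toMonoidHom := by
      rw [← hS, ← hg, sylow_smul_coe]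
    rw [h1, wf_map_conj hW P.isPGroup' g]
    exact npc_normalizer_conj g _ hN
  · have hlt : (Nat.card ↥(Subgroup.normalizer (H : Set X))).factorization p <
        (Nat.card X).factorization p := lt_of_le_of_ne (hfle _) hcs
    obtain ⟨S, hS⟩ := hRsp.exists_le_sylow
    have hne : Rs ≠ (S : Subgroup X) := by
      intro h
      have := S.card_eq_multiplicity
      rw [← h, hRscard] at this
      exact hcs (Nat.pow_right_injective hpp.two_le this)
    obtain ⟨t, htS, htR, htN⟩ := exists_mem_normalizer_not_mem Rs (S : Subgroup X) S.isPGroup' hS hne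
    have hT : Rs < (S : Subgroup X) ⊓ Subgroup.normalizer (Rs : Set X) := by
      refine lt_of_le_of_ne (le_inf hS Subgroup.le_normalizer) ?_
      intro h
      apply htR
      rw [h]
      exact Subgroup.mem_inf.mpr ⟨htS, htN⟩
    have hTp : IsPGroup p ↥((S : Subgroup X) ⊓ Subgroup.normalizer (Rs : Set X) : Subgroup X) :=
      S.isPGroup'.to_le inf_le_left
    have hTle : (S : Subgroup X) ⊓ Subgroup.normalizer (Rs : Set X) ≤
        Subgroup.normalizer ((Cfsg.inducedFunctor W Rs : Subgroup X) : Set X) :=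
      inf_le_right.trans (normalizer_le_normalizer_wf hW hRsp)
    obtain ⟨j, hj⟩ := IsPGroup.iff_card.mp hTp
    have hjd : p ^ j ∣ Nat.card ↥(Subgroup.normalizer
        ((Cfsg.inducedFunctor W Rs : Subgroup X) : Set X)) := by
      rw [← hj]; exact Subgroup.card_dvd_of_le hTle
    have hjle : j ≤ (Nat.card ↥(Subgroup.normalizer
        ((Cfsg.inducedFunctor W Rs : Subgroup X) : Set X))).factorization p :=
      (hpp.pow_dvd_iff_le_factorization Nat.card_pos.ne').mp hjd
    have hlt2 : (Nat.card ↥(Subgroup.normalizer (H : Set X))).factorization p < j := by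
      have := card_lt_card_of_lt hT
      rw [hRscard, hj] at this
      exact (Nat.pow_lt_pow_iff_right hpp.one_lt).mp this
    refine ihk _ ?_ (Cfsg.inducedFunctor W Rs) hZp hZ1 rfl
    have h1 : p ^ ((Nat.card ↥(Subgroup.normalizer (H : Set X))).factorization p) <
        p ^ ((Nat.card ↥(Subgroup.normalizer
          ((Cfsg.inducedFunctor W Rs : Subgroup X) : Set X))).factorization p) :=
      Nat.pow_lt_pow_right hpp.one_lt (lt_of_lt_of_le hlt2 hjle)
    have h2 : p ^ ((Nat.card ↥(Subgroup.normalizer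
          ((Cfsg.inducedFunctor W Rs : Subgroup X) : Set X))).factorization p) ≤
        Nat.card (P : Subgroup X) := by
      rw [hPcard]
      exact Nat.pow_le_pow_right hpp.pos (hfle _)
    omega

/-- reduction to `O_{p'}(X) = 1` -/
theorem f_npc_of_pPrimeCore_ne_bot (hW : Cfsg.IsCharPFunctor.{u} p W) (hX : Cfsg.Involves X G₀)
    (ih : FHyp p W G₀ X) (P : Sylow p X)
    (hN : HasNormalPComplement p
      ↥(Subgroup.normalizer ((Cfsg.inducedFunctor W (P : Subgroup X) : Subgroup X) : Set X)))
    (hD : Cfsg.pPrimeCore p X ≠ ⊥) : HasNormalPComplement p X := by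
  have hDn : (Cfsg.pPrimeCore p X).Normal := Cfsg.pPrimeCore_normal p X
  have hDc : (Nat.card (Cfsg.pPrimeCore p X)).Coprime p := pPrimeCore_coprime p
  apply npc_of_pprime_quotient (Cfsg.pPrimeCore p X) hDc
  have hcard : Nat.card (X ⧸ Cfsg.pPrimeCore p X) < Nat.card X := card_quotient_lt _ hD
  let P' : Sylow p (X ⧸ Cfsg.pPrimeCore p X) := P.mapSurjective (ppi_surjective (X := X) p)
  have hP' : (P' : Subgroup (X ⧸ Cfsg.pPrimeCore p X)) = (P : Subgroup X).map (ppi p X) := rfl
  apply ih _ (involves_quotient hX _) hcard P'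
  have hinj : InjOnSub (ppi p X) (P : Subgroup X) := by
    intro x hx h1
    have hxK : x ∈ Cfsg.pPrimeCore p X := (QuotientGroup.eq_one_iff x).mp h1
    exact eq_one_of_mem_pgroup_of_mem_pprime P.isPGroup' hDc hx hxK
  rw [hP', wf_map_injOn hW (ppi p X) P.isPGroup' hinj]
  have hZp : IsPGroup p ↥(Cfsg.inducedFunctor W (P : Subgroup X)) :=
    P.isPGroup'.to_le (wf_le _)
  refine npc_of_le ?_ (npc_map (ppi p X) _ hN)
  intro y hy
  obtain ⟨x, rfl⟩ := ppi_surjective (X := X) p y
  have hx : x ∈ (Subgroup.normalizer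
      (((Cfsg.inducedFunctor W (P : Subgroup X)).map (ppi p X) : Subgroup _) : Set _)).comap
        (ppi p X) := hy
  rw [Subgroup.comap_normalizer_eq_of_surjective _ (ppi_surjective (X := X) p),
    Subgroup.comap_map_eq, QuotientGroup.ker_mk'] at hx
  obtain ⟨n, hnD, hn⟩ := exists_mul_mem_normalizer hDn hDc hZp x
    (fun z hz => conj_mem_of_mem_normalizer' hx (Subgroup.mem_sup_left hz))
  refine Subgroup.mem_map.mpr ⟨n * x, hn, ?_⟩
  have : ppi p X n = 1 := (QuotientGroup.eq_one_iff n).mpr hnD
  rw [map_mul, this, one_mul]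

/-- `X / O_p(X)` has a normal `p`-complement -/
theorem f_npc_quot_pCore (hW : Cfsg.IsCharPFunctor.{u} p W) (hX : Cfsg.Involves X G₀)
    (ih : FHyp p W G₀ X) (P : Sylow p X)
    (hN : HasNormalPComplement p
      ↥(Subgroup.normalizer ((Cfsg.inducedFunctor W (P : Subgroup X) : Subgroup X) : Set X)))
    (hQ : Cfsg.pCore p X ≠ ⊥) (hPQ : ¬ (P : Subgroup X) ≤ Cfsg.pCore p X) :
    HasNormalPComplement p (X ⧸ Cfsg.pCore p X) := by
  have hcard : Nat.card (X ⧸ Cfsg.pCore p X) < Nat.card X := card_quotient_lt _ hQ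
  have hsurj : Function.Surjective (opi p X) := opi_surjective
  let P' : Sylow p (X ⧸ Cfsg.pCore p X) := P.mapSurjective hsurj
  have hP' : (P' : Subgroup (X ⧸ Cfsg.pCore p X)) = (P : Subgroup X).map (opi p X) := rfl
  apply ih _ (involves_quotient hX _) hcard P'
  rw [hP']
  have hPb1 : (P : Subgroup X).map (opi p X) ≠ ⊥ := by
    intro h
    apply hPQ
    intro x hx
    have : opi p X x ∈ (P : Subgroup X).map (opi p X) := Subgroup.mem_map_of_mem _ hx
    rw [h, Subgroup.mem_bot] at this
    exact opi_eq_one_iff.mp this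
  have hPbp : IsPGroup p ↥((P : Subgroup X).map (opi p X)) := P.isPGroup'.map _
  have hZb1 : Cfsg.inducedFunctor W ((P : Subgroup X).map (opi p X)) ≠ ⊥ :=
    wf_ne_bot hW hPbp hPb1
  have hZbP : Cfsg.inducedFunctor W ((P : Subgroup X).map (opi p X)) ≤
      (P : Subgroup X).map (opi p X) := wf_le _
  have hYtop : Subgroup.normalizer
      (((Cfsg.inducedFunctor W ((P : Subgroup X).map (opi p X))).comap (opi p X) : Subgroup X) :
        Set X) ≠ ⊤ := by
    intro htop
    have hn : ((Cfsg.inducedFunctor W ((P : Subgroup X).map (opi p X))).comap (opi p X)).Normal :=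
      Subgroup.normalizer_eq_top_iff.mp htop
    have hn' : (Cfsg.inducedFunctor W ((P : Subgroup X).map (opi p X))).Normal := by
      have := hn.map (opi p X) hsurj
      rwa [Subgroup.map_comap_eq_self_of_surjective hsurj] at this
    exact hZb1 (normal_pgroup_quot_pCore_eq_bot _ hn' (hPbp.to_le hZbP))
  have hcomapN : (Subgroup.normalizer
      ((Cfsg.inducedFunctor W ((P : Subgroup X).map (opi p X)) : Subgroup _) : Set _)).comap
        (opi p X) =
      Subgroup.normalizer
        (((Cfsg.inducedFunctor W ((P : Subgroup X).map (opi p X))).comap (opi p X) : Subgroup X) :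
          Set X) :=
    Subgroup.comap_normalizer_eq_of_surjective _ hsurj
  have hPY : (P : Subgroup X) ≤ Subgroup.normalizer
      (((Cfsg.inducedFunctor W ((P : Subgroup X).map (opi p X))).comap (opi p X) : Subgroup X) :
        Set X) := by
    have h1 : (P : Subgroup X).map (opi p X) ≤ Subgroup.normalizer
        ((Cfsg.inducedFunctor W ((P : Subgroup X).map (opi p X)) : Subgroup _) : Set _) :=
      Subgroup.le_normalizer.trans (normalizer_le_normalizer_wf hW hPbp)
    rw [← hcomapN]
    intro x hx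
    exact h1 (Subgroup.mem_map_of_mem _ hx)
  have hNY : HasNormalPComplement p ↥(Subgroup.normalizer
      (((Cfsg.inducedFunctor W ((P : Subgroup X).map (opi p X))).comap (opi p X) : Subgroup X) :
        Set X)) := by
    apply f_npc_subgroup_of_ih hW hX ih _ hYtop (P.subtype hPY)
    rw [Sylow.coe_subtype, Subgroup.subgroupOf_map_subtype, inf_eq_left.mpr hPY]
    exact hN
  have h2 : (Subgroup.normalizer
      (((Cfsg.inducedFunctor W ((P : Subgroup X).map (opi p X))).comap (opi p X) : Subgroup X) :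
        Set X)).map (opi p X) =
      Subgroup.normalizer
        ((Cfsg.inducedFunctor W ((P : Subgroup X).map (opi p X)) : Subgroup _) : Set _) := by
    rw [← hcomapN, Subgroup.map_comap_eq_self_of_surjective hsurj]
  exact npc_of_eq h2 (npc_map _ _ hNY)

/-- a Sylow `p`-subgroup is a maximal subgroup in a minimal counterexample -/
theorem f_sylow_maximal_of_ih (hW : Cfsg.IsCharPFunctor.{u} p W) (hX : Cfsg.Involves X G₀)
    (ih : FHyp p W G₀ X) (P : Sylow p X)
    (hN : HasNormalPComplement p
      ↥(Subgroup.normalizer ((Cfsg.inducedFunctor W (P : Subgroup X) : Subgroup X) : Set X)))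
    (hc : Subgroup.centralizer (Cfsg.pCore p X : Set X) ≤ Cfsg.pCore p X) :
    ∀ G₁ : Subgroup X, (P : Subgroup X) ≤ G₁ → G₁ = (P : Subgroup X) ∨ G₁ = ⊤ := by
  intro G₁ hPG
  by_cases htop : G₁ = ⊤
  · right; exact htop
  left
  have h1 : HasNormalPComplement p ↥G₁ := by
    apply f_npc_subgroup_of_ih hW hX ih _ htop (P.subtype hPG)
    rw [Sylow.coe_subtype, Subgroup.subgroupOf_map_subtype, inf_eq_left.mpr hPG]
    exact hN
  obtain ⟨K₁, hK₁G, hGN, hK₁c, hpow⟩ := npc_internal h1
  have hQp : IsPGroup p ↥(Cfsg.pCore p X) := pCore_isPGroup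
  have hQG : Cfsg.pCore p X ≤ G₁ := (pCore_le_sylow P).trans hPG
  have hK₁Q : K₁ ≤ Subgroup.centralizer (Cfsg.pCore p X : Set X) := by
    intro k hk
    rw [Subgroup.mem_centralizer_iff]
    intro x hx
    have h2 : x * k * x⁻¹ * k⁻¹ ∈ K₁ :=
      K₁.mul_mem (conj_mem_of_mem_normalizer' (hGN (hQG hx)) hk) (K₁.inv_mem hk)
    have h3 : x * k * x⁻¹ * k⁻¹ ∈ Cfsg.pCore p X := by
      have : x * k * x⁻¹ * k⁻¹ = x * (k * x⁻¹ * k⁻¹) := by group
      rw [this]
      exact (Cfsg.pCore p X).mul_mem hx
        ((Cfsg.pCore_normal p X).conj_mem _ ((Cfsg.pCore p X).inv_mem hx) k)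
    have h4 : x * k * x⁻¹ * k⁻¹ = 1 := eq_one_of_mem_pgroup_of_mem_pprime hQp hK₁c h3 h2
    have e : x * k = (x * k * x⁻¹ * k⁻¹) * (k * x) := by group
    rw [e, h4, one_mul]
  have hK₁bot : K₁ = ⊥ := by
    rw [eq_bot_iff]
    intro k hk
    exact Subgroup.mem_bot.mpr (eq_one_of_mem_pgroup_of_mem_pprime hQp hK₁c (hc (hK₁Q hk)) hk)
  have hG₁p : IsPGroup p ↥G₁ := by
    intro a
    obtain ⟨n, hn⟩ := hpow a a.2
    rw [hK₁bot, Subgroup.mem_bot] at hn
    exact ⟨n, Subtype.ext (by simpa using hn)⟩
  exact P.is_maximal' hG₁p hPG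

/-- the data of the final configuration -/
theorem f_final_config (hW : Cfsg.IsCharPFunctor.{u} p W) (hX : Cfsg.Involves X G₀)
    (ih : FHyp p W G₀ X) (P : Sylow p X)
    (hN : HasNormalPComplement p
      ↥(Subgroup.normalizer ((Cfsg.inducedFunctor W (P : Subgroup X) : Subgroup X) : Set X)))
    (hD : Cfsg.pPrimeCore p X = ⊥) (hK : HasNormalPComplement p (X ⧸ Cfsg.pCore p X)) :
    ∃ K : Subgroup X, K.Normal ∧ Cfsg.pCore p X ≤ K ∧
      (Nat.card ↥(K.map (opi p X))).Coprime p ∧ K ⊔ (P : Subgroup X) = ⊤ ∧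
      Subgroup.centralizer (Cfsg.pCore p X : Set X) ≤ Cfsg.pCore p X ∧
      ∀ G₁ : Subgroup X, (P : Subgroup X) ≤ G₁ → G₁ = (P : Subgroup X) ∨ G₁ = ⊤ := by
  obtain ⟨Kb, hKbn, hKbc, hKbq⟩ := exists_normal_hall_of_hasNormalPComplement p hK
  have hsurj : Function.Surjective (opi p X) := opi_surjective
  haveI hKn : (Kb.comap (opi p X)).Normal := hKbn.comap _
  have hQK : Cfsg.pCore p X ≤ Kb.comap (opi p X) := by
    intro x hx
    rw [Subgroup.mem_comap, opi_eq_one_iff.mpr hx]
    exact Subgroup.one_mem _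
  have hmapK : (Kb.comap (opi p X)).map (opi p X) = Kb :=
    Subgroup.map_comap_eq_self_of_surjective hsurj _
  have hGK : IsPGroup p (X ⧸ Kb.comap (opi p X)) := by
    intro y
    induction y using QuotientGroup.induction_on with
    | H x =>
      obtain ⟨n, hn⟩ := hKbq ((opi p X x : X ⧸ Cfsg.pCore p X) : (X ⧸ Cfsg.pCore p X) ⧸ Kb)
      refine ⟨n, ?_⟩
      rw [← QuotientGroup.mk_pow, QuotientGroup.eq_one_iff]
      rw [← QuotientGroup.mk_pow, QuotientGroup.eq_one_iff, ← map_pow] at hn
      exact hn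
  have hcop : (Nat.card ↥((Kb.comap (opi p X)).map (opi p X))).Coprime p := by
    rw [hmapK]; exact hKbc
  have hKP : Kb.comap (opi p X) ⊔ (P : Subgroup X) = ⊤ := sup_sylow_eq_top _ hGK P
  have hsol : Cfsg.IsPSolvable p X := isPSolvable_of_series _ hQK hcop hGK
  have hc := centralizer_pCore_le_of_psolvable hsol hD
  exact ⟨Kb.comap (opi p X), hKn, hQK, hcop, hKP, hc, f_sylow_maximal_of_ih hW hX ih P hN hc⟩

end functor

/-- the Glauberman--Thompson induction for a functor `W` which is normal in the final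
configuration in every section of `G₀` -/
theorem npc_of_functor {p : ℕ} [Fact p.Prime] {W : ∀ (Q : Type u) [Group Q], Subgroup Q}
    (hW : Cfsg.IsCharPFunctor.{u} p W) {G₀ : Type u} [Group G₀]
    (hgood : ∀ (X : Type u) [Group X] [Finite X], Cfsg.Involves X G₀ → GoodW p W X) :
    ∀ (n : ℕ) (X : Type u) [Group X] [Finite X], Cfsg.Involves X G₀ → Nat.card X = n →
      ∀ P : Sylow p X,
      HasNormalPComplement p
        ↥(Subgroup.normalizer ((Cfsg.inducedFunctor W (P : Subgroup X) : Subgroup X) : Set X)) →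
      HasNormalPComplement p X := by
  intro n
  induction n using Nat.strong_induction_on with
  | _ n IH =>
  intro X _ _ hX hn P hN
  have ih : FHyp p W G₀ X := by
    intro H _ _ hH hlt P' h'
    exact IH (Nat.card H) (hn ▸ hlt) H hH rfl P' h'
  by_cases hD : Cfsg.pPrimeCore p X = ⊥
  swap
  · exact f_npc_of_pPrimeCore_ne_bot hW hX ih P hN hD
  by_cases hQ : Cfsg.pCore p X = ⊥
  · apply hasNormalPComplement_of_local p
    intro H hHp hH1
    exact f_npc_normalizer_of_pCore_eq_bot hW hX ih P hN hQ _ H hHp hH1 rfl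
  have hnormal : (Cfsg.inducedFunctor W (P : Subgroup X)).Normal →
      HasNormalPComplement p X := by
    intro hZn
    have h2 : Subgroup.normalizer
        ((Cfsg.inducedFunctor W (P : Subgroup X) : Subgroup X) : Set X) = ⊤ :=
      Subgroup.normalizer_eq_top_iff.mpr hZn
    exact npc_of_top (npc_of_eq h2 hN)
  by_cases hPQ : (P : Subgroup X) ≤ Cfsg.pCore p X
  · have hPeq : (P : Subgroup X) = Cfsg.pCore p X := le_antisymm hPQ (pCore_le_sylow P)
    have hPn : (P : Subgroup X).Normal := hPeq ▸ Cfsg.pCore_normal p X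
    have h1 : Subgroup.normalizer ((P : Subgroup X) : Set X) = ⊤ :=
      Subgroup.normalizer_eq_top_iff.mpr hPn
    apply hnormal
    rw [← Subgroup.normalizer_eq_top_iff, eq_top_iff, ← h1]
    exact normalizer_le_normalizer_wf hW P.isPGroup'
  · have hK := f_npc_quot_pCore hW hX ih P hN hQ hPQ
    obtain ⟨K, hKn, hQK, hcop, hKP, hc, hmax⟩ := f_final_config hW hX ih P hN hD hK
    apply hnormal
    have hco : IsCoatom (P : Subgroup X) := by
      constructor
      · intro htop
        apply hPQ
        have hPn : (P : Subgroup X).Normal := htop ▸ Subgroup.normal_top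
        exact le_pCore _ hPn P.isPGroup'
      · intro M hM
        rcases hmax M hM.le with h1 | h1
        · exact absurd h1.symm hM.ne
        · exact h1
    exact hgood X hX P hco hc hK

end Cfsg.Agent.Lib.Helper3
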