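import Mathlib

set_option autoImplicit false
set_option linter.unusedSectionVars false
set_option linter.style.haveILetI false
open scoped commutatorElement

/-! The commutator homomorphism `v ↦ v⁻¹ (a v a⁻¹)` of an abelian subgroup normalized by `a`. -/

namespace Cfsg.Agent.Lib.Helper3

section commhom
variable {G : Type*} [Group G]

/-- `v ↦ v⁻¹ (a v a⁻¹)` on an abelian subgroup normalized by `a` -/
def commHom (V : Subgroup G) (a : G) (hV : ∀ x ∈ V, ∀ y ∈ V, x * y = y * x)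
    (ha : ∀ v ∈ V, a * v * a⁻¹ ∈ V) : ↥V →* ↥V where
  toFun v := ⟨(v : G)⁻¹ * (a * v * a⁻¹), V.mul_mem (V.inv_mem v.2) (ha v v.2)⟩
  map_one' := by ext; simp
  map_mul' := by
    intro v w
    ext
    simp only [Subgroup.coe_mul]
    have h1 : (a * (v : G) * a⁻¹) * (w : G)⁻¹ = (w : G)⁻¹ * (a * v * a⁻¹) :=
      hV _ (ha v v.2) _ (V.inv_mem w.2)
    have h2 : (v : G)⁻¹ * (w : G)⁻¹ = (w : G)⁻¹ * (v : G)⁻¹ :=
      hV _ (V.inv_mem v.2) _ (V.inv_mem w.2)
    calc ((v : G) * w)⁻¹ * (a * (v * w) * a⁻¹)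
        = ((w : G)⁻¹ * (v : G)⁻¹) * ((a * v * a⁻¹) * (a * w * a⁻¹)) := by group
      _ = ((v : G)⁻¹ * (w : G)⁻¹) * ((a * v * a⁻¹) * (a * w * a⁻¹)) := by rw [h2]
      _ = (v : G)⁻¹ * ((w : G)⁻¹ * (a * v * a⁻¹)) * (a * w * a⁻¹) := by group
      _ = (v : G)⁻¹ * ((a * v * a⁻¹) * (w : G)⁻¹) * (a * w * a⁻¹) := by rw [h1]
      _ = (v : G)⁻¹ * (a * v * a⁻¹) * ((w : G)⁻¹ * (a * w * a⁻¹)) := by group

variable {V : Subgroup G} {a : G} {hV : ∀ x ∈ V, ∀ y ∈ V, x * y = y * x}
  {ha : ∀ v ∈ V, a * v * a⁻¹ ∈ V}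

lemma commHom_apply (v : ↥V) : ((commHom V a hV ha v : ↥V) : G) = (v : G)⁻¹ * (a * v * a⁻¹) := rfl

lemma mem_centralizer_zpowers_iff {a v : G} :
    v ∈ Subgroup.centralizer ((Subgroup.zpowers a : Subgroup G) : Set G) ↔ a * v = v * a := by
  constructor
  · intro h
    exact Subgroup.mem_centralizer_iff.mp h a (Subgroup.mem_zpowers a)
  · intro h
    rw [Subgroup.mem_centralizer_iff]
    rintro b ⟨k, rfl⟩
    exact ((Commute.zpow_left (show Commute a v from h) k)).eq

lemma commHom_ker : (commHom V a hV ha).ker =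
    (V ⊓ Subgroup.centralizer ((Subgroup.zpowers a : Subgroup G) : Set G)).subgroupOf V := by
  ext v
  rw [MonoidHom.mem_ker, Subgroup.mem_subgroupOf, Subgroup.mem_inf, mem_centralizer_zpowers_iff]
  constructor
  · intro h
    have h1 : (v : G)⁻¹ * (a * v * a⁻¹) = 1 := by
      have := congrArg Subtype.val h
      simpa [commHom_apply] using this
    refine ⟨v.2, ?_⟩
    have h2 : a * v * a⁻¹ = v := by
      have := congrArg (fun t => (v : G) * t) h1
      simpa [mul_assoc] using this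
    calc a * (v : G) = (a * v * a⁻¹) * a := by group
      _ = v * a := by rw [h2]
  · rintro ⟨-, h⟩
    apply Subtype.ext
    rw [commHom_apply]
    have : a * (v : G) * a⁻¹ = v := by rw [h]; group
    rw [this]
    simp

/-- the image of the commutator homomorphism is invariant under `a` -/
lemma commHom_range_conj {r : G} (hr : r ∈ (commHom V a hV ha).range.map V.subtype) :
    a * r * a⁻¹ ∈ (commHom V a hV ha).range.map V.subtype := by
  obtain ⟨_, ⟨v, rfl⟩, rfl⟩ := hr
  refine ⟨_, ⟨⟨a * v * a⁻¹, ha v v.2⟩, rfl⟩, ?_⟩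
  simp only [Subgroup.coe_subtype, commHom_apply]
  group

lemma commHom_range_eq [Finite G] :
    (commHom V a hV ha).range.map V.subtype = ⁅V, Subgroup.zpowers a⁆ := by
  apply le_antisymm
  · rintro _ ⟨_, ⟨v, rfl⟩, rfl⟩
    simp only [Subgroup.coe_subtype, commHom_apply]
    have h1 : ⁅(v : G)⁻¹, a⁆ ∈ ⁅V, Subgroup.zpowers a⁆ :=
      Subgroup.commutator_mem_commutator (V.inv_mem v.2) (Subgroup.mem_zpowers a)
    have e : ⁅(v : G)⁻¹, a⁆ = (v : G)⁻¹ * (a * v * a⁻¹) := by
      rw [commutatorElement_def]; group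
    rwa [e] at h1
  · rw [Subgroup.commutator_le]
    intro v hv b hb
    set R := (commHom V a hV ha).range.map V.subtype with hR
    have hbase : ∀ w ∈ V, ⁅w, a⁆ ∈ R := by
      intro w hw
      refine ⟨_, ⟨⟨w⁻¹, V.inv_mem hw⟩, rfl⟩, ?_⟩
      simp only [Subgroup.coe_subtype, commHom_apply]
      rw [commutatorElement_def]; group
    have hpow : ∀ k : ℕ, ∀ w ∈ V, ⁅w, a ^ k⁆ ∈ R ∧ a ^ k * w * (a ^ k)⁻¹ ∈ V := by
      intro k
      induction k with
      | zero =>
        intro w hw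
        refine ⟨?_, by simpa using hw⟩
        rw [pow_zero, commutatorElement_def]
        simp
      | succ k ih =>
        intro w hw
        obtain ⟨h1, h2⟩ := ih w hw
        constructor
        · have e : ⁅w, a ^ (k + 1)⁆ = ⁅w, a⁆ * (a * ⁅w, a ^ k⁆ * a⁻¹) := by
            rw [commutatorElement_def, commutatorElement_def, commutatorElement_def, pow_succ']
            group
          rw [e]
          exact R.mul_mem (hbase w hw) (commHom_range_conj h1)
        · have e : a ^ (k + 1) * w * (a ^ (k + 1))⁻¹ = a * (a ^ k * w * (a ^ k)⁻¹) * a⁻¹ := by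
            rw [pow_succ']; group
          rw [e]
          exact ha _ h2
    have hfin : IsOfFinOrder a := isOfFinOrder_of_finite a
    obtain ⟨k, rfl⟩ := (hfin.mem_powers_iff_mem_zpowers.mpr hb)
    exact (hpow k v hv).1

/-- `|[V, ⟨a⟩]| = |V : C_V(a)|` -/
lemma card_commutator_zpowers [Finite G] (V : Subgroup G) (a : G)
    (hV : ∀ x ∈ V, ∀ y ∈ V, x * y = y * x) (ha : ∀ v ∈ V, a * v * a⁻¹ ∈ V) :
    Nat.card ↥⁅V, Subgroup.zpowers a⁆ =
      (V ⊓ Subgroup.centralizer ((Subgroup.zpowers a : Subgroup G) : Set G)).relIndex V := by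
  rw [← commHom_range_eq (hV := hV) (ha := ha),
    Subgroup.card_map_of_injective V.subtype_injective, ← Subgroup.index_ker, commHom_ker]
  rfl

end commhom

end Cfsg.Agent.Lib.Helper3
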