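import Mathlib
import Cfsg.Prelude.Def_CaseTheorems
import Cfsg.Prelude.Def_PLocal
import Cfsg.Agent.Lib.Helper1.Fitting
import Cfsg.Agent.Lib.Helper3.PQ
import Cfsg.Agent.Lib.Helper3.Frattini
import Cfsg.Agent.Lib.Helper5.CopGen3

set_option autoImplicit false
set_option linter.unusedSectionVars false
set_option linter.style.haveILetI false
open scoped commutatorElement

/-! Failure of factorization with a self-centralizing `p'`-core (Kurzweil--Stellmacher 9.3):
basic set-up and the hyperplane lemma. -/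

namespace Cfsg.Agent.Lib.Helper3

section ff
variable {G : Type*} [Group G] [Finite G] {p : ℕ} [hp : Fact p.Prime]

/-- the `p'`-core of `H`, viewed in `G` -/
def qp (p : ℕ) (H : Subgroup G) : Subgroup G := (Cfsg.pPrimeCore p ↥H).map H.subtype

lemma qp_le (H : Subgroup G) : qp p H ≤ H := Subgroup.map_subtype_le _

lemma qp_coprime (H : Subgroup G) : (Nat.card ↥(qp p H)).Coprime p := by
  unfold qp
  rw [Subgroup.card_map_of_injective H.subtype_injective]
  exact Cfsg.Agent.Lib.Helper1.pPrimeCore_coprime p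

lemma qp_conj_mem (H : Subgroup G) {h x : G} (hh : h ∈ H) (hx : x ∈ qp p H) :
    h * x * h⁻¹ ∈ qp p H := by
  obtain ⟨y, hy, rfl⟩ := hx
  refine ⟨⟨h, hh⟩ * y * ⟨h, hh⟩⁻¹, ?_, by simp⟩
  exact (Cfsg.pPrimeCore_normal p ↥H).conj_mem y hy ⟨h, hh⟩

lemma qp_normalizer (H : Subgroup G) : H ≤ Subgroup.normalizer (qp p H : Set G) := by
  intro h hh
  rw [Subgroup.mem_normalizer_iff]
  intro x
  constructor
  · intro hx; exact qp_conj_mem H hh hx
  · intro hx
    have := qp_conj_mem (p := p) H (H.inv_mem hh) hx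
    have e : h⁻¹ * (h * x * h⁻¹) * h⁻¹⁻¹ = x := by group
    rwa [e] at this

/-- the standing hypotheses -/
structure FFSetup (p : ℕ) (V H : Subgroup G) : Prop where
  hV : Cfsg.IsElementaryAbelian p V
  hHV : H ≤ Subgroup.normalizer (V : Set G)
  hf : H ⊓ Subgroup.centralizer (V : Set G) = ⊥
  hS1 : Subgroup.centralizer (Cfsg.pPrimeCore p ↥H : Set ↥H) ≤ Cfsg.pPrimeCore p ↥H

variable {V H : Subgroup G}

lemma FFSetup.eq_one_of_centralizes (s : FFSetup p V H) {h : G} (hh : h ∈ H)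
    (hc : h ∈ Subgroup.centralizer (V : Set G)) : h = 1 := by
  have : h ∈ H ⊓ Subgroup.centralizer (V : Set G) := ⟨hh, hc⟩
  rw [s.hf] at this
  exact Subgroup.mem_bot.mp this

lemma FFSetup.mem_qp_of_centralizes (s : FFSetup p V H) {h : G} (hh : h ∈ H)
    (hc : h ∈ Subgroup.centralizer (qp p H : Set G)) : h ∈ qp p H := by
  have h1 : (⟨h, hh⟩ : ↥H) ∈ Subgroup.centralizer (Cfsg.pPrimeCore p ↥H : Set ↥H) := by
    rw [Subgroup.mem_centralizer_iff]
    intro y hy
    have h2 : (y : G) ∈ qp p H := ⟨y, hy, rfl⟩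
    have h3 := (Subgroup.mem_centralizer_iff.mp hc) (y : G) h2
    exact Subtype.ext h3
  exact ⟨⟨h, hh⟩, s.hS1 h1, rfl⟩

lemma FFSetup.V_comm (s : FFSetup p V H) : ∀ a ∈ V, ∀ b ∈ V, a * b = b * a := by
  intro a ha b hb
  have h1 := s.hV.1.is_comm.comm (⟨a, ha⟩ : ↥V) ⟨b, hb⟩
  exact congrArg Subtype.val h1

lemma FFSetup.V_pgroup (s : FFSetup p V H) : IsPGroup p ↥V := by
  intro v
  refine ⟨1, ?_⟩
  rw [pow_one]
  exact Subtype.ext (s.hV.2 v v.2)

/-- `h ∈ H` conjugates `V` into itself -/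
lemma FFSetup.conj_mem (s : FFSetup p V H) {h v : G} (hh : h ∈ H) (hv : v ∈ V) :
    h * v * h⁻¹ ∈ V :=
  (Subgroup.mem_normalizer_iff.mp (s.hHV hh) v).mp hv

lemma FFSetup.conj_mem' (s : FFSetup p V H) {h v : G} (hh : h ∈ H) (hv : v ∈ V) :
    h⁻¹ * v * h ∈ V := by
  have := s.conj_mem (H.inv_mem hh) hv
  simpa using this

/-! ### best offenders -/

variable {A : Subgroup G}

lemma bo_comm (s : FFSetup p V H) (hAH : A ≤ H) (hA : Cfsg.IsBestOffenderOn p V A) :
    ∀ a ∈ A, ∀ b ∈ A, a * b = b * a := by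
  intro a ha b hb
  have h1 : ⁅a, b⁆ ∈ ⁅A, A⁆ := Subgroup.commutator_mem_commutator ha hb
  have h3 : ⁅a, b⁆ ∈ H := by
    rw [commutatorElement_def]
    exact H.mul_mem (H.mul_mem (H.mul_mem (hAH ha) (hAH hb)) (H.inv_mem (hAH ha)))
      (H.inv_mem (hAH hb))
  have h2 : ⁅a, b⁆ = 1 := s.eq_one_of_centralizes h3 (hA.2.1 h1)
  exact (commutatorElement_eq_one_iff_mul_comm.mp h2)

lemma bo_exp (s : FFSetup p V H) (hAH : A ≤ H) (hA : Cfsg.IsBestOffenderOn p V A) :
    ∀ a ∈ A, a ^ p = 1 := by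
  intro a ha
  exact s.eq_one_of_centralizes (H.pow_mem (hAH ha) p) (hA.2.2 a ha)

lemma bo_pgroup (s : FFSetup p V H) (hAH : A ≤ H) (hA : Cfsg.IsBestOffenderOn p V A) :
    IsPGroup p ↥A := by
  intro a
  refine ⟨1, ?_⟩
  rw [pow_one]
  exact Subtype.ext (bo_exp s hAH hA a a.2)

/-- `|V| ≤ |A| |C_V(A)|` for a best offender -/
lemma bo_card_le (hA : Cfsg.IsBestOffenderOn p V A) :
    Nat.card ↥V ≤ Nat.card ↥A * Nat.card ↥(V ⊓ Subgroup.centralizer (A : Set G)) := by
  have h := hA.1 ⊥ bot_le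
  have e : V ⊓ Subgroup.centralizer ((⊥ : Subgroup G) : Set G) = V := by
    rw [Subgroup.coe_bot, Subgroup.centralizer_eq_top_iff_subset.mpr]
    · exact inf_top_eq _
    · intro x hx
      rw [Set.mem_singleton_iff] at hx
      rw [hx]
      exact Subgroup.one_mem _
  rw [e, Subgroup.card_bot, one_mul] at h
  exact h

/-- a `p'`-element of `H` has order prime to `p` -/
lemma qp_orderOf_coprime {y : G} (hy : y ∈ qp p H) : (orderOf y).Coprime p := by
  have h1 : orderOf y ∣ Nat.card ↥(qp p H) := by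
    have := orderOf_dvd_natCard (⟨y, hy⟩ : ↥(qp p H))
    rwa [Subgroup.orderOf_mk] at this
  exact Nat.Coprime.coprime_dvd_left h1 (qp_coprime H)

lemma comm_mem_qp {x a : G} (hx : x ∈ qp p H) (ha : a ∈ H) : ⁅x, a⁆ ∈ qp p H := by
  rw [commutatorElement_def]
  have h1 : a * x⁻¹ * a⁻¹ ∈ qp p H := qp_conj_mem H ha ((qp p H).inv_mem hx)
  have e : x * a * x⁻¹ * a⁻¹ = x * (a * x⁻¹ * a⁻¹) := by group
  rw [e]
  exact (qp p H).mul_mem hx h1

/-- the hyperplane lemma: if `B` has index `p` in the best offender `A` and `A` does not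
centralize `C_Q(B)`, then `B` is a best offender with the same product. -/
theorem bo_hyper (s : FFSetup p V H) (hAH : A ≤ H) (hA : Cfsg.IsBestOffenderOn p V A)
    {B : Subgroup G} (hBA : B ≤ A) (hcard : Nat.card ↥A = p * Nat.card ↥B)
    (hne : ⁅qp p H ⊓ Subgroup.centralizer (B : Set G), A⁆ ≠ ⊥) :
    Nat.card ↥(V ⊓ Subgroup.centralizer (B : Set G)) =
      p * Nat.card ↥(V ⊓ Subgroup.centralizer (A : Set G)) ∧ Cfsg.IsBestOffenderOn p V B := by
  have hpp : p.Prime := hp.out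
  have hle : V ⊓ Subgroup.centralizer (A : Set G) ≤ V ⊓ Subgroup.centralizer (B : Set G) :=
    inf_le_inf_left _ (Subgroup.centralizer_le hBA)
  have hcommA := bo_comm s hAH hA
  have hBp : IsPGroup p ↥B := (bo_pgroup s hAH hA).to_le hBA
  -- (2)
  have h2 : Nat.card ↥(V ⊓ Subgroup.centralizer (B : Set G)) ≤
      p * Nat.card ↥(V ⊓ Subgroup.centralizer (A : Set G)) := by
    have h := hA.1 B hBA
    rw [hcard] at h
    have hpos : 0 < Nat.card ↥B := Nat.card_pos
    have h' : Nat.card ↥B * Nat.card ↥(V ⊓ Subgroup.centralizer (B : Set G)) ≤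
        Nat.card ↥B * (p * Nat.card ↥(V ⊓ Subgroup.centralizer (A : Set G))) := by
      calc _ ≤ p * Nat.card ↥B * Nat.card ↥(V ⊓ Subgroup.centralizer (A : Set G)) := h
        _ = _ := by ring
    exact Nat.le_of_mul_le_mul_left h' hpos
  -- (3)
  have hneq : V ⊓ Subgroup.centralizer (A : Set G) ≠ V ⊓ Subgroup.centralizer (B : Set G) := by
    intro heq
    apply hne
    rw [Subgroup.commutator_eq_bot_iff_le_centralizer]
    intro x hx
    rw [Subgroup.mem_centralizer_iff]
    intro a ha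
    have hxq : x ∈ qp p H := hx.1
    have hxH : x ∈ H := qp_le H hxq
    have hxB : x ∈ Subgroup.centralizer (B : Set G) := hx.2
    have haH : a ∈ H := hAH ha
    have hy : ⁅x, a⁆ ∈ qp p H := comm_mem_qp hxq haH
    have hyH : ⁅x, a⁆ ∈ H := qp_le H hy
    have haB : a ∈ Subgroup.centralizer (B : Set G) := by
      rw [Subgroup.mem_centralizer_iff]
      intro b hb
      exact hcommA b (hBA hb) a ha
    have hyB : ⁅x, a⁆ ∈ Subgroup.centralizer (B : Set G) := by
      rw [commutatorElement_def]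
      exact Subgroup.mul_mem _ (Subgroup.mul_mem _ (Subgroup.mul_mem _ hxB haB)
        (Subgroup.inv_mem _ hxB)) (Subgroup.inv_mem _ haB)
    have hyV : ⁅x, a⁆ ∈ Subgroup.centralizer (V : Set G) := by
      apply pq_lemma_elem hBp (qp_orderOf_coprime hy) hyB (Nat.card ↥V) V le_rfl s.V_pgroup
        ((hBA.trans hAH).trans s.hHV) (s.hHV hyH)
      intro u hu
      have hu' : u ∈ V ⊓ Subgroup.centralizer (A : Set G) := by rw [heq]; exact hu
      have hua : a * u = u * a := (Subgroup.mem_centralizer_iff.mp hu'.2 a ha)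
      set u' := x⁻¹ * u * x with hu'def
      have hu'V : u' ∈ V := s.conj_mem' hxH hu.1
      have hu'B : u' ∈ Subgroup.centralizer (B : Set G) :=
        Subgroup.mul_mem _ (Subgroup.mul_mem _ (Subgroup.inv_mem _ hxB) hu.2) hxB
      have hu'A : u' ∈ V ⊓ Subgroup.centralizer (A : Set G) := by rw [heq]; exact ⟨hu'V, hu'B⟩
      have hu'a : a * u' = u' * a := (Subgroup.mem_centralizer_iff.mp hu'A.2 a ha)
      have hua' : a⁻¹ * u = u * a⁻¹ := by
        have : u = a * u * a⁻¹ := by rw [hua]; group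
        calc a⁻¹ * u = a⁻¹ * (a * u * a⁻¹) := by rw [← this]
          _ = u * a⁻¹ := by group
      rw [commutatorElement_def]
      calc x * a * x⁻¹ * a⁻¹ * u = x * a * x⁻¹ * (a⁻¹ * u) := by group
        _ = x * a * x⁻¹ * (u * a⁻¹) := by rw [hua']
        _ = x * (a * u') * x⁻¹ * a⁻¹ := by rw [hu'def]; group
        _ = x * (u' * a) * x⁻¹ * a⁻¹ := by rw [hu'a]
        _ = u * (x * a * x⁻¹ * a⁻¹) := by rw [hu'def]; group
    have hy1 : ⁅x, a⁆ = 1 := s.eq_one_of_centralizes hyH hyV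
    exact (commutatorElement_eq_one_iff_mul_comm.mp hy1).symm
  -- (4)
  have hcv : Nat.card ↥(V ⊓ Subgroup.centralizer (B : Set G)) =
      p * Nat.card ↥(V ⊓ Subgroup.centralizer (A : Set G)) := by
    have hpA : IsPGroup p ↥(V ⊓ Subgroup.centralizer (A : Set G)) := s.V_pgroup.to_le inf_le_left
    have hpB : IsPGroup p ↥(V ⊓ Subgroup.centralizer (B : Set G)) := s.V_pgroup.to_le inf_le_left
    obtain ⟨i, hi⟩ := (IsPGroup.iff_card).mp hpA
    obtain ⟨j, hj⟩ := (IsPGroup.iff_card).mp hpB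
    have hdvd := Subgroup.card_dvd_of_le hle
    rw [hi, hj] at hdvd
    have hij : i ≤ j := (Nat.pow_dvd_pow_iff_le_right hpp.one_lt).mp hdvd
    have hne' : i ≠ j := by
      intro h
      apply hneq
      apply Subgroup.eq_of_le_of_card_ge hle
      rw [hi, hj, h]
    rw [hi, hj] at h2
    have h3 : p ^ j ≤ p ^ (i + 1) := by rw [pow_succ, mul_comm]; exact h2
    have hji : j ≤ i + 1 := (Nat.pow_le_pow_iff_right hpp.one_lt).mp h3
    have : j = i + 1 := by omega
    rw [hi, hj, this, pow_succ, mul_comm]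
  refine ⟨hcv, ?_, ?_, ?_⟩
  · intro B' hB'
    have h := hA.1 B' (hB'.trans hBA)
    calc Nat.card ↥B' * Nat.card ↥(V ⊓ Subgroup.centralizer (B' : Set G))
        ≤ Nat.card ↥A * Nat.card ↥(V ⊓ Subgroup.centralizer (A : Set G)) := h
      _ = Nat.card ↥B * Nat.card ↥(V ⊓ Subgroup.centralizer (B : Set G)) := by
          rw [hcard, hcv]; ring
  · exact (Subgroup.commutator_mono hBA hBA).trans hA.2.1
  · intro b hb
    exact hA.2.2 b (hBA hb)

lemma card_eq_card_mul_relIndex {B A : Subgroup G} (hBA : B ≤ A) :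
    Nat.card ↥A = Nat.card ↥B * B.relIndex A := by
  have := Subgroup.relIndex_mul_relIndex ⊥ B A bot_le hBA
  rw [Subgroup.relIndex_bot_left, Subgroup.relIndex_bot_left] at this
  exact this.symm

/-- a nontrivial best offender has a hyperplane `B` with `[C_Q(B), A] ≠ 1` -/
theorem bo_exists_hyper (s : FFSetup p V H) (hAH : A ≤ H) (hA : Cfsg.IsBestOffenderOn p V A)
    (hA1 : A ≠ ⊥) :
    ∃ B : Subgroup G, B ≤ A ∧ Nat.card ↥A = p * Nat.card ↥B ∧
      ⁅qp p H ⊓ Subgroup.centralizer (B : Set G), A⁆ ≠ ⊥ := by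
  have hpp : p.Prime := hp.out
  by_contra hcon
  push Not at hcon
  have hcommA := bo_comm s hAH hA
  have hexpA := bo_exp s hAH hA
  have hAp := bo_pgroup s hAH hA
  have hX : ¬ p ∣ Nat.card ↥(qp p H) :=
    (Nat.Prime.coprime_iff_not_dvd hpp).mp (qp_coprime H).symm
  have hgen := Cfsg.Agent.Lib.Helper5.le_iSup_hyperplane p A (qp p H) hcommA hexpA hX
    (hAH.trans (qp_normalizer H)) (Nat.card ↥A - Nat.card ↥(⊥ : Subgroup G)) ⊥ bot_le rfl
  have e : qp p H ⊓ Subgroup.centralizer (((⊥ : Subgroup G) : Subgroup G) : Set G) = qp p H := by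
    rw [Subgroup.coe_bot, Subgroup.centralizer_eq_top_iff_subset.mpr]
    · exact inf_top_eq _
    · intro x hx
      rw [Set.mem_singleton_iff] at hx
      rw [hx]
      exact Subgroup.one_mem _
  rw [e] at hgen
  have hQA : qp p H ≤ Subgroup.centralizer (A : Set G) := by
    refine hgen.trans (iSup_le ?_)
    rintro ⟨B, hBA, hrel⟩
    show qp p H ⊓ Subgroup.centralizer (B : Set G) ≤ Subgroup.centralizer (A : Set G)
    by_cases h1 : B.relIndex A = 1
    · have hAB : A ≤ B := Subgroup.relIndex_eq_one.mp h1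
      have : B = A := le_antisymm hBA hAB
      rw [this]
      exact inf_le_right
    · have hdvd : B.relIndex A ∣ Nat.card ↥A := Subgroup.relIndex_dvd_card B A
      obtain ⟨n, hn⟩ := (IsPGroup.iff_card).mp hAp
      rw [hn] at hdvd
      obtain ⟨k, hk, hk'⟩ := (Nat.dvd_prime_pow hpp).mp hdvd
      have hk1 : k ≠ 0 := by
        intro h0
        apply h1
        rw [hk', h0, pow_zero]
      have hrp : B.relIndex A = p := by
        apply le_antisymm hrel
        rw [hk']
        calc p = p ^ 1 := (pow_one p).symm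
          _ ≤ p ^ k := Nat.pow_le_pow_right hpp.pos (Nat.one_le_iff_ne_zero.mpr hk1)
      have hc : Nat.card ↥A = p * Nat.card ↥B := by
        rw [card_eq_card_mul_relIndex hBA, hrp, mul_comm]
      have := hcon B hBA hc
      rwa [Subgroup.commutator_eq_bot_iff_le_centralizer] at this
  apply hA1
  rw [eq_bot_iff]
  intro a ha
  have hac : a ∈ Subgroup.centralizer (qp p H : Set G) := by
    rw [Subgroup.mem_centralizer_iff]
    intro x hx
    exact ((Subgroup.mem_centralizer_iff.mp (hQA hx)) a ha).symm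
  have haq := s.mem_qp_of_centralizes (hAH ha) hac
  exact Subgroup.mem_bot.mpr (eq_one_of_mem_pgroup_of_mem_pprime hAp (qp_coprime H) ha haq)

/-- KS 9.3.1: `|A| |C_V(A)| = |V|` for a nontrivial best offender -/
theorem bo_card_eq (s : FFSetup p V H) :
    ∀ n : ℕ, ∀ A : Subgroup G, Nat.card ↥A = n → A ≤ H → Cfsg.IsBestOffenderOn p V A → A ≠ ⊥ →
      Nat.card ↥A * Nat.card ↥(V ⊓ Subgroup.centralizer (A : Set G)) = Nat.card ↥V := by
  have hpp : p.Prime := hp.out
  intro n
  induction n using Nat.strong_induction_on with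
  | _ n ih =>
  intro A hn hAH hA hA1
  obtain ⟨B, hBA, hcard, hne⟩ := bo_exists_hyper s hAH hA hA1
  obtain ⟨hcv, hB⟩ := bo_hyper s hAH hA hBA hcard hne
  have heq : Nat.card ↥A * Nat.card ↥(V ⊓ Subgroup.centralizer (A : Set G)) =
      Nat.card ↥B * Nat.card ↥(V ⊓ Subgroup.centralizer (B : Set G)) := by
    rw [hcard, hcv]; ring
  rw [heq]
  by_cases hB1 : B = ⊥
  · rw [hB1, Subgroup.card_bot, one_mul]
    congr 2
    rw [Subgroup.coe_bot, Subgroup.centralizer_eq_top_iff_subset.mpr]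
    · exact inf_top_eq _
    · intro x hx
      rw [Set.mem_singleton_iff] at hx
      rw [hx]
      exact Subgroup.one_mem _
  · have hlt : Nat.card ↥B < n := by
      rw [← hn, hcard]
      have hpos : 0 < Nat.card ↥B := Nat.card_pos
      have := hpp.one_lt
      nlinarith
    exact ih _ hlt B rfl (hBA.trans hAH) hB hB1

end ff



end Cfsg.Agent.Lib.Helper3
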