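import Mathlib
import Cfsg.Agent.Lib.Helper3.FF1
import Cfsg.Agent.Lib.Helper3.CommHom

set_option autoImplicit false
set_option linter.unusedSectionVars false
set_option linter.style.haveILetI false
open scoped commutatorElement

/-! KS 9.3.2: minimal nontrivially-acting best offenders. -/

namespace Cfsg.Agent.Lib.Helper3

section ff2
variable {G : Type*} [Group G] [Finite G] {p : ℕ} [hp : Fact p.Prime]
variable {V H A : Subgroup G}

/-- a minimal nontrivially-acting best offender of `H` on `V` -/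
def MinBO (p : ℕ) (V H A : Subgroup G) : Prop :=
  A ≤ H ∧ Cfsg.IsBestOffenderOn p V A ∧ ⁅V, A⁆ ≠ ⊥ ∧
    ∀ B : Subgroup G, B ≤ A → Cfsg.IsBestOffenderOn p V B → ⁅V, B⁆ ≠ ⊥ → B = A

lemma MinBO.ne_bot (m : MinBO p V H A) : A ≠ ⊥ := by
  intro h
  apply m.2.2.1
  rw [h]
  exact Subgroup.commutator_bot_right V

/-- a subgroup of `H` acting trivially on `V` is trivial -/
lemma FFSetup.eq_bot_of_comm_eq_bot (s : FFSetup p V H) {B : Subgroup G} (hBH : B ≤ H)
    (h : ⁅V, B⁆ = ⊥) : B = ⊥ := by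
  rw [Subgroup.commutator_eq_bot_iff_le_centralizer, Subgroup.le_centralizer_iff] at h
  rw [eq_bot_iff, ← s.hf]
  exact le_inf hBH h

theorem MinBO.card (s : FFSetup p V H) (m : MinBO p V H A) : Nat.card ↥A = p := by
  obtain ⟨hAH, hA, hVA, hmin⟩ := m
  have hA1 : A ≠ ⊥ := MinBO.ne_bot ⟨hAH, hA, hVA, hmin⟩
  obtain ⟨B, hBA, hcard, hne⟩ := bo_exists_hyper s hAH hA hA1
  obtain ⟨-, hB⟩ := bo_hyper s hAH hA hBA hcard hne
  have hB1 : B = ⊥ := by
    by_contra hB1
    have hVB : ⁅V, B⁆ ≠ ⊥ := fun h => hB1 (s.eq_bot_of_comm_eq_bot (hBA.trans hAH) h)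
    have := hmin B hBA hB hVB
    rw [this] at hcard
    have hpos : 0 < Nat.card ↥A := Nat.card_pos
    have := hp.out.one_lt
    nlinarith
  rw [hcard, hB1, Subgroup.card_bot, mul_one]

theorem MinBO.relIndex (s : FFSetup p V H) (m : MinBO p V H A) :
    (V ⊓ Subgroup.centralizer (A : Set G)).relIndex V = p := by
  have h1 := bo_card_eq s _ A rfl m.1 m.2.1 m.ne_bot
  rw [m.card s] at h1
  have h2 := card_eq_card_mul_relIndex
    (inf_le_left : V ⊓ Subgroup.centralizer (A : Set G) ≤ V)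
  have hpos : 0 < Nat.card ↥(V ⊓ Subgroup.centralizer (A : Set G)) := Nat.card_pos
  have h3 : Nat.card ↥(V ⊓ Subgroup.centralizer (A : Set G)) *
      (V ⊓ Subgroup.centralizer (A : Set G)).relIndex V =
      Nat.card ↥(V ⊓ Subgroup.centralizer (A : Set G)) * p := by
    rw [← h2, ← h1, mul_comm]
  exact Nat.eq_of_mul_eq_mul_left hpos h3

theorem MinBO.eq_zpowers (s : FFSetup p V H) (m : MinBO p V H A) {a : G} (ha : a ∈ A)
    (ha1 : a ≠ 1) : A = Subgroup.zpowers a := by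
  symm
  apply Subgroup.eq_of_le_of_card_ge ((Subgroup.zpowers_le).mpr ha)
  rw [m.card s, Nat.card_zpowers]
  have h1 : a ^ p = 1 := bo_exp s m.1 m.2.1 a ha
  have h2 : orderOf a ∣ p := orderOf_dvd_of_pow_eq_one h1
  rcases (Nat.dvd_prime hp.out).mp h2 with h | h
  · exact absurd (orderOf_eq_one_iff.mp h) ha1
  · exact h.ge

theorem MinBO.exists_gen (m : MinBO p V H A) : ∃ a ∈ A, a ≠ 1 := by
  by_contra h
  push Not at h
  apply m.ne_bot
  rw [eq_bot_iff]
  intro a ha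
  exact Subgroup.mem_bot.mpr (h a ha)

theorem MinBO.comm_card (s : FFSetup p V H) (m : MinBO p V H A) : Nat.card ↥⁅V, A⁆ = p := by
  obtain ⟨a, ha, ha1⟩ := m.exists_gen
  have hz := m.eq_zpowers s ha ha1
  have h1 := m.relIndex s
  rw [hz] at h1 ⊢
  rw [card_commutator_zpowers V a s.V_comm (fun v hv => s.conj_mem (m.1 ha) hv)]
  exact h1

end ff2

end Cfsg.Agent.Lib.Helper3
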