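import Mathlib
import Cfsg.Agent.Lib.Helper3.FF2

set_option autoImplicit false
set_option linter.unusedSectionVars false
set_option linter.style.haveILetI false
open scoped commutatorElement

/-! KS 9.3.3: best offenders are direct products of minimal ones. -/

namespace Cfsg.Agent.Lib.Helper3

section indep
variable {G : Type*} [Group G] [Finite G]

/-- the join of finitely many pairwise commuting subgroups has order at most the product -/
lemma card_iSup_le_prod {ι : Type*} [Fintype ι] (B : ι → Subgroup G)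
    (hcomm : Pairwise fun i j : ι => ∀ x y : G, x ∈ B i → y ∈ B j → Commute x y) :
    Nat.card ↥(⨆ i, B i) ≤ ∏ i, Nat.card ↥(B i) := by
  rw [← Subgroup.noncommPiCoprod_range (hcomm := hcomm), ← Nat.card_pi]
  exact Nat.card_le_card_of_surjective _ (Subgroup.noncommPiCoprod hcomm).rangeRestrict_surjective

/-- a family of `n` subgroups of order `p` spanning a group of order `p ^ n` is independent -/
lemma iSupIndep_of_card {p : ℕ} [hp : Fact p.Prime] {n : ℕ} (B : Fin n → Subgroup G)
    (hcomm : ∀ i j, ∀ x y : G, x ∈ B i → y ∈ B j → x * y = y * x)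
    (hB : ∀ i, Nat.card ↥(B i) = p) (hcard : Nat.card ↥(⨆ i, B i) = p ^ n) : iSupIndep B := by
  have hpp : p.Prime := hp.out
  intro i
  rw [disjoint_iff]
  by_contra hne
  set D : Subgroup G := ⨆ (j : Fin n) (_ : j ≠ i), B j with hD
  have hBi : B i ≤ D := by
    have h1 : Nat.card ↥(B i ⊓ D) ∣ p := by
      rw [← hB i]; exact Subgroup.card_dvd_of_le inf_le_left
    rcases (Nat.dvd_prime hpp).mp h1 with h | h
    · exact absurd (Subgroup.card_eq_one.mp h) hne
    · have : B i ⊓ D = B i := Subgroup.eq_of_le_of_card_ge inf_le_left (by rw [h, hB i])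
      rw [← this]; exact inf_le_right
  have hle : (⨆ j, B j) ≤ D := by
    apply iSup_le
    intro j
    by_cases hj : j = i
    · rw [hj]; exact hBi
    · exact le_iSup₂ (f := fun (j : Fin n) (_ : j ≠ i) => B j) j hj
  have hD' : D = ⨆ j : {j : Fin n // j ≠ i}, B j.1 := by
    rw [hD, iSup_subtype']
  have hcD : Nat.card ↥D ≤ p ^ (n - 1) := by
    rw [hD']
    refine (card_iSup_le_prod (fun j : {j : Fin n // j ≠ i} => B j.1) ?_).trans ?_
    · intro j k _ x y hx hy
      exact hcomm _ _ x y hx hy
    · simp only [hB, Finset.prod_const, Finset.card_univ]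
      apply le_of_eq
      congr 1
      rw [Fintype.card_subtype]
      have : (Finset.univ.filter fun j : Fin n => j ≠ i) = Finset.univ.erase i := by
        ext j; simp
      rw [this, Finset.card_erase_of_mem (Finset.mem_univ i), Finset.card_univ, Fintype.card_fin]
  have h1 : p ^ n ≤ p ^ (n - 1) := by
    rw [← hcard]
    exact (Subgroup.card_le_of_le hle).trans hcD
  have hn : 0 < n := i.pos
  have := (Nat.pow_le_pow_iff_right hpp.one_lt).mp h1
  omega

end indep

section ff3
variable {G : Type*} [Group G] [Finite G] {p : ℕ} [hp : Fact p.Prime]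
variable {V H A : Subgroup G}

/-- a subgroup of index at most `p` in a `p`-group is everything or of index `p` -/
lemma hyperplane_cases {A B : Subgroup G} (hAp : IsPGroup p ↥A) (hBA : B ≤ A)
    (hrel : B.relIndex A ≤ p) : B = A ∨ Nat.card ↥A = p * Nat.card ↥B := by
  have hpp : p.Prime := hp.out
  by_cases h1 : B.relIndex A = 1
  · left
    exact le_antisymm hBA (Subgroup.relIndex_eq_one.mp h1)
  · right
    have hdvd : B.relIndex A ∣ Nat.card ↥A := Subgroup.relIndex_dvd_card B A
    obtain ⟨n, hn⟩ := (IsPGroup.iff_card).mp hAp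
    rw [hn] at hdvd
    obtain ⟨k, hk, hk'⟩ := (Nat.dvd_prime_pow hpp).mp hdvd
    have hk1 : k ≠ 0 := by
      intro h0
      apply h1
      rw [hk', h0, pow_zero]
    have hrp : B.relIndex A = p := by
      apply le_antisymm hrel
      rw [hk']
      calc p = p ^ 1 := (pow_one p).symm
        _ ≤ p ^ k := Nat.pow_le_pow_right hpp.pos (Nat.one_le_iff_ne_zero.mpr hk1)
    rw [card_eq_card_mul_relIndex hBA, hrp, mul_comm]

/-- a second hyperplane -/
theorem bo_exists_hyper' (s : FFSetup p V H) (hAH : A ≤ H) (hA : Cfsg.IsBestOffenderOn p V A)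
    {B : Subgroup G} (hBA : B ≤ A) (hB1 : B ≠ ⊥) :
    ∃ B' : Subgroup G, B' ≤ A ∧ Nat.card ↥A = p * Nat.card ↥B' ∧
      ⁅qp p H ⊓ Subgroup.centralizer (B' : Set G), A⁆ ≠ ⊥ ∧ B' ≠ B := by
  have hpp : p.Prime := hp.out
  by_contra hcon
  push Not at hcon
  have hcommA := bo_comm s hAH hA
  have hexpA := bo_exp s hAH hA
  have hAp := bo_pgroup s hAH hA
  have hX : ¬ p ∣ Nat.card ↥(qp p H) :=
    (Nat.Prime.coprime_iff_not_dvd hpp).mp (qp_coprime H).symm
  have hgen := Cfsg.Agent.Lib.Helper5.le_iSup_hyperplane p A (qp p H) hcommA hexpA hX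
    (hAH.trans (qp_normalizer H)) (Nat.card ↥A - Nat.card ↥(⊥ : Subgroup G)) ⊥ bot_le rfl
  have e : qp p H ⊓ Subgroup.centralizer (((⊥ : Subgroup G) : Subgroup G) : Set G) = qp p H := by
    rw [Subgroup.coe_bot, Subgroup.centralizer_eq_top_iff_subset.mpr]
    · exact inf_top_eq _
    · intro x hx
      rw [Set.mem_singleton_iff] at hx
      rw [hx]
      exact Subgroup.one_mem _
  rw [e] at hgen
  have hAB : Subgroup.centralizer (A : Set G) ≤ Subgroup.centralizer (B : Set G) :=
    Subgroup.centralizer_le hBA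
  have hQB : qp p H ≤ Subgroup.centralizer (B : Set G) := by
    refine hgen.trans (iSup_le ?_)
    rintro ⟨B'', hB''A, hrel⟩
    show qp p H ⊓ Subgroup.centralizer (B'' : Set G) ≤ Subgroup.centralizer (B : Set G)
    rcases hyperplane_cases hAp hB''A hrel with h | h
    · rw [h]; exact inf_le_right.trans hAB
    · by_cases hBB : B'' = B
      · rw [hBB]; exact inf_le_right
      · have := hcon B'' hB''A h
        by_cases h0 : ⁅qp p H ⊓ Subgroup.centralizer (B'' : Set G), A⁆ = ⊥
        · rw [Subgroup.commutator_eq_bot_iff_le_centralizer] at h0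
          exact h0.trans hAB
        · exact absurd (this h0) hBB
  apply hB1
  rw [eq_bot_iff]
  intro b hb
  have hbc : b ∈ Subgroup.centralizer (qp p H : Set G) := by
    rw [Subgroup.mem_centralizer_iff]
    intro x hx
    exact ((Subgroup.mem_centralizer_iff.mp (hQB hx)) b hb).symm
  have hbq := s.mem_qp_of_centralizes (hAH (hBA hb)) hbc
  exact Subgroup.mem_bot.mpr
    (eq_one_of_mem_pgroup_of_mem_pprime hAp (qp_coprime H) (hBA hb) hbq)

/-- a decomposition into `n` subgroups of order `p` with `|V : C_V| = p` -/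
def Decomp (p : ℕ) (V A : Subgroup G) (n : ℕ) : Prop :=
  ∃ B : Fin n → Subgroup G,
    (∀ i, B i ≤ A ∧ Nat.card ↥(B i) = p ∧
      (V ⊓ Subgroup.centralizer (B i : Set G)).relIndex V = p) ∧
    ⨆ i, B i = A ∧ Nat.card ↥A = p ^ n

theorem bo_decomp (s : FFSetup p V H) :
    ∀ m : ℕ, ∀ A : Subgroup G, Nat.card ↥A = m → A ≤ H → Cfsg.IsBestOffenderOn p V A →
      ∃ n, Decomp p V A n := by
  have hpp : p.Prime := hp.out
  intro m
  induction m using Nat.strong_induction_on with
  | _ m ih =>
  intro A hm hAH hA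
  by_cases hA1 : A = ⊥
  · refine ⟨0, fun i => i.elim0, fun i => i.elim0, ?_, ?_⟩
    · rw [hA1, iSup_of_empty]
    · rw [hA1, Subgroup.card_bot, pow_zero]
  obtain ⟨B, hBA, hcard, hne⟩ := bo_exists_hyper s hAH hA hA1
  obtain ⟨hcv, hB⟩ := bo_hyper s hAH hA hBA hcard hne
  have hposB : 0 < Nat.card ↥B := Nat.card_pos
  have hltB : Nat.card ↥B < m := by
    rw [← hm, hcard]
    have := hpp.one_lt
    nlinarith
  by_cases hB1 : B = ⊥
  · -- `|A| = p`
    have hAp : Nat.card ↥A = p := by rw [hcard, hB1, Subgroup.card_bot, mul_one]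
    refine ⟨1, fun _ => A, fun _ => ⟨le_rfl, hAp, ?_⟩, ?_, ?_⟩
    · have h1 := bo_card_eq s _ A rfl hAH hA hA1
      rw [hAp] at h1
      have h2 := card_eq_card_mul_relIndex
        (inf_le_left : V ⊓ Subgroup.centralizer (A : Set G) ≤ V)
      have hpos : 0 < Nat.card ↥(V ⊓ Subgroup.centralizer (A : Set G)) := Nat.card_pos
      have h3 : Nat.card ↥(V ⊓ Subgroup.centralizer (A : Set G)) *
          (V ⊓ Subgroup.centralizer (A : Set G)).relIndex V =
          Nat.card ↥(V ⊓ Subgroup.centralizer (A : Set G)) * p := by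
        rw [← h2, ← h1, mul_comm]
      exact Nat.eq_of_mul_eq_mul_left hpos h3
    · exact ciSup_const
    · rw [hAp, pow_one]
  · obtain ⟨B', hB'A, hcard', hne', hB'B⟩ := bo_exists_hyper' s hAH hA hBA hB1
    obtain ⟨-, hB'⟩ := bo_hyper s hAH hA hB'A hcard' hne'
    have hcBB' : Nat.card ↥B' = Nat.card ↥B := by
      have : p * Nat.card ↥B' = p * Nat.card ↥B := by rw [← hcard, ← hcard']
      exact Nat.eq_of_mul_eq_mul_left hpp.pos this
    have hltB' : Nat.card ↥B' < m := by rw [hcBB']; exact hltB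
    obtain ⟨n, F, hF, hFsup, hFcard⟩ := ih _ hltB B rfl (hBA.trans hAH) hB
    obtain ⟨n', F', hF', hF'sup, -⟩ := ih _ hltB' B' rfl (hB'A.trans hAH) hB'
    -- some `F' j` is not in `B`
    have hex : ∃ j, ¬ F' j ≤ B := by
      by_contra hall
      push Not at hall
      have h1 : B' ≤ B := by rw [← hF'sup]; exact iSup_le hall
      exact hB'B (Subgroup.eq_of_le_of_card_ge h1 hcBB'.ge)
    obtain ⟨j, hj⟩ := hex
    obtain ⟨hjB', hjc, hjr⟩ := hF' j
    have hsup : F' j ⊔ B = A := by
      have hle : F' j ⊔ B ≤ A := sup_le (hjB'.trans hB'A) hBA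
      have hlt : B < F' j ⊔ B := lt_of_le_of_ne le_sup_right (fun h => hj (h ▸ le_sup_left))
      have hd1 : Nat.card ↥B ∣ Nat.card ↥(F' j ⊔ B) := Subgroup.card_dvd_of_le le_sup_right
      have hd2 : Nat.card ↥(F' j ⊔ B) ∣ p * Nat.card ↥B := by
        rw [← hcard]; exact Subgroup.card_dvd_of_le hle
      obtain ⟨c, hc⟩ := hd1
      rw [hc, mul_comm p, Nat.mul_dvd_mul_iff_left hposB] at hd2
      have hc1 : c ≠ 1 := by
        intro h1
        rw [h1, mul_one] at hc
        exact hlt.ne (Subgroup.eq_of_le_of_card_ge le_sup_right hc.le)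
      have hcp : c = p := by
        rcases (Nat.dvd_prime hpp).mp hd2 with h | h
        · exact absurd h hc1
        · exact h
      apply Subgroup.eq_of_le_of_card_ge hle
      rw [hc, hcp, hcard, mul_comm]
    refine ⟨n + 1, Fin.cons (F' j) F, ?_, ?_, ?_⟩
    · intro i
      refine Fin.cases ?_ ?_ i
      · simp only [Fin.cons_zero]
        exact ⟨hjB'.trans hB'A, hjc, hjr⟩
      · intro i
        simp only [Fin.cons_succ]
        exact ⟨(hF i).1.trans hBA, (hF i).2.1, (hF i).2.2⟩
    · apply le_antisymm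
      · apply iSup_le
        intro i
        refine Fin.cases ?_ ?_ i
        · simp only [Fin.cons_zero]
          rw [← hsup]; exact le_sup_left
        · intro i
          simp only [Fin.cons_succ]
          exact (hF i).1.trans hBA
      · rw [← hsup]
        apply sup_le
        · have := le_iSup (Fin.cons (F' j) F : Fin (n + 1) → Subgroup G) 0
          simpa using this
        · rw [← hFsup]
          apply iSup_le
          intro i
          have := le_iSup (Fin.cons (F' j) F : Fin (n + 1) → Subgroup G) i.succ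
          simpa using this
    · rw [hcard, hFcard, pow_succ, mul_comm]

/-- subgroups of a group of prime order -/
lemma eq_bot_or_eq_of_card_prime {C D : Subgroup G} (hC : Nat.card ↥C = p) (hDC : D ≤ C) :
    D = ⊥ ∨ D = C := by
  have h1 : Nat.card ↥D ∣ p := by rw [← hC]; exact Subgroup.card_dvd_of_le hDC
  rcases (Nat.dvd_prime hp.out).mp h1 with h | h
  · left; exact Subgroup.card_eq_one.mp h
  · right; exact Subgroup.eq_of_le_of_card_ge hDC (by rw [h, hC])

/-- a subgroup of order `p` with `|V : C_V| = p` inside a best offender is a minimal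
nontrivially-acting best offender -/
theorem minbo_of_card (s : FFSetup p V H) (hAH : A ≤ H) (hA : Cfsg.IsBestOffenderOn p V A)
    {C : Subgroup G} (hCA : C ≤ A) (hC : Nat.card ↥C = p)
    (hrel : (V ⊓ Subgroup.centralizer (C : Set G)).relIndex V = p) : MinBO p V H C := by
  have hcV : Nat.card ↥V = Nat.card ↥(V ⊓ Subgroup.centralizer (C : Set G)) * p := by
    rw [← hrel]
    exact card_eq_card_mul_relIndex inf_le_left
  have hne : ⁅V, C⁆ ≠ ⊥ := by
    intro h
    have := s.eq_bot_of_comm_eq_bot (hCA.trans hAH) h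
    rw [this, Subgroup.card_bot] at hC
    exact hp.out.one_lt.ne hC
  refine ⟨hCA.trans hAH, ⟨?_, ?_, ?_⟩, hne, ?_⟩
  · intro D hDC
    rcases eq_bot_or_eq_of_card_prime hC hDC with h | h
    · rw [h, Subgroup.card_bot, one_mul, hC, mul_comm, ← hcV]
      apply le_of_eq
      congr 2
      rw [Subgroup.coe_bot, Subgroup.centralizer_eq_top_iff_subset.mpr]
      · exact inf_top_eq _
      · intro x hx
        rw [Set.mem_singleton_iff] at hx
        rw [hx]
        exact Subgroup.one_mem _
    · rw [h]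
  · exact (Subgroup.commutator_mono hCA hCA).trans hA.2.1
  · intro c hc
    exact hA.2.2 c (hCA hc)
  · intro D hDC _ hVD
    rcases eq_bot_or_eq_of_card_prime hC hDC with h | h
    · exfalso
      apply hVD
      rw [h]
      exact Subgroup.commutator_bot_right V
    · exact h

/-- KS 9.3.3 -/
theorem bo_decomp_minbo (s : FFSetup p V H) (hAH : A ≤ H) (hA : Cfsg.IsBestOffenderOn p V A) :
    ∃ (k : ℕ) (B : Fin k → Subgroup G), (∀ i, B i ≤ A ∧ MinBO p V H (B i)) ∧ iSupIndep B ∧
      ⨆ i, B i = A := by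
  obtain ⟨n, B, hB, hsup, hcard⟩ := bo_decomp s _ A rfl hAH hA
  have hcommA := bo_comm s hAH hA
  refine ⟨n, B, fun i => ⟨(hB i).1, minbo_of_card s hAH hA (hB i).1 (hB i).2.1 (hB i).2.2⟩, ?_, hsup⟩
  apply iSupIndep_of_card (p := p) B
  · intro i j x y hx hy
    exact hcommA x ((hB i).1 hx) y ((hB j).1 hy)
  · intro i; exact (hB i).2.1
  · rw [hsup, hcard]

end ff3


end Cfsg.Agent.Lib.Helper3
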