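import Mathlib
import Cfsg.Agent.Lib.Helper3.FF3
import Cfsg.Agent.Lib.Helper3.NormAux
import Cfsg.Agent.Lib.Helper3.Conj

set_option autoImplicit false
set_option linter.unusedSectionVars false
set_option linter.style.haveILetI false
open scoped commutatorElement

/-! KS 9.3.4, first part: two minimal best offenders `A`, `A'` with generators `a`, `a'` such
that `a' a⁻¹` is a nontrivial `p'`-element of the `p'`-core. -/

namespace Cfsg.Agent.Lib.Helper3

section gen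
variable {G : Type*} [Group G]

/-- `[V, A A'] = [V, A] [V, A']` when `A` and `A'` normalize `V` -/
lemma commutator_sup_eq {V A A' : Subgroup G} (hA : A ≤ Subgroup.normalizer (V : Set G))
    (hA' : A' ≤ Subgroup.normalizer (V : Set G)) : ⁅V, A ⊔ A'⁆ = ⁅V, A⁆ ⊔ ⁅V, A'⁆ := by
  apply le_antisymm
  swap
  · exact sup_le (Subgroup.commutator_mono le_rfl le_sup_left)
      (Subgroup.commutator_mono le_rfl le_sup_right)
  set W : Subgroup G := ⁅V, A⁆ ⊔ ⁅V, A'⁆ with hW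
  have hWV : W ≤ V := sup_le (Subgroup.le_normalizer_iff_commutator_le_left.mp hA)
    (Subgroup.le_normalizer_iff_commutator_le_left.mp hA')
  let K : Subgroup G :=
    { carrier := {g | g ∈ Subgroup.normalizer (W : Set G) ∧ ∀ v ∈ V, ⁅v, g⁆ ∈ W}
      one_mem' := ⟨Subgroup.one_mem _, fun v _ => by simp [commutatorElement_def]⟩
      mul_mem' := by
        rintro g h ⟨hg1, hg2⟩ ⟨hh1, hh2⟩
        refine ⟨Subgroup.mul_mem _ hg1 hh1, fun v hv => ?_⟩
        have e : ⁅v, g * h⁆ = ⁅v, g⁆ * (g * ⁅v, h⁆ * g⁻¹) := by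
          simp only [commutatorElement_def]; group
        rw [e]
        exact W.mul_mem (hg2 v hv) (conj_mem_of_mem_normalizer' hg1 (hh2 v hv))
      inv_mem' := by
        rintro g ⟨hg1, hg2⟩
        refine ⟨Subgroup.inv_mem _ hg1, fun v hv => ?_⟩
        have e : ⁅v, g⁻¹⁆ = g⁻¹ * (⁅v, g⁆)⁻¹ * g := by
          simp only [commutatorElement_def]; group
        rw [e]
        exact conj_inv_mem_of_mem_normalizer' hg1 (W.inv_mem (hg2 v hv)) }
  have key : ∀ B : Subgroup G, ⁅V, B⁆ ≤ W → B ≤ K := by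
    intro B hB g hg
    have hconj : ∀ g ∈ B, ∀ w ∈ W, g * w * g⁻¹ ∈ W := by
      intro g hg w hw
      have h1 : ⁅w, g⁆ ∈ W := hB (Subgroup.commutator_mem_commutator (hWV hw) hg)
      have e : g * w * g⁻¹ = (⁅w, g⁆)⁻¹ * w := by
        simp only [commutatorElement_def]; group
      rw [e]
      exact W.mul_mem (W.inv_mem h1) hw
    refine ⟨mem_normalizer_of_conj_mem (hconj g hg) ?_, fun v hv =>
      hB (Subgroup.commutator_mem_commutator hv hg)⟩
    intro w hw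
    have := hconj g⁻¹ (B.inv_mem hg) w hw
    simpa using this
  have hK : A ⊔ A' ≤ K := sup_le (key A le_sup_left) (key A' le_sup_right)
  rw [Subgroup.commutator_le]
  intro v hv g hg
  exact (hK hg).2 v hv

lemma centralizer_sup_eq (A A' : Subgroup G) :
    Subgroup.centralizer ((A ⊔ A' : Subgroup G) : Set G) =
      Subgroup.centralizer (A : Set G) ⊓ Subgroup.centralizer (A' : Set G) := by
  apply le_antisymm
  · exact le_inf (Subgroup.centralizer_le (by exact_mod_cast (le_sup_left : A ≤ A ⊔ A')))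
      (Subgroup.centralizer_le (by exact_mod_cast (le_sup_right : A' ≤ A ⊔ A')))
  · rintro g ⟨h1, h2⟩
    have h1' : A ≤ Subgroup.centralizer ((Subgroup.zpowers g : Subgroup G) : Set G) := by
      rw [Subgroup.le_centralizer_iff, Subgroup.zpowers_le]; exact h1
    have h2' : A' ≤ Subgroup.centralizer ((Subgroup.zpowers g : Subgroup G) : Set G) := by
      rw [Subgroup.le_centralizer_iff, Subgroup.zpowers_le]; exact h2
    have h3 := sup_le h1' h2'
    rw [Subgroup.le_centralizer_iff, Subgroup.zpowers_le] at h3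
    exact h3

end gen

section ff4
variable {G : Type*} [Group G] [Finite G] {p : ℕ} [hp : Fact p.Prime]
variable {V H A A' : Subgroup G}

lemma FFSetup.comm_le (s : FFSetup p V H) {B : Subgroup G} (hB : B ≤ H) : ⁅V, B⁆ ≤ V :=
  Subgroup.le_normalizer_iff_commutator_le_left.mp (hB.trans s.hHV)

/-- quadratic action of a minimal best offender -/
theorem MinBO.quad (s : FFSetup p V H) (m : MinBO p V H A) :
    ⁅V, A⁆ ≤ Subgroup.centralizer (A : Set G) := by
  have hAp := bo_pgroup s m.1 m.2.1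
  have hZp : IsPGroup p ↥⁅V, A⁆ := s.V_pgroup.to_le (s.comm_le m.1)
  have hAN : A ≤ Subgroup.normalizer ((⁅V, A⁆ : Subgroup G) : Set G) := by
    intro g hg
    exact normalizer_inf_le_normalizer_commutator V A ⟨s.hHV (m.1 hg), Subgroup.le_normalizer hg⟩
  have hlt := commutator_lt_of_pgroup hAp hZp hAN m.2.2.1
  have hc : ⁅⁅V, A⁆, A⁆ = ⊥ := by
    rcases eq_bot_or_eq_of_card_prime (m.comm_card s) hlt.le with h | h
    · exact h
    · exact absurd h hlt.ne
  rwa [Subgroup.commutator_eq_bot_iff_le_centralizer] at hc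

/-- a `p'`-element of the core stabilizing a chain `1 ≤ W ≤ V` is trivial -/
theorem FFSetup.stab (s : FFSetup p V H) {y : G} (hy : y ∈ qp p H) {W : Subgroup G}
    (hyW : y ∈ Subgroup.centralizer (W : Set G)) (hW : ∀ v ∈ V, ⁅y, v⁆ ∈ W) : y = 1 := by
  apply s.eq_one_of_centralizes (qp_le H hy)
  rw [Subgroup.mem_centralizer_iff]
  intro v hv
  have h1 : ⁅y, v⁆ = 1 := by
    apply commute_of_comm_commutator (p := p) (qp_orderOf_coprime hy)
    · refine ⟨1, ?_⟩
      rw [pow_one]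
      have : ⁅y, v⁆ ∈ V := by
        rw [commutatorElement_def]
        exact V.mul_mem (s.conj_mem (qp_le H hy) hv) (V.inv_mem hv)
      exact s.hV.2 _ this
    · exact ((Subgroup.mem_centralizer_iff.mp hyW) _ (hW v hv)).symm
  exact (commutatorElement_eq_one_iff_mul_comm.mp h1).symm

/-- a `p'`-element acting on `U` like an element of order `p` centralizes `U` -/
lemma cent_of_conj_eq {y b : G} {U : Subgroup G} (hy : y ∈ qp p H)
    (hbU : ∀ u ∈ U, b * u * b⁻¹ ∈ U) (hbp : b ^ p = 1)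
    (h : ∀ u ∈ U, y * u * y⁻¹ = b * u * b⁻¹) : y ∈ Subgroup.centralizer (U : Set G) := by
  have hpow : ∀ k : ℕ, ∀ u ∈ U, y ^ k * u * (y ^ k)⁻¹ = b ^ k * u * (b ^ k)⁻¹ ∧
      b ^ k * u * (b ^ k)⁻¹ ∈ U := by
    intro k
    induction k with
    | zero => intro u hu; simpa using hu
    | succ k ih =>
      intro u hu
      obtain ⟨h1, h2⟩ := ih u hu
      have e1 : y ^ (k + 1) * u * (y ^ (k + 1))⁻¹ = y * (y ^ k * u * (y ^ k)⁻¹) * y⁻¹ := by
        rw [pow_succ']; group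
      have e2 : b ^ (k + 1) * u * (b ^ (k + 1))⁻¹ = b * (b ^ k * u * (b ^ k)⁻¹) * b⁻¹ := by
        rw [pow_succ']; group
      rw [e1, e2, h1, h _ h2]
      exact ⟨rfl, hbU _ h2⟩
  have hyp : y ^ p ∈ Subgroup.centralizer (U : Set G) := by
    rw [Subgroup.mem_centralizer_iff]
    intro u hu
    have := (hpow p u hu).1
    rw [hbp] at this
    have h2 : y ^ p * u * (y ^ p)⁻¹ = u := by simpa using this
    calc u * y ^ p = (y ^ p * u * (y ^ p)⁻¹) * y ^ p := by rw [h2]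
      _ = y ^ p * u := by group
  obtain ⟨m, hm⟩ := exists_pow_eq_self_of_coprime (x := y) (n := p) (qp_orderOf_coprime hy).symm
  rw [← hm]
  exact Subgroup.pow_mem _ hyp m

/-- the configuration of two minimal best offenders -/
structure Pair (p : ℕ) (V H A A' : Subgroup G) (a a' : G) : Prop where
  mA : MinBO p V H A
  mA' : MinBO p V H A'
  ha : a ∈ A
  ha1 : a ≠ 1
  ha' : a' ∈ A'
  ha'1 : a' ≠ 1
  hy : a' * a⁻¹ ∈ qp p H
  hy1 : a' * a⁻¹ ≠ 1

variable {a a' : G}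

lemma Pair.symm (P : Pair p V H A A' a a') : Pair p V H A' A a' a := by
  refine ⟨P.mA', P.mA, P.ha', P.ha'1, P.ha, P.ha1, ?_, ?_⟩
  · have := (qp p H).inv_mem P.hy
    simpa using this
  · intro h
    apply P.hy1
    have : (a * a'⁻¹)⁻¹ = 1 := by rw [h, inv_one]
    simpa using this

lemma Pair.le_H (P : Pair p V H A A' a a') : A ⊔ A' ≤ H := _root_.sup_le P.mA.1 P.mA'.1

lemma Pair.comm_eq (s : FFSetup p V H) (P : Pair p V H A A' a a') :
    ⁅V, A ⊔ A'⁆ = ⁅V, A⁆ ⊔ ⁅V, A'⁆ :=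
  commutator_sup_eq (P.mA.1.trans s.hHV) (P.mA'.1.trans s.hHV)

lemma Pair.y_mem (P : Pair p V H A A' a a') : a' * a⁻¹ ∈ A ⊔ A' :=
  Subgroup.mul_mem _ (Subgroup.mem_sup_right P.ha') (Subgroup.inv_mem _ (Subgroup.mem_sup_left P.ha))

/-- `A ⊔ A'` normalizes `[V, A ⊔ A']` -/
lemma Pair.normalizes (s : FFSetup p V H) (P : Pair p V H A A' a a') :
    A ⊔ A' ≤ Subgroup.normalizer ((⁅V, A ⊔ A'⁆ : Subgroup G) : Set G) := by
  intro g hg
  exact normalizer_inf_le_normalizer_commutator V (A ⊔ A')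
    ⟨s.hHV (P.le_H hg), Subgroup.le_normalizer hg⟩

/-- `a` does not centralize `U = [V, A ⊔ A']` -/
theorem Pair.not_cent (s : FFSetup p V H) (P : Pair p V H A A' a a') :
    a ∉ Subgroup.centralizer ((⁅V, A ⊔ A'⁆ : Subgroup G) : Set G) := by
  intro hac
  set U := ⁅V, A ⊔ A'⁆ with hU
  have ha'N : a' ∈ Subgroup.normalizer (U : Set G) := P.normalizes s (Subgroup.mem_sup_right P.ha')
  have hyU : a' * a⁻¹ ∈ Subgroup.centralizer (U : Set G) := by
    apply cent_of_conj_eq (p := p) (H := H) (b := a') P.hy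
    · intro u hu; exact conj_mem_of_mem_normalizer' ha'N hu
    · exact bo_exp s P.mA'.1 P.mA'.2.1 a' P.ha'
    · intro u hu
      have h1 : a⁻¹ * u * a = u := by
        have := Subgroup.mem_centralizer_iff.mp hac u hu
        calc a⁻¹ * u * a = a⁻¹ * (u * a) := by group
          _ = a⁻¹ * (a * u) := by rw [this]
          _ = u := by group
      calc a' * a⁻¹ * u * (a' * a⁻¹)⁻¹ = a' * (a⁻¹ * u * a) * a'⁻¹ := by group
        _ = a' * u * a'⁻¹ := by rw [h1]
  apply P.hy1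
  apply s.stab P.hy hyU
  intro v hv
  have h1 : ⁅a' * a⁻¹, v⁆ ∈ ⁅A ⊔ A', V⁆ := Subgroup.commutator_mem_commutator P.y_mem hv
  rwa [Subgroup.commutator_comm] at h1

/-- `[V, A] ≠ [V, A']` -/
theorem Pair.ne (s : FFSetup p V H) (P : Pair p V H A A' a a') : ⁅V, A⁆ ≠ ⁅V, A'⁆ := by
  intro h
  apply P.not_cent s
  rw [P.comm_eq s, ← h, sup_idem]
  exact (Subgroup.le_centralizer_iff.mp (P.mA.quad s)) P.ha

theorem Pair.disjoint (s : FFSetup p V H) (P : Pair p V H A A' a a') :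
    ⁅V, A⁆ ⊓ ⁅V, A'⁆ = ⊥ := by
  rcases eq_bot_or_eq_of_card_prime (P.mA.comm_card s) (inf_le_left : ⁅V, A⁆ ⊓ ⁅V, A'⁆ ≤ _)
    with h | h
  · exact h
  · exfalso
    apply P.ne s
    have h1 : ⁅V, A⁆ ≤ ⁅V, A'⁆ := by rw [← h]; exact inf_le_right
    exact Subgroup.eq_of_le_of_card_ge h1 (by rw [P.mA.comm_card s, P.mA'.comm_card s])

/-- two commuting subgroups -/
lemma card_sup_le_mul {X Y : Subgroup G} (h : ∀ x ∈ X, ∀ y ∈ Y, x * y = y * x) :
    Nat.card ↥(X ⊔ Y) ≤ Nat.card ↥X * Nat.card ↥Y := by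
  have h1 := card_iSup_le_prod (fun b : Bool => cond b X Y) (by
    intro i j hij x y hx hy
    cases i <;> cases j
    · exact absurd rfl hij
    · exact (h y hy x hx).symm
    · exact h x hx y hy
    · exact absurd rfl hij)
  rw [iSup_bool_eq] at h1
  simpa using h1

theorem Pair.card_U (s : FFSetup p V H) (P : Pair p V H A A' a a') :
    Nat.card ↥⁅V, A ⊔ A'⁆ = p ^ 2 := by
  have hpp : p.Prime := hp.out
  have hZ1 := P.mA.comm_card s
  have hZ2 := P.mA'.comm_card s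
  have hUV : ⁅V, A ⊔ A'⁆ ≤ V := s.comm_le P.le_H
  have hUp : IsPGroup p ↥⁅V, A ⊔ A'⁆ := s.V_pgroup.to_le hUV
  obtain ⟨k, hk⟩ := (IsPGroup.iff_card).mp hUp
  have hle : Nat.card ↥⁅V, A ⊔ A'⁆ ≤ p * p := by
    rw [P.comm_eq s]
    refine (card_sup_le_mul ?_).trans (by rw [hZ1, hZ2])
    intro x hx y hy
    exact s.V_comm x (s.comm_le P.mA.1 hx) y (s.comm_le P.mA'.1 hy)
  have hZ1U : ⁅V, A⁆ ≤ ⁅V, A ⊔ A'⁆ := Subgroup.commutator_mono le_rfl le_sup_left
  have hne : ⁅V, A⁆ ≠ ⁅V, A ⊔ A'⁆ := by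
    intro h
    apply P.ne s
    have h1 : ⁅V, A'⁆ ≤ ⁅V, A⁆ := by
      rw [h]; exact Subgroup.commutator_mono le_rfl le_sup_right
    exact (Subgroup.eq_of_le_of_card_ge h1 (by rw [hZ1, hZ2])).symm
  have hlt : p < Nat.card ↥⁅V, A ⊔ A'⁆ := by
    rw [← hZ1]
    apply lt_of_le_of_ne (Subgroup.card_le_of_le hZ1U)
    intro h
    exact hne (Subgroup.eq_of_le_of_card_ge hZ1U h.ge)
  rw [hk] at hlt hle ⊢
  have h1 : 1 < k := by
    by_contra h
    push Not at h
    have : p ^ k ≤ p ^ 1 := Nat.pow_le_pow_right hpp.pos h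
    rw [pow_one] at this
    omega
  have h2 : k ≤ 2 := by
    rw [← pow_two] at hle
    exact (Nat.pow_le_pow_iff_right hpp.one_lt).mp hle
  have : k = 2 := by omega
  rw [this]

theorem Pair.inf_cent (s : FFSetup p V H) (P : Pair p V H A A' a a') :
    ⁅V, A ⊔ A'⁆ ⊓ Subgroup.centralizer (A : Set G) = ⁅V, A⁆ := by
  have hpp : p.Prime := hp.out
  have hZ1 := P.mA.comm_card s
  have hZ1U : ⁅V, A⁆ ≤ ⁅V, A ⊔ A'⁆ := Subgroup.commutator_mono le_rfl le_sup_left
  have hle : ⁅V, A⁆ ≤ ⁅V, A ⊔ A'⁆ ⊓ Subgroup.centralizer (A : Set G) := le_inf hZ1U (P.mA.quad s)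
  symm
  apply Subgroup.eq_of_le_of_card_ge hle
  have hdvd : Nat.card ↥(⁅V, A ⊔ A'⁆ ⊓ Subgroup.centralizer (A : Set G)) ∣ p ^ 2 := by
    rw [← P.card_U s]; exact Subgroup.card_dvd_of_le inf_le_left
  obtain ⟨j, hj, hj'⟩ := (Nat.dvd_prime_pow hpp).mp hdvd
  have hj2 : j ≠ 2 := by
    intro h2
    apply P.not_cent s
    have heq : ⁅V, A ⊔ A'⁆ ⊓ Subgroup.centralizer (A : Set G) = ⁅V, A ⊔ A'⁆ :=
      Subgroup.eq_of_le_of_card_ge inf_le_left (by rw [hj', h2, P.card_U s])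
    have h3 : ⁅V, A ⊔ A'⁆ ≤ Subgroup.centralizer (A : Set G) := by
      rw [← heq]; exact inf_le_right
    exact (Subgroup.le_centralizer_iff.mp h3) P.ha
  rw [hj', hZ1]
  have : j ≤ 1 := by omega
  calc p ^ j ≤ p ^ 1 := Nat.pow_le_pow_right hpp.pos this
    _ = p := pow_one p

theorem Pair.inf_fix (s : FFSetup p V H) (P : Pair p V H A A' a a') :
    ⁅V, A ⊔ A'⁆ ⊓ (V ⊓ Subgroup.centralizer ((A ⊔ A' : Subgroup G) : Set G)) = ⊥ := by
  rw [eq_bot_iff, ← P.disjoint s]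
  intro x hx
  obtain ⟨hxU, -, hxC⟩ := hx
  rw [centralizer_sup_eq] at hxC
  refine ⟨?_, ?_⟩
  · rw [← P.inf_cent s]; exact ⟨hxU, hxC.1⟩
  · have := P.symm.inf_cent s
    rw [sup_comm] at this
    rw [← this]; exact ⟨hxU, hxC.2⟩

/-- `V = U × C_V(A ⊔ A')` -/
theorem Pair.decomp (s : FFSetup p V H) (P : Pair p V H A A' a a') :
    ∀ v ∈ V, ∃ u ∈ ⁅V, A ⊔ A'⁆,
      ∃ c ∈ V ⊓ Subgroup.centralizer ((A ⊔ A' : Subgroup G) : Set G), v = u * c := by
  set U := ⁅V, A ⊔ A'⁆ with hU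
  set C₀ := V ⊓ Subgroup.centralizer ((A ⊔ A' : Subgroup G) : Set G) with hC₀
  have hUV : U ≤ V := s.comm_le P.le_H
  have hC₀V : C₀ ≤ V := inf_le_left
  let f : ↥U × ↥C₀ → ↥V := fun x => ⟨(x.1 : G) * (x.2 : G), V.mul_mem (hUV x.1.2) (hC₀V x.2.2)⟩
  have hinj : Function.Injective f := by
    rintro ⟨u, c⟩ ⟨u', c'⟩ h
    have h1 : (u : G) * (c : G) = (u' : G) * (c' : G) := congrArg Subtype.val h
    have h2 : (u' : G)⁻¹ * (u : G) = (c' : G) * (c : G)⁻¹ := by
      calc (u' : G)⁻¹ * (u : G) = (u' : G)⁻¹ * ((u : G) * c) * (c : G)⁻¹ := by group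
        _ = (u' : G)⁻¹ * ((u' : G) * c') * (c : G)⁻¹ := by rw [h1]
        _ = (c' : G) * (c : G)⁻¹ := by group
    have h3 : (u' : G)⁻¹ * (u : G) ∈ U ⊓ C₀ :=
      ⟨U.mul_mem (U.inv_mem u'.2) u.2, by rw [h2]; exact C₀.mul_mem c'.2 (C₀.inv_mem c.2)⟩
    rw [P.inf_fix s, Subgroup.mem_bot] at h3
    have h4 : (u : G) = u' := by
      have := congrArg (fun t => (u' : G) * t) h3
      simpa using this
    have h5 : (c : G) = c' := by
      rw [h4] at h1
      exact mul_left_cancel h1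
    exact Prod.ext (Subtype.ext h4) (Subtype.ext h5)
  have hcard : Nat.card ↥V ≤ Nat.card (↥U × ↥C₀) := by
    rw [Nat.card_prod, P.card_U s]
    have hC : C₀ = (V ⊓ Subgroup.centralizer (A : Set G)) ⊓
        (V ⊓ Subgroup.centralizer (A' : Set G)) := by
      rw [hC₀, centralizer_sup_eq]
      ext x
      simp only [Subgroup.mem_inf]
      tauto
    have h1 := card_eq_card_mul_relIndex hC₀V
    have h2 : C₀.relIndex V ≤ p * p := by
      rw [hC]
      refine (Subgroup.relIndex_inf_le).trans ?_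
      rw [P.mA.relIndex s, P.mA'.relIndex s]
    rw [h1, pow_two, mul_comm]
    exact Nat.mul_le_mul_right _ h2
  have hbij := hinj.bijective_of_nat_card_le hcard
  intro v hv
  obtain ⟨⟨u, c⟩, huc⟩ := hbij.2 ⟨v, hv⟩
  exact ⟨u, u.2, c, c.2, (congrArg Subtype.val huc).symm⟩

/-- `A ⊔ A'` acts faithfully on `U = [V, A ⊔ A']` -/
theorem Pair.faithful (s : FFSetup p V H) (P : Pair p V H A A' a a') :
    (A ⊔ A') ⊓ Subgroup.centralizer ((⁅V, A ⊔ A'⁆ : Subgroup G) : Set G) = ⊥ := by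
  rw [eq_bot_iff]
  rintro g ⟨hgL, hgU⟩
  rw [Subgroup.mem_bot]
  apply s.eq_one_of_centralizes (P.le_H hgL)
  rw [Subgroup.mem_centralizer_iff]
  intro v hv
  obtain ⟨u, hu, c, hc, rfl⟩ := P.decomp s v hv
  have h1 : u * g = g * u := Subgroup.mem_centralizer_iff.mp hgU u hu
  have h2 : g * c = c * g := Subgroup.mem_centralizer_iff.mp hc.2 g hgL
  calc u * c * g = u * (c * g) := by group
    _ = u * (g * c) := by rw [h2]
    _ = (u * g) * c := by group
    _ = g * u * c := by rw [h1]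
    _ = g * (u * c) := by group

end ff4


end Cfsg.Agent.Lib.Helper3
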