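import Mathlib

set_option autoImplicit false
set_option linter.unusedSectionVars false
set_option linter.style.haveILetI false

/-! `SL(2, p)` is generated by an upper and a lower transvection. -/

namespace Cfsg.Agent.Lib.Helper3

open Matrix

section sl2gen
variable {p : ℕ} [hp : Fact p.Prime]

/-- upper unitriangular matrix -/
def tmat (c : ZMod p) : Matrix.SpecialLinearGroup (Fin 2) (ZMod p) :=
  ⟨!![1, c; 0, 1], by simp [Matrix.det_fin_two]⟩

/-- lower unitriangular matrix -/
def smat (c : ZMod p) : Matrix.SpecialLinearGroup (Fin 2) (ZMod p) :=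
  ⟨!![1, 0; c, 1], by simp [Matrix.det_fin_two]⟩

lemma tmat_coe (c : ZMod p) : (tmat c : Matrix (Fin 2) (Fin 2) (ZMod p)) = !![1, c; 0, 1] := rfl
lemma smat_coe (c : ZMod p) : (smat c : Matrix (Fin 2) (Fin 2) (ZMod p)) = !![1, 0; c, 1] := rfl

lemma tmat_mul (c d : ZMod p) : tmat c * tmat d = tmat (c + d) := by
  apply Subtype.ext
  rw [Matrix.SpecialLinearGroup.coe_mul, tmat_coe, tmat_coe, tmat_coe, Matrix.mul_fin_two]
  congr 1
  simp [add_comm]

lemma smat_mul (c d : ZMod p) : smat c * smat d = smat (c + d) := by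
  apply Subtype.ext
  rw [Matrix.SpecialLinearGroup.coe_mul, smat_coe, smat_coe, smat_coe, Matrix.mul_fin_two]
  congr 1
  simp

lemma tmat_zero : tmat (0 : ZMod p) = 1 := by
  apply Subtype.ext
  rw [tmat_coe, Matrix.SpecialLinearGroup.coe_one]
  exact Matrix.one_fin_two.symm

lemma smat_zero : smat (0 : ZMod p) = 1 := by
  apply Subtype.ext
  rw [smat_coe, Matrix.SpecialLinearGroup.coe_one]
  exact Matrix.one_fin_two.symm

lemma tmat_pow (c : ZMod p) (n : ℕ) : tmat c ^ n = tmat ((n : ZMod p) * c) := by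
  induction n with
  | zero => simp [tmat_zero]
  | succ n ih => rw [pow_succ, ih, tmat_mul]; congr 1; push_cast; ring

lemma smat_pow (c : ZMod p) (n : ℕ) : smat c ^ n = smat ((n : ZMod p) * c) := by
  induction n with
  | zero => simp [smat_zero]
  | succ n ih => rw [pow_succ, ih, smat_mul]; congr 1; push_cast; ring

theorem sl2_closure (ν : ZMod p) (hν : ν ≠ 0) :
    Subgroup.closure {tmat (1 : ZMod p), smat ν} = ⊤ := by
  set K := Subgroup.closure {tmat (1 : ZMod p), smat ν} with hK
  have hT : tmat (1 : ZMod p) ∈ K := Subgroup.subset_closure (by simp)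
  have hS : smat ν ∈ K := Subgroup.subset_closure (by simp)
  have ht : ∀ c : ZMod p, tmat c ∈ K := by
    intro c
    have : tmat c = tmat (1 : ZMod p) ^ c.val := by
      rw [tmat_pow, mul_one, ZMod.natCast_zmod_val]
    rw [this]; exact K.pow_mem hT _
  have hs : ∀ d : ZMod p, smat d ∈ K := by
    intro d
    have : smat d = smat ν ^ (d * ν⁻¹).val := by
      rw [smat_pow, ZMod.natCast_zmod_val, mul_assoc, inv_mul_cancel₀ hν, mul_one]
    rw [this]; exact K.pow_mem hS _
  have key : ∀ M : Matrix.SpecialLinearGroup (Fin 2) (ZMod p), M 1 0 ≠ 0 → M ∈ K := by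
    intro M hγ
    have hdet : M 0 0 * M 1 1 - M 0 1 * M 1 0 = 1 := by
      have := M.2
      rwa [Matrix.det_fin_two] at this
    have : M = tmat ((M 0 0 - 1) / M 1 0) * smat (M 1 0) * tmat ((M 1 1 - 1) / M 1 0) := by
      apply Subtype.ext
      rw [Matrix.SpecialLinearGroup.coe_mul, Matrix.SpecialLinearGroup.coe_mul, tmat_coe, smat_coe,
        tmat_coe, Matrix.mul_fin_two, Matrix.mul_fin_two]
      conv_lhs => rw [Matrix.eta_fin_two (M : Matrix (Fin 2) (Fin 2) (ZMod p))]
      have h00 : (M : Matrix (Fin 2) (Fin 2) (ZMod p)) 0 0 = M 0 0 := rfl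
      congr 1
      · ext i j
        fin_cases i <;> fin_cases j
        · simp; field_simp; ring
        · simp
          field_simp
          linear_combination (-1 : ZMod p) * hdet
        · simp
        · simp; field_simp; ring
    rw [this]
    exact K.mul_mem (K.mul_mem (ht _) (hs _)) (ht _)
  rw [eq_top_iff]
  intro M _
  by_cases hγ : M 1 0 = 0
  · have hdet : M 0 0 * M 1 1 - M 0 1 * M 1 0 = 1 := by
      have := M.2
      rwa [Matrix.det_fin_two] at this
    have hα : M 0 0 ≠ 0 := by
      intro h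
      rw [h, hγ] at hdet
      simp at hdet
    have h1 : (smat (1 : ZMod p) * M) 1 0 ≠ 0 := by
      have : (smat (1 : ZMod p) * M) 1 0 = M 0 0 + M 1 0 := by
        show ((smat (1 : ZMod p) * M : Matrix.SpecialLinearGroup (Fin 2) (ZMod p)) :
          Matrix (Fin 2) (Fin 2) (ZMod p)) 1 0 = _
        rw [Matrix.SpecialLinearGroup.coe_mul, smat_coe, Matrix.mul_apply, Fin.sum_univ_two]
        simp
      rw [this, hγ, add_zero]
      exact hα
    have h2 := key _ h1
    have h3 : M = smat (-1 : ZMod p) * (smat (1 : ZMod p) * M) := by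
      rw [← mul_assoc, smat_mul, neg_add_cancel, smat_zero, one_mul]
    rw [h3]
    exact K.mul_mem (hs _) h2
  · exact key M hγ

end sl2gen

end Cfsg.Agent.Lib.Helper3
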