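import Mathlib
import Cfsg.Agent.Lib.Helper3.SL2Gen
import Cfsg.Agent.Lib.Helper3.NormAux

set_option autoImplicit false
set_option linter.unusedSectionVars false
set_option linter.style.haveILetI false

/-! A group generated by two transvections of a plane of order `p²` on which it acts faithfully
is `SL(2, p)`. -/

namespace Cfsg.Agent.Lib.Helper3

open Matrix

section pw
variable {G : Type*} [Group G] {p : ℕ} [hp : Fact p.Prime]

lemma pow_val_add {x : G} (hx : x ^ p = 1) (k l : ZMod p) :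
    x ^ (k + l).val = x ^ k.val * x ^ l.val := by
  rw [ZMod.val_add, ← pow_add]
  exact (pow_eq_pow_mod _ hx).symm

lemma pow_val_mul {x : G} (hx : x ^ p = 1) (k l : ZMod p) :
    x ^ (k * l).val = (x ^ k.val) ^ l.val := by
  rw [ZMod.val_mul, ← pow_mul]
  exact (pow_eq_pow_mod _ hx).symm

lemma pow_val_natCast {x : G} (hx : x ^ p = 1) (n : ℕ) : x ^ ((n : ZMod p)).val = x ^ n := by
  rw [ZMod.val_natCast]
  exact (pow_eq_pow_mod _ hx).symm

end pw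

section plane
variable {G : Type*} [Group G] [Finite G] {p : ℕ} [hp : Fact p.Prime]

/-- a plane with a basis -/
structure Plane (p : ℕ) (U : Subgroup G) (e₁ e₂ : G) : Prop where
  comm : ∀ x ∈ U, ∀ y ∈ U, x * y = y * x
  exp : ∀ u ∈ U, u ^ p = 1
  h₁ : e₁ ∈ U
  h₂ : e₂ ∈ U
  card : Nat.card ↥U = p ^ 2
  ind : ∀ i j : ℕ, e₁ ^ i * e₂ ^ j = 1 → p ∣ i ∧ p ∣ j

variable {U : Subgroup G} {e₁ e₂ : G}

/-- the element with given coordinates -/
def planeE (e₁ e₂ : G) (v : Fin 2 → ZMod p) : G := e₁ ^ (v 0).val * e₂ ^ (v 1).val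

lemma Plane.E_mem (P : Plane p U e₁ e₂) (v : Fin 2 → ZMod p) : planeE e₁ e₂ v ∈ U :=
  U.mul_mem (U.pow_mem P.h₁ _) (U.pow_mem P.h₂ _)

lemma Plane.E_zero (_P : Plane p U e₁ e₂) : planeE e₁ e₂ (0 : Fin 2 → ZMod p) = 1 := by
  simp [planeE]

lemma Plane.E_add (P : Plane p U e₁ e₂) (v w : Fin 2 → ZMod p) :
    planeE e₁ e₂ (v + w) = planeE e₁ e₂ v * planeE e₁ e₂ w := by
  unfold planeE
  rw [Pi.add_apply, Pi.add_apply, pow_val_add (P.exp _ P.h₁), pow_val_add (P.exp _ P.h₂)]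
  have h := P.comm _ (U.pow_mem P.h₁ (w 0).val) _ (U.pow_mem P.h₂ (v 1).val)
  calc e₁ ^ (v 0).val * e₁ ^ (w 0).val * (e₂ ^ (v 1).val * e₂ ^ (w 1).val)
      = e₁ ^ (v 0).val * (e₁ ^ (w 0).val * e₂ ^ (v 1).val) * e₂ ^ (w 1).val := by group
    _ = e₁ ^ (v 0).val * (e₂ ^ (v 1).val * e₁ ^ (w 0).val) * e₂ ^ (w 1).val := by rw [h]
    _ = e₁ ^ (v 0).val * e₂ ^ (v 1).val * (e₁ ^ (w 0).val * e₂ ^ (w 1).val) := by group

lemma Plane.E_smul (P : Plane p U e₁ e₂) (k : ZMod p) (v : Fin 2 → ZMod p) :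
    planeE e₁ e₂ (k • v) = planeE e₁ e₂ v ^ k.val := by
  unfold planeE
  have hc : Commute (e₁ ^ (v 0).val) (e₂ ^ (v 1).val) :=
    P.comm _ (U.pow_mem P.h₁ _) _ (U.pow_mem P.h₂ _)
  rw [hc.mul_pow, Pi.smul_apply, Pi.smul_apply, smul_eq_mul, smul_eq_mul, mul_comm k, mul_comm k,
    pow_val_mul (P.exp _ P.h₁), pow_val_mul (P.exp _ P.h₂)]

lemma Plane.E_inj (P : Plane p U e₁ e₂) {v w : Fin 2 → ZMod p}
    (h : planeE e₁ e₂ v = planeE e₁ e₂ w) : v = w := by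
  have h1 : planeE e₁ e₂ (v - w) = 1 := by
    have h2 := P.E_add (v - w) w
    rw [sub_add_cancel, h] at h2
    exact (mul_eq_right.mp h2.symm)
  obtain ⟨h3, h4⟩ := P.ind _ _ h1
  have hpos : 0 < p := hp.out.pos
  have h5 : (v - w) 0 = 0 := by
    have := Nat.eq_zero_of_dvd_of_lt h3 (ZMod.val_lt _)
    exact (ZMod.val_eq_zero _).mp this
  have h6 : (v - w) 1 = 0 := by
    have := Nat.eq_zero_of_dvd_of_lt h4 (ZMod.val_lt _)
    exact (ZMod.val_eq_zero _).mp this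
  have : v - w = 0 := by
    ext i
    fin_cases i
    · exact h5
    · exact h6
  exact sub_eq_zero.mp this

lemma Plane.E_surj (P : Plane p U e₁ e₂) {u : G} (hu : u ∈ U) :
    ∃ v : Fin 2 → ZMod p, planeE e₁ e₂ v = u := by
  let f : (Fin 2 → ZMod p) → ↥U := fun v => ⟨planeE e₁ e₂ v, P.E_mem v⟩
  have hinj : Function.Injective f := by
    intro v w h
    exact P.E_inj (congrArg Subtype.val h)
  have hcard : Nat.card ↥U ≤ Nat.card (Fin 2 → ZMod p) := by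
    rw [P.card, Nat.card_eq_fintype_card, Fintype.card_fun, ZMod.card, Fintype.card_fin]
  obtain ⟨v, hv⟩ := (hinj.bijective_of_nat_card_le hcard).2 ⟨u, hu⟩
  exact ⟨v, congrArg Subtype.val hv⟩

/-- `g` acts on the plane through the matrix `M` -/
def IsMat (e₁ e₂ : G) (g : G) (M : Matrix (Fin 2) (Fin 2) (ZMod p)) : Prop :=
  ∀ v : Fin 2 → ZMod p, g * planeE e₁ e₂ v * g⁻¹ = planeE e₁ e₂ (M *ᵥ v)

lemma isMat_one : IsMat (p := p) e₁ e₂ (1 : G) 1 := by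
  intro v; simp

lemma isMat_mul {g h : G} {M N : Matrix (Fin 2) (Fin 2) (ZMod p)} (hg : IsMat e₁ e₂ g M)
    (hh : IsMat e₁ e₂ h N) : IsMat e₁ e₂ (g * h) (M * N) := by
  intro v
  calc g * h * planeE e₁ e₂ v * (g * h)⁻¹ = g * (h * planeE e₁ e₂ v * h⁻¹) * g⁻¹ := by group
    _ = planeE e₁ e₂ ((M * N) *ᵥ v) := by rw [hh v, hg _, Matrix.mulVec_mulVec]

lemma Plane.isMat_unique (P : Plane p U e₁ e₂) {g : G} {M N : Matrix (Fin 2) (Fin 2) (ZMod p)}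
    (hM : IsMat e₁ e₂ g M) (hN : IsMat e₁ e₂ g N) : M = N := by
  have h : ∀ v, M *ᵥ v = N *ᵥ v := fun v => P.E_inj ((hM v).symm.trans (hN v))
  ext i j
  have := congrFun (h (Pi.single j 1)) i
  simpa using this

lemma vec_eq (v : Fin 2 → ZMod p) :
    v = v 0 • (Pi.single 0 1 : Fin 2 → ZMod p) + v 1 • (Pi.single 1 1 : Fin 2 → ZMod p) := by
  ext i
  fin_cases i <;> simp

lemma Plane.isMat_of_cols (P : Plane p U e₁ e₂) {g : G} {c₀ c₁ : Fin 2 → ZMod p}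
    (h0 : g * e₁ * g⁻¹ = planeE e₁ e₂ c₀) (h1 : g * e₂ * g⁻¹ = planeE e₁ e₂ c₁) :
    IsMat e₁ e₂ g !![c₀ 0, c₁ 0; c₀ 1, c₁ 1] := by
  intro v
  have e : !![c₀ 0, c₁ 0; c₀ 1, c₁ 1] *ᵥ v = v 0 • c₀ + v 1 • c₁ := by
    ext i
    fin_cases i <;> simp [Matrix.mulVec, dotProduct, Fin.sum_univ_two] <;> ring
  rw [e, P.E_add, P.E_smul, P.E_smul, ← h0, ← h1]
  unfold planeE
  have hpow : ∀ (x : G) (n : ℕ), g * x ^ n * g⁻¹ = (g * x * g⁻¹) ^ n := by
    intro x n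
    induction n with
    | zero => simp
    | succ n ih => rw [pow_succ, pow_succ, ← ih]; group
  rw [← hpow, ← hpow]
  group

lemma Plane.isMat_exists (P : Plane p U e₁ e₂) {g : G} (hg : ∀ u ∈ U, g * u * g⁻¹ ∈ U) :
    ∃ M : Matrix (Fin 2) (Fin 2) (ZMod p), IsMat e₁ e₂ g M := by
  obtain ⟨c₀, h0⟩ := P.E_surj (hg _ P.h₁)
  obtain ⟨c₁, h1⟩ := P.E_surj (hg _ P.h₂)
  exact ⟨_, P.isMat_of_cols h0.symm h1.symm⟩

lemma isMat_inv {g : G} {M N : Matrix (Fin 2) (Fin 2) (ZMod p)} (hNM : M * N = 1)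
    (hg : IsMat e₁ e₂ g M) : IsMat e₁ e₂ g⁻¹ N := by
  intro v
  have h1 := hg (N *ᵥ v)
  rw [Matrix.mulVec_mulVec, hNM, Matrix.one_mulVec] at h1
  rw [← h1]
  group

/-- the main theorem -/
theorem sl2_of_plane (P : Plane p U e₁ e₂) (L : Subgroup G) (a a' : G) (ν : ZMod p) (hν : ν ≠ 0)
    (hL : L = Subgroup.zpowers a ⊔ Subgroup.zpowers a')
    (hfaith : L ⊓ Subgroup.centralizer (U : Set G) = ⊥)
    (ha1 : a * e₁ * a⁻¹ = e₁) (ha2 : a * e₂ * a⁻¹ = e₁ * e₂)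
    (ha'1 : a' * e₁ * a'⁻¹ = e₁ * e₂ ^ ν.val) (ha'2 : a' * e₂ * a'⁻¹ = e₂) :
    ∃ φ : ↥L ≃* Matrix.SpecialLinearGroup (Fin 2) (ZMod p),
      (∀ g : ↥L, IsMat e₁ e₂ (g : G) (φ g : Matrix (Fin 2) (Fin 2) (ZMod p))) ∧
      (∀ (h : a ∈ L), φ ⟨a, h⟩ = tmat 1) ∧ (∀ (h : a' ∈ L), φ ⟨a', h⟩ = smat ν) := by
  haveI : Fact (1 < p) := ⟨hp.out.one_lt⟩
  have haM : IsMat e₁ e₂ a (tmat (1 : ZMod p) : Matrix (Fin 2) (Fin 2) (ZMod p)) := by
    have := P.isMat_of_cols (g := a) (c₀ := ![1, 0]) (c₁ := ![1, 1])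
      (by rw [ha1]; simp [planeE, ZMod.val_one]) (by rw [ha2]; simp [planeE, ZMod.val_one])
    simpa [tmat_coe] using this
  have ha'M : IsMat e₁ e₂ a' (smat ν : Matrix (Fin 2) (Fin 2) (ZMod p)) := by
    have := P.isMat_of_cols (g := a') (c₀ := ![1, ν]) (c₁ := ![0, 1])
      (by rw [ha'1]; simp [planeE, ZMod.val_one]) (by rw [ha'2]; simp [planeE, ZMod.val_one])
    simpa [smat_coe] using this
  -- every element of `L` has a matrix in `SL`
  let K : Subgroup G :=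
    { carrier := {g | ∃ M : Matrix.SpecialLinearGroup (Fin 2) (ZMod p),
        IsMat e₁ e₂ g (M : Matrix (Fin 2) (Fin 2) (ZMod p))}
      one_mem' := ⟨1, by rw [Matrix.SpecialLinearGroup.coe_one]; exact isMat_one⟩
      mul_mem' := by
        rintro g h ⟨M, hM⟩ ⟨N, hN⟩
        exact ⟨M * N, by rw [Matrix.SpecialLinearGroup.coe_mul]; exact isMat_mul hM hN⟩
      inv_mem' := by
        rintro g ⟨M, hM⟩
        refine ⟨M⁻¹, isMat_inv ?_ hM⟩
        rw [← Matrix.SpecialLinearGroup.coe_mul, mul_inv_cancel, Matrix.SpecialLinearGroup.coe_one] }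
  have hLK : L ≤ K := by
    rw [hL]
    apply sup_le
    · rw [Subgroup.zpowers_le]; exact ⟨tmat 1, haM⟩
    · rw [Subgroup.zpowers_le]; exact ⟨smat ν, ha'M⟩
  choose! F hF using fun g (hg : g ∈ K) => (hg : ∃ M : Matrix.SpecialLinearGroup (Fin 2) (ZMod p),
    IsMat e₁ e₂ g (M : Matrix (Fin 2) (Fin 2) (ZMod p)))
  have huniq : ∀ {g : G} {M N : Matrix.SpecialLinearGroup (Fin 2) (ZMod p)},
      IsMat e₁ e₂ g (M : Matrix (Fin 2) (Fin 2) (ZMod p)) →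
      IsMat e₁ e₂ g (N : Matrix (Fin 2) (Fin 2) (ZMod p)) → M = N := by
    intro g M N hM hN
    exact Subtype.ext (P.isMat_unique hM hN)
  let φ₀ : ↥L →* Matrix.SpecialLinearGroup (Fin 2) (ZMod p) :=
    { toFun := fun g => F g
      map_one' := by
        apply huniq (hF _ (hLK (1 : ↥L).2))
        rw [Matrix.SpecialLinearGroup.coe_one]
        exact isMat_one
      map_mul' := by
        intro g h
        apply huniq (hF _ (hLK (g * h).2))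
        rw [Matrix.SpecialLinearGroup.coe_mul]
        exact isMat_mul (hF _ (hLK g.2)) (hF _ (hLK h.2)) }
  have hφ₀ : ∀ g : ↥L, IsMat e₁ e₂ (g : G) (φ₀ g : Matrix (Fin 2) (Fin 2) (ZMod p)) :=
    fun g => hF _ (hLK g.2)
  have haL : a ∈ L := by rw [hL]; exact Subgroup.mem_sup_left (Subgroup.mem_zpowers a)
  have ha'L : a' ∈ L := by rw [hL]; exact Subgroup.mem_sup_right (Subgroup.mem_zpowers a')
  have hφa : φ₀ ⟨a, haL⟩ = tmat 1 := huniq (hφ₀ ⟨a, haL⟩) haM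
  have hφa' : φ₀ ⟨a', ha'L⟩ = smat ν := huniq (hφ₀ ⟨a', ha'L⟩) ha'M
  have hinj : Function.Injective φ₀ := by
    rw [injective_iff_map_eq_one]
    intro g hg
    have h1 := hφ₀ g
    rw [hg, Matrix.SpecialLinearGroup.coe_one] at h1
    have h2 : (g : G) ∈ L ⊓ Subgroup.centralizer (U : Set G) := by
      refine Subgroup.mem_inf.mpr ⟨g.2, ?_⟩
      rw [Subgroup.mem_centralizer_iff]
      intro u hu
      obtain ⟨v, rfl⟩ := P.E_surj hu
      have := h1 v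
      rw [Matrix.one_mulVec] at this
      calc planeE e₁ e₂ v * (g : G) = ((g : G) * planeE e₁ e₂ v * (g : G)⁻¹) * g := by rw [this]
        _ = (g : G) * planeE e₁ e₂ v := by group
    rw [hfaith, Subgroup.mem_bot] at h2
    exact Subtype.ext h2
  have hsurj : Function.Surjective φ₀ := by
    rw [← MonoidHom.range_eq_top, eq_top_iff, ← sl2_closure ν hν, Subgroup.closure_le]
    intro M hM
    rcases hM with rfl | hM
    · exact ⟨⟨a, haL⟩, hφa⟩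
    · rw [Set.mem_singleton_iff] at hM
      rw [hM]
      exact ⟨⟨a', ha'L⟩, hφa'⟩
  exact ⟨MulEquiv.ofBijective φ₀ ⟨hinj, hsurj⟩, hφ₀, fun _ => hφa, fun _ => hφa'⟩

end plane

end Cfsg.Agent.Lib.Helper3
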