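import Mathlib
import Cfsg.Agent.Lib.Helper3.FF4
import Cfsg.Agent.Lib.Helper3.SL2Plane

set_option autoImplicit false
set_option linter.unusedSectionVars false
set_option linter.style.haveILetI false
open scoped commutatorElement

/-! KS 9.3.4, second part: `⟨A, A^x⟩ ≅ SL(2, p)` and `p ∈ {2, 3}`. -/

namespace Cfsg.Agent.Lib.Helper3

section ff5
variable {G : Type*} [Group G] [Finite G] {p : ℕ} [hp : Fact p.Prime]
variable {V H A A' : Subgroup G}

/-- conjugation of `C_V(B)` by an element of `H` -/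
lemma FFSetup.cv_map_conj (s : FFSetup p V H) {h : G} (hh : h ∈ H) (B : Subgroup G) :
    (V ⊓ Subgroup.centralizer (B : Set G)).map (MulAut.conj h).toMonoidHom =
      V ⊓ Subgroup.centralizer ((B.map (MulAut.conj h).toMonoidHom : Subgroup G) : Set G) := by
  ext x
  rw [mem_map_conj, Subgroup.mem_inf, Subgroup.mem_inf]
  constructor
  · rintro ⟨h1, h2⟩
    constructor
    · have := s.conj_mem hh h1
      have e : h * (h⁻¹ * x * h) * h⁻¹ = x := by group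
      rwa [e] at this
    · rw [Subgroup.mem_centralizer_iff]
      intro b hb
      rw [SetLike.mem_coe, mem_map_conj] at hb
      have := Subgroup.mem_centralizer_iff.mp h2 _ hb
      calc b * x = h * ((h⁻¹ * b * h) * (h⁻¹ * x * h)) * h⁻¹ := by group
        _ = h * ((h⁻¹ * x * h) * (h⁻¹ * b * h)) * h⁻¹ := by rw [this]
        _ = x * b := by group
  · rintro ⟨h1, h2⟩
    constructor
    · exact s.conj_mem' hh h1
    · rw [Subgroup.mem_centralizer_iff]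
      intro b hb
      have hb' : h * b * h⁻¹ ∈ B.map (MulAut.conj h).toMonoidHom := conj_mem_map_conj hb
      have := Subgroup.mem_centralizer_iff.mp h2 _ hb'
      calc b * (h⁻¹ * x * h) = h⁻¹ * ((h * b * h⁻¹) * x) * h := by group
        _ = h⁻¹ * (x * (h * b * h⁻¹)) * h := by rw [this]
        _ = h⁻¹ * x * h * b := by group

lemma FFSetup.card_cv_map_conj (s : FFSetup p V H) {h : G} (hh : h ∈ H) (B : Subgroup G) :
    Nat.card ↥(V ⊓ Subgroup.centralizer ((B.map (MulAut.conj h).toMonoidHom : Subgroup G) : Set G))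
      = Nat.card ↥(V ⊓ Subgroup.centralizer (B : Set G)) := by
  rw [← s.cv_map_conj hh, card_map_conj]

lemma map_conj_le_H {h : G} (hh : h ∈ H) {B : Subgroup G} (hB : B ≤ H) :
    B.map (MulAut.conj h).toMonoidHom ≤ H := by
  intro x hx
  rw [mem_map_conj] at hx
  have := H.mul_mem (H.mul_mem hh (hB hx)) (H.inv_mem hh)
  have e : h * (h⁻¹ * x * h) * h⁻¹ = x := by group
  rwa [e] at this

/-- conjugates of minimal best offenders under `H` are minimal best offenders -/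
theorem MinBO.conj (s : FFSetup p V H) (m : MinBO p V H A) {h : G} (hh : h ∈ H) :
    MinBO p V H (A.map (MulAut.conj h).toMonoidHom) := by
  have hAH := m.1
  have hA := m.2.1
  have hcard : Nat.card ↥(A.map (MulAut.conj h).toMonoidHom) = p := by
    rw [card_map_conj, m.card s]
  have hle : A.map (MulAut.conj h).toMonoidHom ≤ H := map_conj_le_H hh hAH
  have hne : ⁅V, A.map (MulAut.conj h).toMonoidHom⁆ ≠ ⊥ := by
    intro h0
    have := s.eq_bot_of_comm_eq_bot hle h0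
    rw [this, Subgroup.card_bot] at hcard
    exact hp.out.one_lt.ne hcard
  refine ⟨hle, ⟨?_, ?_, ?_⟩, hne, ?_⟩
  · intro B hB
    have hB₀ : B.map (MulAut.conj h⁻¹).toMonoidHom ≤ A := by
      have := map_conj_mono hB h⁻¹
      rwa [map_conj_inv_map_conj] at this
    have h1 := hA.1 _ hB₀
    have e : (B.map (MulAut.conj h⁻¹).toMonoidHom).map (MulAut.conj h).toMonoidHom = B :=
      map_conj_map_conj_inv B h
    have h2 := s.card_cv_map_conj hh (B.map (MulAut.conj h⁻¹).toMonoidHom)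
    rw [e] at h2
    rw [h2, s.card_cv_map_conj hh A, card_map_conj]
    rw [card_map_conj] at h1
    exact h1
  · have hcomm := bo_comm s hAH hA
    rw [Subgroup.commutator_le]
    intro x hx y hy
    rw [mem_map_conj] at hx hy
    have := hcomm _ hx _ hy
    have h1 : x * y = y * x := by
      calc x * y = h * ((h⁻¹ * x * h) * (h⁻¹ * y * h)) * h⁻¹ := by group
        _ = h * ((h⁻¹ * y * h) * (h⁻¹ * x * h)) * h⁻¹ := by rw [this]
        _ = y * x := by group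
    rw [commutatorElement_eq_one_iff_mul_comm.mpr h1]
    exact Subgroup.one_mem _
  · intro x hx
    rw [mem_map_conj] at hx
    have h1 := bo_exp s hAH hA _ hx
    have h2 : x ^ p = 1 := by
      have e : x = h * (h⁻¹ * x * h) * h⁻¹ := by group
      rw [e, conj_pow, h1]; group
    rw [h2]; exact Subgroup.one_mem _
  · intro B hB _ hVB
    rcases eq_bot_or_eq_of_card_prime hcard hB with h0 | h0
    · exfalso
      apply hVB
      rw [h0]
      exact Subgroup.commutator_bot_right V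
    · exact h0

/-- the pair attached to a minimal best offender and an element of the `p'`-core -/
theorem MinBO.pair (s : FFSetup p V H) (m : MinBO p V H A) {x a : G} (hx : x ∈ qp p H)
    (hxA : x ∉ Subgroup.centralizer (A : Set G)) (ha : a ∈ A) (ha1 : a ≠ 1) :
    Pair p V H A (A.map (MulAut.conj x).toMonoidHom) a (x * a * x⁻¹) := by
  have hxH := qp_le H hx
  have hy : x * a * x⁻¹ * a⁻¹ ∈ qp p H := by
    have := comm_mem_qp hx (m.1 ha)
    rwa [commutatorElement_def] at this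
  refine ⟨m, m.conj s hxH, ha, ha1, conj_mem_map_conj ha, ?_, hy, ?_⟩
  · intro h
    apply ha1
    have : a = x⁻¹ * (x * a * x⁻¹) * x := by group
    rw [this, h]; group
  · intro h
    apply hxA
    rw [m.eq_zpowers s ha ha1, mem_centralizer_zpowers_iff]
    calc a * x = (x * a * x⁻¹ * a⁻¹)⁻¹ * x * a := by group
      _ = x * a := by rw [h]; group

variable {a a' : G}

/-- all elements of `A ⊔ A'` have commutator with `a` in the `p'`-core -/
lemma Pair.comm_mem (P : Pair p V H A A' a a') (s : FFSetup p V H) :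
    ∀ g ∈ A ⊔ A', ⁅g, a⁆ ∈ qp p H := by
  have haH : a ∈ H := P.mA.1 P.ha
  let K : Subgroup G :=
    { carrier := {g | g ∈ H ∧ ⁅g, a⁆ ∈ qp p H}
      one_mem' := ⟨H.one_mem, by simp [commutatorElement_def, Subgroup.one_mem]⟩
      mul_mem' := by
        rintro g h ⟨hg1, hg2⟩ ⟨hh1, hh2⟩
        refine ⟨H.mul_mem hg1 hh1, ?_⟩
        have e : ⁅g * h, a⁆ = (g * ⁅h, a⁆ * g⁻¹) * ⁅g, a⁆ := by
          simp only [commutatorElement_def]; group
        rw [e]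
        exact (qp p H).mul_mem (qp_conj_mem H hg1 hh2) hg2
      inv_mem' := by
        rintro g ⟨hg1, hg2⟩
        refine ⟨H.inv_mem hg1, ?_⟩
        have e : ⁅g⁻¹, a⁆ = g⁻¹ * (⁅g, a⁆)⁻¹ * g⁻¹⁻¹ := by
          simp only [commutatorElement_def]; group
        rw [e]
        exact qp_conj_mem H (H.inv_mem hg1) ((qp p H).inv_mem hg2) }
  have h1 : A ≤ K := by
    rw [P.mA.eq_zpowers s P.ha P.ha1, Subgroup.zpowers_le]
    exact ⟨haH, by simp [commutatorElement_def, Subgroup.one_mem]⟩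
  have h2 : A' ≤ K := by
    rw [P.mA'.eq_zpowers s P.ha' P.ha'1, Subgroup.zpowers_le]
    refine ⟨P.mA'.1 P.ha', ?_⟩
    have e : ⁅a', a⁆ = (a' * a⁻¹) * (a * (a' * a⁻¹)⁻¹ * a⁻¹) := by
      simp only [commutatorElement_def]; group
    rw [e]
    exact (qp p H).mul_mem P.hy (qp_conj_mem H haH ((qp p H).inv_mem P.hy))
  intro g hg
  exact ((sup_le h1 h2) hg).2

lemma orderOf_eq_of_pow_prime {x : G} (h1 : x ^ p = 1) (h2 : x ≠ 1) : orderOf x = p := by
  have h3 : orderOf x ∣ p := orderOf_dvd_of_pow_eq_one h1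
  rcases (Nat.dvd_prime hp.out).mp h3 with h | h
  · exact absurd (orderOf_eq_one_iff.mp h) h2
  · exact h

lemma eq_zpowers_of_card_prime {Z : Subgroup G} (hZ : Nat.card ↥Z = p) {x : G} (hx : x ∈ Z)
    (hxp : x ^ p = 1) (hx1 : x ≠ 1) : Z = Subgroup.zpowers x := by
  symm
  apply Subgroup.eq_of_le_of_card_ge (Subgroup.zpowers_le.mpr hx)
  rw [hZ, Nat.card_zpowers, orderOf_eq_of_pow_prime hxp hx1]

/-- KS 9.3.4: the isomorphism with `SL(2, p)` -/
theorem Pair.iso (s : FFSetup p V H) (P : Pair p V H A A' a a') :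
    ∃ (e₁ e₂ : G) (ν : ZMod p)
      (φ : ↥(A ⊔ A') ≃* Matrix.SpecialLinearGroup (Fin 2) (ZMod p)),
      Plane p ⁅V, A ⊔ A'⁆ e₁ e₂ ∧ e₁ ∈ ⁅V, A⁆ ∧ e₂ ∈ ⁅V, A'⁆ ∧ e₁ ≠ 1 ∧ e₂ ≠ 1 ∧
      (∀ g : ↥(A ⊔ A'), IsMat e₁ e₂ (g : G) (φ g : Matrix (Fin 2) (Fin 2) (ZMod p))) ∧
      (∀ h : a ∈ A ⊔ A', φ ⟨a, h⟩ = tmat 1) ∧ (∀ h : a' ∈ A ⊔ A', φ ⟨a', h⟩ = smat ν) ∧
      ν ≠ 0 := by
  have hpp : p.Prime := hp.out
  have hZ₁U : ⁅V, A⁆ ≤ ⁅V, A ⊔ A'⁆ := Subgroup.commutator_mono le_rfl le_sup_left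
  have hZ₂U : ⁅V, A'⁆ ≤ ⁅V, A ⊔ A'⁆ := Subgroup.commutator_mono le_rfl le_sup_right
  have hUV : ⁅V, A ⊔ A'⁆ ≤ V := s.comm_le P.le_H
  have hZ₁V : ⁅V, A⁆ ≤ V := s.comm_le P.mA.1
  have hZ₂V : ⁅V, A'⁆ ≤ V := s.comm_le P.mA'.1
  obtain ⟨⟨e₂, he₂⟩, hne⟩ := (Subgroup.ne_bot_iff_exists_ne_one).mp P.mA'.2.2.1
  have he₂1 : e₂ ≠ 1 := fun h => hne (Subtype.ext h)
  set e₁ := a * e₂ * a⁻¹ * e₂⁻¹ with he₁
  have he₁Z : e₁ ∈ ⁅V, A⁆ := by
    have h1 : ⁅a, e₂⁆ ∈ ⁅A, V⁆ := Subgroup.commutator_mem_commutator P.ha (hZ₂V he₂)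
    rwa [Subgroup.commutator_comm, commutatorElement_def] at h1
  have haC₁ : ∀ z ∈ ⁅V, A⁆, a * z = z * a := fun z hz =>
    Subgroup.mem_centralizer_iff.mp (P.mA.quad s hz) a P.ha
  have ha'C₂ : ∀ z ∈ ⁅V, A'⁆, a' * z = z * a' := fun z hz =>
    Subgroup.mem_centralizer_iff.mp (P.mA'.quad s hz) a' P.ha'
  have ha1 : a * e₁ * a⁻¹ = e₁ := by rw [haC₁ e₁ he₁Z]; group
  have ha2 : a * e₂ * a⁻¹ = e₁ * e₂ := by rw [he₁]; group
  have ha'2 : a' * e₂ * a'⁻¹ = e₂ := by rw [ha'C₂ e₂ he₂]; group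
  have he₂p : e₂ ^ p = 1 := s.hV.2 _ (hZ₂V he₂)
  have he₁p : e₁ ^ p = 1 := s.hV.2 _ (hZ₁V he₁Z)
  have hZ₂eq : ⁅V, A'⁆ = Subgroup.zpowers e₂ :=
    eq_zpowers_of_card_prime (P.mA'.comm_card s) he₂ he₂p he₂1
  have hcentU : ∀ b : G, (∀ z ∈ ⁅V, A⁆, b * z = z * b) → (∀ z ∈ ⁅V, A'⁆, b * z = z * b) →
      b ∈ Subgroup.centralizer ((⁅V, A ⊔ A'⁆ : Subgroup G) : Set G) := by
    intro b h1 h2
    rw [P.comm_eq s, centralizer_sup_eq]
    refine Subgroup.mem_inf.mpr ⟨?_, ?_⟩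
    · rw [Subgroup.mem_centralizer_iff]; intro z hz; exact (h1 z hz).symm
    · rw [Subgroup.mem_centralizer_iff]; intro z hz; exact (h2 z hz).symm
  have he₁1 : e₁ ≠ 1 := by
    intro h
    apply P.not_cent s
    apply hcentU a haC₁
    intro z hz
    rw [hZ₂eq] at hz
    have hc : a * e₂ = e₂ * a := by
      calc a * e₂ = (a * e₂ * a⁻¹ * e₂⁻¹) * e₂ * a := by group
        _ = e₂ * a := by rw [← he₁, h, one_mul]
    have : a ∈ Subgroup.centralizer ((Subgroup.zpowers e₂ : Subgroup G) : Set G) :=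
      mem_centralizer_zpowers_iff.mpr hc.symm
    exact (Subgroup.mem_centralizer_iff.mp this z hz).symm
  have hZ₁eq : ⁅V, A⁆ = Subgroup.zpowers e₁ :=
    eq_zpowers_of_card_prime (P.mA.comm_card s) he₁Z he₁p he₁1
  -- the action of `a'` on `e₁`
  have hc1 : ⁅a', e₁⁆ ∈ ⁅V, A'⁆ := by
    have h1 : ⁅a', e₁⁆ ∈ ⁅A', V⁆ := Subgroup.commutator_mem_commutator P.ha' (hZ₁V he₁Z)
    rwa [Subgroup.commutator_comm] at h1
  rw [hZ₂eq] at hc1
  obtain ⟨n, hn⟩ := ((isOfFinOrder_of_finite e₂).mem_powers_iff_mem_zpowers.mpr hc1)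
  have hn' : e₂ ^ n = a' * e₁ * a'⁻¹ * e₁⁻¹ := by rw [← commutatorElement_def]; exact hn
  have ha'1 : a' * e₁ * a'⁻¹ = e₁ * e₂ ^ ((n : ZMod p)).val := by
    rw [pow_val_natCast he₂p]
    have hcomm : e₂ ^ n * e₁ = e₁ * e₂ ^ n :=
      s.V_comm _ (V.pow_mem (hZ₂V he₂) n) _ (hZ₁V he₁Z)
    calc a' * e₁ * a'⁻¹ = (a' * e₁ * a'⁻¹ * e₁⁻¹) * e₁ := by group
      _ = e₂ ^ n * e₁ := by rw [hn']
      _ = e₁ * e₂ ^ n := hcomm
  have hν : (n : ZMod p) ≠ 0 := by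
    intro h0
    have hdvd : p ∣ n := (ZMod.natCast_eq_zero_iff n p).mp h0
    obtain ⟨k, hk⟩ := hdvd
    have h1 : e₂ ^ n = 1 := by rw [hk, pow_mul, he₂p, one_pow]
    have hc : a' * e₁ = e₁ * a' := by
      calc a' * e₁ = (a' * e₁ * a'⁻¹ * e₁⁻¹) * e₁ * a' := by group
        _ = e₁ * a' := by rw [← hn', h1, one_mul]
    have hns := P.symm.not_cent s
    rw [sup_comm] at hns
    apply hns
    apply hcentU a' _ ha'C₂
    intro z hz
    rw [hZ₁eq] at hz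
    have : a' ∈ Subgroup.centralizer ((Subgroup.zpowers e₁ : Subgroup G) : Set G) :=
      mem_centralizer_zpowers_iff.mpr hc.symm
    exact (Subgroup.mem_centralizer_iff.mp this z hz).symm
  have hplane : Plane p ⁅V, A ⊔ A'⁆ e₁ e₂ := by
    refine ⟨fun x hx y hy => s.V_comm x (hUV hx) y (hUV hy), fun u hu => s.hV.2 u (hUV hu),
      hZ₁U he₁Z, hZ₂U he₂, P.card_U s, ?_⟩
    intro i j hij
    have h1 : e₁ ^ i = (e₂ ^ j)⁻¹ := eq_inv_of_mul_eq_one_left hij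
    have h2 : e₁ ^ i ∈ ⁅V, A⁆ ⊓ ⁅V, A'⁆ :=
      ⟨Subgroup.pow_mem _ he₁Z i, by rw [h1]; exact Subgroup.inv_mem _ (Subgroup.pow_mem _ he₂ j)⟩
    rw [P.disjoint s, Subgroup.mem_bot] at h2
    have h3 : e₂ ^ j = 1 := by
      rw [h2, one_mul] at hij; exact hij
    constructor
    · rw [← orderOf_eq_of_pow_prime he₁p he₁1]; exact orderOf_dvd_of_pow_eq_one h2
    · rw [← orderOf_eq_of_pow_prime he₂p he₂1]; exact orderOf_dvd_of_pow_eq_one h3
  have hL : A ⊔ A' = Subgroup.zpowers a ⊔ Subgroup.zpowers a' := by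
    rw [← P.mA.eq_zpowers s P.ha P.ha1, ← P.mA'.eq_zpowers s P.ha' P.ha'1]
  obtain ⟨φ, hφ, hφa, hφa'⟩ := sl2_of_plane hplane (A ⊔ A') a a' (n : ZMod p) hν hL
    (P.faithful s) ha1 ha2 ha'1 ha'2
  exact ⟨e₁, e₂, (n : ZMod p), φ, hplane, he₁Z, he₂, he₁1, he₂1, hφ, hφa, hφa', hν⟩

/-- KS 9.3.4: `p ∈ {2, 3}` -/
theorem Pair.prime_le_three (s : FFSetup p V H) (P : Pair p V H A A' a a') : p = 2 ∨ p = 3 := by
  have hpp : p.Prime := hp.out
  by_cases hp2 : p = 2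
  · left; exact hp2
  right
  obtain ⟨e₁, e₂, ν, φ, -, -, -, -, -, -, hφa, -, -⟩ := P.iso s
  have haL : a ∈ A ⊔ A' := Subgroup.mem_sup_left P.ha
  have h2 : (2 : ZMod p) ≠ 0 := by
    intro h
    have h' : ((2 : ℕ) : ZMod p) = 0 := by exact_mod_cast h
    have hdvd : p ∣ 2 := (ZMod.natCast_eq_zero_iff 2 p).mp h'
    exact hp2 ((Nat.prime_dvd_prime_iff_eq hpp Nat.prime_two).mp hdvd)
  let D : Matrix.SpecialLinearGroup (Fin 2) (ZMod p) :=
    ⟨!![2, 0; 0, 2⁻¹], by rw [Matrix.det_fin_two_of]; field_simp; ring⟩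
  have hDT : D * tmat 1 = tmat 4 * D := by
    apply Subtype.ext
    rw [Matrix.SpecialLinearGroup.coe_mul, Matrix.SpecialLinearGroup.coe_mul, tmat_coe, tmat_coe]
    show !![2, 0; 0, 2⁻¹] * !![1, 1; 0, 1] = !![1, 4; 0, 1] * !![(2 : ZMod p), 0; 0, 2⁻¹]
    rw [Matrix.mul_fin_two, Matrix.mul_fin_two]
    congr 1
    ext i j
    fin_cases i <;> fin_cases j <;> simp
    field_simp
    norm_num
  have hcomm : ⁅D, tmat (1 : ZMod p)⁆ = tmat 1 ^ 3 := by
    have h4 : tmat (4 : ZMod p) = tmat 1 ^ 3 * tmat 1 := by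
      rw [tmat_pow, tmat_mul]; congr 1; norm_num
    rw [commutatorElement_def, hDT, h4]
    group
  set g₀ : ↥(A ⊔ A') := φ.symm D with hg₀
  have h3 : ⁅g₀, (⟨a, haL⟩ : ↥(A ⊔ A'))⁆ = (⟨a, haL⟩ : ↥(A ⊔ A')) ^ 3 := by
    apply φ.injective
    rw [map_commutatorElement, map_pow, hφa haL, hg₀, MulEquiv.apply_symm_apply, hcomm]
  have h4 : ⁅(g₀ : G), a⁆ = a ^ 3 := by
    have := congrArg Subtype.val h3
    simpa [commutatorElement_def] using this
  have h5 : a ^ 3 ∈ qp p H := by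
    rw [← h4]; exact P.comm_mem s _ g₀.2
  have h6 : a ^ 3 = 1 :=
    eq_one_of_mem_pgroup_of_mem_pprime (bo_pgroup s P.mA.1 P.mA.2.1) (qp_coprime H)
      (A.pow_mem P.ha 3) h5
  have h7 : orderOf a = p :=
    orderOf_eq_of_pow_prime (bo_exp s P.mA.1 P.mA.2.1 a P.ha) P.ha1
  have h8 : p ∣ 3 := by rw [← h7]; exact orderOf_dvd_of_pow_eq_one h6
  exact (Nat.prime_dvd_prime_iff_eq hpp Nat.prime_three).mp h8

end ff5



end Cfsg.Agent.Lib.Helper3
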