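import Mathlib
import Cfsg.Agent.Lib.Helper3.FF5

set_option autoImplicit false
set_option linter.unusedSectionVars false
set_option linter.style.haveILetI false
set_option linter.unusedSimpArgs false
open scoped commutatorElement

/-! KS 9.3.5: all conjugates of `A` under the `p'`-core lie in `⟨A, A^x⟩`. -/

namespace Cfsg.Agent.Lib.Helper3

section ff6
variable {G : Type*} [Group G] [Finite G] {p : ℕ} [hp : Fact p.Prime]
variable {V H A A' : Subgroup G} {a a' : G}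

/-- some element of the `p'`-core does not centralize `A` -/
theorem MinBO.exists_x (s : FFSetup p V H) (m : MinBO p V H A) :
    ∃ x ∈ qp p H, x ∉ Subgroup.centralizer (A : Set G) := by
  by_contra hcon
  push Not at hcon
  apply m.ne_bot
  rw [eq_bot_iff]
  intro b hb
  have hbc : b ∈ Subgroup.centralizer (qp p H : Set G) := by
    rw [Subgroup.mem_centralizer_iff]
    intro x hx
    exact ((Subgroup.mem_centralizer_iff.mp (hcon x hx)) b hb).symm
  have hbq := s.mem_qp_of_centralizes (m.1 hb) hbc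
  exact Subgroup.mem_bot.mpr
    (eq_one_of_mem_pgroup_of_mem_pprime (bo_pgroup s m.1 m.2.1) (qp_coprime H) hb hbq)

/-- a matrix of `SL(2, p)` with prescribed nonzero first column -/
lemma exists_sl2_col (v : Fin 2 → ZMod p) (hv : v ≠ 0) :
    ∃ M : Matrix.SpecialLinearGroup (Fin 2) (ZMod p),
      (M : Matrix (Fin 2) (Fin 2) (ZMod p)).mulVec ![1, 0] = v := by
  by_cases h0 : v 0 = 0
  · have h1 : v 1 ≠ 0 := by
      intro h1
      apply hv
      ext i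
      fin_cases i
      · exact h0
      · exact h1
    refine ⟨⟨!![0, -(v 1)⁻¹; v 1, 0], ?_⟩, ?_⟩
    · rw [Matrix.det_fin_two_of]; field_simp; ring
    · ext i
      fin_cases i <;> simp [Matrix.mulVec, dotProduct, Fin.sum_univ_two, h0]
  · refine ⟨⟨!![v 0, 0; v 1, (v 0)⁻¹], ?_⟩, ?_⟩
    · rw [Matrix.det_fin_two_of]; field_simp; ring
    · ext i
      fin_cases i <;> simp [Matrix.mulVec, dotProduct, Fin.sum_univ_two]

/-- conjugating the commutator -/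
lemma conj_mem_comm_map_conj (s : FFSetup p V H) {B : Subgroup G} {g z : G} (hg : g ∈ H)
    (hz : z ∈ ⁅V, B⁆) : g * z * g⁻¹ ∈ ⁅V, B.map (MulAut.conj g).toMonoidHom⁆ := by
  have h1 : g * z * g⁻¹ ∈ (⁅V, B⁆).map (MulAut.conj g).toMonoidHom := conj_mem_map_conj hz
  rw [Subgroup.map_commutator] at h1
  have h2 : V.map (MulAut.conj g).toMonoidHom = V :=
    Subgroup.mem_normalizer_iff_map_conj_eq.mp (s.hHV hg)
  rwa [h2] at h1

/-- KS 9.3.5: conjugates of `A` under the `p'`-core lie in `A ⊔ A'` -/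
theorem Pair.conj_le (s : FFSetup p V H) (P : Pair p V H A A' a a') {z : G} (hz : z ∈ qp p H) :
    A.map (MulAut.conj z).toMonoidHom ≤ A ⊔ A' := by
  have hpp : p.Prime := hp.out
  haveI : Fact (1 < p) := ⟨hpp.one_lt⟩
  obtain ⟨e₁, e₂, ν, φ, hplane, he₁Z, he₂Z, he₁1, he₂1, hφ, hφa, hφa', hν⟩ := P.iso s
  have hzH : z ∈ H := qp_le H hz
  set A₃ := A.map (MulAut.conj z).toMonoidHom with hA₃
  have m₃ : MinBO p V H A₃ := P.mA.conj s hzH
  set a₃ := z * a * z⁻¹ with ha₃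
  have ha₃A : a₃ ∈ A₃ := conj_mem_map_conj P.ha
  have ha₃1 : a₃ ≠ 1 := by
    intro h
    apply P.ha1
    have : a = z⁻¹ * (z * a * z⁻¹) * z := by group
    rw [this, ← ha₃, h]; group
  have hA₃eq : A₃ = Subgroup.zpowers a₃ := m₃.eq_zpowers s ha₃A ha₃1
  set U := ⁅V, A ⊔ A'⁆ with hU
  set C₃ := V ⊓ Subgroup.centralizer (A₃ : Set G) with hC₃
  have hUV : U ≤ V := s.comm_le P.le_H
  -- a nontrivial element of `U` centralized by `A₃`
  have hex : ∃ u ∈ U ⊓ C₃, u ≠ 1 := by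
    by_contra hcon
    push Not at hcon
    have hbot : C₃ ⊓ U = ⊥ := by
      rw [eq_bot_iff]
      intro u hu
      exact Subgroup.mem_bot.mpr (hcon u ⟨hu.2, hu.1⟩)
    have h1 : C₃.relIndex U ≤ C₃.relIndex V := by
      apply Subgroup.relIndex_le_of_le_right hUV
      rw [m₃.relIndex s]; exact hpp.ne_zero
    rw [m₃.relIndex s, ← Subgroup.inf_relIndex_right, hbot, Subgroup.relIndex_bot_left,
      P.card_U s] at h1
    have : p * p ≤ p * 1 := by rw [← pow_two, mul_one]; exact h1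
    have := Nat.le_of_mul_le_mul_left this hpp.pos
    have := hpp.one_lt
    omega
  obtain ⟨u, hu, hu1⟩ := hex
  have huU : u ∈ U := (Subgroup.mem_inf.mp hu).1
  have huC : u ∈ C₃ := (Subgroup.mem_inf.mp hu).2
  obtain ⟨v, hv⟩ := hplane.E_surj huU
  have hv0 : v ≠ 0 := by
    intro h
    apply hu1
    rw [← hv, h, hplane.E_zero]
  obtain ⟨M, hM⟩ := exists_sl2_col v hv0
  set g : ↥(A ⊔ A') := φ.symm M with hg
  have hgH : (g : G) ∈ H := P.le_H g.2
  have hge₁ : (g : G) * e₁ * (g : G)⁻¹ = u := by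
    have h1 := hφ g (![1, 0])
    have h2 : φ g = M := by rw [hg, MulEquiv.apply_symm_apply]
    have he : planeE e₁ e₂ (![1, 0] : Fin 2 → ZMod p) = e₁ := by simp [planeE, ZMod.val_one]
    rw [h2, hM, hv, he] at h1
    exact h1
  set B := A.map (MulAut.conj (g : G)).toMonoidHom with hB
  have mB : MinBO p V H B := P.mA.conj s hgH
  set b := (g : G) * a * (g : G)⁻¹ with hb
  have hbB : b ∈ B := conj_mem_map_conj P.ha
  have hb1 : b ≠ 1 := by
    intro h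
    apply P.ha1
    have : a = (g : G)⁻¹ * ((g : G) * a * (g : G)⁻¹) * (g : G) := by group
    rw [this, ← hb, h]; group
  have haL : a ∈ A ⊔ A' := Subgroup.mem_sup_left P.ha
  have hbL : b ∈ A ⊔ A' :=
    Subgroup.mul_mem _ (Subgroup.mul_mem _ g.2 haL) (Subgroup.inv_mem _ g.2)
  have huB : u ∈ ⁅V, B⁆ := by
    rw [← hge₁]; exact conj_mem_comm_map_conj s hgH he₁Z
  by_cases hab : a₃ = b
  · rw [hA₃eq, Subgroup.zpowers_le, hab]; exact hbL
  · exfalso
    have hy : a₃ * b⁻¹ ∈ qp p H := by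
      have h1 : ⁅z, a⁆ ∈ qp p H := comm_mem_qp hz (P.mA.1 P.ha)
      have h2 : ⁅(g : G), a⁆ ∈ qp p H := P.comm_mem s _ g.2
      have e : a₃ * b⁻¹ = ⁅z, a⁆ * (⁅(g : G), a⁆)⁻¹ := by
        rw [ha₃, hb]; simp only [commutatorElement_def]; group
      rw [e]
      exact (qp p H).mul_mem h1 ((qp p H).inv_mem h2)
    have hy1 : a₃ * b⁻¹ ≠ 1 := by
      intro h
      apply hab
      calc a₃ = a₃ * b⁻¹ * b := by group
        _ = b := by rw [h, one_mul]
    have P' : Pair p V H B A₃ b a₃ := ⟨mB, m₃, hbB, hb1, ha₃A, ha₃1, hy, hy1⟩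
    have h1 : u ∈ ⁅V, A₃ ⊔ B⁆ ⊓ Subgroup.centralizer (A₃ : Set G) :=
      ⟨Subgroup.commutator_mono le_rfl le_sup_right huB, (Subgroup.mem_inf.mp huC).2⟩
    rw [P'.symm.inf_cent s] at h1
    have h2 : u ∈ ⁅V, B⁆ ⊓ ⁅V, A₃⁆ := ⟨huB, h1⟩
    rw [P'.disjoint s, Subgroup.mem_bot] at h2
    exact hu1 h2

/-- `[Q, A] ≤ A ⊔ A'` -/
theorem Pair.comm_qp_le (s : FFSetup p V H) (P : Pair p V H A A' a a') :
    ⁅qp p H, A⁆ ≤ A ⊔ A' := by
  rw [Subgroup.commutator_le]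
  intro q hq b hb
  have h1 : q * b * q⁻¹ ∈ A ⊔ A' := P.conj_le s hq (conj_mem_map_conj hb)
  rw [commutatorElement_def]
  exact Subgroup.mul_mem _ h1 (Subgroup.inv_mem _ (Subgroup.mem_sup_left hb))

/-- `[Q, A] A = A ⊔ A'` -/
theorem Pair.E_eq (s : FFSetup p V H) (P : Pair p V H A A' a a')
    (hy' : a' * a⁻¹ ∈ ⁅qp p H, A⁆) : ⁅qp p H, A⁆ ⊔ A = A ⊔ A' := by
  apply le_antisymm
  · exact sup_le (P.comm_qp_le s) le_sup_left
  · apply sup_le le_sup_right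
    rw [P.mA'.eq_zpowers s P.ha' P.ha'1, Subgroup.zpowers_le]
    have e : a' = (a' * a⁻¹) * a := by group
    rw [e]
    exact Subgroup.mul_mem _ (Subgroup.mem_sup_left hy') (Subgroup.mem_sup_right P.ha)

end ff6

section small
open Matrix

set_option maxRecDepth 100000 in
lemma sl2_two_aux : ∀ a b c d : ZMod 2, a * d - b * c = 1 →
    ((!![a, b; c, d]) ^ 2 = 1 ∨ (!![a, b; c, d]) ^ 3 = (1 : Matrix (Fin 2) (Fin 2) (ZMod 2))) := by
  decide

set_option maxRecDepth 100000 in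
lemma sl2_three_aux : ∀ a b c d : ZMod 3, a * d - b * c = 1 →
    ((!![a, b; c, d]) ^ 4 = 1 ∨ (!![a, b; c, d]) ^ 6 = (1 : Matrix (Fin 2) (Fin 2) (ZMod 3))) := by
  decide

set_option maxRecDepth 100000 in
lemma sl2_three_nc : ∀ ν : ZMod 3, ν ≠ 0 →
    (!![1, 0; ν, 1] * !![1, -1; 0, 1]) *
      (!![1, 1; 0, 1] * (!![1, 0; ν, 1] * !![1, -1; 0, 1]) * !![1, -1; 0, 1]) ≠
    (!![1, 1; 0, 1] * (!![1, 0; ν, 1] * !![1, -1; 0, 1]) * !![1, -1; 0, 1]) *
      (!![1, 0; ν, 1] * !![1, -1; 0, (1 : ZMod 3)]) := by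
  decide

lemma sl2_two_exp (M : Matrix.SpecialLinearGroup (Fin 2) (ZMod 2)) : M ^ 2 = 1 ∨ M ^ 3 = 1 := by
  have hdet : M 0 0 * M 1 1 - M 0 1 * M 1 0 = 1 := by
    have := M.2
    rwa [Matrix.det_fin_two] at this
  have h := sl2_two_aux _ _ _ _ hdet
  rw [← Matrix.eta_fin_two (M : Matrix (Fin 2) (Fin 2) (ZMod 2))] at h
  rcases h with h | h
  · left; apply Subtype.ext; rw [Matrix.SpecialLinearGroup.coe_pow, h]; rfl
  · right; apply Subtype.ext; rw [Matrix.SpecialLinearGroup.coe_pow, h]; rfl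

lemma sl2_three_exp (M : Matrix.SpecialLinearGroup (Fin 2) (ZMod 3)) : M ^ 4 = 1 ∨ M ^ 6 = 1 := by
  have hdet : M 0 0 * M 1 1 - M 0 1 * M 1 0 = 1 := by
    have := M.2
    rwa [Matrix.det_fin_two] at this
  have h := sl2_three_aux _ _ _ _ hdet
  rw [← Matrix.eta_fin_two (M : Matrix (Fin 2) (Fin 2) (ZMod 3))] at h
  rcases h with h | h
  · left; apply Subtype.ext; rw [Matrix.SpecialLinearGroup.coe_pow, h]; rfl
  · right; apply Subtype.ext; rw [Matrix.SpecialLinearGroup.coe_pow, h]; rfl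

end small

section ff6b
variable {G : Type*} [Group G] [Finite G]
variable {V H A A' : Subgroup G} {a a' : G}

lemma comm_qp_le_qp {p : ℕ} [Fact p.Prime] (hAH : A ≤ H) : ⁅qp p H, A⁆ ≤ qp p H :=
  Subgroup.le_normalizer_iff_commutator_le_left.mp (hAH.trans (qp_normalizer H))

/-- `p = 2`: the commutator of the core with `A` has exponent `3` -/
theorem Pair.exp_two [hp : Fact (Nat.Prime 2)] (s : FFSetup 2 V H) (P : Pair 2 V H A A' a a') :
    ∀ g ∈ ⁅qp 2 H, A⁆, g ^ 3 = 1 := by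
  intro g hg
  obtain ⟨e₁, e₂, ν, φ, -⟩ := P.iso s
  have hgL : g ∈ A ⊔ A' := P.comm_qp_le s hg
  have hgQ : g ∈ qp 2 H := comm_qp_le_qp P.mA.1 hg
  have hco : (orderOf g).Coprime 2 := qp_orderOf_coprime hgQ
  rcases sl2_two_exp (φ ⟨g, hgL⟩) with h | h
  · rw [← map_pow, MulEquiv.map_eq_one_iff] at h
    have h2 : g ^ 2 = 1 := by simpa using congrArg Subtype.val h
    have h3 : orderOf g ∣ 2 := orderOf_dvd_of_pow_eq_one h2
    have h4 : orderOf g = 1 := Nat.Coprime.eq_one_of_dvd hco h3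
    rw [orderOf_eq_one_iff.mp h4, one_pow]
  · rw [← map_pow, MulEquiv.map_eq_one_iff] at h
    simpa using congrArg Subtype.val h

/-- `p = 3`: the commutator of the core with `A` has exponent `4` -/
theorem Pair.exp_three [hp : Fact (Nat.Prime 3)] (s : FFSetup 3 V H)
    (P : Pair 3 V H A A' a a') : ∀ g ∈ ⁅qp 3 H, A⁆, g ^ 4 = 1 := by
  intro g hg
  obtain ⟨e₁, e₂, ν, φ, -⟩ := P.iso s
  have hgL : g ∈ A ⊔ A' := P.comm_qp_le s hg
  have hgQ : g ∈ qp 3 H := comm_qp_le_qp P.mA.1 hg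
  have hco : (orderOf g).Coprime 3 := qp_orderOf_coprime hgQ
  rcases sl2_three_exp (φ ⟨g, hgL⟩) with h | h
  · rw [← map_pow, MulEquiv.map_eq_one_iff] at h
    simpa using congrArg Subtype.val h
  · rw [← map_pow, MulEquiv.map_eq_one_iff] at h
    have h2 : g ^ 6 = 1 := by simpa using congrArg Subtype.val h
    have h3 : orderOf g ∣ 2 * 3 := orderOf_dvd_of_pow_eq_one h2
    have h4 : orderOf g ∣ 2 := hco.dvd_of_dvd_mul_right h3
    have h5 : g ^ 2 = 1 := orderOf_dvd_iff_pow_eq_one.mp h4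
    calc g ^ 4 = (g ^ 2) ^ 2 := by rw [← pow_mul]
      _ = 1 := by rw [h5, one_pow]

/-- `p = 3`: the commutator of the core with `A` is not abelian -/
theorem Pair.not_comm_three [hp : Fact (Nat.Prime 3)] (s : FFSetup 3 V H)
    (P : Pair 3 V H A A' a a') (hy' : a' * a⁻¹ ∈ ⁅qp 3 H, A⁆) :
    ¬ IsMulCommutative ↥⁅qp 3 H, A⁆ := by
  intro hc
  obtain ⟨e₁, e₂, ν, φ, -, -, -, -, -, -, hφa, hφa', hν⟩ := P.iso s
  have haL : a ∈ A ⊔ A' := Subgroup.mem_sup_left P.ha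
  have ha'L : a' ∈ A ⊔ A' := Subgroup.mem_sup_right P.ha'
  have hDn : A ≤ Subgroup.normalizer ((⁅qp 3 H, A⁆ : Subgroup G) : Set G) := by
    intro g hg
    exact normalizer_inf_le_normalizer_commutator (qp 3 H) A
      ⟨qp_normalizer H (P.mA.1 hg), Subgroup.le_normalizer hg⟩
  have hy'' : a * (a' * a⁻¹) * a⁻¹ ∈ ⁅qp 3 H, A⁆ := conj_mem_of_mem_normalizer' (hDn P.ha) hy'
  have h1 := hc.is_comm.comm (⟨a' * a⁻¹, hy'⟩ : ↥⁅qp 3 H, A⁆) ⟨a * (a' * a⁻¹) * a⁻¹, hy''⟩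
  have h2 : (a' * a⁻¹) * (a * (a' * a⁻¹) * a⁻¹) = (a * (a' * a⁻¹) * a⁻¹) * (a' * a⁻¹) :=
    congrArg Subtype.val h1
  set aL : ↥(A ⊔ A') := ⟨a, haL⟩ with haLdef
  set a'L : ↥(A ⊔ A') := ⟨a', ha'L⟩ with ha'Ldef
  have h3 : (a'L * aL⁻¹) * (aL * (a'L * aL⁻¹) * aL⁻¹) = (aL * (a'L * aL⁻¹) * aL⁻¹) * (a'L * aL⁻¹) :=
    Subtype.ext h2
  have h4 := congrArg φ h3
  have e1 : φ aL = tmat 1 := hφa haL
  have e2 : φ a'L = smat ν := hφa' ha'L
  simp only [map_mul, map_inv, e1, e2] at h4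
  have hTinv : (tmat (1 : ZMod 3))⁻¹ = tmat (-1) := by
    rw [inv_eq_iff_mul_eq_one, tmat_mul, add_neg_cancel, tmat_zero]
  rw [hTinv] at h4
  have h5 := congrArg (fun M : Matrix.SpecialLinearGroup (Fin 2) (ZMod 3) =>
    (M : Matrix (Fin 2) (Fin 2) (ZMod 3))) h4
  simp only [Matrix.SpecialLinearGroup.coe_mul, tmat_coe, smat_coe] at h5
  exact sl2_three_nc ν hν h5

end ff6b



end Cfsg.Agent.Lib.Helper3
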