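import Mathlib
import Cfsg.Agent.Lib.Helper3.FF6

set_option autoImplicit false
set_option linter.unusedSectionVars false
set_option linter.style.haveILetI false
set_option linter.unusedSimpArgs false
open scoped commutatorElement

/-! KS 9.3.6: `H = E × C_H([V, E])`. -/

namespace Cfsg.Agent.Lib.Helper3

section ff7
variable {G : Type*} [Group G] [Finite G] {p : ℕ} [hp : Fact p.Prime]
variable {V H A A' : Subgroup G} {a a' : G}

/-- the `p'`-core normalizes `A ⊔ A'` -/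
theorem Pair.qp_le_normalizer (s : FFSetup p V H) (P : Pair p V H A A' a a') :
    qp p H ≤ Subgroup.normalizer ((A ⊔ A' : Subgroup G) : Set G) := by
  intro q hq
  apply mem_normalizer_of_map_conj_le
  rw [Subgroup.map_sup]
  apply sup_le (P.conj_le s hq)
  have := P.symm.conj_le s hq
  rwa [sup_comm] at this

theorem Pair.qp_le_normalizer_U (s : FFSetup p V H) (P : Pair p V H A A' a a') :
    qp p H ≤ Subgroup.normalizer ((⁅V, A ⊔ A'⁆ : Subgroup G) : Set G) := by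
  intro q hq
  exact normalizer_inf_le_normalizer_commutator V (A ⊔ A')
    ⟨s.hHV (qp_le H hq), P.qp_le_normalizer s hq⟩

/-- `a` and `a'` do not commute -/
theorem Pair.not_commute (s : FFSetup p V H) (P : Pair p V H A A' a a') : a * a' ≠ a' * a := by
  intro h
  obtain ⟨e₁, e₂, ν, φ, -, -, -, -, -, -, hφa, hφa', hν⟩ := P.iso s
  have haL : a ∈ A ⊔ A' := Subgroup.mem_sup_left P.ha
  have ha'L : a' ∈ A ⊔ A' := Subgroup.mem_sup_right P.ha'
  have h1 : (⟨a, haL⟩ : ↥(A ⊔ A')) * ⟨a', ha'L⟩ = ⟨a', ha'L⟩ * ⟨a, haL⟩ := Subtype.ext h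
  have h2 := congrArg φ h1
  rw [map_mul, map_mul, hφa haL, hφa' ha'L] at h2
  have h3 := congrArg (fun M : Matrix.SpecialLinearGroup (Fin 2) (ZMod p) =>
    (M : Matrix (Fin 2) (Fin 2) (ZMod p)) 0 0) h2
  simp only [Matrix.SpecialLinearGroup.coe_mul, tmat_coe, smat_coe, Matrix.mul_apply,
    Fin.sum_univ_two] at h3
  simp at h3
  exact hν h3

/-- an element of `A ⊔ A'` moving `e₁` to a prescribed nontrivial element of `U` -/
theorem Pair.exists_conj (s : FFSetup p V H) (P : Pair p V H A A' a a') {u : G}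
    (hu : u ∈ ⁅V, A ⊔ A'⁆) (hu1 : u ≠ 1) :
    ∃ g ∈ A ⊔ A', u ∈ ⁅V, A.map (MulAut.conj g).toMonoidHom⁆ := by
  haveI : Fact (1 < p) := ⟨hp.out.one_lt⟩
  obtain ⟨e₁, e₂, ν, φ, hplane, he₁Z, he₂Z, he₁1, he₂1, hφ, hφa, hφa', hν⟩ := P.iso s
  obtain ⟨v, hv⟩ := hplane.E_surj hu
  have hv0 : v ≠ 0 := by
    intro h
    apply hu1
    rw [← hv, h, hplane.E_zero]
  obtain ⟨M, hM⟩ := exists_sl2_col v hv0
  set g : ↥(A ⊔ A') := φ.symm M with hg
  have hgH : (g : G) ∈ H := P.le_H g.2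
  have hge₁ : (g : G) * e₁ * (g : G)⁻¹ = u := by
    have h1 := hφ g (![1, 0])
    have h2 : φ g = M := by rw [hg, MulEquiv.apply_symm_apply]
    have he : planeE e₁ e₂ (![1, 0] : Fin 2 → ZMod p) = e₁ := by simp [planeE, ZMod.val_one]
    rw [h2, hM, hv, he] at h1
    exact h1
  refine ⟨g, g.2, ?_⟩
  rw [← hge₁]
  exact conj_mem_comm_map_conj s hgH he₁Z

/-- `U` is irreducible under the `p'`-core -/
theorem Pair.irred (s : FFSetup p V H) (P : Pair p V H A A' a a') {W : Subgroup G}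
    (hWU : W ≤ ⁅V, A ⊔ A'⁆) (hW : ∀ q ∈ qp p H, ∀ w ∈ W, q * w * q⁻¹ ∈ W) :
    W = ⊥ ∨ W = ⁅V, A ⊔ A'⁆ := by
  have hpp : p.Prime := hp.out
  by_contra hcon
  push Not at hcon
  obtain ⟨hW1, hWne⟩ := hcon
  have hcardW : Nat.card ↥W = p := by
    have hdvd : Nat.card ↥W ∣ p ^ 2 := by
      rw [← P.card_U s]; exact Subgroup.card_dvd_of_le hWU
    obtain ⟨j, hj, hj'⟩ := (Nat.dvd_prime_pow hpp).mp hdvd
    have hj0 : j ≠ 0 := by
      intro h0
      apply hW1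
      rw [h0, pow_zero] at hj'
      exact Subgroup.card_eq_one.mp hj'
    have hj2 : j ≠ 2 := by
      intro h2
      apply hWne
      exact Subgroup.eq_of_le_of_card_ge hWU (by rw [hj', h2, P.card_U s])
    have : j = 1 := by omega
    rw [hj', this, pow_one]
  obtain ⟨⟨u, huW⟩, hne⟩ := (Subgroup.ne_bot_iff_exists_ne_one).mp hW1
  have hu1 : u ≠ 1 := fun h => hne (Subtype.ext h)
  obtain ⟨g, hgL, hug⟩ := P.exists_conj s (hWU huW) hu1
  have hgH : g ∈ H := P.le_H hgL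
  set A₁ := A.map (MulAut.conj g).toMonoidHom with hA₁
  have m₁ : MinBO p V H A₁ := P.mA.conj s hgH
  have hZW : ⁅V, A₁⁆ = W := by
    have hup : u ^ p = 1 := s.hV.2 u (s.comm_le P.le_H (hWU huW))
    rw [eq_zpowers_of_card_prime (m₁.comm_card s) hug hup hu1,
      eq_zpowers_of_card_prime hcardW huW hup hu1]
  set a₁ := g * a * g⁻¹ with ha₁
  have ha₁A : a₁ ∈ A₁ := conj_mem_map_conj P.ha
  have ha₁1 : a₁ ≠ 1 := by
    intro h
    apply P.ha1
    have : a = g⁻¹ * (g * a * g⁻¹) * g := by group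
    rw [this, ← ha₁, h]; group
  set y₁ := g * (a' * a⁻¹) * g⁻¹ with hy₁
  have hy₁Q : y₁ ∈ qp p H := qp_conj_mem H hgH P.hy
  set A₂ := A₁.map (MulAut.conj y₁).toMonoidHom with hA₂
  have m₂ : MinBO p V H A₂ := m₁.conj s (qp_le H hy₁Q)
  set a₂ := y₁ * a₁ * y₁⁻¹ with ha₂
  have ha₂A : a₂ ∈ A₂ := conj_mem_map_conj ha₁A
  have ha₂1 : a₂ ≠ 1 := by
    intro h
    apply ha₁1
    have : a₁ = y₁⁻¹ * (y₁ * a₁ * y₁⁻¹) * y₁ := by group
    rw [this, ← ha₂, h]; group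
  have hZ₂ : ⁅V, A₂⁆ = W := by
    have h1 : W.map (MulAut.conj y₁).toMonoidHom ≤ ⁅V, A₂⁆ := by
      intro w hw
      rw [mem_map_conj] at hw
      rw [← hZW] at hw
      have := conj_mem_comm_map_conj s (qp_le H hy₁Q) hw
      have e : y₁ * (y₁⁻¹ * w * y₁) * y₁⁻¹ = w := by group
      rwa [e] at this
    have h2 : W.map (MulAut.conj y₁).toMonoidHom ≤ W := by
      intro w hw
      rw [mem_map_conj] at hw
      have := hW y₁ hy₁Q _ hw
      have e : y₁ * (y₁⁻¹ * w * y₁) * y₁⁻¹ = w := by group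
      rwa [e] at this
    have h3 : W.map (MulAut.conj y₁).toMonoidHom = W :=
      Subgroup.eq_of_le_of_card_ge h2 (by rw [card_map_conj])
    rw [h3] at h1
    exact (Subgroup.eq_of_le_of_card_ge h1 (by rw [m₂.comm_card s, hcardW])).symm
  by_cases h12 : a₂ = a₁
  · -- then `a` and `a'` commute
    apply P.not_commute s
    have h1 : y₁ * a₁ = a₁ * y₁ := by
      calc y₁ * a₁ = (y₁ * a₁ * y₁⁻¹) * y₁ := by group
        _ = a₁ * y₁ := by rw [← ha₂, h12]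
    have h2 : (a' * a⁻¹) * a = a * (a' * a⁻¹) := by
      have e1 : (a' * a⁻¹) * a = g⁻¹ * (y₁ * a₁) * g := by rw [hy₁, ha₁]; group
      have e2 : a * (a' * a⁻¹) = g⁻¹ * (a₁ * y₁) * g := by rw [hy₁, ha₁]; group
      rw [e1, e2, h1]
    calc a * a' = a * (a' * a⁻¹) * a := by group
      _ = (a' * a⁻¹) * a * a := by rw [h2]
      _ = a' * a := by group
  · have hyQ : a₂ * a₁⁻¹ ∈ qp p H := by
      have := comm_mem_qp hy₁Q (m₁.1 ha₁A)
      rwa [commutatorElement_def] at this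
    have hy1 : a₂ * a₁⁻¹ ≠ 1 := by
      intro h
      apply h12
      calc a₂ = a₂ * a₁⁻¹ * a₁ := by group
        _ = a₁ := by rw [h, one_mul]
    have P' : Pair p V H A₁ A₂ a₁ a₂ := ⟨m₁, m₂, ha₁A, ha₁1, ha₂A, ha₂1, hyQ, hy1⟩
    exact P'.ne s (hZW.trans hZ₂.symm)

/-- a nontrivial element of `U` fixed by a given minimal best offender -/
theorem Pair.exists_fixed (s : FFSetup p V H) (P : Pair p V H A A' a a') {B : Subgroup G}
    (mB : MinBO p V H B) :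
    ∃ u ∈ ⁅V, A ⊔ A'⁆, u ∈ Subgroup.centralizer (B : Set G) ∧ u ≠ 1 := by
  have hpp : p.Prime := hp.out
  set U := ⁅V, A ⊔ A'⁆ with hU
  set C₃ := V ⊓ Subgroup.centralizer (B : Set G) with hC₃
  have hUV : U ≤ V := s.comm_le P.le_H
  by_contra hcon
  push Not at hcon
  have hbot : C₃ ⊓ U = ⊥ := by
    rw [eq_bot_iff]
    intro u hu
    obtain ⟨hu1, hu2⟩ := Subgroup.mem_inf.mp hu
    exact Subgroup.mem_bot.mpr (hcon u hu2 (Subgroup.mem_inf.mp hu1).2)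
  have h1 : C₃.relIndex U ≤ C₃.relIndex V := by
    apply Subgroup.relIndex_le_of_le_right hUV
    rw [mB.relIndex s]; exact hpp.ne_zero
  rw [mB.relIndex s, ← Subgroup.inf_relIndex_right, hbot, Subgroup.relIndex_bot_left,
    P.card_U s] at h1
  have : p * p ≤ p * 1 := by rw [← pow_two, mul_one]; exact h1
  have := Nat.le_of_mul_le_mul_left this hpp.pos
  have := hpp.one_lt
  omega

/-- every minimal best offender normalizes `U` -/
theorem Pair.minbo_normalizes (s : FFSetup p V H) (P : Pair p V H A A' a a') {B : Subgroup G}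
    (mB : MinBO p V H B) : B ≤ Subgroup.normalizer ((⁅V, A ⊔ A'⁆ : Subgroup G) : Set G) := by
  set U := ⁅V, A ⊔ A'⁆ with hU
  have hQU := P.qp_le_normalizer_U s
  obtain ⟨u, huU, huB, hu1⟩ := P.exists_fixed s mB
  have key : ∀ b ∈ B, U ≤ U.map (MulAut.conj b).toMonoidHom := by
    intro b hb
    have hbH : b ∈ H := mB.1 hb
    set W := U ⊓ U.map (MulAut.conj b).toMonoidHom with hW
    have hWinv : ∀ q ∈ qp p H, ∀ w ∈ W, q * w * q⁻¹ ∈ W := by
      intro q hq w hw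
      obtain ⟨hw1, hw2⟩ := Subgroup.mem_inf.mp hw
      refine Subgroup.mem_inf.mpr ⟨conj_mem_of_mem_normalizer' (hQU hq) hw1, ?_⟩
      rw [mem_map_conj] at hw2 ⊢
      have hq' : b⁻¹ * q * b ∈ qp p H := by
        have := qp_conj_mem H (H.inv_mem hbH) hq
        simpa using this
      have := conj_mem_of_mem_normalizer' (hQU hq') hw2
      have e : b⁻¹ * q * b * (b⁻¹ * w * b) * (b⁻¹ * q * b)⁻¹ = b⁻¹ * (q * w * q⁻¹) * b := by
        group
      rwa [e] at this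
    have huW : u ∈ W := by
      refine Subgroup.mem_inf.mpr ⟨huU, ?_⟩
      rw [mem_map_conj]
      have hc : b * u = u * b := Subgroup.mem_centralizer_iff.mp huB b hb
      have e : b⁻¹ * u * b = u := by
        calc b⁻¹ * u * b = b⁻¹ * (u * b) := by group
          _ = b⁻¹ * (b * u) := by rw [hc]
          _ = u := by group
      rw [e]; exact huU
    have hir : W = ⊥ ∨ W = U := P.irred s (inf_le_left : W ≤ U) hWinv
    rcases hir with h | h
    · exfalso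
      rw [h, Subgroup.mem_bot] at huW
      exact hu1 huW
    · have h' : W ≤ U.map (MulAut.conj b).toMonoidHom := inf_le_right
      rwa [h] at h'
  intro b hb
  apply mem_normalizer_of_map_conj_le
  have := key b⁻¹ (B.inv_mem hb)
  -- `U ≤ U^{b⁻¹}` gives `U^b ≤ U`
  intro x hx
  rw [mem_map_conj] at hx
  have h1 := this hx
  rw [mem_map_conj] at h1
  simpa [mul_assoc] using h1

/-- the subgroup of elements of `H` acting trivially on `V / U` -/
def stabSub (V U H : Subgroup G) : Subgroup G where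
  carrier := {g | g ∈ H ∧ g ∈ Subgroup.normalizer (U : Set G) ∧ ∀ v ∈ V, ⁅g, v⁆ ∈ U}
  one_mem' := ⟨H.one_mem, Subgroup.one_mem _, fun v _ => by simp [commutatorElement_def]⟩
  mul_mem' := by
    rintro g h ⟨hg1, hg2, hg3⟩ ⟨hh1, hh2, hh3⟩
    refine ⟨H.mul_mem hg1 hh1, Subgroup.mul_mem _ hg2 hh2, fun v hv => ?_⟩
    have e : ⁅g * h, v⁆ = (g * ⁅h, v⁆ * g⁻¹) * ⁅g, v⁆ := by
      simp only [commutatorElement_def]; group
    rw [e]
    exact U.mul_mem (conj_mem_of_mem_normalizer' hg2 (hh3 v hv)) (hg3 v hv)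
  inv_mem' := by
    rintro g ⟨hg1, hg2, hg3⟩
    refine ⟨H.inv_mem hg1, Subgroup.inv_mem _ hg2, fun v hv => ?_⟩
    have e : ⁅g⁻¹, v⁆ = g⁻¹ * (⁅g, v⁆)⁻¹ * g := by
      simp only [commutatorElement_def]; group
    rw [e]
    exact conj_inv_mem_of_mem_normalizer' hg2 (U.inv_mem (hg3 v hv))

lemma mem_stabSub {V U H : Subgroup G} {g : G} : g ∈ stabSub V U H ↔
    g ∈ H ∧ g ∈ Subgroup.normalizer (U : Set G) ∧ ∀ v ∈ V, ⁅g, v⁆ ∈ U := Iff.rfl

/-- `stabSub` is invariant under the elements of `H` normalizing `U` -/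
lemma FFSetup.stabSub_conj (s : FFSetup p V H) {U : Subgroup G} {g h : G}
    (hg : g ∈ stabSub V U H) (hh : h ∈ H) (hhU : h ∈ Subgroup.normalizer (U : Set G)) :
    h * g * h⁻¹ ∈ stabSub V U H := by
  obtain ⟨hg1, hg2, hg3⟩ := hg
  refine ⟨H.mul_mem (H.mul_mem hh hg1) (H.inv_mem hh),
    Subgroup.mul_mem _ (Subgroup.mul_mem _ hhU hg2) (Subgroup.inv_mem _ hhU), fun v hv => ?_⟩
  have e : ⁅h * g * h⁻¹, v⁆ = h * ⁅g, h⁻¹ * v * h⁆ * h⁻¹ := by
    simp only [commutatorElement_def]; group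
  rw [e]
  exact conj_mem_of_mem_normalizer' hhU (hg3 _ (s.conj_mem' hh hv))

/-- elements of `H` stabilizing the chain `1 ≤ U ≤ V`, with `U` invariant under the `p'`-core,
are trivial -/
theorem FFSetup.chain_trivial (s : FFSetup p V H) {U : Subgroup G} (hUV : U ≤ V)
    (hQU : qp p H ≤ Subgroup.normalizer (U : Set G)) {t : G} (ht : t ∈ stabSub V U H)
    (htU : t ∈ Subgroup.centralizer (U : Set G)) : t = 1 := by
  -- elements of `T₀ = stabSub ⊓ C(U)` have order dividing `p`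
  have hexp : ∀ g ∈ stabSub V U H, g ∈ Subgroup.centralizer (U : Set G) → g ^ p = 1 := by
    intro g hg hgU
    apply s.eq_one_of_centralizes (H.pow_mem hg.1 p)
    rw [Subgroup.mem_centralizer_iff]
    intro v hv
    have hc : g * ⁅g, v⁆ = ⁅g, v⁆ * g :=
      (Subgroup.mem_centralizer_iff.mp hgU _ (hg.2.2 v hv)).symm
    have h1 := conj_pow_of_comm_commutator hc p
    have h2 : ⁅g, v⁆ ^ p = 1 := s.hV.2 _ (hUV (hg.2.2 v hv))
    rw [h2, one_mul] at h1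
    calc v * g ^ p = (g ^ p * v * (g ^ p)⁻¹) * g ^ p := by rw [h1]
      _ = g ^ p * v := by group
  have hNC := normalizer_le_normalizer_centralizer U
  -- `t` centralizes the `p'`-core
  have htQ : t ∈ Subgroup.centralizer (qp p H : Set G) := by
    rw [Subgroup.mem_centralizer_iff]
    intro q hq
    have hqH := qp_le H hq
    have hqU := hQU hq
    have h1 : ⁅t, q⁆ ∈ stabSub V U H := by
      have e : ⁅t, q⁆ = t * (q * t⁻¹ * q⁻¹) := by
        simp only [commutatorElement_def]; group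
      rw [e]
      exact Subgroup.mul_mem _ ht (s.stabSub_conj (Subgroup.inv_mem _ ht) hqH hqU)
    have h2 : ⁅t, q⁆ ∈ Subgroup.centralizer (U : Set G) := by
      have e : ⁅t, q⁆ = t * (q * t⁻¹ * q⁻¹) := by
        simp only [commutatorElement_def]; group
      rw [e]
      exact Subgroup.mul_mem _ htU
        (conj_mem_of_mem_normalizer' (hNC hqU) (Subgroup.inv_mem _ htU))
    have h3 : ⁅t, q⁆ ∈ qp p H := by
      have e : ⁅t, q⁆ = (t * q * t⁻¹) * q⁻¹ := by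
        simp only [commutatorElement_def]
      rw [e]
      exact (qp p H).mul_mem (qp_conj_mem H ht.1 hq) ((qp p H).inv_mem hq)
    have h4 : ⁅t, q⁆ ^ p = 1 := hexp _ h1 h2
    have h5 : orderOf ⁅t, q⁆ ∣ p := orderOf_dvd_of_pow_eq_one h4
    have h6 : orderOf ⁅t, q⁆ = 1 := Nat.Coprime.eq_one_of_dvd (qp_orderOf_coprime h3) h5
    have h7 : ⁅t, q⁆ = 1 := orderOf_eq_one_iff.mp h6
    exact (commutatorElement_eq_one_iff_mul_comm.mp h7).symm
  have htq : t ∈ qp p H := s.mem_qp_of_centralizes ht.1 htQ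
  have h5 : orderOf t ∣ p := orderOf_dvd_of_pow_eq_one (hexp t ht htU)
  have h6 : orderOf t = 1 := Nat.Coprime.eq_one_of_dvd (qp_orderOf_coprime htq) h5
  exact orderOf_eq_one_iff.mp h6

/-- every minimal best offender lies in `(A ⊔ A') ⊔ C_H(U)` -/
theorem Pair.minbo_le (s : FFSetup p V H) (P : Pair p V H A A' a a') {B : Subgroup G}
    (mB : MinBO p V H B) :
    B ≤ (A ⊔ A') ⊔ (H ⊓ Subgroup.centralizer ((⁅V, A ⊔ A'⁆ : Subgroup G) : Set G)) := by
  haveI : Fact (1 < p) := ⟨hp.out.one_lt⟩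
  obtain ⟨e₁, e₂, ν, φ, hplane, -, -, -, -, hφ, -, -, -⟩ := P.iso s
  obtain ⟨b, hb, hb1⟩ := mB.exists_gen
  rw [mB.eq_zpowers s hb hb1, Subgroup.zpowers_le]
  have hbN := P.minbo_normalizes s mB hb
  obtain ⟨M, hM⟩ := hplane.isMat_exists (fun u hu => conj_mem_of_mem_normalizer' hbN hu)
  have hpow : ∀ k : ℕ, IsMat e₁ e₂ (b ^ k) (M ^ k) := by
    intro k
    induction k with
    | zero => simpa using (isMat_one (p := p) (e₁ := e₁) (e₂ := e₂))
    | succ k ih => rw [pow_succ, pow_succ]; exact isMat_mul ih hM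
  have hbp : b ^ p = 1 := bo_exp s mB.1 mB.2.1 b hb
  have hMp : M ^ p = 1 := by
    have h1 := hpow p
    rw [hbp] at h1
    exact hplane.isMat_unique h1 isMat_one
  have hdet : M.det = 1 := by
    have h1 : M.det ^ p = 1 := by rw [← Matrix.det_pow, hMp, Matrix.det_one]
    rwa [ZMod.pow_card] at h1
  set M' : Matrix.SpecialLinearGroup (Fin 2) (ZMod p) := ⟨M, hdet⟩ with hM'
  set g' : ↥(A ⊔ A') := φ.symm M' with hg'
  have hg'M : IsMat e₁ e₂ (g' : G) M := by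
    have h1 := hφ g'
    have h2 : φ g' = M' := by rw [hg', MulEquiv.apply_symm_apply]
    rw [h2] at h1
    exact h1
  have hinv : IsMat e₁ e₂ (g' : G)⁻¹ ((M'⁻¹ : Matrix.SpecialLinearGroup (Fin 2) (ZMod p)) :
      Matrix (Fin 2) (Fin 2) (ZMod p)) := by
    apply isMat_inv _ hg'M
    have : (M' : Matrix (Fin 2) (Fin 2) (ZMod p)) *
        ((M'⁻¹ : Matrix.SpecialLinearGroup (Fin 2) (ZMod p)) : Matrix (Fin 2) (Fin 2) (ZMod p)) = 1 := by
      rw [← Matrix.SpecialLinearGroup.coe_mul, mul_inv_cancel, Matrix.SpecialLinearGroup.coe_one]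
    exact this
  have hc : IsMat e₁ e₂ (b * (g' : G)⁻¹) (1 : Matrix (Fin 2) (Fin 2) (ZMod p)) := by
    have h1 := isMat_mul hM hinv
    have h2 : M * ((M'⁻¹ : Matrix.SpecialLinearGroup (Fin 2) (ZMod p)) :
        Matrix (Fin 2) (Fin 2) (ZMod p)) = 1 := by
      have : (M' : Matrix (Fin 2) (Fin 2) (ZMod p)) *
          ((M'⁻¹ : Matrix.SpecialLinearGroup (Fin 2) (ZMod p)) :
            Matrix (Fin 2) (Fin 2) (ZMod p)) = 1 := by
        rw [← Matrix.SpecialLinearGroup.coe_mul, mul_inv_cancel,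
          Matrix.SpecialLinearGroup.coe_one]
      exact this
    rwa [h2] at h1
  have hcC : b * (g' : G)⁻¹ ∈ H ⊓ Subgroup.centralizer ((⁅V, A ⊔ A'⁆ : Subgroup G) : Set G) := by
    refine Subgroup.mem_inf.mpr ⟨H.mul_mem (mB.1 hb) (H.inv_mem (P.le_H g'.2)), ?_⟩
    rw [Subgroup.mem_centralizer_iff]
    intro u hu
    obtain ⟨v, rfl⟩ := hplane.E_surj hu
    have := hc v
    rw [Matrix.one_mulVec] at this
    calc planeE e₁ e₂ v * (b * (g' : G)⁻¹)
        = ((b * (g' : G)⁻¹) * planeE e₁ e₂ v * (b * (g' : G)⁻¹)⁻¹) * (b * (g' : G)⁻¹) := by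
          rw [this]
      _ = (b * (g' : G)⁻¹) * planeE e₁ e₂ v := by group
  have e : b = (b * (g' : G)⁻¹) * (g' : G) := by group
  rw [e]
  exact Subgroup.mul_mem _ (Subgroup.mem_sup_right hcC) (Subgroup.mem_sup_left g'.2)

/-- elements of `stabSub` commute with `C_H(U)` -/
theorem Pair.comm_of_stab (s : FFSetup p V H) (P : Pair p V H A A' a a') {c g : G}
    (hc : c ∈ H ⊓ Subgroup.centralizer ((⁅V, A ⊔ A'⁆ : Subgroup G) : Set G))
    (hg : g ∈ stabSub V ⁅V, A ⊔ A'⁆ H) : c * g = g * c := by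
  obtain ⟨hcH, hcU⟩ := Subgroup.mem_inf.mp hc
  have hcN : c ∈ Subgroup.normalizer ((⁅V, A ⊔ A'⁆ : Subgroup G) : Set G) :=
    Subgroup.centralizer_le_normalizer _ hcU
  have hNC := normalizer_le_normalizer_centralizer ⁅V, A ⊔ A'⁆
  have h1 : ⁅c, g⁆ ∈ stabSub V ⁅V, A ⊔ A'⁆ H := by
    have e : ⁅c, g⁆ = (c * g * c⁻¹) * g⁻¹ := by simp only [commutatorElement_def]
    rw [e]
    exact Subgroup.mul_mem _ (s.stabSub_conj hg hcH hcN) (Subgroup.inv_mem _ hg)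
  have h2 : ⁅c, g⁆ ∈ Subgroup.centralizer ((⁅V, A ⊔ A'⁆ : Subgroup G) : Set G) := by
    have e : ⁅c, g⁆ = c * (g * c⁻¹ * g⁻¹) := by simp only [commutatorElement_def]; group
    rw [e]
    exact Subgroup.mul_mem _ hcU
      (conj_mem_of_mem_normalizer' (hNC hg.2.1) (Subgroup.inv_mem _ hcU))
  have h3 := s.chain_trivial (s.comm_le P.le_H) (P.qp_le_normalizer_U s) h1 h2
  exact commutatorElement_eq_one_iff_mul_comm.mp h3

lemma Pair.mem_stabSub (s : FFSetup p V H) (P : Pair p V H A A' a a') {g : G}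
    (hg : g ∈ A ⊔ A') : g ∈ stabSub V ⁅V, A ⊔ A'⁆ H := by
  refine ⟨P.le_H hg, P.normalizes s hg, fun v hv => ?_⟩
  have h1 : ⁅g, v⁆ ∈ ⁅A ⊔ A', V⁆ := Subgroup.commutator_mem_commutator hg hv
  rwa [Subgroup.commutator_comm] at h1

/-- `C_H(U)` centralizes `A ⊔ A'` -/
theorem Pair.cent_le (s : FFSetup p V H) (P : Pair p V H A A' a a') :
    H ⊓ Subgroup.centralizer ((⁅V, A ⊔ A'⁆ : Subgroup G) : Set G) ≤
      Subgroup.centralizer ((A ⊔ A' : Subgroup G) : Set G) := by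
  intro c hc
  rw [Subgroup.mem_centralizer_iff]
  intro g hg
  exact (P.comm_of_stab s hc (P.mem_stabSub s hg)).symm

/-- `[V, C_H(U)] ≤ C_V(A ⊔ A')` -/
theorem Pair.comm_cent_le (s : FFSetup p V H) (P : Pair p V H A A' a a') :
    ⁅V, H ⊓ Subgroup.centralizer ((⁅V, A ⊔ A'⁆ : Subgroup G) : Set G)⁆ ≤
      V ⊓ Subgroup.centralizer ((A ⊔ A' : Subgroup G) : Set G) := by
  rw [Subgroup.commutator_le]
  intro v hv c hc
  obtain ⟨hcH, hcU⟩ := Subgroup.mem_inf.mp hc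
  have hvc : ⁅v, c⁆ ∈ V := by
    rw [commutatorElement_def]
    have e : v * c * v⁻¹ * c⁻¹ = v * (c * v⁻¹ * c⁻¹) := by group
    rw [e]
    exact V.mul_mem hv (s.conj_mem hcH (V.inv_mem hv))
  refine Subgroup.mem_inf.mpr ⟨hvc, ?_⟩
  rw [Subgroup.mem_centralizer_iff]
  intro e he
  have hec : c * e = e * c := P.comm_of_stab s hc (P.mem_stabSub s he)
  have hu' : ⁅e, v⁆ ∈ ⁅V, A ⊔ A'⁆ := (P.mem_stabSub s he).2.2 v hv
  have hcu : ⁅e, v⁆ * c = c * ⁅e, v⁆ := Subgroup.mem_centralizer_iff.mp hcU _ hu'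
  have hu'V : ⁅e, v⁆ ∈ V := s.comm_le P.le_H hu'
  have hcomm : ⁅e, v⁆ * ⁅v, c⁆ = ⁅v, c⁆ * ⁅e, v⁆ := s.V_comm _ hu'V _ hvc
  -- `e ⁅v, c⁆ e⁻¹ = ⁅u' v, c⁆ = u' ⁅v, c⁆ u'⁻¹ = ⁅v, c⁆`
  have h1 : e * ⁅v, c⁆ * e⁻¹ = ⁅e, v⁆ * ⁅v, c⁆ * (⁅e, v⁆)⁻¹ := by
    have hece : e * c * e⁻¹ = c := by rw [← hec]; group
    have hece' : e * c⁻¹ * e⁻¹ = c⁻¹ := by
      calc e * c⁻¹ * e⁻¹ = (e * c * e⁻¹)⁻¹ := by group
        _ = c⁻¹ := by rw [hece]
    have hcu' : c * (⁅e, v⁆)⁻¹ * c⁻¹ = (⁅e, v⁆)⁻¹ := by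
      calc c * (⁅e, v⁆)⁻¹ * c⁻¹ = (⁅e, v⁆)⁻¹ * (⁅e, v⁆ * c) * (⁅e, v⁆)⁻¹ * c⁻¹ := by group
        _ = (⁅e, v⁆)⁻¹ * (c * ⁅e, v⁆) * (⁅e, v⁆)⁻¹ * c⁻¹ := by rw [hcu]
        _ = (⁅e, v⁆)⁻¹ := by group
    have e1 : e * v * e⁻¹ = ⁅e, v⁆ * v := by simp only [commutatorElement_def]; group
    have e2 : e * v⁻¹ * e⁻¹ = v⁻¹ * (⁅e, v⁆)⁻¹ := by simp only [commutatorElement_def]; group
    have e0 : e * ⁅v, c⁆ * e⁻¹ =
        (e * v * e⁻¹) * (e * c * e⁻¹) * (e * v⁻¹ * e⁻¹) * (e * c⁻¹ * e⁻¹) := by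
      simp only [commutatorElement_def]; group
    rw [e0, hece, hece', e1, e2]
    generalize ⁅e, v⁆ = u' at hcu'
    calc u' * v * c * (v⁻¹ * u'⁻¹) * c⁻¹ = u' * (v * c * v⁻¹ * c⁻¹) * (c * u'⁻¹ * c⁻¹) := by group
      _ = u' * ⁅v, c⁆ * u'⁻¹ := by rw [hcu', commutatorElement_def]
  rw [hcomm] at h1
  have h2 : e * ⁅v, c⁆ * e⁻¹ = ⁅v, c⁆ := by rw [h1]; group
  calc e * ⁅v, c⁆ = (e * ⁅v, c⁆ * e⁻¹) * e := by group
    _ = ⁅v, c⁆ * e := by rw [h2]

/-- `H` is generated by its minimal best offenders -/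
theorem le_of_minbo_le (s : FFSetup p V H)
    (hS3 : H = ⨆ A : {A : Subgroup G // A ≤ H ∧ Cfsg.IsBestOffenderOn p V A}, (A : Subgroup G))
    {K : Subgroup G} (hK : ∀ B : Subgroup G, MinBO p V H B → B ≤ K) : H ≤ K := by
  have h1 : (⨆ A : {A : Subgroup G // A ≤ H ∧ Cfsg.IsBestOffenderOn p V A}, (A : Subgroup G)) ≤ K := by
    apply iSup_le
    rintro ⟨A₀, hA₀H, hA₀⟩
    obtain ⟨k, B, hB, -, hsup⟩ := bo_decomp_minbo s hA₀H hA₀
    show A₀ ≤ K
    rw [← hsup]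
    exact iSup_le (fun i => hK _ (hB i).2)
  exact hS3.le.trans h1

end ff7



end Cfsg.Agent.Lib.Helper3
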