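import Mathlib
import Cfsg.Agent.Lib.Helper3.FF7

set_option autoImplicit false
set_option linter.unusedSectionVars false
set_option linter.style.haveILetI false
set_option linter.unusedSimpArgs false
open scoped commutatorElement

/-! KS 9.3.7: the structure theorem for failure of factorization. -/

namespace Cfsg.Agent.Lib.Helper3

section ff8
variable {G : Type*} [Group G] [Finite G] {p : ℕ} [hp : Fact p.Prime]
variable {V H A A' : Subgroup G} {a a' : G}

omit [Finite G] in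
/-- elements of the join of two commuting subgroups are products -/
lemma mem_sup_of_comm {X Y : Subgroup G} (h : ∀ x ∈ X, ∀ y ∈ Y, x * y = y * x) {g : G}
    (hg : g ∈ X ⊔ Y) : ∃ x ∈ X, ∃ y ∈ Y, g = x * y := by
  let M : Subgroup G :=
    { carrier := {g | ∃ x ∈ X, ∃ y ∈ Y, g = x * y}
      one_mem' := ⟨1, X.one_mem, 1, Y.one_mem, by simp⟩
      mul_mem' := by
        rintro _ _ ⟨x, hx, y, hy, rfl⟩ ⟨x', hx', y', hy', rfl⟩
        refine ⟨x * x', X.mul_mem hx hx', y * y', Y.mul_mem hy hy', ?_⟩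
        calc x * y * (x' * y') = x * (y * x') * y' := by group
          _ = x * (x' * y) * y' := by rw [h x' hx' y hy]
          _ = x * x' * (y * y') := by group
      inv_mem' := by
        rintro _ ⟨x, hx, y, hy, rfl⟩
        refine ⟨x⁻¹, X.inv_mem hx, y⁻¹, Y.inv_mem hy, ?_⟩
        calc (x * y)⁻¹ = (y * x)⁻¹ := by rw [h x hx y hy]
          _ = x⁻¹ * y⁻¹ := by group }
  have hle : X ⊔ Y ≤ M :=
    sup_le (fun x hx => ⟨x, hx, 1, Y.one_mem, by simp⟩)
      (fun y hy => ⟨1, X.one_mem, y, hy, by simp⟩)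
  exact hle hg

/-- a minimal best offender lies in `A ⊔ A'` or centralizes `[V, A ⊔ A']` -/
theorem Pair.minbo_dichotomy (s : FFSetup p V H) (P : Pair p V H A A' a a') {B : Subgroup G}
    (mB : MinBO p V H B) :
    B ≤ A ⊔ A' ∨ B ≤ H ⊓ Subgroup.centralizer ((⁅V, A ⊔ A'⁆ : Subgroup G) : Set G) := by
  obtain ⟨b, hb, hb1⟩ := mB.exists_gen
  have hBz := mB.eq_zpowers s hb hb1
  have hbEC : b ∈ (A ⊔ A') ⊔ (H ⊓ Subgroup.centralizer ((⁅V, A ⊔ A'⁆ : Subgroup G) : Set G)) :=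
    P.minbo_le s mB hb
  have hcomm : ∀ x ∈ A ⊔ A',
      ∀ y ∈ H ⊓ Subgroup.centralizer ((⁅V, A ⊔ A'⁆ : Subgroup G) : Set G), x * y = y * x := by
    intro x hx y hy
    exact Subgroup.mem_centralizer_iff.mp (P.cent_le s hy) x hx
  obtain ⟨g, hg, c, hc, hbgc⟩ := mem_sup_of_comm hcomm hbEC
  have hUV : ⁅V, A ⊔ A'⁆ ≤ V := s.comm_le P.le_H
  have hcU : ∀ u ∈ ⁅V, A ⊔ A'⁆, u * c = c * u := fun u hu =>
    Subgroup.mem_centralizer_iff.mp (Subgroup.mem_inf.mp hc).2 u hu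
  have hcH : c ∈ H := (Subgroup.mem_inf.mp hc).1
  have hgN : g ∈ Subgroup.normalizer ((⁅V, A ⊔ A'⁆ : Subgroup G) : Set G) := P.normalizes s hg
  have hZcard := mB.comm_card s
  have claim1 : g ≠ 1 → ∃ z ∈ ⁅V, B⁆, z ∈ ⁅V, A ⊔ A'⁆ ∧ z ≠ 1 := by
    intro hg1
    have hgU : g ∉ Subgroup.centralizer ((⁅V, A ⊔ A'⁆ : Subgroup G) : Set G) := by
      intro h
      apply hg1
      have h2 : g ∈ (A ⊔ A') ⊓ Subgroup.centralizer ((⁅V, A ⊔ A'⁆ : Subgroup G) : Set G) :=
        Subgroup.mem_inf.mpr ⟨hg, h⟩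
      rw [P.faithful s] at h2
      exact Subgroup.mem_bot.mp h2
    rw [Subgroup.mem_centralizer_iff] at hgU
    push Not at hgU
    obtain ⟨u, hu, hug⟩ := hgU
    have e : ⁅u, b⁆ = u * (g * u⁻¹ * g⁻¹) := by
      rw [hbgc, commutatorElement_def]
      have h1 : c * u⁻¹ * c⁻¹ = u⁻¹ := by
        have := hcU u⁻¹ (Subgroup.inv_mem _ hu)
        calc c * u⁻¹ * c⁻¹ = (u⁻¹ * c) * c⁻¹ := by rw [this]
          _ = u⁻¹ := by group
      calc u * (g * c) * u⁻¹ * (g * c)⁻¹ = u * (g * (c * u⁻¹ * c⁻¹) * g⁻¹) := by group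
        _ = u * (g * u⁻¹ * g⁻¹) := by rw [h1]
    refine ⟨⁅u, b⁆, Subgroup.commutator_mem_commutator (hUV hu) hb, ?_, ?_⟩
    · rw [e]
      exact Subgroup.mul_mem _ hu (conj_mem_of_mem_normalizer' hgN (Subgroup.inv_mem _ hu))
    · intro h
      apply hug
      rw [e] at h
      calc u * g = (u * (g * u⁻¹ * g⁻¹)) * g * u := by group
        _ = g * u := by rw [h, one_mul]
  have claim2 : c ≠ 1 → ∃ z ∈ ⁅V, B⁆,
      z ∈ V ⊓ Subgroup.centralizer ((A ⊔ A' : Subgroup G) : Set G) ∧ z ≠ 1 := by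
    intro hc1
    have hcV : c ∉ Subgroup.centralizer (V : Set G) :=
      fun h => hc1 (s.eq_one_of_centralizes hcH h)
    rw [Subgroup.mem_centralizer_iff] at hcV
    push Not at hcV
    obtain ⟨v, hv, hvc⟩ := hcV
    obtain ⟨u, hu, w, hw, rfl⟩ := P.decomp s v hv
    have hwc : w * c ≠ c * w := by
      intro h
      apply hvc
      calc u * w * c = u * (w * c) := by group
        _ = u * (c * w) := by rw [h]
        _ = (u * c) * w := by group
        _ = c * u * w := by rw [hcU u hu]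
        _ = c * (u * w) := by group
    have hwV : w ∈ V := (Subgroup.mem_inf.mp hw).1
    have hwg : g * w = w * g :=
      Subgroup.mem_centralizer_iff.mp (Subgroup.mem_inf.mp hw).2 g hg
    have hwcW : ⁅w, c⁆ ∈ V ⊓ Subgroup.centralizer ((A ⊔ A' : Subgroup G) : Set G) :=
      P.comm_cent_le s (Subgroup.commutator_mem_commutator hwV hc)
    have hwcg : g * ⁅w, c⁆ = ⁅w, c⁆ * g :=
      Subgroup.mem_centralizer_iff.mp (Subgroup.mem_inf.mp hwcW).2 g hg
    have e : ⁅w, b⁆ = ⁅w, c⁆ := by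
      rw [hbgc]
      calc ⁅w, g * c⁆ = (w * g) * c * w⁻¹ * c⁻¹ * g⁻¹ := by
            rw [commutatorElement_def]; group
        _ = (g * w) * c * w⁻¹ * c⁻¹ * g⁻¹ := by rw [hwg]
        _ = (g * ⁅w, c⁆) * g⁻¹ := by rw [commutatorElement_def]; group
        _ = (⁅w, c⁆ * g) * g⁻¹ := by rw [hwcg]
        _ = ⁅w, c⁆ := by group
    refine ⟨⁅w, b⁆, Subgroup.commutator_mem_commutator hwV hb, by rw [e]; exact hwcW, ?_⟩
    rw [e]
    intro h
    apply hwc
    exact commutatorElement_eq_one_iff_mul_comm.mp h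
  by_cases hg1 : g = 1
  · right
    rw [hBz, Subgroup.zpowers_le, hbgc, hg1, one_mul]; exact hc
  by_cases hc1 : c = 1
  · left
    rw [hBz, Subgroup.zpowers_le, hbgc, hc1, mul_one]; exact hg
  exfalso
  obtain ⟨z₁, hz₁, hz₁U, hz₁1⟩ := claim1 hg1
  obtain ⟨z₂, hz₂, hz₂W, hz₂1⟩ := claim2 hc1
  have hZV : ⁅V, B⁆ ≤ V := s.comm_le mB.1
  have h1 := eq_zpowers_of_card_prime hZcard hz₂ (s.hV.2 z₂ (hZV hz₂)) hz₂1
  have h2 : z₁ ∈ V ⊓ Subgroup.centralizer ((A ⊔ A' : Subgroup G) : Set G) := by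
    have h3 : z₁ ∈ Subgroup.zpowers z₂ := by rw [← h1]; exact hz₁
    exact (Subgroup.zpowers_le.mpr hz₂W) h3
  have h4 : z₁ ∈ ⁅V, A ⊔ A'⁆ ⊓ (V ⊓ Subgroup.centralizer ((A ⊔ A' : Subgroup G) : Set G)) :=
    Subgroup.mem_inf.mpr ⟨hz₁U, h2⟩
  rw [P.inf_fix s] at h4
  exact hz₁1 (Subgroup.mem_bot.mp h4)

/-- `E` is a block: the subgroup generated by a pair -/
def IsBlk (p : ℕ) (V H E : Subgroup G) : Prop :=
  ∃ (A A' : Subgroup G) (a a' : G), Pair p V H A A' a a' ∧ A ⊔ A' = E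

theorem MinBO.isBlk (s : FFSetup p V H) (m : MinBO p V H A) :
    IsBlk p V H (⁅qp p H, A⁆ ⊔ A) := by
  obtain ⟨a, ha, ha1⟩ := m.exists_gen
  obtain ⟨x, hx, hxA⟩ := m.exists_x s
  have P := m.pair s (x := x) hx hxA ha ha1
  have hy' : x * a * x⁻¹ * a⁻¹ ∈ ⁅qp p H, A⁆ := by
    rw [← commutatorElement_def]
    exact Subgroup.commutator_mem_commutator hx ha
  exact ⟨_, _, _, _, P, (P.E_eq s hy').symm⟩

variable {E : Subgroup G}

lemma IsBlk.le_H (hE : IsBlk p V H E) : E ≤ H := by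
  obtain ⟨A, A', a, a', P, rfl⟩ := hE
  exact P.le_H

lemma IsBlk.prime (s : FFSetup p V H) (hE : IsBlk p V H E) : p = 2 ∨ p = 3 := by
  obtain ⟨A, A', a, a', P, rfl⟩ := hE
  exact P.prime_le_three s

lemma IsBlk.iso (s : FFSetup p V H) (hE : IsBlk p V H E) :
    Nonempty (↥E ≃* Matrix.SpecialLinearGroup (Fin 2) (ZMod p)) := by
  obtain ⟨A, A', a, a', P, rfl⟩ := hE
  obtain ⟨e₁, e₂, ν, φ, -⟩ := P.iso s
  exact ⟨φ⟩

lemma IsBlk.card_U (s : FFSetup p V H) (hE : IsBlk p V H E) : Nat.card ↥⁅V, E⁆ = p ^ 2 := by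
  obtain ⟨A, A', a, a', P, rfl⟩ := hE
  exact P.card_U s

lemma IsBlk.inf_fix (s : FFSetup p V H) (hE : IsBlk p V H E) :
    ⁅V, E⁆ ⊓ (V ⊓ Subgroup.centralizer (E : Set G)) = ⊥ := by
  obtain ⟨A, A', a, a', P, rfl⟩ := hE
  exact P.inf_fix s

lemma IsBlk.sup_fix (s : FFSetup p V H) (hE : IsBlk p V H E) :
    V ≤ ⁅V, E⁆ ⊔ (V ⊓ Subgroup.centralizer (E : Set G)) := by
  obtain ⟨A, A', a, a', P, rfl⟩ := hE
  intro v hv
  obtain ⟨u, hu, c, hc, rfl⟩ := P.decomp s v hv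
  exact Subgroup.mul_mem _ (Subgroup.mem_sup_left hu) (Subgroup.mem_sup_right hc)

lemma IsBlk.cent_le (s : FFSetup p V H) (hE : IsBlk p V H E) :
    H ⊓ Subgroup.centralizer ((⁅V, E⁆ : Subgroup G) : Set G) ≤
      Subgroup.centralizer (E : Set G) := by
  obtain ⟨A, A', a, a', P, rfl⟩ := hE
  exact P.cent_le s

lemma IsBlk.faithful (s : FFSetup p V H) (hE : IsBlk p V H E) :
    E ⊓ (H ⊓ Subgroup.centralizer ((⁅V, E⁆ : Subgroup G) : Set G)) = ⊥ := by
  obtain ⟨A, A', a, a', P, rfl⟩ := hE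
  rw [eq_bot_iff]
  intro g hg
  obtain ⟨hg1, hg2⟩ := Subgroup.mem_inf.mp hg
  have h : g ∈ (A ⊔ A') ⊓
      Subgroup.centralizer ((⁅V, A ⊔ A'⁆ : Subgroup G) : Set G) :=
    Subgroup.mem_inf.mpr ⟨hg1, (Subgroup.mem_inf.mp hg2).2⟩
  rwa [P.faithful s] at h

lemma IsBlk.comm_cent_le (s : FFSetup p V H) (hE : IsBlk p V H E) :
    ⁅V, H ⊓ Subgroup.centralizer ((⁅V, E⁆ : Subgroup G) : Set G)⁆ ≤
      V ⊓ Subgroup.centralizer (E : Set G) := by
  obtain ⟨A, A', a, a', P, rfl⟩ := hE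
  exact P.comm_cent_le s

lemma IsBlk.qp_norm (s : FFSetup p V H) (hE : IsBlk p V H E) :
    qp p H ≤ Subgroup.normalizer (E : Set G) := by
  obtain ⟨A, A', a, a', P, rfl⟩ := hE
  exact P.qp_le_normalizer s

lemma IsBlk.dichotomy (s : FFSetup p V H) (hE : IsBlk p V H E) {B : Subgroup G}
    (mB : MinBO p V H B) :
    B ≤ E ∨ B ≤ H ⊓ Subgroup.centralizer ((⁅V, E⁆ : Subgroup G) : Set G) := by
  obtain ⟨A, A', a, a', P, rfl⟩ := hE
  exact P.minbo_dichotomy s mB

lemma IsBlk.sup_eq (s : FFSetup p V H)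
    (hS3 : H = ⨆ A : {A : Subgroup G // A ≤ H ∧ Cfsg.IsBestOffenderOn p V A}, (A : Subgroup G))
    (hE : IsBlk p V H E) :
    E ⊔ (H ⊓ Subgroup.centralizer ((⁅V, E⁆ : Subgroup G) : Set G)) = H := by
  have hEH := hE.le_H
  obtain ⟨A, A', a, a', P, rfl⟩ := hE
  apply le_antisymm (sup_le hEH inf_le_left)
  exact le_of_minbo_le s hS3 (fun B mB => P.minbo_le s mB)

lemma IsBlk.H_norm (s : FFSetup p V H)
    (hS3 : H = ⨆ A : {A : Subgroup G // A ≤ H ∧ Cfsg.IsBestOffenderOn p V A}, (A : Subgroup G))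
    (hE : IsBlk p V H E) : H ≤ Subgroup.normalizer (E : Set G) := by
  intro h hh
  have h1 : h ∈ E ⊔ (H ⊓ Subgroup.centralizer ((⁅V, E⁆ : Subgroup G) : Set G)) := by
    rw [hE.sup_eq s hS3]; exact hh
  have h2 : E ⊔ (H ⊓ Subgroup.centralizer ((⁅V, E⁆ : Subgroup G) : Set G)) ≤
      Subgroup.normalizer (E : Set G) :=
    sup_le Subgroup.le_normalizer ((hE.cent_le s).trans (Subgroup.centralizer_le_normalizer _))
  exact h2 h1

lemma IsBlk.H_norm_U (s : FFSetup p V H)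
    (hS3 : H = ⨆ A : {A : Subgroup G // A ≤ H ∧ Cfsg.IsBestOffenderOn p V A}, (A : Subgroup G))
    (hE : IsBlk p V H E) : H ≤ Subgroup.normalizer ((⁅V, E⁆ : Subgroup G) : Set G) := by
  intro h hh
  exact normalizer_inf_le_normalizer_commutator V E ⟨s.hHV hh, hE.H_norm s hS3 hh⟩

lemma IsBlk.cH_conj (s : FFSetup p V H)
    (hS3 : H = ⨆ A : {A : Subgroup G // A ≤ H ∧ Cfsg.IsBestOffenderOn p V A}, (A : Subgroup G))
    (hE : IsBlk p V H E) {h c : G} (hh : h ∈ H)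
    (hc : c ∈ H ⊓ Subgroup.centralizer ((⁅V, E⁆ : Subgroup G) : Set G)) :
    h * c * h⁻¹ ∈ H ⊓ Subgroup.centralizer ((⁅V, E⁆ : Subgroup G) : Set G) := by
  obtain ⟨hc1, hc2⟩ := Subgroup.mem_inf.mp hc
  refine Subgroup.mem_inf.mpr ⟨H.mul_mem (H.mul_mem hh hc1) (H.inv_mem hh), ?_⟩
  exact conj_mem_of_mem_normalizer'
    (normalizer_le_normalizer_centralizer _ (hE.H_norm_U s hS3 hh)) hc2

/-- the block of a minimal best offender either equals `E` or centralizes `[V, E]` -/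
theorem IsBlk.blk_cases (s : FFSetup p V H)
    (hS3 : H = ⨆ A : {A : Subgroup G // A ≤ H ∧ Cfsg.IsBestOffenderOn p V A}, (A : Subgroup G))
    (hE : IsBlk p V H E) {B : Subgroup G} (mB : MinBO p V H B) :
    ⁅qp p H, B⁆ ⊔ B = E ∨
      ⁅qp p H, B⁆ ⊔ B ≤ H ⊓ Subgroup.centralizer ((⁅V, E⁆ : Subgroup G) : Set G) := by
  rcases hE.dichotomy s mB with hB | hB
  · left
    have hle : ⁅qp p H, B⁆ ⊔ B ≤ E := by
      apply sup_le _ hB
      rw [Subgroup.commutator_le]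
      intro q hq b hb
      rw [commutatorElement_def]
      exact E.mul_mem (conj_mem_of_mem_normalizer' (hE.qp_norm s hq) (hB hb))
        (E.inv_mem (hB hb))
    obtain ⟨φ⟩ := hE.iso s
    obtain ⟨ψ⟩ := (mB.isBlk s).iso s
    apply Subgroup.eq_of_le_of_card_ge hle
    rw [Nat.card_congr φ.toEquiv, Nat.card_congr ψ.toEquiv]
  · right
    apply sup_le _ hB
    rw [Subgroup.commutator_le]
    intro q hq b hb
    rw [commutatorElement_def]
    exact Subgroup.mul_mem _ (hE.cH_conj s hS3 (qp_le H hq) (hB hb))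
      (Subgroup.inv_mem _ (hB hb))

end ff8

section indep
variable {G : Type*} [Group G] {ι : Type*}

/-- abstract direct decomposition of an abelian group along a family of complemented pieces -/
theorem fin_decomp {V : Subgroup G} (hVc : ∀ a ∈ V, ∀ b ∈ V, a * b = b * a)
    (U K : ι → Subgroup G) (hUV : ∀ i, U i ≤ V) (hKV : ∀ i, K i ≤ V)
    (hUK : ∀ i, U i ⊓ K i = ⊥) (hV : ∀ i, V ≤ U i ⊔ K i)
    (hne : ∀ i j, i ≠ j → U j ≤ K i) (S : Finset ι) :
    (⨆ i ∈ S, U i) ⊓ (⨅ i ∈ S, K i) = ⊥ ∧ V ≤ (⨆ i ∈ S, U i) ⊔ (V ⊓ ⨅ i ∈ S, K i) := by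
  classical
  induction S using Finset.induction_on with
  | empty => simp
  | insert i₀ S hi₀ ih =>
    obtain ⟨ih1, ih2⟩ := ih
    rw [Finset.iSup_insert, Finset.iInf_insert]
    have hUS : (⨆ i ∈ S, U i) ≤ V := iSup₂_le (fun i _ => hUV i)
    have hUSK : (⨆ i ∈ S, U i) ≤ K i₀ := by
      apply iSup₂_le
      intro i hi
      apply hne
      rintro rfl
      exact hi₀ hi
    have hU₀K : U i₀ ≤ ⨅ i ∈ S, K i := by
      apply le_iInf₂
      intro i hi
      apply hne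
      rintro rfl
      exact hi₀ hi
    constructor
    · rw [eq_bot_iff]
      intro x hx
      obtain ⟨hx1, hx2⟩ := Subgroup.mem_inf.mp hx
      obtain ⟨hx3, hx4⟩ := Subgroup.mem_inf.mp hx2
      obtain ⟨u, hu, y, hy, rfl⟩ := mem_sup_of_comm
        (fun x hx y hy => hVc x (hUV i₀ hx) y (hUS hy)) hx1
      have hu1 : u ∈ U i₀ ⊓ K i₀ := by
        refine Subgroup.mem_inf.mpr ⟨hu, ?_⟩
        have e : u = (u * y) * y⁻¹ := by group
        rw [e]
        exact Subgroup.mul_mem _ hx3 (Subgroup.inv_mem _ (hUSK hy))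
      rw [hUK i₀, Subgroup.mem_bot] at hu1
      rw [hu1, one_mul] at hx4 ⊢
      rw [← ih1]
      exact Subgroup.mem_inf.mpr ⟨hy, hx4⟩
    · intro v hv
      obtain ⟨y, hy, w, hw, rfl⟩ := mem_sup_of_comm
        (fun x hx y hy => hVc x (hUS hx) y (Subgroup.mem_inf.mp hy).1) (ih2 hv)
      obtain ⟨hw1, hw2⟩ := Subgroup.mem_inf.mp hw
      obtain ⟨u, hu, c, hc, rfl⟩ := mem_sup_of_comm
        (fun x hx y hy => hVc x (hUV i₀ hx) y (hKV i₀ hy)) (hV i₀ hw1)
      have hcS : c ∈ ⨅ i ∈ S, K i := by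
        have e : c = u⁻¹ * (u * c) := by group
        rw [e]
        exact Subgroup.mul_mem _ (Subgroup.inv_mem _ (hU₀K hu)) hw2
      have e : y * (u * c) = (u * y) * c := by
        rw [← mul_assoc, hVc y (hUS hy) u (hUV i₀ hu)]
      rw [e]
      exact Subgroup.mul_mem _
        (Subgroup.mem_sup_left (Subgroup.mul_mem _ (Subgroup.mem_sup_left hu)
          (Subgroup.mem_sup_right hy)))
        (Subgroup.mem_sup_right (Subgroup.mem_inf.mpr ⟨hKV i₀ hc, Subgroup.mem_inf.mpr ⟨hc, hcS⟩⟩))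

end indep

section main
variable {G : Type*} [Group G] [Finite G] {p : ℕ} [hp : Fact p.Prime]
variable {V H : Subgroup G}

/-- KS 9.3.7, for an arbitrary injective indexing of the blocks -/
theorem structure_thm (s : FFSetup p V H)
    (hS3 : H = ⨆ A : {A : Subgroup G // A ≤ H ∧ Cfsg.IsBestOffenderOn p V A}, (A : Subgroup G))
    (hH1 : H ≠ ⊥) {ι : Type*} (E : ι → Subgroup G) (hinj : Function.Injective E)
    (hE : ∀ i, ∃ A, MinBO p V H A ∧ E i = ⁅qp p H, A⁆ ⊔ A)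
    (hsurj : ∀ A, MinBO p V H A → ∃ i, E i = ⁅qp p H, A⁆ ⊔ A) :
    (p = 2 ∨ p = 3) ∧
    (∀ i, H ≤ Subgroup.normalizer ((E i : Subgroup G) : Set G) ∧
      Nonempty (↥(E i) ≃* Matrix.SpecialLinearGroup (Fin 2) (ZMod p)) ∧
      Nat.card ↥(⁅V, E i⁆) = p ^ 2) ∧
    iSupIndep E ∧ (⨆ i, E i) = H ∧
    iSupIndep (fun o : Option ι => o.elim (V ⊓ Subgroup.centralizer (H : Set G))
      (fun i => ⁅V, E i⁆)) ∧
    (V ⊓ Subgroup.centralizer (H : Set G)) ⊔ (⨆ i, ⁅V, E i⁆) = V := by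
  classical
  have hblk : ∀ i, IsBlk p V H (E i) := by
    intro i
    obtain ⟨A, mA, hA⟩ := hE i
    rw [hA]
    exact mA.isBlk s
  -- two different blocks
  have hne : ∀ i j, i ≠ j →
      E j ≤ H ⊓ Subgroup.centralizer ((⁅V, E i⁆ : Subgroup G) : Set G) := by
    intro i j hij
    obtain ⟨B, mB, hB⟩ := hE j
    rcases (hblk i).blk_cases s hS3 mB with h | h
    · exfalso
      apply hij
      apply hinj
      rw [hB, h]
    · rw [hB]; exact h
  have hneU : ∀ i j, i ≠ j → ⁅V, E j⁆ ≤ V ⊓ Subgroup.centralizer ((E i : Subgroup G) : Set G) :=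
    fun i j hij => (Subgroup.commutator_mono le_rfl (hne i j hij)).trans ((hblk i).comm_cent_le s)
  -- the blocks generate `H`
  have hsup : (⨆ i, E i) = H := by
    apply le_antisymm (iSup_le (fun i => (hblk i).le_H))
    apply le_of_minbo_le s hS3
    intro B mB
    obtain ⟨i, hi⟩ := hsurj B mB
    have h1 : B ≤ E i := by rw [hi]; exact le_sup_right
    exact h1.trans (le_iSup E i)
  -- existence of a block
  have hex : ∃ A, MinBO p V H A := by
    by_contra hcon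
    push Not at hcon
    apply hH1
    rw [eq_bot_iff]
    exact le_of_minbo_le s hS3 (fun B mB => absurd mB (hcon B))
  obtain ⟨A₀, mA₀⟩ := hex
  haveI : Finite ι := Finite.of_injective E hinj
  haveI : Fintype ι := Fintype.ofFinite ι
  have hdec := fin_decomp s.V_comm (fun i => ⁅V, E i⁆)
    (fun i => V ⊓ Subgroup.centralizer ((E i : Subgroup G) : Set G))
    (fun i => s.comm_le (hblk i).le_H) (fun i => inf_le_left) (fun i => (hblk i).inf_fix s)
    (fun i => (hblk i).sup_fix s) hneU Finset.univ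
  simp only [Finset.mem_univ, iSup_pos, iInf_pos] at hdec
  obtain ⟨hdec1, hdec2⟩ := hdec
  have hCH : V ⊓ Subgroup.centralizer (H : Set G) ≤
      ⨅ i, V ⊓ Subgroup.centralizer ((E i : Subgroup G) : Set G) := by
    apply le_iInf
    intro i
    exact inf_le_inf_left V (Subgroup.centralizer_le (hblk i).le_H)
  have hCH' : (V ⊓ ⨅ i, V ⊓ Subgroup.centralizer ((E i : Subgroup G) : Set G)) ≤
      V ⊓ Subgroup.centralizer (H : Set G) := by
    intro x hx
    obtain ⟨hx1, hx2⟩ := Subgroup.mem_inf.mp hx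
    refine Subgroup.mem_inf.mpr ⟨hx1, ?_⟩
    have h1 : (⨆ i, E i) ≤ Subgroup.centralizer ({x} : Set G) := by
      apply iSup_le
      intro i
      have h2 := (Subgroup.mem_iInf.mp hx2 i)
      have h3 := (Subgroup.mem_inf.mp h2).2
      intro e he
      rw [Subgroup.mem_centralizer_iff]
      intro y hy
      rw [Set.mem_singleton_iff] at hy
      rw [hy]
      exact (Subgroup.mem_centralizer_iff.mp h3 e he).symm
    rw [hsup] at h1
    rw [Subgroup.mem_centralizer_iff]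
    intro h hh
    have := Subgroup.mem_centralizer_iff.mp (h1 hh) x (Set.mem_singleton x)
    exact this.symm
  refine ⟨(mA₀.isBlk s).prime s, fun i => ⟨(hblk i).H_norm s hS3, (hblk i).iso s,
    (hblk i).card_U s⟩, ?_, hsup, ?_, ?_⟩
  · intro i
    have h1 : (⨆ (j) (_ : j ≠ i), E j) ≤
        H ⊓ Subgroup.centralizer ((⁅V, E i⁆ : Subgroup G) : Set G) :=
      iSup₂_le (fun j hj => hne i j (Ne.symm hj))
    exact Disjoint.mono_right h1 (disjoint_iff.mpr ((hblk i).faithful s))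
  · intro o
    cases o with
    | none =>
      have h1 : (⨆ (j) (_ : j ≠ (none : Option ι)),
          (j.elim (V ⊓ Subgroup.centralizer (H : Set G)) (fun i => ⁅V, E i⁆))) ≤
          ⨆ i, ⁅V, E i⁆ := by
        apply iSup₂_le
        intro j hj
        cases j with
        | none => exact absurd rfl hj
        | some i => exact le_iSup (fun i => ⁅V, E i⁆) i
      apply Disjoint.mono hCH h1
      rw [disjoint_iff, inf_comm]
      exact hdec1
    | some i =>
      have h1 : (⨆ (j) (_ : j ≠ (some i : Option ι)),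
          (j.elim (V ⊓ Subgroup.centralizer (H : Set G)) (fun i => ⁅V, E i⁆))) ≤
          V ⊓ Subgroup.centralizer ((E i : Subgroup G) : Set G) := by
        apply iSup₂_le
        intro j hj
        cases j with
        | none => exact inf_le_inf_left V (Subgroup.centralizer_le (hblk i).le_H)
        | some j =>
          apply hneU i j
          intro h
          apply hj
          rw [h]
      exact Disjoint.mono_right h1 (disjoint_iff.mpr ((hblk i).inf_fix s))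
  · apply le_antisymm
    · exact sup_le inf_le_left (iSup_le (fun i => s.comm_le (hblk i).le_H))
    · rw [sup_comm]
      exact hdec2.trans (sup_le_sup_left hCH' _)

end main

end Cfsg.Agent.Lib.Helper3
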