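import Mathlib
import Cfsg.Prelude.Def_Local
import Cfsg.Agent.Lib.Helper7.PSolvable
import Cfsg.Agent.Lib.Helper3.PComp

set_option autoImplicit false
set_option linter.unusedSectionVars false
set_option linter.style.haveILetI false
open scoped commutatorElement

/-! The dual of `C_G(O_p(G)) ≤ O_p(G)`: in a `p`-solvable group with `O_p(G) = 1` the `p'`-core
contains its centralizer. -/

namespace Cfsg.Agent.Lib.Helper3

open Cfsg.Agent.Lib.Helper1 Cfsg.Agent.Lib.Helper7

section dual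
variable {G : Type*} [Group G] [Finite G] {p : ℕ} [hp : Fact p.Prime]

/-- a nontrivial normal subgroup of a `p`-solvable group contains a nontrivial normal subgroup of
the whole group which is a `p`-group or a `p'`-group -/
theorem exists_normal_le_of_isPSolvable (h : Cfsg.IsPSolvable p G) (N : Subgroup G) [N.Normal]
    (hN : N ≠ ⊥) :
    ∃ M : Subgroup G, M.Normal ∧ M ≠ ⊥ ∧ M ≤ N ∧ (IsPGroup p M ∨ (Nat.card M).Coprime p) := by
  have hpp : p.Prime := hp.out
  obtain ⟨n, H, h0, hlast, hmono, hnorm, hstep⟩ := h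
  by_contra hcon
  have hall : ∀ i : Fin (n + 1), H i ⊓ N = ⊥ := by
    intro i
    induction i using Fin.induction with
    | zero => rw [h0]; exact bot_inf_eq _
    | succ i ih =>
      by_contra hne
      haveI := hnorm i.succ
      haveI := hnorm i.castSucc
      apply hcon
      refine ⟨H i.succ ⊓ N, inferInstance, hne, inf_le_right, ?_⟩
      have hle : H i.castSucc ≤ H i.succ := hmono (Fin.castSucc_lt_succ).le
      have hbot : H i.castSucc ⊓ (H i.succ ⊓ N) = ⊥ := by
        rw [eq_bot_iff, ← ih]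
        exact inf_le_inf_left _ inf_le_right
      have hcard : (H i.castSucc).relIndex (H i.succ ⊓ N) = Nat.card ↥(H i.succ ⊓ N) := by
        rw [← Subgroup.inf_relIndex_right, hbot, Subgroup.relIndex_bot_left]
      have h1 : (H i.castSucc).relIndex ((H i.succ ⊓ N) ⊔ H i.castSucc)
          = (H i.castSucc).relIndex (H i.succ ⊓ N) := Subgroup.relIndex_sup_right _ _
      have h2 := Subgroup.relIndex_mul_relIndex (H i.castSucc) ((H i.succ ⊓ N) ⊔ H i.castSucc)
        (H i.succ) le_sup_right (sup_le inf_le_left hle)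
      have hdvd : Nat.card ↥(H i.succ ⊓ N) ∣ (H i.castSucc).relIndex (H i.succ) := by
        rw [← hcard, ← h1, ← h2]
        exact dvd_mul_right _ _
      rcases hstep i with ⟨m, hm⟩ | hc
      · left
        rw [hm] at hdvd
        obtain ⟨k, _, hk⟩ := (Nat.dvd_prime_pow hpp).mp hdvd
        exact IsPGroup.of_card hk
      · right
        exact Nat.Coprime.coprime_dvd_left hdvd hc
  have := hall (Fin.last n)
  rw [hlast, top_inf_eq] at this
  exact hN this

/-- in a `p`-solvable group with trivial `p`-core, `C_G(O_{p'}(G)) ≤ O_{p'}(G)` -/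
theorem centralizer_pPrimeCore_le_of_psolvable (hsol : Cfsg.IsPSolvable p G)
    (hO : Cfsg.pCore p G = ⊥) :
    Subgroup.centralizer (Cfsg.pPrimeCore p G : Set G) ≤ Cfsg.pPrimeCore p G := by
  have hpp : p.Prime := hp.out
  haveI hQn : (Cfsg.pPrimeCore p G).Normal := pPrimeCore_normal p G
  have hQc : (Nat.card ↥(Cfsg.pPrimeCore p G)).Coprime p := pPrimeCore_coprime p
  by_contra hDQ
  have hsolq : Cfsg.IsPSolvable p (G ⧸ Cfsg.pPrimeCore p G) :=
    isPSolvable_quotient hpp hsol _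
  have hDbar : (Subgroup.centralizer (Cfsg.pPrimeCore p G : Set G)).map
      (QuotientGroup.mk' (Cfsg.pPrimeCore p G)) ≠ ⊥ := by
    rw [Ne, Subgroup.map_eq_bot_iff, QuotientGroup.ker_mk']
    exact hDQ
  haveI hDbn : ((Subgroup.centralizer (Cfsg.pPrimeCore p G : Set G)).map
      (QuotientGroup.mk' (Cfsg.pPrimeCore p G))).Normal :=
    Subgroup.Normal.map inferInstance _ (QuotientGroup.mk'_surjective _)
  obtain ⟨Mb, hMn, hM1, hMD, hM⟩ := exists_normal_le_of_isPSolvable hsolq _ hDbar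
  rcases hM with hMp | hMc
  swap
  · apply hM1
    rw [eq_bot_iff, ← pPrimeCore_quotient_eq_bot p]
    exact le_sSup ⟨hMn, hMc⟩
  -- `D₀ = M ∩ C(Q)` where `M` is the preimage of `Mb`
  obtain ⟨D₀, hD₀⟩ : ∃ D₀ : Subgroup G, D₀ = Mb.comap (QuotientGroup.mk' (Cfsg.pPrimeCore p G)) ⊓
      Subgroup.centralizer (Cfsg.pPrimeCore p G : Set G) := ⟨_, rfl⟩
  haveI hD₀n : D₀.Normal := by
    rw [hD₀]
    haveI := hMn.comap (QuotientGroup.mk' (Cfsg.pPrimeCore p G))
    infer_instance
  have hD₀c : D₀ ≤ Subgroup.centralizer (Cfsg.pPrimeCore p G : Set G) := by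
    rw [hD₀]; exact inf_le_right
  have hD₀M : ∀ x ∈ D₀, QuotientGroup.mk' (Cfsg.pPrimeCore p G) x ∈ Mb := by
    intro x hx
    rw [hD₀] at hx
    exact (Subgroup.mem_inf.mp hx).1
  -- the homomorphism `D₀ → Mb`
  let f : ↥D₀ →* ↥Mb :=
    ((QuotientGroup.mk' (Cfsg.pPrimeCore p G)).comp D₀.subtype).codRestrict Mb
      (fun x => hD₀M x x.2)
  have hker : f.ker ≤ Subgroup.center ↥D₀ := by
    intro x hx
    rw [MonoidHom.mem_ker] at hx
    have h1 : QuotientGroup.mk' (Cfsg.pPrimeCore p G) (x : G) = 1 := congrArg Subtype.val hx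
    have h2 : (x : G) ∈ Cfsg.pPrimeCore p G := (QuotientGroup.eq_one_iff _).mp h1
    rw [Subgroup.mem_center_iff]
    intro y
    apply Subtype.ext
    exact Subgroup.mem_centralizer_iff.mp (hD₀c y.2) _ h2 |>.symm
  haveI : Group.IsNilpotent ↥Mb := hMp.isNilpotent
  haveI hnil : Group.IsNilpotent ↥D₀ := Subgroup.isNilpotent_of_ker_le_center f hker
  -- the normal Sylow `p`-subgroup of `D₀`
  let P : Sylow p ↥D₀ := default
  haveI hPn : (P : Subgroup ↥D₀).Normal := inferInstance
  haveI hPc : (P : Subgroup ↥D₀).Characteristic := Sylow.characteristic_of_normal P hPn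
  have hP₁n : ((P : Subgroup ↥D₀).map D₀.subtype).Normal := inferInstance
  have hP₁p : IsPGroup p ↥((P : Subgroup ↥D₀).map D₀.subtype) := P.2.map _
  have hP₁ : (P : Subgroup ↥D₀).map D₀.subtype ≤ Cfsg.pCore p G := le_pCore _ hP₁n hP₁p
  rw [hO, le_bot_iff, Subgroup.map_eq_bot_iff_of_injective _ D₀.subtype_injective] at hP₁
  have hD₀cop : (Nat.card ↥D₀).Coprime p := by
    have h1 := P.card_eq_multiplicity
    rw [hP₁, Subgroup.card_bot] at h1
    rw [Nat.coprime_comm, Nat.Prime.coprime_iff_not_dvd hpp]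
    intro hdvd
    have h2 : 0 < (Nat.card ↥D₀).factorization p :=
      hpp.factorization_pos_of_dvd Nat.card_pos.ne' hdvd
    have h3 : 1 < p ^ (Nat.card ↥D₀).factorization p :=
      Nat.one_lt_pow h2.ne' hpp.one_lt
    omega
  have hD₀Q : D₀ ≤ Cfsg.pPrimeCore p G := le_sSup ⟨hD₀n, hD₀cop⟩
  -- hence `Mb = 1`
  apply hM1
  rw [eq_bot_iff]
  intro y hy
  obtain ⟨d, hd, rfl⟩ := Subgroup.mem_map.mp (hMD hy)
  have hdD₀ : d ∈ D₀ := by
    rw [hD₀]
    exact Subgroup.mem_inf.mpr ⟨hy, hd⟩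
  rw [Subgroup.mem_bot]
  exact (QuotientGroup.eq_one_iff d).mpr (hD₀Q hdD₀)

end dual

end Cfsg.Agent.Lib.Helper3
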