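import Mathlib
import Cfsg.Prelude.Def_PLocal
import Cfsg.Agent.Lib.Helper3.FF1

set_option autoImplicit false
set_option linter.unusedSectionVars false
set_option linter.style.haveILetI false
set_option linter.unusedSimpArgs false
open scoped commutatorElement

/-! Realization of the action of `G / C_G(V)` on a normal subgroup `V` inside the single group
`V ⋊ G / C_G(V)`, so that results about faithful pairs `(V, H)` of subgroups apply. -/

namespace Cfsg.Agent.Lib.Helper3

section real
variable {G : Type*} [Group G] (V : Subgroup G) [V.Normal]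

lemma centralizer_le_ker_conjNormal :
    Subgroup.centralizer (V : Set G) ≤ (MulAut.conjNormal (H := V)).ker := by
  intro c hc
  rw [MonoidHom.mem_ker]
  ext v
  rw [MulAut.conjNormal_apply]
  have := Subgroup.mem_centralizer_iff.mp hc v v.2
  simp only [MulAut.one_apply]
  rw [← this]; group

/-- the action of `G / C_G(V)` on `V` -/
noncomputable def rPhi : G ⧸ Subgroup.centralizer (V : Set G) →* MulAut ↥V :=
  QuotientGroup.lift (Subgroup.centralizer (V : Set G)) (MulAut.conjNormal (H := V))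
    (centralizer_le_ker_conjNormal V)

/-- the realization group `V ⋊ G / C_G(V)` -/
abbrev RX : Type _ := ↥V ⋊[rPhi V] (G ⧸ Subgroup.centralizer (V : Set G))

instance [Finite G] : Finite (RX V) := Finite.of_equiv _ SemidirectProduct.equivProd.symm

/-- the embedding of `V` -/
noncomputable def rI : ↥V →* RX V := SemidirectProduct.inl

/-- the map of `G`, with kernel `C_G(V)` -/
noncomputable def rPsi : G →* RX V :=
  (SemidirectProduct.inr).comp (QuotientGroup.mk' (Subgroup.centralizer (V : Set G)))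

/-- the image of `V` -/
noncomputable def rV : Subgroup (RX V) := (rI V).range

lemma rI_injective : Function.Injective (rI V) := SemidirectProduct.inl_injective

lemma rPhi_mk (g : G) (v : ↥V) : ((rPhi V (QuotientGroup.mk' _ g) v : ↥V) : G) = g * v * g⁻¹ := by
  unfold rPhi
  rw [QuotientGroup.mk'_apply, QuotientGroup.lift_mk, MulAut.conjNormal_apply]

/-- conjugation in the realization -/
lemma rPsi_conj (g : G) (v : ↥V) :
    rPsi V g * rI V v * (rPsi V g)⁻¹ = rI V ⟨g * v * g⁻¹, ‹V.Normal›.conj_mem v v.2 g⟩ := by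
  unfold rPsi rI
  rw [MonoidHom.comp_apply, ← map_inv, ← SemidirectProduct.inl_aut]
  exact congrArg _ (Subtype.ext (rPhi_mk V g v))

lemma rPsi_ker : (rPsi V).ker = Subgroup.centralizer (V : Set G) := by
  unfold rPsi
  ext g
  rw [MonoidHom.mem_ker, MonoidHom.comp_apply]
  constructor
  · intro h
    have h1 : QuotientGroup.mk' (Subgroup.centralizer (V : Set G)) g = 1 :=
      SemidirectProduct.inr_injective (by rw [h, map_one])
    exact (QuotientGroup.eq_one_iff g).mp h1
  · intro h
    have h1 : QuotientGroup.mk' (Subgroup.centralizer (V : Set G)) g = 1 :=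
      (QuotientGroup.eq_one_iff g).mpr h
    rw [h1, map_one]

lemma rPsi_eq_one_iff {g : G} : rPsi V g = 1 ↔ g ∈ Subgroup.centralizer (V : Set G) := by
  rw [← MonoidHom.mem_ker, rPsi_ker]

lemma mem_rV {x : RX V} : x ∈ rV V ↔ ∃ v : ↥V, rI V v = x := MonoidHom.mem_range

lemma rI_mem_rV (v : ↥V) : rI V v ∈ rV V := ⟨v, rfl⟩

/-- the image of `G` normalizes the image of `V` -/
lemma rPsi_mem_normalizer (g : G) : rPsi V g ∈ Subgroup.normalizer ((rV V : Subgroup (RX V)) : Set (RX V)) := by
  rw [Subgroup.mem_normalizer_iff]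
  intro x
  constructor
  · rintro ⟨v, rfl⟩
    rw [rPsi_conj]; exact rI_mem_rV V _
  · rintro ⟨v, hv⟩
    have h1 := rPsi_conj V g⁻¹ v
    rw [map_inv, inv_inv] at h1
    have : x = (rPsi V g)⁻¹ * rI V v * rPsi V g := by rw [hv]; group
    rw [this, h1]; exact rI_mem_rV V _

lemma map_rPsi_le_normalizer (K : Subgroup G) :
    K.map (rPsi V) ≤ Subgroup.normalizer ((rV V : Subgroup (RX V)) : Set (RX V)) := by
  rintro _ ⟨g, _, rfl⟩
  exact rPsi_mem_normalizer V g

/-- `rPsi g` centralizes `rI v` iff `g` centralizes `v` -/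
lemma rPsi_comm_iff (g : G) (v : ↥V) :
    rI V v * rPsi V g = rPsi V g * rI V v ↔ (v : G) * g = g * v := by
  constructor
  · intro h
    have h1 : rPsi V g * rI V v * (rPsi V g)⁻¹ = rI V v := by rw [← h]; group
    rw [rPsi_conj] at h1
    have h2 := congrArg Subtype.val (rI_injective V h1)
    simp only at h2
    calc (v : G) * g = (g * v * g⁻¹) * g := by rw [h2]
      _ = g * v := by group
  · intro h
    have h2 : g * (v : G) * g⁻¹ = v := by rw [← h]; group
    have h1 := rPsi_conj V g v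
    have e : (⟨g * v * g⁻¹, ‹V.Normal›.conj_mem v v.2 g⟩ : ↥V) = v := Subtype.ext h2
    rw [e] at h1
    calc rI V v * rPsi V g = (rPsi V g * rI V v * (rPsi V g)⁻¹) * rPsi V g := by rw [h1]
      _ = rPsi V g * rI V v := by group

/-- faithfulness: the image of `G` meets the centralizer of the image of `V` trivially -/
lemma map_rPsi_inf_centralizer (K : Subgroup G) :
    K.map (rPsi V) ⊓ Subgroup.centralizer ((rV V : Subgroup (RX V)) : Set (RX V)) = ⊥ := by
  rw [eq_bot_iff]
  intro x hx
  obtain ⟨hx1, hx2⟩ := Subgroup.mem_inf.mp hx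
  obtain ⟨g, _, rfl⟩ := Subgroup.mem_map.mp hx1
  rw [Subgroup.mem_bot, rPsi_eq_one_iff, Subgroup.mem_centralizer_iff]
  intro v hv
  have := Subgroup.mem_centralizer_iff.mp hx2 _ (rI_mem_rV V ⟨v, hv⟩)
  exact (rPsi_comm_iff V g ⟨v, hv⟩).mp this

end real

section card
variable {G : Type*} [Group G] [Finite G]

/-- `|K| = |f(K)| · |K ∩ ker f|` -/
lemma card_map_mul_card_inf_ker {H : Type*} [Group H] (f : G →* H) (K : Subgroup G) :
    Nat.card ↥(K.map f) * Nat.card ↥(K ⊓ f.ker) = Nat.card ↥K := by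
  have h1 := Subgroup.card_mul_index (f.comp K.subtype).ker
  rw [Subgroup.index_ker, MonoidHom.range_comp, Subgroup.range_subtype] at h1
  rw [← h1, mul_comm]
  congr 1
  have e : (f.comp K.subtype).ker = f.ker.subgroupOf K := rfl
  rw [e, inf_comm]
  exact (Nat.card_congr (Subgroup.subgroupOfEquivOfLe (inf_le_right : f.ker ⊓ K ≤ K)).toEquiv).symm.trans
    (by rw [Subgroup.inf_subgroupOf_right])

end card

section real2
variable {G : Type*} [Group G] [Finite G] (V : Subgroup G) [V.Normal] {p : ℕ}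

/-- fixed points in the realization -/
lemma rV_inf_centralizer (K : Subgroup G) :
    rV V ⊓ Subgroup.centralizer ((K.map (rPsi V) : Subgroup (RX V)) : Set (RX V)) =
      ((V ⊓ Subgroup.centralizer (K : Set G)).subgroupOf V).map (rI V) := by
  ext x
  rw [Subgroup.mem_inf, Subgroup.mem_map]
  constructor
  · rintro ⟨⟨v, rfl⟩, hc⟩
    refine ⟨v, ?_, rfl⟩
    rw [Subgroup.mem_subgroupOf]
    refine Subgroup.mem_inf.mpr ⟨v.2, ?_⟩
    rw [Subgroup.mem_centralizer_iff]
    intro g hg
    have := Subgroup.mem_centralizer_iff.mp hc _ (Subgroup.mem_map_of_mem _ hg)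
    exact ((rPsi_comm_iff V g v).mp this.symm).symm
  · rintro ⟨v, hv, rfl⟩
    rw [Subgroup.mem_subgroupOf] at hv
    refine ⟨rI_mem_rV V v, ?_⟩
    rw [Subgroup.mem_centralizer_iff]
    rintro _ ⟨g, hg, rfl⟩
    have := Subgroup.mem_centralizer_iff.mp (Subgroup.mem_inf.mp hv).2 g hg
    exact ((rPsi_comm_iff V g v).mpr this.symm).symm

lemma card_rV_inf_centralizer (K : Subgroup G) :
    Nat.card ↥(rV V ⊓ Subgroup.centralizer ((K.map (rPsi V) : Subgroup (RX V)) : Set (RX V))) =
      Nat.card ↥(V ⊓ Subgroup.centralizer (K : Set G)) := by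
  rw [rV_inf_centralizer, Subgroup.card_map_of_injective (rI_injective V)]
  exact Nat.card_congr (Subgroup.subgroupOfEquivOfLe inf_le_left).toEquiv

lemma card_rV : Nat.card ↥(rV V) = Nat.card ↥V := by
  unfold rV
  exact (Nat.card_congr (MonoidHom.ofInjective (rI_injective V)).toEquiv).symm

lemma card_map_rPsi (K : Subgroup G) :
    Nat.card ↥(K.map (rPsi V)) * Nat.card ↥(K ⊓ Subgroup.centralizer (V : Set G)) =
      Nat.card ↥K := by
  have := card_map_mul_card_inf_ker (rPsi V) K
  rwa [rPsi_ker] at this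

/-- the image of an elementary abelian `V` is elementary abelian -/
lemma rV_elementaryAbelian (hV : Cfsg.IsElementaryAbelian p V) :
    Cfsg.IsElementaryAbelian p (rV V) := by
  refine ⟨⟨⟨?_⟩⟩, ?_⟩
  · rintro ⟨_, ⟨v, rfl⟩⟩ ⟨_, ⟨w, rfl⟩⟩
    apply Subtype.ext
    show rI V v * rI V w = rI V w * rI V v
    rw [← map_mul, ← map_mul, hV.1.is_comm.comm v w]
  · rintro _ ⟨v, rfl⟩
    rw [← map_pow]
    have : v ^ p = 1 := Subtype.ext (by simpa using hV.2 v v.2)
    rw [this, map_one]

/-- subgroups of the image of `A` are images of subgroups of `A` containing `A ∩ C_G(V)` -/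
lemma map_comap_inf (A : Subgroup G) {B' : Subgroup (RX V)} (hB' : B' ≤ A.map (rPsi V)) :
    (A ⊓ B'.comap (rPsi V)).map (rPsi V) = B' := by
  apply le_antisymm
  · rintro _ ⟨g, hg, rfl⟩
    exact (Subgroup.mem_inf.mp hg).2
  · intro x hx
    obtain ⟨g, hg, rfl⟩ := Subgroup.mem_map.mp (hB' hx)
    exact Subgroup.mem_map_of_mem _ (Subgroup.mem_inf.mpr ⟨hg, hx⟩)

lemma comap_inf_centralizer (A : Subgroup G) (B' : Subgroup (RX V)) :
    (A ⊓ B'.comap (rPsi V)) ⊓ Subgroup.centralizer (V : Set G) =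
      A ⊓ Subgroup.centralizer (V : Set G) := by
  apply le_antisymm
  · exact inf_le_inf_right _ inf_le_left
  · intro g hg
    obtain ⟨hg1, hg2⟩ := Subgroup.mem_inf.mp hg
    refine Subgroup.mem_inf.mpr ⟨Subgroup.mem_inf.mpr ⟨hg1, ?_⟩, hg2⟩
    rw [Subgroup.mem_comap, (rPsi_eq_one_iff V).mpr hg2]
    exact Subgroup.one_mem _

/-- best offenders pass to the realization -/
theorem bestOffender_map {A : Subgroup G} (hA : Cfsg.IsBestOffenderOn p V A) :
    Cfsg.IsBestOffenderOn p (rV V) (A.map (rPsi V)) := by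
  obtain ⟨h1, h2, h3⟩ := hA
  refine ⟨?_, ?_, ?_⟩
  · intro B' hB'
    have hB := h1 (A ⊓ B'.comap (rPsi V)) inf_le_left
    have e1 := card_map_rPsi V (A ⊓ B'.comap (rPsi V))
    rw [map_comap_inf V A hB', comap_inf_centralizer] at e1
    have e2 := card_map_rPsi V A
    have e3 := card_rV_inf_centralizer V (A ⊓ B'.comap (rPsi V))
    rw [map_comap_inf V A hB'] at e3
    have e4 := card_rV_inf_centralizer V A
    rw [e3, e4]
    rw [← e1, ← e2] at hB
    have hpos : 0 < Nat.card ↥(A ⊓ Subgroup.centralizer (V : Set G)) := Nat.card_pos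
    have h5 : Nat.card ↥(A ⊓ Subgroup.centralizer (V : Set G)) *
        (Nat.card ↥B' * Nat.card ↥(V ⊓ Subgroup.centralizer
          ((A ⊓ B'.comap (rPsi V) : Subgroup G) : Set G))) ≤
        Nat.card ↥(A ⊓ Subgroup.centralizer (V : Set G)) *
        (Nat.card ↥(A.map (rPsi V)) * Nat.card ↥(V ⊓ Subgroup.centralizer (A : Set G))) := by
      calc _ = Nat.card ↥B' * Nat.card ↥(A ⊓ Subgroup.centralizer (V : Set G)) *
            Nat.card ↥(V ⊓ Subgroup.centralizer
              ((A ⊓ B'.comap (rPsi V) : Subgroup G) : Set G)) := by ring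
        _ ≤ Nat.card ↥(A.map (rPsi V)) * Nat.card ↥(A ⊓ Subgroup.centralizer (V : Set G)) *
            Nat.card ↥(V ⊓ Subgroup.centralizer (A : Set G)) := hB
        _ = _ := by ring
    exact Nat.le_of_mul_le_mul_left h5 hpos
  · rw [← Subgroup.map_commutator]
    have : ⁅A, A⁆ ≤ (rPsi V).ker := by rw [rPsi_ker]; exact h2
    rw [(Subgroup.map_eq_bot_iff _).mpr this]
    exact bot_le
  · rintro _ ⟨a, ha, rfl⟩
    rw [← map_pow, (rPsi_eq_one_iff V).mpr (h3 a ha)]
    exact Subgroup.one_mem _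

end real2

end Cfsg.Agent.Lib.Helper3
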