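import Mathlib
import Cfsg.Agent.Lib.Helper3.Real
import Cfsg.Agent.Lib.Helper3.DualCore
import Cfsg.Agent.Lib.Helper3.Transport

set_option autoImplicit false
set_option linter.unusedSectionVars false
set_option linter.style.haveILetI false
set_option linter.unusedSimpArgs false
open scoped commutatorElement

/-! The failure-of-factorization set-up in the realization `V ⋊ G / C_G(V)` for a `p`-solvable
group `G` with `O_p(G / C_G(V)) = 1`. -/

namespace Cfsg.Agent.Lib.Helper3

open Cfsg.Agent.Lib.Helper1 Cfsg.Agent.Lib.Helper7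

section transport
variable {A B : Type*} [Group A] [Group B] {p : ℕ}

/-- `C(O_{p'}) ≤ O_{p'}` is invariant under isomorphisms -/
lemma centralizer_pPrimeCore_le_of_equiv (e : A ≃* B)
    (h : Subgroup.centralizer (Cfsg.pPrimeCore p A : Set A) ≤ Cfsg.pPrimeCore p A) :
    Subgroup.centralizer (Cfsg.pPrimeCore p B : Set B) ≤ Cfsg.pPrimeCore p B := by
  intro b hb
  have ha : e.symm b ∈ Subgroup.centralizer (Cfsg.pPrimeCore p A : Set A) := by
    rw [Subgroup.mem_centralizer_iff]
    intro x hx
    have hx' : e x ∈ Cfsg.pPrimeCore p B := by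
      rw [← pPrimeCore_map_equiv p e]
      exact Subgroup.mem_map_of_mem _ hx
    have := Subgroup.mem_centralizer_iff.mp hb _ hx'
    apply e.injective
    rw [map_mul, map_mul, MulEquiv.apply_symm_apply]
    exact this
  have h1 := h ha
  rw [← pPrimeCore_map_equiv p e]
  exact ⟨e.symm b, h1, by simp⟩

end transport

section real3
variable {G : Type*} [Group G] [Finite G] (V : Subgroup G) [V.Normal] {p : ℕ} [hp : Fact p.Prime]

/-- the `FFSetup` in the realization -/
theorem ffsetup_real (hV : Cfsg.IsElementaryAbelian p V) (J : Subgroup G) [hJ : J.Normal]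
    (hsol : Cfsg.IsPSolvable p G)
    (hO : Cfsg.pCore p (G ⧸ Subgroup.centralizer (V : Set G)) = ⊥) :
    FFSetup p (rV V) (J.map (rPsi V)) := by
  have hpp : p.Prime := hp.out
  refine ⟨rV_elementaryAbelian V hV, map_rPsi_le_normalizer V J, map_rPsi_inf_centralizer V J, ?_⟩
  -- work in `G / C`
  obtain ⟨Hb, hHb⟩ : ∃ Hb : Subgroup (G ⧸ Subgroup.centralizer (V : Set G)),
      Hb = J.map (QuotientGroup.mk' (Subgroup.centralizer (V : Set G))) := ⟨_, rfl⟩
  haveI hHbn : Hb.Normal := by
    rw [hHb]
    exact Subgroup.Normal.map hJ _ (QuotientGroup.mk'_surjective _)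
  have hsolq : Cfsg.IsPSolvable p (G ⧸ Subgroup.centralizer (V : Set G)) :=
    isPSolvable_quotient hpp hsol _
  have hsolH : Cfsg.IsPSolvable p ↥Hb := isPSolvable_subgroup hpp hsolq Hb
  have hOH : Cfsg.pCore p ↥Hb = ⊥ := by
    have hn : ((Cfsg.pCore p ↥Hb).map Hb.subtype).Normal := inferInstance
    have hpg : IsPGroup p ↥((Cfsg.pCore p ↥Hb).map Hb.subtype) := (pCore_isPGroup).map _
    have h1 : (Cfsg.pCore p ↥Hb).map Hb.subtype ≤
        Cfsg.pCore p (G ⧸ Subgroup.centralizer (V : Set G)) := le_pCore _ hn hpg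
    rw [hO, le_bot_iff] at h1
    exact (Subgroup.map_eq_bot_iff_of_injective _ Hb.subtype_injective).mp h1
  have hS1 := centralizer_pPrimeCore_le_of_psolvable hsolH hOH
  -- transport along `Hb ≃ Hb.map inr`
  have hmap : J.map (rPsi V) = Hb.map (SemidirectProduct.inr) := by
    rw [hHb, Subgroup.map_map]
    rfl
  rw [hmap]
  exact centralizer_pPrimeCore_le_of_equiv
    (Hb.equivMapOfInjective _ SemidirectProduct.inr_injective) hS1

end real3

end Cfsg.Agent.Lib.Helper3
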