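import Mathlib
import Cfsg.Agent.Lib.Helper3.Real2
import Cfsg.Agent.Lib.Helper3.FF8
import Cfsg.Agent.Lib.Helper2.EA2
import Cfsg.Agent.S0606
import Cfsg.Agent.S0602

set_option autoImplicit false
set_option linter.unusedSectionVars false
set_option linter.style.haveILetI false
set_option linter.unusedSimpArgs false
open scoped commutatorElement

/-! Kurzweil--Stellmacher 9.3.9: `[Ω₁(Z(J(C_G(V)))), J(G)] ≤ V`. -/

namespace Cfsg.Agent.Lib.Helper3

open Cfsg.Agent.Lib.Helper2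

section tf3
variable {G : Type*} [Group G] [Finite G] {p : ℕ} [hp : Fact p.Prime]

/-- the product formula -/
lemma card_sup_mul_card_inf (H K : Subgroup G) [K.Normal] :
    Nat.card ↥(H ⊔ K) * Nat.card ↥(H ⊓ K) = Nat.card ↥H * Nat.card ↥K := by
  have h1 := card_eq_card_mul_relIndex (le_sup_right : K ≤ H ⊔ K)
  have h2 : K.relIndex (H ⊔ K) = K.relIndex H := Subgroup.relIndex_sup_right H K
  have h3 := card_eq_card_mul_relIndex (inf_le_left : H ⊓ K ≤ H)
  have h4 : (H ⊓ K).relIndex H = K.relIndex H := by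
    rw [inf_comm]; exact Subgroup.inf_relIndex_right K H
  rw [h1, h2, h3, h4]; ring

omit [Finite G] hp in
/-- `Ω₁` of a commutative subgroup is elementary abelian and contained in it -/
lemma omegaOne_of_comm {H : Subgroup G} (hH : ∀ x ∈ H, ∀ y ∈ H, x * y = y * x) :
    Cfsg.IsElementaryAbelian p (Cfsg.omegaOne p H) ∧ Cfsg.omegaOne p H ≤ H := by
  let T : Subgroup G :=
    { carrier := {x | x ∈ H ∧ x ^ p = 1}
      one_mem' := ⟨H.one_mem, one_pow p⟩
      mul_mem' := by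
        rintro x y ⟨hx, hxp⟩ ⟨hy, hyp⟩
        refine ⟨H.mul_mem hx hy, ?_⟩
        rw [(show Commute x y from hH x hx y hy).mul_pow, hxp, hyp, one_mul]
      inv_mem' := by
        rintro x ⟨hx, hxp⟩
        exact ⟨H.inv_mem hx, by rw [inv_pow, hxp, inv_one]⟩ }
  have hle : Cfsg.omegaOne p H ≤ T := by
    unfold Cfsg.omegaOne
    rw [Subgroup.closure_le]
    intro x hx
    exact hx
  refine ⟨(isElementaryAbelian_iff p _).mpr ⟨fun x hx y hy => hH x (hle hx).1 y (hle hy).1,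
    fun a ha => (hle ha).2⟩, fun x hx => (hle hx).1⟩

/-- the set of elements `g` with `⁅w, g⁆ ∈ V`, for normal `V` -/
def commStab (V : Subgroup G) [hV : V.Normal] (w : G) : Subgroup G where
  carrier := {g | ⁅w, g⁆ ∈ V}
  one_mem' := by
    show ⁅w, (1 : G)⁆ ∈ V
    rw [commutatorElement_one_right]; exact V.one_mem
  mul_mem' := by
    intro g h hg hh
    show ⁅w, g * h⁆ ∈ V
    have e : ⁅w, g * h⁆ = ⁅w, g⁆ * (g * ⁅w, h⁆ * g⁻¹) := by
      simp only [commutatorElement_def]; group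
    rw [e]
    exact V.mul_mem hg (hV.conj_mem _ hh g)
  inv_mem' := by
    intro g hg
    show ⁅w, g⁻¹⁆ ∈ V
    have e : ⁅w, g⁻¹⁆ = g⁻¹ * (⁅w, g⁆)⁻¹ * g⁻¹⁻¹ := by
      simp only [commutatorElement_def]; group
    rw [e]
    exact hV.conj_mem _ (V.inv_mem hg) g⁻¹

/-- KS 9.3.9 -/
theorem omega_center_thompson_comm_le (hsep : Cfsg.IsPSolvable p G) (V : Subgroup G) [hVn : V.Normal]
    (hV : Cfsg.IsElementaryAbelian p V)
    (hO : Cfsg.pCore p (G ⧸ Subgroup.centralizer (V : Set G)) = ⊥) :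
    ⁅Cfsg.omegaOne p (Cfsg.centerThompsonOf p (Subgroup.centralizer (V : Set G))),
      Cfsg.thompsonSubgroup p G⁆ ≤ V := by
  have hpp : p.Prime := hp.out
  have hVea := (isElementaryAbelian_iff p V).mp hV
  -- abbreviations
  obtain ⟨C, hC⟩ : ∃ C : Subgroup G, C = Subgroup.centralizer (V : Set G) := ⟨_, rfl⟩
  rw [← hC]
  have hVC : V ≤ C := by
    rw [hC]
    intro v hv
    rw [Subgroup.mem_centralizer_iff]
    intro u hu
    exact hVea.1 u hu v hv
  obtain ⟨W, hW⟩ : ∃ W : Subgroup G, W = Cfsg.omegaOne p (Cfsg.centerThompsonOf p C) := ⟨_, rfl⟩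
  rw [← hW]
  -- `W` is elementary abelian and centralizes `J(C)`
  have hZcomm : ∀ x ∈ Cfsg.centerThompsonOf p C, ∀ y ∈ Cfsg.centerThompsonOf p C,
      x * y = y * x := by
    intro x hx y hy
    unfold Cfsg.centerThompsonOf at hx hy
    exact Subgroup.mem_centralizer_iff.mp (Subgroup.mem_inf.mp hy).2 x (Subgroup.mem_inf.mp hx).1
  obtain ⟨hWea, hWle⟩ := omegaOne_of_comm (p := p) hZcomm
  rw [← hW] at hWea hWle
  have hWJ : W ≤ Subgroup.centralizer (Cfsg.thompsonSubgroupOf p C : Set G) := by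
    refine hWle.trans ?_
    unfold Cfsg.centerThompsonOf
    exact inf_le_right
  -- reduce to a single `A`
  haveI hJc : (Cfsg.thompsonSubgroup p G).Characteristic := (Cfsg.Agent.S0602.result (p := p)).1
  haveI hJn : (Cfsg.thompsonSubgroup p G).Normal := inferInstance
  rw [Subgroup.commutator_le]
  intro w hw g hg
  suffices h : Cfsg.thompsonSubgroup p G ≤ commStab V w from h hg
  unfold Cfsg.thompsonSubgroup
  apply sSup_le
  intro A hA a ha
  show ⁅w, a⁆ ∈ V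
  have hAea := (isElementaryAbelian_iff p A).mp hA.1
  -- elements of max elementary abelian subgroups of `G` inside `C` commute with `W`
  have key : ∀ B : Subgroup G, B ∈ Cfsg.maxElementaryAbelianSubgroups p G → B ≤ C →
      ∀ b ∈ B, b * w = w * b := by
    intro B hB hBC b hb
    have h1 : B ≤ Cfsg.thompsonSubgroupOf p C := le_thompsonSubgroupOf hB hBC
    exact Subgroup.mem_centralizer_iff.mp (hWJ hw) b (h1 hb)
  by_cases hAC : A ≤ C
  · have := key A hA hAC a ha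
    have h1 : ⁅w, a⁆ = 1 := commutatorElement_eq_one_iff_mul_comm.mpr this.symm
    rw [h1]; exact V.one_mem
  -- the realization
  have hbo : Cfsg.IsBestOffenderOn p V A := Cfsg.Agent.S0606.result V hV A hA
  have s := ffsetup_real V hV (Cfsg.thompsonSubgroup p G) hsep hO
  have hAJ : A ≤ Cfsg.thompsonSubgroup p G := le_sSup hA
  have hbo' := bestOffender_map V hbo
  have hA'ne : A.map (rPsi V) ≠ ⊥ := by
    intro h
    apply hAC
    rw [hC, ← rPsi_ker V]
    exact (Subgroup.map_eq_bot_iff _).mp h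
  have e1 := bo_card_eq s (Nat.card ↥(A.map (rPsi V))) (A.map (rPsi V)) rfl
    (Subgroup.map_mono hAJ) hbo' hA'ne
  rw [card_rV_inf_centralizer, card_rV] at e1
  have e2 : Nat.card ↥(A.map (rPsi V)) * Nat.card ↥(A ⊓ C) = Nat.card ↥A := by
    rw [hC]; exact card_map_rPsi V A
  -- `A ∩ V = C_V(A)`
  have hAV : A ⊓ V = V ⊓ Subgroup.centralizer (A : Set G) := by
    apply le_antisymm
    · intro x hx
      obtain ⟨hx1, hx2⟩ := Subgroup.mem_inf.mp hx
      refine Subgroup.mem_inf.mpr ⟨hx2, ?_⟩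
      rw [Subgroup.mem_centralizer_iff]
      intro y hy
      exact hAea.1 y hy x hx1
    · intro x hx
      obtain ⟨hx1, hx2⟩ := Subgroup.mem_inf.mp hx
      refine Subgroup.mem_inf.mpr ⟨?_, hx1⟩
      exact mem_of_mem_max_of_commute hA (hVea.2 x hx1)
        (fun y hy => Subgroup.mem_centralizer_iff.mp hx2 y hy)
  -- `B = (A ∩ C) V`
  have hBea : Cfsg.IsElementaryAbelian p ((A ⊓ C) ⊔ V) := by
    apply ea_sup (ea_mono hA.1 inf_le_left) hV
    intro x hx v hv
    have hxC := (Subgroup.mem_inf.mp hx).2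
    rw [hC] at hxC
    exact (Subgroup.mem_centralizer_iff.mp hxC v hv).symm
  have hBcard : Nat.card ↥((A ⊓ C) ⊔ V) = Nat.card ↥A := by
    have h1 := card_sup_mul_card_inf (A ⊓ C) V
    have h2 : (A ⊓ C) ⊓ V = V ⊓ Subgroup.centralizer (A : Set G) := by
      rw [inf_assoc, inf_eq_right.mpr hVC, hAV]
    rw [h2] at h1
    have hpos : 0 < Nat.card ↥(V ⊓ Subgroup.centralizer (A : Set G)) := Nat.card_pos
    have h3 : Nat.card ↥((A ⊓ C) ⊔ V) * Nat.card ↥(V ⊓ Subgroup.centralizer (A : Set G)) =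
        Nat.card ↥A * Nat.card ↥(V ⊓ Subgroup.centralizer (A : Set G)) := by
      rw [h1, ← e2]
      calc Nat.card ↥(A ⊓ C) * Nat.card ↥V
          = Nat.card ↥(A ⊓ C) * (Nat.card ↥(A.map (rPsi V)) *
              Nat.card ↥(V ⊓ Subgroup.centralizer (A : Set G))) := by rw [e1]
        _ = _ := by ring
    exact Nat.eq_of_mul_eq_mul_right hpos h3
  have hBmax : ((A ⊓ C) ⊔ V) ∈ Cfsg.maxElementaryAbelianSubgroups p G := by
    refine ⟨hBea, fun B' hB' => ?_⟩
    rw [hBcard]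
    exact hA.2 B' hB'
  have hBC : (A ⊓ C) ⊔ V ≤ C := sup_le inf_le_right hVC
  -- `W ≤ B`
  have hWB : W ≤ (A ⊓ C) ⊔ V := by
    intro x hx
    refine mem_of_mem_max_of_commute hBmax (hWea.2 x hx) (fun b hb => ?_)
    have h1 : (A ⊓ C) ⊔ V ≤ Cfsg.thompsonSubgroupOf p C := le_thompsonSubgroupOf hBmax hBC
    exact Subgroup.mem_centralizer_iff.mp (hWJ hx) b (h1 hb)
  -- conclusion
  have hcomm : ∀ x ∈ A ⊓ C, ∀ y ∈ V, x * y = y * x := by
    intro x hx v hv
    have hxC := (Subgroup.mem_inf.mp hx).2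
    rw [hC] at hxC
    exact (Subgroup.mem_centralizer_iff.mp hxC v hv).symm
  obtain ⟨a₀, ha₀, v, hv, rfl⟩ := mem_sup_of_comm hcomm (hWB hw)
  have ha₀A : a₀ ∈ A := (Subgroup.mem_inf.mp ha₀).1
  have hc : a₀ * a = a * a₀ := hAea.1 a₀ ha₀A a ha
  have e : ⁅a₀ * v, a⁆ = a₀ * (v * (a * v⁻¹ * a⁻¹)) * a₀⁻¹ := by
    have hc' : a₀⁻¹ * a⁻¹ = a⁻¹ * a₀⁻¹ := by
      calc a₀⁻¹ * a⁻¹ = (a * a₀)⁻¹ := by group
        _ = (a₀ * a)⁻¹ := by rw [hc]
        _ = a⁻¹ * a₀⁻¹ := by group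
    calc ⁅a₀ * v, a⁆ = a₀ * v * a * v⁻¹ * (a₀⁻¹ * a⁻¹) := by
          simp only [commutatorElement_def]; group
      _ = a₀ * v * a * v⁻¹ * (a⁻¹ * a₀⁻¹) := by rw [hc']
      _ = a₀ * (v * (a * v⁻¹ * a⁻¹)) * a₀⁻¹ := by group
  rw [e]
  exact hVn.conj_mem _ (V.mul_mem hv (hVn.conj_mem _ (V.inv_mem hv) a)) a₀

end tf3

end Cfsg.Agent.Lib.Helper3
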