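import Mathlib
import Cfsg.Prelude.Def_LocalEven
import Cfsg.Agent.Lib.Helper3.Sections
import Cfsg.Agent.Lib.Helper3.TF3

set_option autoImplicit false
set_option linter.unusedSectionVars false
set_option linter.style.haveILetI false
open scoped commutatorElement

/-! A normal four-subgroup on which the group induces `S₃` gives a section `S₄`. -/

namespace Cfsg.Agent.Lib.Helper3

universe u v w

lemma involves_trans {H : Type u} [Group H] {X : Type v} [Group X] {G : Type w} [Group G]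
    (h1 : Cfsg.Involves H X) (h2 : Cfsg.Involves X G) : Cfsg.Involves H G := by
  obtain ⟨K, R, hn, ⟨e⟩⟩ := h1
  haveI := hn
  exact involves_of_equiv e (involves_quotient (involves_subgroup h2 K) _)

theorem involves_s4_of_four {Y : Type u} [Group Y] [Finite Y] (U : Subgroup Y) [hUn : U.Normal]
    (hU : Nat.card U = 4) (hidx : (Subgroup.centralizer (U : Set Y)).index = 6) :
    Cfsg.Involves (Equiv.Perm (Fin 4)) Y := by
  classical
  haveI : Fact (Nat.Prime 3) := ⟨Nat.prime_three⟩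
  haveI : Fact (Nat.Prime 2) := ⟨Nat.prime_two⟩
  obtain ⟨C, hC⟩ : ∃ C : Subgroup Y, C = Subgroup.centralizer (U : Set Y) := ⟨_, rfl⟩
  haveI hCn : C.Normal := by rw [hC]; infer_instance
  have hCidx : C.index = 6 := by rw [hC]; exact hidx
  have hU2 : IsPGroup 2 U := IsPGroup.of_card (n := 2) (by rw [hU]; norm_num)
  obtain ⟨D⟩ : Nonempty (Sylow 3 Y) := inferInstance
  have hπ : Function.Surjective (QuotientGroup.mk' C) := QuotientGroup.mk'_surjective C
  have hcardq : Nat.card (Y ⧸ C) = 6 := by rw [← Subgroup.index_eq_card]; exact hCidx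
  obtain ⟨Db, hDb⟩ : ∃ Db : Sylow 3 (Y ⧸ C),
      (Db : Subgroup (Y ⧸ C)) = (D : Subgroup Y).map (QuotientGroup.mk' C) :=
    ⟨D.mapSurjective hπ, rfl⟩
  have hDb3 : Nat.card (Db : Subgroup (Y ⧸ C)) = 3 := by
    obtain ⟨k, hk⟩ := IsPGroup.iff_card.mp Db.isPGroup'
    have h1 : 3 ∣ Nat.card (Db : Subgroup (Y ⧸ C)) :=
      Db.dvd_card_of_dvd_card (by rw [hcardq]; norm_num)
    have h2 : Nat.card (Db : Subgroup (Y ⧸ C)) ∣ 6 :=
      hcardq ▸ Subgroup.card_subgroup_dvd_card _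
    rw [hk] at h1 h2 ⊢
    have hk1 : k ≠ 0 := by rintro rfl; norm_num at h1
    have hk2 : k < 2 := by
      by_contra hcon
      push Not at hcon
      have : 3 ^ 2 ∣ 6 := (pow_dvd_pow 3 hcon).trans h2
      norm_num at this
    have : k = 1 := by omega
    rw [this, pow_one]
  have hDbidx : (Db : Subgroup (Y ⧸ C)).index = 2 := by
    have := Subgroup.card_mul_index (Db : Subgroup (Y ⧸ C))
    rw [hDb3, hcardq] at this
    omega
  haveI hDbn : (Db : Subgroup (Y ⧸ C)).Normal := Subgroup.normal_of_index_eq_two hDbidx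
  obtain ⟨M, hM⟩ : ∃ M : Subgroup Y, M = (Db : Subgroup (Y ⧸ C)).comap (QuotientGroup.mk' C) :=
    ⟨_, rfl⟩
  haveI hMn : M.Normal := by rw [hM]; exact hDbn.comap _
  have hMeq : M = (D : Subgroup Y) ⊔ C := by
    rw [hM, hDb, Subgroup.comap_map_eq, QuotientGroup.ker_mk']
  have hDM : (D : Subgroup Y) ≤ M := by rw [hMeq]; exact le_sup_left
  have hFM := Sylow.normalizer_sup_eq_top' D hDM
  obtain ⟨F, hF⟩ : ∃ F : Subgroup Y, F = Subgroup.normalizer ((D : Subgroup Y) : Set Y) := ⟨_, rfl⟩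
  have hFC : F ⊔ C = ⊤ := by
    rw [eq_top_iff, ← hFM, hMeq, hF]
    exact sup_le le_sup_left (sup_le (Subgroup.le_normalizer.trans le_sup_left) le_sup_right)
  have hDC : ¬ (D : Subgroup Y) ≤ C := by
    intro hle
    have : (Db : Subgroup (Y ⧸ C)) = ⊥ := by
      rw [hDb, eq_bot_iff]
      rintro _ ⟨x, hx, rfl⟩
      exact Subgroup.mem_bot.mpr ((QuotientGroup.eq_one_iff x).mpr (hle hx))
    rw [this, Subgroup.card_bot] at hDb3
    omega
  obtain ⟨d, hdD, hdC⟩ := SetLike.not_le_iff_exists.mp hDC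
  -- fixed points of `d` on `U`
  obtain ⟨W, hW⟩ : ∃ W : Subgroup Y, W = U ⊓ Subgroup.centralizer ({d} : Set Y) := ⟨_, rfl⟩
  have hWbot : W = ⊥ := by
    have hT3 : IsPGroup 3 ↥(Subgroup.zpowers d) :=
      D.isPGroup'.to_le (Subgroup.zpowers_le.mpr hdD)
    let φ : ↥(Subgroup.zpowers d) →* MulAut ↥U :=
      (MulAut.conjNormal (H := U)).comp (Subgroup.zpowers d).subtype
    letI : MulAction ↥(Subgroup.zpowers d) ↥U := MulAction.compHom ↥U φ
    have hmod := IsPGroup.card_modEq_card_fixedPoints (p := 3) hT3 ↥U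
    have hsmul : ∀ (t : ↥(Subgroup.zpowers d)) (u : ↥U),
        ((t • u : ↥U) : Y) = (t : Y) * (u : Y) * (t : Y)⁻¹ := by
      intro t u
      show ((MulAut.conjNormal ((t : Y)) u : ↥U) : Y) = _
      rw [MulAut.conjNormal_apply]
    have hfix : (MulAction.fixedPoints ↥(Subgroup.zpowers d) ↥U : Set ↥U) =
        ((W.subgroupOf U : Subgroup ↥U) : Set ↥U) := by
      ext u
      rw [MulAction.mem_fixedPoints, SetLike.mem_coe, Subgroup.mem_subgroupOf, hW,
        Subgroup.mem_inf]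
      constructor
      · intro h
        refine ⟨u.2, ?_⟩
        rw [Subgroup.mem_centralizer_iff]
        intro t ht
        rw [Set.mem_singleton_iff] at ht
        subst ht
        have h1 := h ⟨t, Subgroup.mem_zpowers t⟩
        have h2 : (t : Y) * (u : Y) * (t : Y)⁻¹ = (u : Y) := by
          rw [← hsmul ⟨t, Subgroup.mem_zpowers t⟩ u, h1]
        calc t * (u : Y) = (t * (u : Y) * t⁻¹) * t := by group
          _ = (u : Y) * t := by rw [h2]
      · rintro ⟨-, h⟩ t
        apply Subtype.ext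
        rw [hsmul]
        obtain ⟨k, hk⟩ := Subgroup.mem_zpowers_iff.mp t.2
        have hc : Commute d (u : Y) :=
          Subgroup.mem_centralizer_iff.mp h d (Set.mem_singleton d)
        have hc' : Commute (t : Y) (u : Y) := by rw [← hk]; exact hc.zpow_left k
        rw [hc'.eq, mul_inv_cancel_right]
    have hcardfix : Nat.card ↥(MulAction.fixedPoints ↥(Subgroup.zpowers d) ↥U) =
        Nat.card ↥(W.subgroupOf U) := Nat.card_congr (Equiv.setCongr hfix)
    rw [hcardfix, hU] at hmod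
    have hdvd : Nat.card ↥(W.subgroupOf U) ∣ 4 := hU ▸ Subgroup.card_subgroup_dvd_card _
    have hne4 : Nat.card ↥(W.subgroupOf U) ≠ 4 := by
      intro h4
      have htop : W.subgroupOf U = ⊤ := Subgroup.eq_top_of_card_eq _ (by rw [h4, hU])
      have hUW : U ≤ W := Subgroup.subgroupOf_eq_top.mp htop
      apply hdC
      rw [hC, Subgroup.mem_centralizer_iff]
      intro u hu
      have h1 := hUW hu
      rw [hW] at h1
      exact (Subgroup.mem_centralizer_iff.mp (Subgroup.mem_inf.mp h1).2 d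
        (Set.mem_singleton d)).symm
    have hle4 : Nat.card ↥(W.subgroupOf U) ≤ 4 := Nat.le_of_dvd (by norm_num) hdvd
    have hpos : 0 < Nat.card ↥(W.subgroupOf U) := Nat.card_pos
    have h1 : Nat.card ↥(W.subgroupOf U) = 1 := by
      have hmod' : 4 % 3 = Nat.card ↥(W.subgroupOf U) % 3 := hmod
      interval_cases (Nat.card ↥(W.subgroupOf U)) <;> simp_all
    have h2 : W.subgroupOf U = ⊥ := Subgroup.card_eq_one.mp h1
    have hWU : W ≤ U := by rw [hW]; exact inf_le_left
    rw [eq_bot_iff]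
    intro x hx
    have : (⟨x, hWU hx⟩ : ↥U) ∈ W.subgroupOf U := by
      rw [Subgroup.mem_subgroupOf]; exact hx
    rw [h2, Subgroup.mem_bot] at this
    exact Subgroup.mem_bot.mpr (congrArg Subtype.val this)
  -- `F ∩ U = 1`
  have hFU : U ⊓ F = ⊥ := by
    rw [eq_bot_iff]
    intro x hx
    obtain ⟨hxU, hxF⟩ := Subgroup.mem_inf.mp hx
    rw [hF] at hxF
    have h1 : x * d * x⁻¹ * d⁻¹ ∈ (D : Subgroup Y) :=
      Subgroup.mul_mem _ ((Subgroup.mem_normalizer_iff.mp hxF d).mp hdD) (Subgroup.inv_mem _ hdD)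
    have h2 : x * d * x⁻¹ * d⁻¹ ∈ U := by
      have e : x * d * x⁻¹ * d⁻¹ = x * (d * x⁻¹ * d⁻¹) := by group
      rw [e]
      exact U.mul_mem hxU (hUn.conj_mem _ (U.inv_mem hxU) d)
    have hdisj : Disjoint (D : Subgroup Y) U :=
      IsPGroup.disjoint_of_ne 3 2 (by norm_num) _ _ D.isPGroup' hU2
    have h3 : x * d * x⁻¹ * d⁻¹ = 1 := by
      have := (Subgroup.disjoint_def.mp hdisj) h1 h2
      exact this
    have h4 : x ∈ W := by
      rw [hW]
      refine Subgroup.mem_inf.mpr ⟨hxU, ?_⟩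
      rw [Subgroup.mem_centralizer_iff]
      intro t ht
      rw [Set.mem_singleton_iff] at ht
      subst ht
      calc t * x = (x * t * x⁻¹ * t⁻¹)⁻¹ * (x * t) := by group
        _ = x * t := by rw [h3, inv_one, one_mul]
    rw [hWbot] at h4
    exact h4
  -- counting
  have hcardK : Nat.card ↥(F ⊔ U) = Nat.card ↥F * 4 := by
    have := card_sup_mul_card_inf F U
    rw [inf_comm, hFU, Subgroup.card_bot, mul_one, hU] at this
    exact this
  have hcardF : Nat.card ↥F = 6 * Nat.card ↥(F ⊓ C) := by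
    have h1 := card_eq_card_mul_relIndex (inf_le_left : F ⊓ C ≤ F)
    have h2 : (F ⊓ C).relIndex F = C.relIndex F := Subgroup.inf_relIndex_left F C
    have h3 : C.relIndex (F ⊔ C) = C.relIndex F := Subgroup.relIndex_sup_right F C
    rw [hFC, Subgroup.relIndex_top_right, hCidx] at h3
    rw [h2, ← h3] at h1
    rw [h1]; ring
  obtain ⟨K, hK⟩ : ∃ K : Subgroup Y, K = F ⊔ U := ⟨_, rfl⟩
  have hFK : F ≤ K := by rw [hK]; exact le_sup_left
  have hUK : U ≤ K := by rw [hK]; exact le_sup_right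
  have hidx4 : (F.subgroupOf K).index = 4 := by
    have h1 := card_eq_card_mul_relIndex (le_sup_left : F ≤ F ⊔ U)
    rw [hcardK] at h1
    have hpos : 0 < Nat.card ↥F := Nat.card_pos
    have : F.relIndex (F ⊔ U) = 4 := by
      exact (Nat.eq_of_mul_eq_mul_left hpos h1).symm
    rw [hK]
    exact this
  have e : (↥K ⧸ F.subgroupOf K) ≃ Fin 4 :=
    Finite.equivFinOfCardEq (by rw [← Subgroup.index_eq_card]; exact hidx4)
  let φ₀ : ↥K →* Equiv.Perm (↥K ⧸ F.subgroupOf K) :=
    MulAction.toPermHom ↥K (↥K ⧸ F.subgroupOf K)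
  let ψ : ↥K →* Equiv.Perm (Fin 4) := (e.permCongrHom.toMonoidHom).comp φ₀
  have hker : ψ.ker = (F.subgroupOf K).normalCore := by
    rw [Subgroup.normalCore_eq_ker]
    ext x
    rw [MonoidHom.mem_ker, MonoidHom.mem_ker]
    show e.permCongrHom (φ₀ x) = 1 ↔ φ₀ x = 1
    constructor
    · intro h
      have : e.permCongrHom (φ₀ x) = e.permCongrHom 1 := by rw [h, map_one]
      exact e.permCongrHom.injective this
    · intro h
      rw [h, map_one]
  have hkerle : ψ.ker ≤ (F ⊓ C).subgroupOf K := by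
    intro x hx
    rw [hker] at hx
    have hxF : x ∈ F.subgroupOf K := Subgroup.normalCore_le _ hx
    rw [Subgroup.mem_subgroupOf] at hxF ⊢
    refine Subgroup.mem_inf.mpr ⟨hxF, ?_⟩
    rw [hC, Subgroup.mem_centralizer_iff]
    intro u hu
    have hn : ((F.subgroupOf K).normalCore).Normal := Subgroup.normalCore_normal _
    have h1 : (⟨u, hUK hu⟩ : ↥K) * x⁻¹ * (⟨u, hUK hu⟩ : ↥K)⁻¹ ∈ (F.subgroupOf K).normalCore :=
      hn.conj_mem _ (Subgroup.inv_mem _ hx) _
    have h2 : x * ((⟨u, hUK hu⟩ : ↥K) * x⁻¹ * (⟨u, hUK hu⟩ : ↥K)⁻¹) ∈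
        (F.subgroupOf K).normalCore := Subgroup.mul_mem _ hx h1
    have h3 := Subgroup.normalCore_le _ h2
    rw [Subgroup.mem_subgroupOf] at h3
    have h3' : (x : Y) * (u * (x : Y)⁻¹ * u⁻¹) ∈ F := by simpa using h3
    have h4 : (x : Y) * (u * (x : Y)⁻¹ * u⁻¹) ∈ U := by
      have e' : (x : Y) * (u * (x : Y)⁻¹ * u⁻¹) = ((x : Y) * u * (x : Y)⁻¹) * u⁻¹ := by group
      rw [e']
      exact U.mul_mem (hUn.conj_mem u hu _) (U.inv_mem hu)
    have h5 : (x : Y) * (u * (x : Y)⁻¹ * u⁻¹) ∈ U ⊓ F := Subgroup.mem_inf.mpr ⟨h4, h3'⟩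
    rw [hFU, Subgroup.mem_bot] at h5
    calc u * (x : Y) = ((x : Y) * (u * (x : Y)⁻¹ * u⁻¹))⁻¹ * ((x : Y) * u) := by group
      _ = (x : Y) * u := by rw [h5, inv_one, one_mul]
  have hsurj : Function.Surjective ψ := by
    rw [← MonoidHom.range_eq_top]
    apply Subgroup.eq_top_of_le_card
    have c1 : Nat.card ↥K = Nat.card (↥K ⧸ ψ.ker) * Nat.card ψ.ker :=
      Subgroup.card_eq_card_quotient_mul_card_subgroup _
    have c2 : Nat.card (↥K ⧸ ψ.ker) = Nat.card ↥ψ.range :=
      Nat.card_congr (QuotientGroup.quotientKerEquivRange ψ).toEquiv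
    have c3 : Nat.card ↥ψ.ker ≤ Nat.card ↥(F ⊓ C) := by
      have h1 := Subgroup.card_le_of_le hkerle
      have h2 : Nat.card ↥((F ⊓ C).subgroupOf K) = Nat.card ↥(F ⊓ C) :=
        Nat.card_congr (Subgroup.subgroupOfEquivOfLe (inf_le_left.trans hFK)).toEquiv
      rw [h2] at h1
      exact h1
    have c4 : Nat.card (Equiv.Perm (Fin 4)) = 24 := by
      rw [Nat.card_eq_fintype_card, Fintype.card_perm, Fintype.card_fin]
      rfl
    have c5 : Nat.card ↥K = 24 * Nat.card ↥(F ⊓ C) := by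
      rw [hK, hcardK, hcardF]; ring
    rw [c4]
    have hpos : 0 < Nat.card ↥(F ⊓ C) := Nat.card_pos
    have hposk : 0 < Nat.card ↥ψ.ker := Nat.card_pos
    rw [c2] at c1
    by_contra hcon
    push Not at hcon
    have : Nat.card ↥ψ.range * Nat.card ↥ψ.ker < 24 * Nat.card ↥(F ⊓ C) := by
      calc Nat.card ↥ψ.range * Nat.card ↥ψ.ker ≤ Nat.card ↥ψ.range * Nat.card ↥(F ⊓ C) :=
            Nat.mul_le_mul_left _ c3
        _ < 24 * Nat.card ↥(F ⊓ C) := Nat.mul_lt_mul_of_pos_right hcon hpos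
    omega
  exact involves_of_surjective (X := Equiv.Perm (Fin 4)) K (ψ.ker.map K.subtype) ψ hsurj
    (Subgroup.comap_map_eq_self_of_injective (Subgroup.subtype_injective K) _).symm

end Cfsg.Agent.Lib.Helper3
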