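import Mathlib
import Cfsg.Prelude.Def_ConjugacyFunctors
import Cfsg.Prelude.Def_LocalEven
import Cfsg.Agent.Lib.Helper3.FunctorNPC
import Cfsg.Agent.Lib.Helper3.S4Section
import Cfsg.Agent.Lib.Helper3.Frattini
import Cfsg.Agent.Lib.Helper3.QN
import Cfsg.Agent.S1959

set_option autoImplicit false
set_option linter.unusedSectionVars false
set_option linter.unusedVariables false
set_option linter.style.haveILetI false
open scoped commutatorElement
open Cfsg Cfsg.Agent.Lib.Helper1 Cfsg.Agent.Lib.Helper4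

/-! Section conjugacy functors and control of strong fusion: transport lemmas. -/

namespace Cfsg.Agent.Lib.Helper3

universe u

section secfusion
variable {p : ℕ} [Fact p.Prime] {𝓦 : Set (∀ (Q : Type u) [Group Q], Subgroup Q)}

/-- the family of conjugacy functors induced on `X` -/
def indFam (𝓦 : Set (∀ (Q : Type u) [Group Q], Subgroup Q)) (X : Type u) [Group X] :
    Set (Subgroup X → Subgroup X) :=
  (fun W => Cfsg.inducedFunctor (G := X) W) '' 𝓦

/-- the family controls strong fusion in `X` -/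
def Ctl (p : ℕ) (𝓦 : Set (∀ (Q : Type u) [Group Q], Subgroup Q)) (X : Type u) [Group X] : Prop :=
  Cfsg.FamilyControlsStrongFusionIn p (indFam 𝓦 X) ⊤

/-- the allowed steps -/
abbrev sset (𝓦 : Set (∀ (Q : Type u) [Group Q], Subgroup Q)) (X : Type u) [Group X]
    (H T : Subgroup X) : Set X :=
  Cfsg.Agent.S1959.stepSet (indFam 𝓦 X) H T

lemma indFam_conj {X : Type u} [Group X] [Finite X]
    (h𝓦 : ∀ W ∈ 𝓦, Cfsg.IsCharPFunctor.{u} p W) :
    ∀ W' ∈ indFam 𝓦 X, Cfsg.IsConjugacyFunctor p W' := by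
  rintro _ ⟨W, hW, rfl⟩ P hP
  exact ⟨wf_le P, wf_ne_bot (h𝓦 W hW) hP, fun g => wf_map_conj (h𝓦 W hW) hP g⟩

lemma sset_intro {X : Type u} [Group X] {H T : Subgroup X} {W : ∀ (Q : Type u) [Group Q], Subgroup Q}
    (hW : W ∈ 𝓦) {e : X} (heH : e ∈ H)
    (he : e ∈ Subgroup.normalizer ((Cfsg.inducedFunctor W T : Subgroup X) : Set X)) :
    e ∈ sset 𝓦 X H T :=
  ⟨Cfsg.inducedFunctor W, ⟨W, hW, rfl⟩, Subgroup.mem_inf.mpr ⟨heH, he⟩⟩

lemma sset_mono {X : Type u} [Group X] {H H' T : Subgroup X} (h : H ≤ H') :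
    sset 𝓦 X H T ⊆ sset 𝓦 X H' T := by
  rintro e ⟨W', hW', he⟩
  exact ⟨W', hW', Subgroup.mem_inf.mpr ⟨h (Subgroup.mem_inf.mp he).1, (Subgroup.mem_inf.mp he).2⟩⟩

lemma goodPair_image_sub {X : Type u} [Group X] {N T A : Set X} {h : X} (hg : GoodPair N T A h) :
    lc h A ⊆ T := by
  obtain ⟨c, hc, hch⟩ := hg
  rw [← lc_congr hch]
  exact hc.image_sub

/-- control in terms of `GoodPair`, for an arbitrary Sylow subgroup -/
theorem good_of_ctl {X : Type u} [Group X] [Finite X]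
    (h𝓦 : ∀ W ∈ 𝓦, Cfsg.IsCharPFunctor.{u} p W) (hc : Ctl p 𝓦 X) (S : Sylow p X) (A : Set X)
    (h : X) (hA : A ⊆ ((S : Subgroup X) : Set X)) (hAh : lc h A ⊆ ((S : Subgroup X) : Set X)) :
    GoodPair (sset 𝓦 X ⊤ (S : Subgroup X)) ((S : Subgroup X) : Set X) A h :=
  Cfsg.Agent.S1959.localGood (indFam 𝓦 X) (indFam_conj h𝓦) ⊤ (S : Subgroup X) le_top S.2
    (by rw [Subgroup.relIndex_top_right]; exact S.not_dvd_index) hc A h (Subgroup.mem_top _) hA hAh

theorem ctl_of_good {X : Type u} [Group X] [Finite X] (S : Sylow p X)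
    (hg : ∀ (A : Set X) (h : X), A ⊆ ((S : Subgroup X) : Set X) →
      lc h A ⊆ ((S : Subgroup X) : Set X) →
      GoodPair (sset 𝓦 X ⊤ (S : Subgroup X)) ((S : Subgroup X) : Set X) A h) : Ctl p 𝓦 X := by
  refine ⟨(S : Subgroup X), le_top, S.2, ?_, ?_⟩
  · rw [Subgroup.relIndex_top_right]; exact S.not_dvd_index
  · intro A h _ hA hAh
    obtain ⟨n, c, hc0, hcs, hci, hcl⟩ := finChain_of_goodPair (hg A h hA hAh)
    exact ⟨n, c, hc0, hcs, hci, hcl⟩

/-- transport of control along an injective homomorphism -/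
theorem ctlIn_range_of_ctl {X Y : Type u} [Group X] [Finite X] [Group Y] [Finite Y]
    (h𝓦 : ∀ W ∈ 𝓦, Cfsg.IsCharPFunctor.{u} p W) (f : X →* Y) (hf : Function.Injective f)
    (hc : Ctl p 𝓦 X) : Cfsg.FamilyControlsStrongFusionIn p (indFam 𝓦 Y) f.range := by
  obtain ⟨T, -, hTp, hTidx, hctl⟩ := hc
  have hinjOn : InjOnSub f T := fun x _ hx => hf (by rw [hx, map_one])
  refine ⟨T.map f, ?_, hTp.map _, ?_, ?_⟩
  · rintro _ ⟨t, -, rfl⟩
    exact ⟨t, rfl⟩
  · rw [MonoidHom.range_eq_map, Subgroup.relIndex_map_map_of_injective T ⊤ hf]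
    exact hTidx
  · intro A h hh hA hAh
    obtain ⟨h₀, rfl⟩ := hh
    have hA'T : f ⁻¹' A ⊆ (T : Set X) := by
      intro a ha
      obtain ⟨t, ht, hta⟩ := hA ha
      have : t = a := hf hta
      rw [← this]; exact ht
    have hA'h : (fun a => h₀ * a * h₀⁻¹) '' (f ⁻¹' A) ⊆ (T : Set X) := by
      rintro _ ⟨a, ha, rfl⟩
      obtain ⟨t, ht, hta⟩ := hAh ⟨f a, ha, rfl⟩
      have : t = h₀ * a * h₀⁻¹ := hf (by rw [hta, map_mul, map_mul, map_inv])
      rw [this] at ht; exact ht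
    obtain ⟨n, c, hc0, hcs, hci, hcl⟩ := hctl (f ⁻¹' A) h₀ (Subgroup.mem_top _) hA'T hA'h
    refine ⟨n, fun i => f (c i), by show f (c 0) = 1; rw [hc0, map_one], ?_, ?_, ?_⟩
    · intro i
      obtain ⟨_, ⟨W, hW, rfl⟩, hstep⟩ := hcs i
      refine ⟨Cfsg.inducedFunctor W, ⟨W, hW, rfl⟩, Subgroup.mem_inf.mpr ⟨?_, ?_⟩⟩
      · exact ⟨c i.succ * (c i.castSucc)⁻¹, by rw [map_mul, map_inv]⟩
      · have hz : Cfsg.inducedFunctor W (T.map f) = (Cfsg.inducedFunctor W T).map f :=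
          wf_map_injOn (h𝓦 W hW) f hTp hinjOn
        rw [hz, ← map_inv, ← map_mul]
        exact Subgroup.le_normalizer_map f
          (Subgroup.mem_map_of_mem f (Subgroup.mem_inf.mp hstep).2)
    · intro i
      rintro _ ⟨a, ha, rfl⟩
      obtain ⟨t, ht, hta⟩ := hA ha
      have ha' : t ∈ f ⁻¹' A := by show f t ∈ A; rw [hta]; exact ha
      have h1 := hci i ⟨t, ha', rfl⟩
      refine ⟨c i * t * (c i)⁻¹, h1, ?_⟩
      rw [← hta]; simp only [map_mul, map_inv]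
    · intro a ha
      obtain ⟨t, ht, hta⟩ := hA ha
      have ha' : t ∈ f ⁻¹' A := by show f t ∈ A; rw [hta]; exact ha
      have h1 := congrArg f (hcl t ha')
      simp only [map_mul, map_inv, hta] at h1
      exact h1

/-- transport of control along an isomorphism -/
theorem ctl_of_equiv {X Y : Type u} [Group X] [Finite X] [Group Y] [Finite Y]
    (h𝓦 : ∀ W ∈ 𝓦, Cfsg.IsCharPFunctor.{u} p W) (e : X ≃* Y) (hc : Ctl p 𝓦 X) : Ctl p 𝓦 Y := by
  have h := ctlIn_range_of_ctl h𝓦 e.toMonoidHom e.injective hc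
  have hr : e.toMonoidHom.range = ⊤ := MonoidHom.range_eq_top.mpr e.surjective
  rw [hr] at h
  exact h

/-- control in a subgroup, as a relative statement -/
theorem ctlIn_of_ctl_subgroup {X : Type u} [Group X] [Finite X]
    (h𝓦 : ∀ W ∈ 𝓦, Cfsg.IsCharPFunctor.{u} p W) (H : Subgroup X) (hc : Ctl p 𝓦 ↥H) :
    Cfsg.FamilyControlsStrongFusionIn p (indFam 𝓦 X) H := by
  have h := ctlIn_range_of_ctl h𝓦 H.subtype (Subgroup.subtype_injective H) hc
  rw [Subgroup.range_subtype] at h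
  exact h

/-- lifting a chain along a homomorphism, step by step -/
theorem lift_reach {X Y : Type u} [Group X] [Group Y] (π : X →* Y) {NX SX : Set X}
    {NY SY : Set Y}
    (hstep : ∀ (B : Set X) (eb : Y), B ⊆ SX → eb ∈ NY → lc eb (π '' B) ⊆ SY →
      ∃ e : X, π e = eb ∧ GoodPair NX SX B e)
    (B : Set X) (hB : B ⊆ SX) :
    ∀ cb : Y, LReach NY SY (π '' B) cb → ∃ c : X, π c = cb ∧ GoodPair NX SX B c := by
  intro cb h
  induction h with
  | base _ => exact ⟨1, map_one π, GoodPair.one hB⟩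
  | step cb₀ eb _ he h3 ih =>
    obtain ⟨c₀, hc₀, hg₀⟩ := ih
    have hB' : lc c₀ B ⊆ SX := goodPair_image_sub hg₀
    have himg : π '' (lc c₀ B) = lc cb₀ (π '' B) := by
      ext y; constructor
      · rintro ⟨_, ⟨b, hb, rfl⟩, rfl⟩
        exact ⟨π b, ⟨b, hb, rfl⟩, by rw [map_mul, map_mul, map_inv, hc₀]⟩
      · rintro ⟨_, ⟨b, hb, rfl⟩, rfl⟩
        exact ⟨c₀ * b * c₀⁻¹, ⟨b, hb, rfl⟩, by rw [map_mul, map_mul, map_inv, hc₀]⟩
    obtain ⟨e, hee, hge⟩ := hstep (lc c₀ B) eb hB' he (by rw [himg, ← lc_mul]; exact h3)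
    exact ⟨e * c₀, by rw [map_mul, hee, hc₀], hg₀.trans hge⟩

end secfusion

end Cfsg.Agent.Lib.Helper3
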