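import Mathlib
import Cfsg.Agent.Lib.Helper3.SecFusion1
import Cfsg.Agent.Lib.Helper3.PComp

set_option autoImplicit false
set_option linter.unusedSectionVars false
set_option linter.unusedVariables false
set_option linter.style.haveILetI false
open scoped commutatorElement
open Cfsg Cfsg.Agent.Lib.Helper1 Cfsg.Agent.Lib.Helper4

/-! Section conjugacy functors and control of strong fusion: lifting through a normal
`p'`-subgroup, Sylow subgroups of normal subgroups, factorizations. -/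

namespace Cfsg.Agent.Lib.Helper3

universe u

section secfusion2
variable {p : ℕ} [Fact p.Prime] {𝓦 : Set (∀ (Q : Type u) [Group Q], Subgroup Q)}

/-- control lifts through a normal `p'`-subgroup -/
theorem ctl_of_ctl_quotient {X : Type u} [Group X] [Finite X]
    (h𝓦 : ∀ W ∈ 𝓦, Cfsg.IsCharPFunctor.{u} p W) (N : Subgroup X) [hN : N.Normal]
    (hNc : (Nat.card N).Coprime p) (hc : Ctl p 𝓦 (X ⧸ N)) : Ctl p 𝓦 X := by
  obtain ⟨S⟩ : Nonempty (Sylow p X) := inferInstance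
  obtain ⟨π, hπ⟩ : ∃ π : X →* X ⧸ N, π = QuotientGroup.mk' N := ⟨_, rfl⟩
  have hπs : Function.Surjective π := by rw [hπ]; exact QuotientGroup.mk'_surjective N
  have hker : ∀ x, π x = 1 ↔ x ∈ N := fun x => by rw [hπ]; exact QuotientGroup.eq_one_iff x
  obtain ⟨Sb, hSbc⟩ : ∃ Sb : Sylow p (X ⧸ N), (Sb : Subgroup (X ⧸ N)) = (S : Subgroup X).map π :=
    ⟨S.mapSurjective hπs, rfl⟩
  have hSp : IsPGroup p (S : Subgroup X) := S.2
  have hSN : ∀ x, x ∈ (S : Subgroup X) → x ∈ N → x = 1 := fun x hx hxn =>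
    eq_one_of_mem_pgroup_of_mem_pprime hSp hNc hx hxn
  have hinjS : InjOnSub π (S : Subgroup X) := fun x hx h1 => hSN x hx ((hker x).mp h1)
  apply ctl_of_good S
  intro A h hA hAh
  have hAb : π '' A ⊆ ((Sb : Subgroup (X ⧸ N)) : Set (X ⧸ N)) := by
    rintro _ ⟨a, ha, rfl⟩
    rw [hSbc]; exact ⟨a, hA ha, rfl⟩
  have hAhb : lc (π h) (π '' A) ⊆ ((Sb : Subgroup (X ⧸ N)) : Set (X ⧸ N)) := by
    rintro _ ⟨_, ⟨a, ha, rfl⟩, rfl⟩
    rw [hSbc]
    exact ⟨h * a * h⁻¹, hAh ⟨a, ha, rfl⟩, by rw [map_mul, map_mul, map_inv]⟩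
  obtain ⟨cb, hcb, hcbh⟩ := good_of_ctl h𝓦 hc Sb (π '' A) (π h) hAb hAhb
  have hstep : ∀ (B : Set X) (eb : X ⧸ N), B ⊆ ((S : Subgroup X) : Set X) →
      eb ∈ sset 𝓦 (X ⧸ N) ⊤ (Sb : Subgroup (X ⧸ N)) →
      lc eb (π '' B) ⊆ ((Sb : Subgroup (X ⧸ N)) : Set (X ⧸ N)) →
      ∃ e : X, π e = eb ∧
        GoodPair (sset 𝓦 X ⊤ (S : Subgroup X)) ((S : Subgroup X) : Set X) B e := by
    rintro B eb hB ⟨_, ⟨W, hW, rfl⟩, heb⟩ hBe
    have heb2 := (Subgroup.mem_inf.mp heb).2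
    obtain ⟨Z, hZ⟩ : ∃ Z : Subgroup X, Z = Cfsg.inducedFunctor W (S : Subgroup X) := ⟨_, rfl⟩
    have hZS : Z ≤ (S : Subgroup X) := by rw [hZ]; exact wf_le _
    have hZp : IsPGroup p Z := hSp.to_le hZS
    have hZb : Cfsg.inducedFunctor W ((Sb : Subgroup (X ⧸ N))) = Z.map π := by
      rw [hSbc, hZ]; exact wf_map_injOn (h𝓦 W hW) π hSp hinjS
    have heb3 : eb ∈ Subgroup.normalizer ((Z.map π : Subgroup (X ⧸ N)) : Set (X ⧸ N)) := by
      rw [← hZb]; exact heb2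
    obtain ⟨e₁, he₁⟩ := hπs eb
    have hd : ∀ z ∈ Z, e₁ * z * e₁⁻¹ ∈ Z ⊔ N := by
      intro z hz
      have h1 : π (e₁ * z * e₁⁻¹) ∈ Z.map π := by
        rw [map_mul, map_mul, map_inv, he₁]
        exact (Subgroup.mem_set_normalizer_iff.mp heb3 _).mp (Subgroup.mem_map_of_mem π hz)
      obtain ⟨z', hz', hzz⟩ := h1
      have h2 : z'⁻¹ * (e₁ * z * e₁⁻¹) ∈ N := by
        rw [← hker, map_mul, map_inv, hzz, inv_mul_cancel]
      have e : e₁ * z * e₁⁻¹ = z' * (z'⁻¹ * (e₁ * z * e₁⁻¹)) := by group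
      rw [e]
      exact Subgroup.mul_mem _ (Subgroup.mem_sup_left hz') (Subgroup.mem_sup_right h2)
    obtain ⟨n, hn, hne⟩ := exists_mul_mem_normalizer hN hNc hZp e₁ hd
    obtain ⟨e₂, he₂⟩ : ∃ e₂ : X, e₂ = n * e₁ := ⟨_, rfl⟩
    rw [← he₂] at hne
    have hπe₂ : π e₂ = eb := by rw [he₂, map_mul, (hker n).mpr hn, one_mul, he₁]
    obtain ⟨M, hM⟩ : ∃ M : Subgroup X, M = Subgroup.normalizer (Z : Set X) := ⟨_, rfl⟩
    rw [← hM] at hne
    have hSM : (S : Subgroup X) ≤ M := by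
      rw [hM, hZ]
      exact (Subgroup.le_normalizer).trans (normalizer_le_normalizer_wf (h𝓦 W hW) hSp)
    obtain ⟨M', hM'⟩ : ∃ M' : Subgroup X, M' = M ⊓ ((S : Subgroup X) ⊔ N) := ⟨_, rfl⟩
    have hSM' : (S : Subgroup X) ≤ M' := by rw [hM']; exact le_inf hSM le_sup_left
    have hB₂M' : ∀ b ∈ B, e₂ * b * e₂⁻¹ ∈ M' := by
      intro b hb
      rw [hM']
      refine Subgroup.mem_inf.mpr ⟨M.mul_mem (M.mul_mem hne (hSM (hB hb))) (M.inv_mem hne), ?_⟩
      have h1 : π (e₂ * b * e₂⁻¹) ∈ (S : Subgroup X).map π := by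
        have := hBe ⟨π b, ⟨b, hb, rfl⟩, rfl⟩
        rw [hSbc] at this
        rw [map_mul, map_mul, map_inv, hπe₂]; exact this
      obtain ⟨s, hs, hsb⟩ := h1
      have h2 : s⁻¹ * (e₂ * b * e₂⁻¹) ∈ N := by
        rw [← hker, map_mul, map_inv, hsb, inv_mul_cancel]
      have e : e₂ * b * e₂⁻¹ = s * (s⁻¹ * (e₂ * b * e₂⁻¹)) := by group
      rw [e]
      exact Subgroup.mul_mem _ (Subgroup.mem_sup_left hs) (Subgroup.mem_sup_right h2)
    have hcl : cj e₂ (Subgroup.closure B) ≤ M' := by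
      rw [cj_def, MonoidHom.map_closure, Subgroup.closure_le]
      rintro _ ⟨b, hb, rfl⟩
      exact hB₂M' b hb
    have hclp : IsPGroup p (cj e₂ (Subgroup.closure B)) :=
      cj_isPGroup p e₂ (hSp.to_le ((Subgroup.closure_le _).mpr hB))
    have hidx : ¬ p ∣ (S : Subgroup X).relIndex M' := fun hdv =>
      S.not_dvd_index (hdv.trans (Subgroup.relIndex_dvd_index_of_le hSM'))
    obtain ⟨k, hkM', hk⟩ := exists_conj_le_of_relIndex p M' (S : Subgroup X) _ hSp hidx hcl hclp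
    rw [hM'] at hkM'
    obtain ⟨s, hs, n₁, hn₁, hksn⟩ := mem_mul_of_mem_sup_left_normal
      (show (S : Subgroup X) ≤ Subgroup.normalizer (N : Set X) by
        rw [Subgroup.normalizer_eq_top_iff.mpr hN]; exact le_top) (Subgroup.mem_inf.mp hkM').2
    have hn₁M : n₁ ∈ M := by
      have : n₁ = s⁻¹ * k := by rw [hksn]; group
      rw [this]
      exact M.mul_mem (M.inv_mem (hSM hs)) (Subgroup.mem_inf.mp hkM').1
    have hlast : lc (n₁ * e₂) B ⊆ ((S : Subgroup X) : Set X) := by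
      rintro _ ⟨b, hb, rfl⟩
      have h1 : e₂ * b * e₂⁻¹ ∈ cj e₂ (Subgroup.closure B) :=
        conj_mem_cj e₂ _ (Subgroup.subset_closure hb)
      have h2 := hk _ h1
      have e : n₁ * e₂ * b * (n₁ * e₂)⁻¹ = s⁻¹ * (k * (e₂ * b * e₂⁻¹) * k⁻¹) * s := by
        rw [hksn]; group
      show n₁ * e₂ * b * (n₁ * e₂)⁻¹ ∈ (S : Subgroup X)
      rw [e]
      exact Subgroup.mul_mem _ (Subgroup.mul_mem _ (Subgroup.inv_mem _ hs) h2) hs
    refine ⟨n₁ * e₂, by rw [map_mul, (hker n₁).mpr hn₁, one_mul, hπe₂], n₁ * e₂,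
      LReach.single hB ?_ hlast, fun _ _ => rfl⟩
    refine sset_intro hW (Subgroup.mem_top _) ?_
    rw [← hZ, ← hM]
    exact M.mul_mem hn₁M hne
  obtain ⟨c, hcπ, hgc⟩ := lift_reach π hstep A hA cb hcb
  refine hgc.congr ?_
  intro a ha
  have h1 : c * a * c⁻¹ ∈ (S : Subgroup X) := goodPair_image_sub hgc ⟨a, ha, rfl⟩
  have h2 : h * a * h⁻¹ ∈ (S : Subgroup X) := hAh ⟨a, ha, rfl⟩
  have h3 : π (c * a * c⁻¹) = π (h * a * h⁻¹) := by
    rw [map_mul, map_mul, map_inv, hcπ, map_mul, map_mul, map_inv]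
    exact hcbh (π a) ⟨a, ha, rfl⟩
  have h4 : (c * a * c⁻¹) * (h * a * h⁻¹)⁻¹ ∈ N := by
    rw [← hker, map_mul, map_inv, h3, mul_inv_cancel]
  have h5 := hSN _ (Subgroup.mul_mem _ h1 (Subgroup.inv_mem _ h2)) h4
  exact mul_inv_eq_one.mp h5

/-- Sylow subgroups of subgroups normalized by the ambient subgroup -/
theorem not_dvd_relIndex_inf {X : Type u} [Group X] [Finite X] (H E S₀ : Subgroup X) (hEH : E ≤ H)
    (hHE : H ≤ Subgroup.normalizer (E : Set X)) (hS₀p : IsPGroup p S₀)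
    (hidx : ¬ p ∣ S₀.relIndex H) : ¬ p ∣ (S₀ ⊓ E).relIndex E := by
  obtain ⟨P''⟩ : Nonempty (Sylow p ↥E) := inferInstance
  obtain ⟨P', hP'⟩ : ∃ P' : Subgroup X, P' = (P'' : Subgroup ↥E).map E.subtype := ⟨_, rfl⟩
  have hP'E : P' ≤ E := by rw [hP']; exact Subgroup.map_subtype_le _
  have hP'p : IsPGroup p P' := by rw [hP']; exact P''.isPGroup'.map _
  have hP'idx : ¬ p ∣ P'.relIndex E := by
    have h1 : P'.subgroupOf E = (P'' : Subgroup ↥E) := by
      rw [hP']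
      exact Subgroup.comap_map_eq_self_of_injective (Subgroup.subtype_injective E) _
    show ¬ p ∣ (P'.subgroupOf E).index
    rw [h1]
    exact P''.not_dvd_index
  obtain ⟨h, hhH, hh⟩ := exists_conj_le_of_relIndex p H S₀ P' hS₀p hidx (hP'E.trans hEH) hP'p
  have hcjE : cj h E = E := Subgroup.mem_normalizer_iff_map_conj_eq.mp (hHE hhH)
  have hle : cj h P' ≤ S₀ ⊓ E := by
    rintro _ ⟨x, hx, rfl⟩
    refine Subgroup.mem_inf.mpr ⟨hh x hx, ?_⟩
    rw [← hcjE]
    exact conj_mem_cj h E (hP'E hx)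
  have h2 : (S₀ ⊓ E).relIndex E ∣ (cj h P').relIndex E := Subgroup.relIndex_dvd_of_le_left E hle
  have h3 : (cj h P').relIndex E = P'.relIndex E := by
    have := cj_relIndex h P' E
    rw [hcjE] at this
    exact this
  rw [h3] at h2
  exact fun hdv => hP'idx (hdv.trans h2)

/-- a normal subgroup with a central Sylow `p`-subgroup in a group with trivial `p'`-core
is a `p`-group -/
theorem le_of_central_sylow {X : Type u} [Group X] [Finite X] (hO : Cfsg.pPrimeCore p X = ⊥)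
    (C : Subgroup X) [hCn : C.Normal] (P₀ : Subgroup X) (hP₀C : P₀ ≤ C) (hP₀p : IsPGroup p P₀)
    (hidx : ¬ p ∣ P₀.relIndex C) (hcen : C ≤ Subgroup.centralizer (P₀ : Set X)) : C ≤ P₀ := by
  have hpp : p.Prime := Fact.out
  obtain ⟨P', hP'⟩ : ∃ P' : Subgroup ↥C, P' = P₀.subgroupOf C := ⟨_, rfl⟩
  have hP'mem : ∀ c : ↥C, c ∈ P' ↔ (c : X) ∈ P₀ := fun c => by rw [hP']; exact Subgroup.mem_subgroupOf
  have hcomm : ∀ n ∈ P', ∀ c : ↥C, n * c = c * n := by
    intro n hn c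
    apply Subtype.ext
    have := Subgroup.mem_centralizer_iff.mp (hcen c.2) (n : X) ((hP'mem n).mp hn)
    exact this
  haveI hP'n : P'.Normal := by
    constructor
    intro n hn c
    have : c * n * c⁻¹ = n := by rw [← hcomm n hn c]; group
    rw [this]; exact hn
  have hP'p : IsPGroup p P' := by rw [hP']; exact hP₀p.comap_subtype
  have hP'idx : ¬ p ∣ P'.index := by rw [hP']; exact hidx
  obtain ⟨k, hk⟩ := IsPGroup.iff_card.mp hP'p
  have hcop : (Nat.card P').Coprime P'.index := by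
    rw [hk]
    exact Nat.Coprime.pow_left k ((Nat.Prime.coprime_iff_not_dvd hpp).mpr hP'idx)
  obtain ⟨H', hH'⟩ := Subgroup.exists_right_complement'_of_coprime hcop
  have hcard : Nat.card P' * Nat.card H' = Nat.card ↥C := hH'.card_mul_card
  have hH'card : Nat.card H' = P'.index := by
    have h1 := Subgroup.card_mul_index P'
    have hpos : 0 < Nat.card P' := Nat.card_pos
    exact Nat.eq_of_mul_eq_mul_left hpos (hcard.trans h1.symm)
  have hH'cop : (Nat.card H').Coprime p := by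
    rw [hH'card]
    exact ((Nat.Prime.coprime_iff_not_dvd hpp).mpr hP'idx).symm
  -- the complement is normal in `X`
  obtain ⟨D, hD⟩ : ∃ D : Subgroup X, D = H'.map C.subtype := ⟨_, rfl⟩
  have hDn : D.Normal := by
    constructor
    intro d hd x
    rw [hD] at hd ⊢
    obtain ⟨d', hd', rfl⟩ := hd
    have hy : x * (d' : X) * x⁻¹ ∈ C := hCn.conj_mem _ d'.2 x
    obtain ⟨⟨⟨n, hn⟩, ⟨h, hh⟩⟩, hnh⟩ :=
      ((Subgroup.isComplement_iff_existsUnique).mp hH' ⟨x * (d' : X) * x⁻¹, hy⟩).exists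
    have hnh' : n * h = ⟨x * (d' : X) * x⁻¹, hy⟩ := hnh
    have hd'pow : d' ^ Nat.card H' = 1 := by
      have := pow_card_eq_one' (G := ↥H') (x := ⟨d', hd'⟩)
      exact congrArg Subtype.val this
    have hhpow : h ^ Nat.card H' = 1 := by
      have := pow_card_eq_one' (G := ↥H') (x := ⟨h, hh⟩)
      exact congrArg Subtype.val this
    have hypow : (⟨x * (d' : X) * x⁻¹, hy⟩ : ↥C) ^ Nat.card H' = 1 := by
      apply Subtype.ext
      rw [Subgroup.coe_pow, Subgroup.coe_one]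
      show (x * (d' : X) * x⁻¹) ^ Nat.card H' = 1
      rw [conj_pow, ← Subgroup.coe_pow, hd'pow, Subgroup.coe_one, mul_one, mul_inv_cancel]
    have hnpow : n ^ Nat.card H' = 1 := by
      have h1 : (n * h) ^ Nat.card H' = n ^ Nat.card H' * h ^ Nat.card H' :=
        Commute.mul_pow (show Commute n h from hcomm n hn h) _
      rw [hnh', hypow, hhpow, mul_one] at h1
      exact h1.symm
    have hn1 : n = 1 := by
      obtain ⟨j, hj⟩ := hP'p ⟨n, hn⟩
      have hj' : n ^ (p ^ j) = 1 := by simpa using congrArg Subtype.val hj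
      have h3 : orderOf n ∣ p ^ j := orderOf_dvd_of_pow_eq_one hj'
      have h4 : orderOf n ∣ Nat.card H' := orderOf_dvd_of_pow_eq_one hnpow
      have h5 : orderOf n = 1 :=
        Nat.eq_one_of_dvd_coprimes (Nat.Coprime.pow_right j hH'cop) h4 h3
      exact orderOf_eq_one_iff.mp h5
    rw [hn1, one_mul] at hnh'
    refine ⟨h, hh, ?_⟩
    have := congrArg Subtype.val hnh'
    exact this
  have hDcard : Nat.card D = Nat.card H' := by
    rw [hD]
    exact Subgroup.card_map_of_injective (Subgroup.subtype_injective C)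
  have hDbot : D = ⊥ := by
    have := le_pPrimeCore D hDn (by rw [hDcard]; exact hH'cop)
    rw [hO] at this
    exact le_bot_iff.mp this
  have hH'1 : Nat.card H' = 1 := by
    rw [← hDcard, hDbot]; exact Subgroup.card_bot
  rw [hH'1, mul_one] at hcard
  have hP'top : P' = ⊤ := Subgroup.eq_top_of_card_eq P' hcard
  intro c hc
  have : (⟨c, hc⟩ : ↥C) ∈ P' := by rw [hP'top]; exact Subgroup.mem_top _
  exact (hP'mem _).mp this

/-- the Alperin--Goldschmidt reduction, restricted to subgroups containing a normal subgroup -/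
theorem fuses_good_core {X : Type u} [Group X] [Finite X] (𝓕 : Set (Subgroup X)) (N : Set X)
    (S Q : Subgroup X) (hQn : Q.Normal) (h𝓕S : ∀ T ∈ 𝓕, T ≤ S) (A : Set X) (g : X)
    (hF : Fuses 𝓕 A g) (hAS : A ⊆ (S : Set X)) (hQA : (Q : Set X) ⊆ A)
    (hD : ∀ T ∈ 𝓕, Q ≤ T → ∀ (A' : Set X) (x : X), x ∈ Subgroup.normalizer (T : Set X) →
      A' ⊆ (T : Set X) → GoodPair N (S : Set X) A' x) :
    GoodPair N (S : Set X) A g⁻¹ := by
  induction hF with
  | nil A => rw [inv_one]; exact GoodPair.one hAS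
  | cons A T y g' hT hy hAT _ ih =>
    have hQT : Q ≤ T := fun q hq => hAT (hQA hq)
    have hstep := hD T hT hQT A y⁻¹ (inv_mem hy) hAT
    have hsub : rc y A ⊆ (S : Set X) := by
      have h1 : rc y A ⊆ rc y (T : Set X) := rc_mono y hAT
      rw [rc_normalizer hy] at h1
      exact h1.trans (h𝓕S T hT)
    have hQ' : (Q : Set X) ⊆ rc y A := by
      intro q hq
      rw [mem_rc_iff]
      exact hQA (hQn.conj_mem q hq y)
    have hIH := ih hsub hQ'
    rw [Cfsg.Agent.S1959.rc_eq_lc_inv] at hIH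
    rw [mul_inv_rev]
    exact hstep.trans hIH

/-- a factorization into two subgroups containing the Sylow subgroup -/
theorem good_of_factorization {X : Type u} [Group X] [Finite X] (S : Sylow p X) (N : Set X)
    (N₁ N₂ : Subgroup X) (hSN₁ : (S : Subgroup X) ≤ N₁) (hSN₂ : (S : Subgroup X) ≤ N₂)
    (h₁ : ∀ (A : Set X) (x : X), x ∈ N₁ → A ⊆ ((S : Subgroup X) : Set X) →
      lc x A ⊆ ((S : Subgroup X) : Set X) → GoodPair N ((S : Subgroup X) : Set X) A x)
    (h₂ : ∀ (A : Set X) (x : X), x ∈ N₂ → A ⊆ ((S : Subgroup X) : Set X) →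
      lc x A ⊆ ((S : Subgroup X) : Set X) → GoodPair N ((S : Subgroup X) : Set X) A x)
    (A : Set X) (a b : X) (ha : a ∈ N₁) (hb : b ∈ N₂) (hA : A ⊆ ((S : Subgroup X) : Set X))
    (hAx : lc (a * b) A ⊆ ((S : Subgroup X) : Set X)) :
    GoodPair N ((S : Subgroup X) : Set X) A (a * b) := by
  have hSp : IsPGroup p (S : Subgroup X) := S.2
  obtain ⟨D, hD⟩ : ∃ D : Subgroup X, D = N₁ ⊓ N₂ := ⟨_, rfl⟩
  have hSD : (S : Subgroup X) ≤ D := by rw [hD]; exact le_inf hSN₁ hSN₂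
  have hBD : ∀ x ∈ A, b * x * b⁻¹ ∈ D := by
    intro x hx
    rw [hD]
    refine Subgroup.mem_inf.mpr ⟨?_, N₂.mul_mem (N₂.mul_mem hb (hSN₂ (hA hx))) (N₂.inv_mem hb)⟩
    have h1 : a * b * x * (a * b)⁻¹ ∈ (S : Subgroup X) := hAx ⟨x, hx, rfl⟩
    have e : b * x * b⁻¹ = a⁻¹ * (a * b * x * (a * b)⁻¹) * a := by group
    rw [e]
    exact N₁.mul_mem (N₁.mul_mem (N₁.inv_mem ha) (hSN₁ h1)) ha
  have hcl : cj b (Subgroup.closure A) ≤ D := by
    rw [cj_def, MonoidHom.map_closure, Subgroup.closure_le]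
    rintro _ ⟨x, hx, rfl⟩
    exact hBD x hx
  have hclp : IsPGroup p (cj b (Subgroup.closure A)) :=
    cj_isPGroup p b (hSp.to_le ((Subgroup.closure_le _).mpr hA))
  have hidx : ¬ p ∣ (S : Subgroup X).relIndex D := fun hdv =>
    S.not_dvd_index (hdv.trans (Subgroup.relIndex_dvd_index_of_le hSD))
  obtain ⟨d, hdD, hd⟩ := exists_conj_le_of_relIndex p D (S : Subgroup X) _ hSp hidx hcl hclp
  rw [hD] at hdD
  have hdb : lc (d * b) A ⊆ ((S : Subgroup X) : Set X) := by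
    rintro _ ⟨x, hx, rfl⟩
    have h1 : b * x * b⁻¹ ∈ cj b (Subgroup.closure A) :=
      conj_mem_cj b _ (Subgroup.subset_closure hx)
    have h2 := hd _ h1
    have e : d * b * x * (d * b)⁻¹ = d * (b * x * b⁻¹) * d⁻¹ := by group
    show d * b * x * (d * b)⁻¹ ∈ (S : Subgroup X)
    rw [e]; exact h2
  have hg2 := h₂ A (d * b) (N₂.mul_mem (Subgroup.mem_inf.mp hdD).2 hb) hA hdb
  have hlast : lc (a * d⁻¹) (lc (d * b) A) ⊆ ((S : Subgroup X) : Set X) := by
    rw [← lc_mul]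
    have e : a * d⁻¹ * (d * b) = a * b := by group
    rw [e]; exact hAx
  have hg1 := h₁ (lc (d * b) A) (a * d⁻¹)
    (N₁.mul_mem ha (N₁.inv_mem (Subgroup.mem_inf.mp hdD).1)) hdb hlast
  have := hg2.trans hg1
  have e : a * d⁻¹ * (d * b) = a * b := by group
  rw [e] at this
  exact this

end secfusion2

end Cfsg.Agent.Lib.Helper3
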