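import Mathlib
import Cfsg.Agent.Lib.Helper3.PConstr
import Cfsg.Agent.Lib.Helper3.Subn
import Cfsg.Agent.Lib.Helper3.SecFusion2

set_option autoImplicit false
open scoped commutatorElement

universe u

namespace Cfsg.Agent.Lib.Helper3

open Cfsg.Agent.Lib.Helper1

variable {X : Type u} [Group X] [Finite X] {p : ℕ} [Fact p.Prime]

/-- A finite group with a central Sylow `p`-subgroup: every element has a `p`-power in `O_{p'}`. -/
theorem exists_pow_mem_pPrimeCore_of_central (Z : Subgroup X) (hZp : IsPGroup p Z)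
    (hZc : Z ≤ Subgroup.center X) (hidx : ¬ p ∣ Z.index) (y : X) :
    ∃ k : ℕ, y ^ (p ^ k) ∈ Cfsg.pPrimeCore p X := by
  have hp := (Fact.out : p.Prime)
  haveI hZn : Z.Normal := ⟨fun z hz g => by
    have h1 := Subgroup.mem_center_iff.mp (hZc hz) g
    rw [h1, mul_inv_cancel_right]; exact hz⟩
  obtain ⟨n, hn⟩ := IsPGroup.iff_card.mp hZp
  have hcop : Nat.Coprime (Nat.card Z) Z.index := by
    rw [hn]; exact Nat.Coprime.pow_left _ ((Nat.Prime.coprime_iff_not_dvd hp).mpr hidx)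
  obtain ⟨K, hK⟩ := Subgroup.exists_right_complement'_of_coprime hcop
  have hKcard : Nat.card K = Z.index := by
    have h1 := hK.card_mul_card
    have h2 := Subgroup.card_mul_index Z
    have h3 : 0 < Nat.card Z := Nat.card_pos
    exact Nat.eq_of_mul_eq_mul_left h3 (h1.trans h2.symm)
  have hKcop : (Nat.card K).Coprime p := by
    rw [hKcard]; exact ((Nat.Prime.coprime_iff_not_dvd hp).mpr hidx).symm
  have hdec : ∀ g : X, ∃ z ∈ Z, ∃ k ∈ K, g = z * k := by
    intro g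
    have hg : g ∈ ((Z ⊔ K : Subgroup X) : Set X) := by
      rw [hK.sup_eq_top]; trivial
    rw [Subgroup.normal_mul] at hg
    obtain ⟨z, hz, k, hk, rfl⟩ := Set.mem_mul.mp hg
    exact ⟨z, hz, k, hk, rfl⟩
  have hKn : K.Normal := ⟨fun k hk g => by
    obtain ⟨z, hz, k₀, hk₀, rfl⟩ := hdec g
    have hzc := Subgroup.mem_center_iff.mp (hZc hz)
    have h2 : z * k₀ * k * (z * k₀)⁻¹ = k₀ * k * k₀⁻¹ := by
      have h1 : z * k₀ * k * (z * k₀)⁻¹ = z * (k₀ * k * k₀⁻¹) * z⁻¹ := by group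
      rw [h1, ← hzc (k₀ * k * k₀⁻¹), mul_inv_cancel_right]
    rw [h2]; exact K.mul_mem (K.mul_mem hk₀ hk) (K.inv_mem hk₀)⟩
  have hKle : K ≤ Cfsg.pPrimeCore p X := le_pPrimeCore K hKn hKcop
  obtain ⟨z, hz, k, hk, rfl⟩ := hdec y
  have hzc := Subgroup.mem_center_iff.mp (hZc hz)
  have hz1 : z ^ (p ^ n) = 1 := by
    rw [← hn]
    exact orderOf_dvd_iff_pow_eq_one.mp (Subgroup.orderOf_dvd_natCard Z hz)
  refine ⟨n, ?_⟩
  have hcomm : Commute z k := (hzc k).symm
  rw [hcomm.mul_pow, hz1, one_mul]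
  exact hKle (K.pow_mem hk _)

omit [Finite X] in
/-- If every element of `N` has a `p`-power in the normal subgroup `C` then `|N : C|` is a `p`-power. -/
theorem relIndex_eq_pow_of_forall_pow_mem [Finite X] (C N : Subgroup X) [C.Normal]
    (h : ∀ x ∈ N, ∃ k : ℕ, x ^ (p ^ k) ∈ C) : ∃ n : ℕ, C.relIndex N = p ^ n := by
  have hq : IsPGroup p (↥N ⧸ C.subgroupOf N) := by
    intro y
    obtain ⟨x, rfl⟩ := QuotientGroup.mk_surjective y
    obtain ⟨k, hk⟩ := h x.1 x.2
    refine ⟨k, ?_⟩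
    rw [← QuotientGroup.mk_pow, QuotientGroup.eq_one_iff]
    exact Subgroup.mem_subgroupOf.mpr (by simpa using hk)
  obtain ⟨n, hn⟩ := IsPGroup.iff_card.mp hq
  exact ⟨n, hn⟩

/-- a normal `p`-subgroup lies in the preimage of `O_p(X/C)` -/
theorem le_comap_pCore_quot (C : Subgroup X) [C.Normal] (H : Subgroup X) [hHn : H.Normal]
    (hHp : IsPGroup p H) :
    H ≤ (Cfsg.pCore p (X ⧸ C)).comap (QuotientGroup.mk' C) := by
  rw [← Subgroup.map_le_iff_le_comap]
  exact le_pCore _ (Subgroup.Normal.map hHn _ (QuotientGroup.mk'_surjective C)) (hHp.map _)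

/-- a normal subgroup all of whose elements have `p`-power in `C` lies in the preimage of `O_p(X/C)` -/
theorem le_comap_pCore_quot_of_pow (C : Subgroup X) [C.Normal] (A : Subgroup X) [hAn : A.Normal]
    (h : ∀ a ∈ A, ∃ k : ℕ, a ^ (p ^ k) ∈ C) :
    A ≤ (Cfsg.pCore p (X ⧸ C)).comap (QuotientGroup.mk' C) := by
  rw [← Subgroup.map_le_iff_le_comap]
  refine le_pCore _ (Subgroup.Normal.map hAn _ (QuotientGroup.mk'_surjective C)) ?_
  rintro ⟨y, hy⟩
  obtain ⟨a, ha, rfl⟩ := hy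
  obtain ⟨k, hk⟩ := h a ha
  refine ⟨k, Subtype.ext ?_⟩
  show (QuotientGroup.mk' C a) ^ (p ^ k) = 1
  rw [← map_pow]
  exact (QuotientGroup.eq_one_iff _).mpr hk

/-- elements of the preimage of `O_p(X/C)` have `p`-powers in `C` -/
theorem exists_pow_mem_of_mem_comap_pCore (C : Subgroup X) [C.Normal] {x : X}
    (hx : x ∈ (Cfsg.pCore p (X ⧸ C)).comap (QuotientGroup.mk' C)) :
    ∃ k : ℕ, x ^ (p ^ k) ∈ C := by
  have hpg : IsPGroup p (Cfsg.pCore p (X ⧸ C)) := pCore_isPGroup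
  obtain ⟨k, hk⟩ := hpg ⟨QuotientGroup.mk' C x, hx⟩
  refine ⟨k, ?_⟩
  have h1 : (QuotientGroup.mk' C x) ^ (p ^ k) = 1 := congrArg Subtype.val hk
  rw [← map_pow] at h1
  exact (QuotientGroup.eq_one_iff _).mp h1

/-- **Sylow subgroups of the preimage of `O_p(X/C_X(H))`** for a normal `p`-subgroup `H`. -/
theorem sylow_preimage_iff (H : Subgroup X) [hHn : H.Normal] (hHp : IsPGroup p H)
    (Q : Subgroup X) (hQp : IsPGroup p Q) (hQidx : ¬ p ∣ Q.index) (hHQ : H ≤ Q)
    (C : Subgroup X) [hC : C.Normal] (hCeq : C = Subgroup.centralizer (H : Set X)) :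
    (¬ p ∣ H.relIndex ((Cfsg.pCore p (X ⧸ C)).comap (QuotientGroup.mk' C))) ↔
      (Q ⊓ C ≤ H ∧ Cfsg.pPrimePCore p X = H ⊔ C) := by
  have hp := (Fact.out : p.Prime)
  obtain ⟨N, hNdef⟩ : ∃ N : Subgroup X, N = (Cfsg.pCore p (X ⧸ C)).comap (QuotientGroup.mk' C) :=
    ⟨_, rfl⟩
  rw [← hNdef]
  have hNn : N.Normal := by
    rw [hNdef]
    have : (Cfsg.pCore p (X ⧸ C)).Normal := pCore_normal' p
    exact this.comap _
  have hCN : C ≤ N := by
    intro x hx
    rw [hNdef, Subgroup.mem_comap]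
    have : QuotientGroup.mk' C x = 1 := (QuotientGroup.eq_one_iff x).mpr hx
    rw [this]; exact one_mem _
  have hHN : H ≤ N := by rw [hNdef]; exact le_comap_pCore_quot C H hHp
  have hNpow : ∀ x ∈ N, ∃ k : ℕ, x ^ (p ^ k) ∈ C := by
    intro x hx
    rw [hNdef] at hx
    exact exists_pow_mem_of_mem_comap_pCore C hx
  obtain ⟨R, hRdef⟩ : ∃ R : Subgroup X, R = Cfsg.pPrimeCore p X := ⟨_, rfl⟩
  have hRn : R.Normal := by rw [hRdef]; exact pPrimeCore_normal' p
  have hRcop : (Nat.card R).Coprime p := by rw [hRdef]; exact pPrimeCore_coprime p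
  obtain ⟨n, hn⟩ := IsPGroup.iff_card.mp hHp
  have hRC : R ≤ C := by
    rw [hCeq, ← Subgroup.commutator_eq_bot_iff_le_centralizer, eq_bot_iff]
    refine (Subgroup.commutator_le_inf R H).trans ?_
    rw [Subgroup.inf_eq_bot_of_coprime]
    rw [hn]; exact Nat.Coprime.pow_right _ hRcop
  have hTmem : ∀ x : X, x ∈ Cfsg.pPrimePCore p X ↔
      x ∈ (Cfsg.pCore p (X ⧸ Cfsg.pPrimeCore p X)).comap (QuotientGroup.mk' (Cfsg.pPrimeCore p X)) :=
    fun x => Iff.rfl
  have hTn : (Cfsg.pPrimePCore p X).Normal := pPrimePCore_normal p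
  have hTpow : ∀ x ∈ Cfsg.pPrimePCore p X, ∃ k : ℕ, x ^ (p ^ k) ∈ R := by
    intro x hx
    rw [hRdef]
    exact exists_pow_mem_of_mem_comap_pCore (Cfsg.pPrimeCore p X) ((hTmem x).mp hx)
  have hHT : H ≤ Cfsg.pPrimePCore p X := le_comap_pCore_quot (Cfsg.pPrimeCore p X) H hHp
  have hTN : Cfsg.pPrimePCore p X ≤ N := by
    rw [hNdef]
    refine le_comap_pCore_quot_of_pow C _ ?_
    intro t ht
    obtain ⟨k, hk⟩ := hTpow t ht
    exact ⟨k, hRC hk⟩
  have hNC : N ≤ Subgroup.normalizer (C : Set X) := by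
    rw [Subgroup.normalizer_eq_top]; exact le_top
  constructor
  · intro hidx
    have hAll : ∀ A : Subgroup X, IsPGroup p A → A ≤ N → A ≤ H := by
      intro A hAp hA
      have hAH : IsPGroup p (A ⊔ H : Subgroup X) := IsPGroup.to_sup_of_normal_right hAp hHp
      have h1 : H ≤ A ⊔ H := le_sup_right
      have h2 : A ⊔ H ≤ N := sup_le hA hHN
      have h3 := Subgroup.relIndex_mul_relIndex H (A ⊔ H) N h1 h2
      have h4 : ¬ p ∣ H.relIndex (A ⊔ H) := fun hd => hidx (h3 ▸ Dvd.dvd.mul_right hd _)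
      obtain ⟨m, hm⟩ := IsPGroup.iff_card.mp hAH
      have h5 : H.relIndex (A ⊔ H) ∣ p ^ m := by
        rw [← hm]; exact Subgroup.relIndex_dvd_card H (A ⊔ H)
      obtain ⟨j, _, hj'⟩ := (Nat.dvd_prime_pow hp).mp h5
      have hj0 : j = 0 := by
        by_contra hne
        exact h4 (hj' ▸ dvd_pow_self p hne)
      rw [hj0, pow_zero] at hj'
      exact le_sup_left.trans (Subgroup.relIndex_eq_one.mp hj')
    refine ⟨hAll _ (hQp.to_le inf_le_left) (inf_le_right.trans hCN), ?_⟩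
    have hHCN : H ⊔ C ≤ N := sup_le hHN hCN
    apply le_antisymm
    · -- T ≤ N ≤ H ⊔ C
      refine hTN.trans ?_
      have h1 := Subgroup.relIndex_mul_relIndex H (H ⊔ C) N le_sup_left hHCN
      have h2 := Subgroup.relIndex_mul_relIndex C (H ⊔ C) N le_sup_right hHCN
      have h3 : ¬ p ∣ (H ⊔ C).relIndex N := fun hd => hidx (h1 ▸ Dvd.dvd.mul_left hd _)
      obtain ⟨m, hm⟩ := relIndex_eq_pow_of_forall_pow_mem (p := p) C N hNpow
      have h5 : (H ⊔ C).relIndex N ∣ p ^ m := by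
        rw [← hm, ← h2]; exact Dvd.intro_left _ rfl
      obtain ⟨j, _, hj'⟩ := (Nat.dvd_prime_pow hp).mp h5
      have hj0 : j = 0 := by
        by_contra hne
        exact h3 (hj' ▸ dvd_pow_self p hne)
      rw [hj0, pow_zero] at hj'
      exact Subgroup.relIndex_eq_one.mp hj'
    · -- H ⊔ C ≤ T
      refine sup_le hHT ?_
      have hZp : IsPGroup p (H.subgroupOf C) := hHp.comap_subtype
      have hZc : H.subgroupOf C ≤ Subgroup.center ↥C := by
        intro z hz
        rw [Subgroup.mem_center_iff]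
        intro g
        apply Subtype.ext
        have hg : (g : X) ∈ Subgroup.centralizer (H : Set X) := hCeq ▸ g.2
        exact (Subgroup.mem_centralizer_iff.mp hg z.1 (Subgroup.mem_subgroupOf.mp hz)).symm
      have hidxZ : ¬ p ∣ (H.subgroupOf C).index := by
        have := not_dvd_relIndex_inf (p := p) N C H hCN hNC hHp hidx
        rwa [Subgroup.inf_relIndex_right] at this
      have hpow : ∀ c ∈ C, ∃ k : ℕ, c ^ (p ^ k) ∈ Cfsg.pPrimeCore p X := by
        intro c hc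
        obtain ⟨k, hk⟩ := exists_pow_mem_pPrimeCore_of_central (p := p) (H.subgroupOf C) hZp hZc hidxZ
          ⟨c, hc⟩
        refine ⟨k, ?_⟩
        have h1 := pPrimeCore_subnormal_le p (Subgroup.Normal.isSubnormal hC)
        exact h1 (Subgroup.mem_map.mpr ⟨_, hk, by simp⟩)
      exact le_comap_pCore_quot_of_pow (Cfsg.pPrimeCore p X) C hpow
  · rintro ⟨hQC, hT⟩
    have hCT : C ≤ Cfsg.pPrimePCore p X := by rw [hT]; exact le_sup_right
    have hNT : N ≤ Cfsg.pPrimePCore p X := by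
      refine le_comap_pCore_quot_of_pow (Cfsg.pPrimeCore p X) N ?_
      intro x hx
      obtain ⟨k, hk⟩ := hNpow x hx
      obtain ⟨j, hj⟩ := hTpow _ (hCT hk)
      refine ⟨k + j, ?_⟩
      rw [pow_add, pow_mul, ← hRdef]; exact hj
    have hQN : Q ⊓ N = H := by
      apply le_antisymm
      · intro x hx
        obtain ⟨hxQ, hxN⟩ := Subgroup.mem_inf.mp hx
        have hx' : x ∈ ((H ⊔ C : Subgroup X) : Set X) := hT ▸ hNT hxN
        rw [Subgroup.normal_mul] at hx'
        obtain ⟨h, hh, c, hc, rfl⟩ := Set.mem_mul.mp hx'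
        have hcQ : c ∈ Q := by
          have : c = h⁻¹ * (h * c) := by group
          rw [this]; exact Q.mul_mem (Q.inv_mem (hHQ hh)) hxQ
        exact H.mul_mem hh (hQC (Subgroup.mem_inf.mpr ⟨hcQ, hc⟩))
      · exact le_inf hHQ hHN
    have hNtop : (⊤ : Subgroup X) ≤ Subgroup.normalizer (N : Set X) := by
      rw [Subgroup.normalizer_eq_top]
    have := not_dvd_relIndex_inf (p := p) ⊤ N Q le_top hNtop hQp
      (by rwa [Subgroup.relIndex_top_right])
    rwa [hQN] at this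

end Cfsg.Agent.Lib.Helper3
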