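import Mathlib
import Cfsg.Agent.Lib.Helper3.SylPre
import Cfsg.Agent.Lib.Helper3.Subn
import Cfsg.Agent.Lib.Helper3.Quasi
import Cfsg.Agent.Lib.Helper3.Layer
import Cfsg.Agent.Lib.Helper3.FStar2
import Cfsg.Agent.Lib.Helper3.Frattini2
import Cfsg.Agent.S0008
import Cfsg.Agent.S1265

set_option autoImplicit false
open scoped commutatorElement

universe u

namespace Cfsg.Agent.Lib.Helper3

open Cfsg.Agent.Lib.Helper1

/-- a nontrivial homomorphic image of a quasisimple group is quasisimple -/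
theorem isQuasisimple_of_surjective {A B : Type*} [Group A] [Group B] (hA : Cfsg.IsQuasisimple A)
    (f : A →* B) (hf : Function.Surjective f) [hB : Nontrivial B] : Cfsg.IsQuasisimple B := by
  obtain ⟨hperf, hsimple⟩ := hA
  haveI := hperf
  haveI := hsimple
  have hperfB : Group.IsPerfect B := Group.IsPerfect.ofSurjective (f := f) hf
  refine ⟨hperfB, ?_⟩
  haveI := hperfB
  have hle : Subgroup.center A ≤ (Subgroup.center B).comap f := by
    intro a ha
    rw [Subgroup.mem_comap, Subgroup.mem_center_iff]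
    intro b
    obtain ⟨a', rfl⟩ := hf b
    rw [← map_mul, ← map_mul, Subgroup.mem_center_iff.mp ha a']
  have hg : Function.Surjective (QuotientGroup.map _ _ f hle) := by
    intro y
    obtain ⟨b, rfl⟩ := QuotientGroup.mk_surjective y
    obtain ⟨a, rfl⟩ := hf b
    exact ⟨(a : A ⧸ Subgroup.center A), rfl⟩
  haveI : Nontrivial (B ⧸ Subgroup.center B) := by
    by_contra hnt
    rw [not_nontrivial_iff_subsingleton] at hnt
    have htop : Subgroup.center B = ⊤ :=
      eq_top_iff.mpr (fun b _ => (QuotientGroup.eq_one_iff b).mp (Subsingleton.elim _ _))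
    have hcomm : IsMulCommutative B := ⟨⟨fun a b => by
      have hb : b ∈ Subgroup.center B := htop ▸ Subgroup.mem_top b
      exact Subgroup.mem_center_iff.mp hb a⟩⟩
    exact Group.IsPerfect.not_isMulCommutative (G := B) hcomm
  exact IsSimpleGroup.isSimpleGroup_of_surjective (QuotientGroup.map _ _ f hle) hg

theorem le_frattini_of_forall_coatom {X : Type u} [Group X] (A : Subgroup X)
    (h : ∀ M : Subgroup X, IsCoatom M → A ≤ M) : A ≤ frattini X := by
  unfold frattini Order.radical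
  exact le_iInf₂ (fun M hM => h M hM)

variable {X : Type u} [Group X] [Finite X]

theorem map_center_layer_le_frattini :
    (Subgroup.center ↥(Cfsg.layer X)).map (Cfsg.layer X).subtype ≤ frattini X := by
  apply le_frattini_of_forall_coatom
  intro M hM
  by_contra hZM
  have hZn : ((Subgroup.center ↥(Cfsg.layer X)).map (Cfsg.layer X).subtype).Normal := inferInstance
  have htop : M ⊔ (Subgroup.center ↥(Cfsg.layer X)).map (Cfsg.layer X).subtype = ⊤ :=
    hM.2 _ (left_lt_sup.mpr hZM)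
  have hZcent : ∀ z ∈ (Subgroup.center ↥(Cfsg.layer X)).map (Cfsg.layer X).subtype,
      ∀ e ∈ Cfsg.layer X, e * z = z * e := by
    rintro _ ⟨c, hc, rfl⟩ e he
    have := Subgroup.mem_center_iff.mp hc ⟨e, he⟩
    exact congrArg Subtype.val this
  have hZE : (Subgroup.center ↥(Cfsg.layer X)).map (Cfsg.layer X).subtype ≤ Cfsg.layer X :=
    Subgroup.map_subtype_le _
  have hdec : ∀ e ∈ Cfsg.layer X, ∃ m ∈ M,
      ∃ z ∈ (Subgroup.center ↥(Cfsg.layer X)).map (Cfsg.layer X).subtype,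
      m ∈ Cfsg.layer X ∧ e = m * z := by
    intro e he
    have hmem : e ∈ ((M ⊔ (Subgroup.center ↥(Cfsg.layer X)).map (Cfsg.layer X).subtype :
        Subgroup X) : Set X) := by rw [htop]; trivial
    rw [Subgroup.mul_normal] at hmem
    obtain ⟨m, hm, z, hz, rfl⟩ := Set.mem_mul.mp hmem
    refine ⟨m, hm, z, hz, ?_, rfl⟩
    have : m = (m * z) * z⁻¹ := by group
    rw [this]; exact mul_mem he (inv_mem (hZE hz))
  have hEM : ⁅Cfsg.layer X, Cfsg.layer X⁆ ≤ M := by
    rw [Subgroup.commutator_le]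
    intro a ha b hb
    obtain ⟨m₁, hm₁, z₁, hz₁, hm₁E, rfl⟩ := hdec a ha
    obtain ⟨m₂, hm₂, z₂, hz₂, hm₂E, rfl⟩ := hdec b hb
    have h1 : ⁅m₁ * z₁, m₂ * z₂⁆ = ⁅m₁, m₂⁆ := by
      rw [hZcent z₁ hz₁ m₁ hm₁E, hZcent z₂ hz₂ m₂ hm₂E]
      rw [commElem_mul_left (c := z₁) (d := m₁) (m := z₂ * m₂) (hZcent z₁ hz₁ m₁ hm₁E).symm
        (hZcent z₁ hz₁ (z₂ * m₂) (mul_mem (hZE hz₂) hm₂E)).symm]
      rw [commElem_mul_right (c := z₂) (d := m₁) (m := m₂) (hZcent z₂ hz₂ m₁ hm₁E).symm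
        (hZcent z₂ hz₂ m₂ hm₂E).symm]
    rw [h1, commutatorElement_def]
    exact M.mul_mem (M.mul_mem (M.mul_mem hm₁ hm₂) (M.inv_mem hm₁)) (M.inv_mem hm₂)
  rw [layer_perfect] at hEM
  exact hZM (hZE.trans hEM)

theorem map_frattini_fitting_le_frattini :
    (frattini ↥(Cfsg.fittingSubgroup X)).map (Cfsg.fittingSubgroup X).subtype ≤ frattini X := by
  apply le_frattini_of_forall_coatom
  intro M hM
  by_contra hAM
  haveI : (Cfsg.fittingSubgroup X).Normal := fitting_normal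
  have hAn : ((frattini ↥(Cfsg.fittingSubgroup X)).map (Cfsg.fittingSubgroup X).subtype).Normal :=
    inferInstance
  have htop : M ⊔ (frattini ↥(Cfsg.fittingSubgroup X)).map (Cfsg.fittingSubgroup X).subtype = ⊤ :=
    hM.2 _ (left_lt_sup.mpr hAM)
  have hAF : (frattini ↥(Cfsg.fittingSubgroup X)).map (Cfsg.fittingSubgroup X).subtype ≤
      Cfsg.fittingSubgroup X := Subgroup.map_subtype_le _
  have h1 : (M.subgroupOf (Cfsg.fittingSubgroup X)) ⊔ frattini ↥(Cfsg.fittingSubgroup X) = ⊤ := by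
    rw [eq_top_iff]
    intro f _
    have hmem : (f : X) ∈ ((M ⊔ (frattini ↥(Cfsg.fittingSubgroup X)).map
        (Cfsg.fittingSubgroup X).subtype : Subgroup X) : Set X) := by rw [htop]; trivial
    rw [Subgroup.mul_normal] at hmem
    obtain ⟨m, hm, a, ha, hma⟩ := Set.mem_mul.mp hmem
    obtain ⟨a', ha', rfl⟩ := ha
    have hmF : m ∈ Cfsg.fittingSubgroup X := by
      have e : m = (f : X) * ((a' : X))⁻¹ := by
        rw [← hma]; simp
      rw [e]; exact mul_mem f.2 (inv_mem a'.2)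
    have hfeq : f = ⟨m, hmF⟩ * a' := Subtype.ext hma.symm
    rw [hfeq]
    exact mul_mem (Subgroup.mem_sup_left (Subgroup.mem_subgroupOf.mpr hm))
      (Subgroup.mem_sup_right ha')
  have h2 := frattini_nongenerating h1
  have hFM : Cfsg.fittingSubgroup X ≤ M := Subgroup.subgroupOf_eq_top.mp h2
  exact hAM (hAF.trans hFM)

theorem pCore_quot_le_map_fitting (N : Subgroup X) [N.Normal] (hNΦ : N ≤ frattini X)
    (hNF : N ≤ Cfsg.fittingSubgroup X) (r : ℕ) [Fact r.Prime] :
    Cfsg.pCore r (X ⧸ N) ≤ (Cfsg.fittingSubgroup X).map (QuotientGroup.mk' N) := by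
  have hp := (Fact.out : r.Prime)
  obtain ⟨Y, hYdef⟩ : ∃ Y : Subgroup X, Y = (Cfsg.pCore r (X ⧸ N)).comap (QuotientGroup.mk' N) :=
    ⟨_, rfl⟩
  have hYn : Y.Normal := by
    rw [hYdef]
    have : (Cfsg.pCore r (X ⧸ N)).Normal := pCore_normal' r
    exact this.comap _
  have hNY : N ≤ Y := by
    intro x hx
    rw [hYdef, Subgroup.mem_comap]
    have : QuotientGroup.mk' N x = 1 := (QuotientGroup.eq_one_iff x).mpr hx
    rw [this]; exact one_mem _
  have hYpow : ∀ y ∈ Y, ∃ k : ℕ, y ^ (r ^ k) ∈ N := by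
    intro y hy
    rw [hYdef] at hy
    exact exists_pow_mem_of_mem_comap_pCore N hy
  haveI := hYn
  obtain ⟨R'⟩ : Nonempty (Sylow r ↥Y) := inferInstance
  obtain ⟨R, hRdef⟩ : ∃ R : Subgroup X, R = (R' : Subgroup ↥Y).map Y.subtype := ⟨_, rfl⟩
  have hfr : Subgroup.normalizer (R : Set X) ⊔ Y = ⊤ := by
    rw [hRdef]; exact Sylow.normalizer_sup_eq_top R'
  have hRY : R ≤ Y := by rw [hRdef]; exact Subgroup.map_subtype_le _
  have hRp : IsPGroup r R := by rw [hRdef]; exact R'.isPGroup'.map _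
  have hRidx : ¬ r ∣ R.relIndex Y := by
    have h1 : R.subgroupOf Y = (R' : Subgroup ↥Y) := by
      rw [hRdef]; exact Subgroup.comap_map_eq_self_of_injective (Subgroup.subtype_injective Y) _
    show ¬ r ∣ (R.subgroupOf Y).index
    rw [h1]; exact R'.not_dvd_index
  have hYRN : Y ≤ R ⊔ N := by
    have hRNY : R ⊔ N ≤ Y := sup_le hRY hNY
    have h1 := Subgroup.relIndex_mul_relIndex R (R ⊔ N) Y le_sup_left hRNY
    have h2 := Subgroup.relIndex_mul_relIndex N (R ⊔ N) Y le_sup_right hRNY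
    have h3 : ¬ r ∣ (R ⊔ N).relIndex Y := fun hd => hRidx (h1 ▸ Dvd.dvd.mul_left hd _)
    obtain ⟨m, hm⟩ := relIndex_eq_pow_of_forall_pow_mem (p := r) N Y hYpow
    have h5 : (R ⊔ N).relIndex Y ∣ r ^ m := by
      rw [← hm, ← h2]; exact Dvd.intro_left _ rfl
    obtain ⟨j, _, hj'⟩ := (Nat.dvd_prime_pow hp).mp h5
    have hj0 : j = 0 := by
      by_contra hne
      exact h3 (hj' ▸ dvd_pow_self r hne)
    rw [hj0, pow_zero] at hj'
    exact Subgroup.relIndex_eq_one.mp hj'
  have hnorm : Subgroup.normalizer (R : Set X) = ⊤ := by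
    apply frattini_nongenerating
    rw [eq_top_iff, ← hfr]
    apply sup_le le_sup_left
    exact hYRN.trans (sup_le (Subgroup.le_normalizer.trans le_sup_left) (hNΦ.trans le_sup_right))
  have hRn : R.Normal := Subgroup.normalizer_eq_top_iff.mp hnorm
  have hRF : R ≤ Cfsg.fittingSubgroup X := normal_nilpotent_le_fitting hRn hRp.isNilpotent
  have hYF : Y ≤ Cfsg.fittingSubgroup X := hYRN.trans (sup_le hRF hNF)
  intro y hy
  obtain ⟨x, rfl⟩ := QuotientGroup.mk'_surjective N y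
  exact ⟨x, hYF (by rw [hYdef]; exact hy), rfl⟩

theorem fitting_quot_le (N : Subgroup X) [N.Normal] (hNΦ : N ≤ frattini X)
    (hNF : N ≤ Cfsg.fittingSubgroup X) :
    Cfsg.fittingSubgroup (X ⧸ N) ≤ (Cfsg.fittingSubgroup X).map (QuotientGroup.mk' N) := by
  rw [fitting_eq_pCoreSup]
  unfold pCoreSup
  apply iSup_le
  intro p
  haveI : Fact (p : ℕ).Prime := ⟨p.2⟩
  exact pCore_quot_le_map_fitting N hNΦ hNF p

end Cfsg.Agent.Lib.Helper3
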