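import Mathlib
import Cfsg.Prelude.Def_LocalStructure
import Cfsg.Agent.Lib.Helper3.SylPre

set_option autoImplicit false
open scoped commutatorElement

universe u v

namespace Cfsg.Agent.Lib.Helper3

open Cfsg.Agent.Lib.Helper1

/-- `p`-closedness is invariant under isomorphism -/
theorem isPClosed_of_mulEquiv {p : ℕ} {A : Type u} {B : Type v} [Group A] [Group B] (e : A ≃* B)
    (h : Cfsg.IsPClosed p A) : Cfsg.IsPClosed p B := by
  intro P
  have hinj : Function.Injective e.toMonoidHom := e.injective
  have hsurj : Function.Surjective e.toMonoidHom := e.surjective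
  have hrange : (P : Subgroup B) ≤ e.toMonoidHom.range := by
    rw [MonoidHom.range_eq_top.mpr hsurj]; exact le_top
  have hn := h (P.comapOfInjective e.toMonoidHom hinj hrange)
  have heq : (P : Subgroup B) =
      ((P.comapOfInjective e.toMonoidHom hinj hrange : Sylow p A) : Subgroup A).map
        e.toMonoidHom := by
    rw [Sylow.coe_comapOfInjective, Subgroup.map_comap_eq_self_of_surjective hsurj]
  rw [heq]
  exact hn.map _ hsurj

/-- a normal Sylow subgroup contains every `p`-subgroup -/
theorem le_of_normal_sylow {p : ℕ} {X : Type u} [Group X] (P : Sylow p X)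
    (hP : (P : Subgroup X).Normal) (A : Subgroup X) (hA : IsPGroup p A) : A ≤ P := by
  haveI := hP
  have h1 : IsPGroup p (A ⊔ (P : Subgroup X) : Subgroup X) :=
    IsPGroup.to_sup_of_normal_right hA P.isPGroup'
  have h2 := P.is_maximal' h1 le_sup_right
  rw [← h2]; exact le_sup_left

/-- a normal Sylow subgroup of a normal subgroup is normal in the whole group -/
theorem normal_sylow_map_normal {p : ℕ} [Fact p.Prime] {X : Type u} [Group X] [Finite X]
    (N : Subgroup X) [N.Normal] (P : Sylow p ↥N) (hP : (P : Subgroup ↥N).Normal) :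
    ((P : Subgroup ↥N).map N.subtype).Normal := by
  haveI : (P : Subgroup ↥N).Characteristic := Sylow.characteristic_of_normal P hP
  exact ConjAct.normal_of_characteristic_of_normal

theorem isPGroup_zpowers_of_pow {p : ℕ} {X : Type u} [Group X] (x : X) (k : ℕ)
    (h : x ^ (p ^ k) = 1) : IsPGroup p (Subgroup.zpowers x) := by
  rintro ⟨y, hy⟩
  obtain ⟨n, rfl⟩ := Subgroup.mem_zpowers_iff.mp hy
  refine ⟨k, Subtype.ext ?_⟩
  show (x ^ n) ^ (p ^ k) = 1
  rw [← zpow_natCast, ← zpow_mul, mul_comm, zpow_mul, zpow_natCast, h, one_zpow]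

end Cfsg.Agent.Lib.Helper3
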