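import Mathlib
import Cfsg.Agent.Lib.Helper3.FStarQuot
import Cfsg.Agent.Lib.Helper3.Comp
import Cfsg.Agent.Lib.Helper3.PClosed

set_option autoImplicit false
open scoped commutatorElement

universe u

namespace Cfsg.Agent.Lib.Helper3

open Cfsg.Agent.Lib.Helper1

variable {X : Type u} [Group X] [Finite X]

theorem map_center_layer_le_fitting :
    (Subgroup.center ↥(Cfsg.layer X)).map (Cfsg.layer X).subtype ≤ Cfsg.fittingSubgroup X := by
  have hZn : ((Subgroup.center ↥(Cfsg.layer X)).map (Cfsg.layer X).subtype).Normal := inferInstance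
  apply normal_nilpotent_le_fitting hZn
  apply isNilpotent_of_comm
  rintro ⟨_, ⟨a, ha, rfl⟩⟩ ⟨_, ⟨b, hb, rfl⟩⟩
  apply Subtype.ext
  show (Cfsg.layer X).subtype a * (Cfsg.layer X).subtype b =
    (Cfsg.layer X).subtype b * (Cfsg.layer X).subtype a
  rw [← map_mul, ← map_mul, Subgroup.mem_center_iff.mp hb a]

theorem le_centralizer_layer_of_comm_le (N Y : Subgroup X) (hNF : N ≤ Cfsg.fittingSubgroup X)
    (hY : ∀ y ∈ Y, ∀ e ∈ Cfsg.layer X, ⁅e, y⁆ ∈ N) :
    Y ≤ Subgroup.centralizer (Cfsg.layer X : Set X) := by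
  have h1 : ⁅Cfsg.layer X, Y⁆ ≤ Subgroup.centralizer (Cfsg.layer X : Set X) := by
    rw [Subgroup.commutator_le]
    intro e he y hy
    exact fitting_le_centralizer_layer (hNF (hY y hy e he))
  have h2 : ⁅⁅Cfsg.layer X, Y⁆, Cfsg.layer X⁆ = ⊥ :=
    Subgroup.commutator_eq_bot_iff_le_centralizer.mpr h1
  have h3 : ⁅⁅Y, Cfsg.layer X⁆, Cfsg.layer X⁆ = ⊥ := by
    rw [Subgroup.commutator_comm Y]; exact h2
  have h4 : ⁅⁅Cfsg.layer X, Cfsg.layer X⁆, Y⁆ = ⊥ :=
    Subgroup.commutator_commutator_eq_bot_of_rotate h2 h3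
  rw [layer_perfect] at h4
  have h5 := Subgroup.commutator_eq_bot_iff_le_centralizer.mp h4
  exact Subgroup.le_centralizer_iff.mp h5

theorem centralizes_pCore_of_comm_le (N Y : Subgroup X) [N.Normal]
    (hN : N = (Subgroup.center ↥(Cfsg.layer X)).map (Cfsg.layer X).subtype ⊔
      (frattini ↥(Cfsg.fittingSubgroup X)).map (Cfsg.fittingSubgroup X).subtype)
    (hYE : Y ≤ Subgroup.centralizer (Cfsg.layer X : Set X))
    (hYF : ∀ y ∈ Y, ∀ f ∈ Cfsg.fittingSubgroup X, ⁅f, y⁆ ∈ N)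
    {r q : ℕ} [Fact r.Prime] [Fact q.Prime] (hrq : r ≠ q) (g : X) (hgY : g ∈ Y)
    (hg : IsPGroup r (Subgroup.zpowers g)) :
    g ∈ Subgroup.centralizer (Cfsg.pCore q X : Set X) := by
  have hr := (Fact.out : r.Prime)
  have hq := (Fact.out : q.Prime)
  haveI hFn : (Cfsg.fittingSubgroup X).Normal := fitting_normal
  haveI hPn : (Cfsg.pCore q X).Normal := pCore_normal' q
  haveI hOn : (Cfsg.pPrimeCore q X).Normal := pPrimeCore_normal' q
  have hAn : ((frattini ↥(Cfsg.fittingSubgroup X)).map (Cfsg.fittingSubgroup X).subtype).Normal :=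
    inferInstance
  have hPp : IsPGroup q (Cfsg.pCore q X) := pCore_isPGroup
  have hPF : Cfsg.pCore q X ≤ Cfsg.fittingSubgroup X := by
    rw [fitting_eq_pCoreSup]; exact pCore_le_pCoreSup hq
  obtain ⟨D, hDdef⟩ : ∃ D : Subgroup X, D = Cfsg.fittingSubgroup X ⊓ Cfsg.pPrimeCore q X :=
    ⟨_, rfl⟩
  haveI hDn : D.Normal := by rw [hDdef]; infer_instance
  have hDF : D ≤ Cfsg.fittingSubgroup X := by rw [hDdef]; exact inf_le_left
  have hDc : (Nat.card D).Coprime q := by
    have h1 : Nat.card D ∣ Nat.card (Cfsg.pPrimeCore q X) := by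
      rw [hDdef]; exact Subgroup.card_dvd_of_le inf_le_right
    exact Nat.Coprime.coprime_dvd_left h1 (pPrimeCore_coprime q)
  obtain ⟨C, hCdef⟩ : ∃ C : Subgroup X,
      C = Subgroup.centralizer ((Subgroup.zpowers g : Subgroup X) : Set X) := ⟨_, rfl⟩
  have hzY : Subgroup.zpowers g ≤ Y := (Subgroup.zpowers_le).mpr hgY
  have hZF := map_center_layer_le_fitting (X := X)
  have hZC : (Subgroup.center ↥(Cfsg.layer X)).map (Cfsg.layer X).subtype ≤ C := by
    intro z hz
    have hzE : z ∈ Cfsg.layer X := Subgroup.map_subtype_le _ hz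
    rw [hCdef, Subgroup.mem_centralizer_iff]
    intro x hx
    have := hYE (hzY hx)
    rw [Subgroup.mem_centralizer_iff] at this
    exact (this z hzE).symm
  have hNF : N ≤ Cfsg.fittingSubgroup X := by
    rw [hN]; exact sup_le hZF (Subgroup.map_subtype_le _)
  obtain ⟨N₀, hN₀def⟩ : ∃ N₀ : Subgroup X, N₀ = N ⊓ Cfsg.pCore q X := ⟨_, rfl⟩
  haveI hN₀n : N₀.Normal := by rw [hN₀def]; infer_instance
  have hN₀c : (Nat.card N₀).Coprime r := by
    have h1 : IsPGroup q N₀ := hPp.to_le (by rw [hN₀def]; exact inf_le_right)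
    obtain ⟨k, hk⟩ := IsPGroup.iff_card.mp h1
    rw [hk]
    exact Nat.Coprime.pow_left k ((Nat.coprime_primes hq hr).mpr (Ne.symm hrq))
  have hlift : ∀ d ∈ Cfsg.pCore q X, ∃ n ∈ N₀, n * d ∈ C := by
    intro d hd
    rw [hCdef]
    refine exists_mul_mem_centralizer_rel (p := r) (N := N₀) (P := Subgroup.zpowers g)
      ?_ hN₀c hg d ?_ ?_
    · rw [Subgroup.normalizer_eq_top_iff.mpr hN₀n]; exact le_top
    · rw [Subgroup.normalizer_eq_top_iff.mpr hN₀n]; exact Subgroup.mem_top d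
    · intro x hx
      rw [hN₀def]
      refine Subgroup.mem_inf.mpr ⟨hYF x (hzY hx) d (hPF hd), ?_⟩
      rw [commutatorElement_def]
      have h1 : x * d⁻¹ * x⁻¹ ∈ Cfsg.pCore q X := hPn.conj_mem _ (inv_mem hd) x
      have e : d * x * d⁻¹ * x⁻¹ = d * (x * d⁻¹ * x⁻¹) := by group
      rw [e]; exact mul_mem hd h1
  have hNle : N ≤ ((Cfsg.fittingSubgroup X ⊓ C) ⊔ D) ⊔
      (frattini ↥(Cfsg.fittingSubgroup X)).map (Cfsg.fittingSubgroup X).subtype := by
    rw [hN]
    apply sup_le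
    · exact (le_inf hZF hZC).trans (le_sup_left.trans le_sup_left)
    · exact le_sup_right
  have hP_le : Cfsg.pCore q X ≤ ((Cfsg.fittingSubgroup X ⊓ C) ⊔ D) ⊔
      (frattini ↥(Cfsg.fittingSubgroup X)).map (Cfsg.fittingSubgroup X).subtype := by
    intro d hd
    obtain ⟨n, hn, hnd⟩ := hlift d hd
    have hnN : n ∈ N := by rw [hN₀def] at hn; exact (Subgroup.mem_inf.mp hn).1
    have hndF : n * d ∈ Cfsg.fittingSubgroup X := mul_mem (hNF hnN) (hPF hd)
    have e : d = n⁻¹ * (n * d) := by group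
    rw [e]
    exact mul_mem (inv_mem (hNle hnN))
      (Subgroup.mem_sup_left (Subgroup.mem_sup_left (Subgroup.mem_inf.mpr ⟨hndF, hnd⟩)))
  have hF_le : Cfsg.fittingSubgroup X ≤ ((Cfsg.fittingSubgroup X ⊓ C) ⊔ D) ⊔
      (frattini ↥(Cfsg.fittingSubgroup X)).map (Cfsg.fittingSubgroup X).subtype := by
    have h1 : Cfsg.fittingSubgroup X ≤ Cfsg.pCore q X ⊔ D := by
      intro f hf
      have hf' : f ∈ pCoreSup X := by rw [← fitting_eq_pCoreSup]; exact hf
      have h2 : f ∈ Cfsg.pCore q X ⊔ Cfsg.pPrimeCore q X := pCoreSup_le_sup q hf'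
      have h3 : f ∈ ((Cfsg.pCore q X ⊔ Cfsg.pPrimeCore q X : Subgroup X) : Set X) := h2
      rw [Subgroup.mul_normal] at h3
      obtain ⟨s, hs, t, ht, rfl⟩ := Set.mem_mul.mp h3
      have htF : t ∈ Cfsg.fittingSubgroup X := by
        have e : t = s⁻¹ * (s * t) := by group
        rw [e]; exact mul_mem (inv_mem (hPF hs)) hf
      exact mul_mem (Subgroup.mem_sup_left hs)
        (Subgroup.mem_sup_right (by rw [hDdef]; exact Subgroup.mem_inf.mpr ⟨htF, ht⟩))
    refine h1.trans (sup_le hP_le ?_)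
    exact le_sup_right.trans le_sup_left
  have hF_le' : Cfsg.fittingSubgroup X ≤ (Cfsg.fittingSubgroup X ⊓ C) ⊔ D := by
    have hML : (Cfsg.fittingSubgroup X ⊓ C) ⊔ D ≤ Cfsg.fittingSubgroup X :=
      sup_le inf_le_left hDF
    have h1 : (((Cfsg.fittingSubgroup X ⊓ C) ⊔ D).subgroupOf (Cfsg.fittingSubgroup X)) ⊔
        frattini ↥(Cfsg.fittingSubgroup X) = ⊤ := by
      rw [eq_top_iff]
      intro f _
      have hmem : (f : X) ∈ ((((Cfsg.fittingSubgroup X ⊓ C) ⊔ D) ⊔
        (frattini ↥(Cfsg.fittingSubgroup X)).map (Cfsg.fittingSubgroup X).subtype :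
          Subgroup X) : Set X) := hF_le f.2
      rw [Subgroup.mul_normal] at hmem
      obtain ⟨m, hm, a, ha, hma⟩ := Set.mem_mul.mp hmem
      obtain ⟨a', ha', rfl⟩ := ha
      have hfeq : f = ⟨m, hML hm⟩ * a' := Subtype.ext hma.symm
      rw [hfeq]
      exact mul_mem (Subgroup.mem_sup_left (Subgroup.mem_subgroupOf.mpr hm))
        (Subgroup.mem_sup_right ha')
    have h2 := frattini_nongenerating h1
    exact Subgroup.subgroupOf_eq_top.mp h2
  have hdisj : ∀ d ∈ Cfsg.pCore q X, ∀ e ∈ D, d * e = e * d := by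
    intro d hd e he
    have h1 : ⁅d, e⁆ ∈ Cfsg.pCore q X ⊓ D := by
      refine Subgroup.mem_inf.mpr ⟨?_, ?_⟩
      · rw [commutatorElement_def]
        have h1 : e * d⁻¹ * e⁻¹ ∈ Cfsg.pCore q X := hPn.conj_mem _ (inv_mem hd) e
        have e' : d * e * d⁻¹ * e⁻¹ = d * (e * d⁻¹ * e⁻¹) := by group
        rw [e']; exact mul_mem hd h1
      · rw [commutatorElement_def]
        have h1 : d * e * d⁻¹ ∈ D := hDn.conj_mem _ he d
        exact mul_mem h1 (inv_mem he)
    have h2 : Cfsg.pCore q X ⊓ D = ⊥ := by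
      apply disjoint_iff.mp
      apply Subgroup.disjoint_of_coprime_natCard
      obtain ⟨k, hk⟩ := IsPGroup.iff_card.mp hPp
      rw [hk]; exact Nat.Coprime.pow_left k hDc.symm
    rw [h2, Subgroup.mem_bot] at h1
    exact commutatorElement_eq_one_iff_mul_comm.mp h1
  rw [Subgroup.mem_centralizer_iff]
  intro d hd
  have hdF : d ∈ (Cfsg.fittingSubgroup X ⊓ C) ⊔ D := hF_le' (hPF hd)
  have hmem : d ∈ (((Cfsg.fittingSubgroup X ⊓ C) ⊔ D : Subgroup X) : Set X) := hdF
  rw [Subgroup.mul_normal] at hmem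
  obtain ⟨c, hc, e, he, hce⟩ := Set.mem_mul.mp hmem
  have hcC : c ∈ C := (Subgroup.mem_inf.mp hc).2
  have hcomm : Commute d e⁻¹ := hdisj d hd e⁻¹ (inv_mem he)
  have hc_eq : c = d * e⁻¹ := by rw [← hce]; group
  have hem : e⁻¹ ^ Nat.card D = 1 :=
    (orderOf_dvd_iff_pow_eq_one).mp (Subgroup.orderOf_dvd_natCard D (inv_mem he))
  have hcm : c ^ Nat.card D = d ^ Nat.card D := by
    rw [hc_eq, hcomm.mul_pow, hem, mul_one]
  have hdmC : d ^ Nat.card D ∈ C := by rw [← hcm]; exact pow_mem hcC _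
  have hcop : (Nat.card D).Coprime (orderOf d) := by
    obtain ⟨k, hk⟩ := hPp ⟨d, hd⟩
    have h1 : d ^ (q ^ k) = 1 := by
      have := congrArg Subtype.val hk
      simpa using this
    have h2 : orderOf d ∣ q ^ k := orderOf_dvd_of_pow_eq_one h1
    exact Nat.Coprime.coprime_dvd_right h2 (Nat.Coprime.pow_right k hDc)
  obtain ⟨m', hm'⟩ := exists_pow_eq_self_of_coprime hcop
  have hdC : d ∈ C := by rw [← hm']; exact pow_mem hdmC _
  rw [hCdef, Subgroup.mem_centralizer_iff] at hdC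
  exact (hdC g (Subgroup.mem_zpowers g)).symm

theorem no_component_centralizing (N : Subgroup X) [N.Normal]
    (hN : N = (Subgroup.center ↥(Cfsg.layer X)).map (Cfsg.layer X).subtype ⊔
      (frattini ↥(Cfsg.fittingSubgroup X)).map (Cfsg.fittingSubgroup X).subtype)
    (K : Subgroup (X ⧸ N)) (hK : Cfsg.IsComponent K)
    (hKW : K ≤ Subgroup.centralizer
      (((Cfsg.generalizedFittingSubgroup X).map (QuotientGroup.mk' N) : Subgroup (X ⧸ N)) :
        Set (X ⧸ N))) : False := by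
  obtain ⟨Y, hYdef⟩ : ∃ Y : Subgroup X, Y = (Subgroup.centralizer
      (((Cfsg.generalizedFittingSubgroup X).map (QuotientGroup.mk' N) : Subgroup (X ⧸ N)) :
        Set (X ⧸ N))).comap (QuotientGroup.mk' N) := ⟨_, rfl⟩
  have hYW : ∀ y ∈ Y, ∀ w ∈ Cfsg.generalizedFittingSubgroup X, ⁅w, y⁆ ∈ N := by
    intro y hy w hw
    rw [hYdef, Subgroup.mem_comap, Subgroup.mem_centralizer_iff] at hy
    have h1 := hy (QuotientGroup.mk' N w) (Subgroup.mem_map_of_mem _ hw)
    rw [← QuotientGroup.eq_one_iff]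
    show QuotientGroup.mk' N ⁅w, y⁆ = 1
    rw [map_commutatorElement]
    exact commutatorElement_eq_one_iff_mul_comm.mpr h1
  have hNF : N ≤ Cfsg.fittingSubgroup X := by
    rw [hN]; exact sup_le map_center_layer_le_fitting (Subgroup.map_subtype_le _)
  have hYE : Y ≤ Subgroup.centralizer (Cfsg.layer X : Set X) :=
    le_centralizer_layer_of_comm_le N Y hNF
      (fun y hy e he => hYW y hy e (Subgroup.mem_sup_left he))
  have hYF : ∀ y ∈ Y, ∀ f ∈ Cfsg.fittingSubgroup X, ⁅f, y⁆ ∈ N :=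
    fun y hy f hf => hYW y hy f (Subgroup.mem_sup_right hf)
  obtain ⟨S, hSdef⟩ : ∃ S : Set (Subgroup X),
      S = {M | M ≤ Y ∧ K ≤ M.map (QuotientGroup.mk' N)} := ⟨_, rfl⟩
  have hSne : S.Nonempty := by
    refine ⟨K.comap (QuotientGroup.mk' N), ?_⟩
    rw [hSdef]
    refine ⟨?_, ?_⟩
    · rw [hYdef]; exact Subgroup.comap_mono hKW
    · rw [Subgroup.map_comap_eq_self_of_surjective (QuotientGroup.mk'_surjective N)]
  obtain ⟨L, hLS, hLmin⟩ :=
    (wellFounded_lt : WellFounded ((· < ·) : Subgroup X → Subgroup X → Prop)).has_min S hSne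
  rw [hSdef] at hLS
  obtain ⟨hLY, hKL⟩ := hLS
  have hKperf : ⁅K, K⁆ = K := component_perfect hK
  have hcomm_le : ⁅L, L⁆ ≤ L :=
    Subgroup.commutator_le.mpr (fun a ha b hb => by
      rw [commutatorElement_def]
      exact L.mul_mem (L.mul_mem (L.mul_mem ha hb) (L.inv_mem ha)) (L.inv_mem hb))
  have hLperf : ⁅L, L⁆ = L := by
    by_contra hne
    have hlt : ⁅L, L⁆ < L := lt_of_le_of_ne hcomm_le hne
    apply hLmin ⁅L, L⁆ _ hlt
    rw [hSdef]
    refine ⟨hcomm_le.trans hLY, ?_⟩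
    rw [Subgroup.map_commutator]
    calc K = ⁅K, K⁆ := hKperf.symm
      _ ≤ _ := Subgroup.commutator_mono hKL hKL
  haveI hLP : Group.IsPerfect ↥L := Subgroup.isPerfect_iff.mpr hLperf
  have hLq : ∀ q : ℕ, q.Prime → L ≤ Subgroup.centralizer (Cfsg.pCore q X : Set X) := by
    intro q hq
    haveI : Fact q.Prime := ⟨hq⟩
    obtain ⟨Cq, hCqdef⟩ : ∃ Cq : Subgroup ↥L,
        Cq = (Subgroup.centralizer (Cfsg.pCore q X : Set X)).subgroupOf L := ⟨_, rfl⟩
    haveI hCqn : Cq.Normal := by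
      rw [hCqdef]
      haveI : (Cfsg.pCore q X).Normal := pCore_normal' q
      infer_instance
    have hidx : ∀ r : ℕ, r.Prime → r ∣ Cq.index → r = q := by
      intro r hr hdvd
      by_contra hrq
      haveI : Fact r.Prime := ⟨hr⟩
      obtain ⟨R⟩ : Nonempty (Sylow r ↥L) := inferInstance
      have hRC : (R : Subgroup ↥L) ≤ Cq := by
        intro x hx
        rw [hCqdef, Subgroup.mem_subgroupOf]
        apply centralizes_pCore_of_comm_le N Y hN hYE hYF hrq (x : X) (hLY x.2)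
        obtain ⟨k, hk⟩ := R.isPGroup' ⟨x, hx⟩
        apply isPGroup_zpowers_of_pow (x : X) k
        have h1 := congrArg Subtype.val hk
        have h2 := congrArg Subtype.val h1
        simpa using h2
      exact R.not_dvd_index (dvd_trans hdvd (Subgroup.index_dvd_of_le hRC))
    have hidx0 : Cq.index ≠ 0 := Subgroup.index_ne_zero_of_finite
    have hpow := Nat.eq_prime_pow_of_unique_prime_dvd hidx0 (fun {d} hd hdvd => hidx d hd hdvd)
    have hPG : IsPGroup q (↥L ⧸ Cq) :=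
      IsPGroup.of_card (n := Cq.index.primeFactorsList.length)
        (by rw [← Subgroup.index_eq_card]; exact hpow)
    have hnil : Group.IsNilpotent (↥L ⧸ Cq) := hPG.isNilpotent
    have hss : Subsingleton (↥L ⧸ Cq) := by
      by_contra hns
      rw [not_subsingleton_iff_nontrivial] at hns
      haveI := hns
      exact Group.IsPerfect.not_isNilpotent (↥L ⧸ Cq) hnil
    have htop : Cq = ⊤ := QuotientGroup.subgroup_eq_top_of_subsingleton Cq hss
    rw [hCqdef, Subgroup.subgroupOf_eq_top] at htop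
    exact htop
  have hLF : Cfsg.fittingSubgroup X ≤ Subgroup.centralizer (L : Set X) := by
    rw [fitting_eq_pCoreSup]
    unfold pCoreSup
    apply iSup_le
    intro p
    exact Subgroup.le_centralizer_iff.mp (hLq p p.2)
  have hLE : Cfsg.layer X ≤ Subgroup.centralizer (L : Set X) :=
    Subgroup.le_centralizer_iff.mp (hLY.trans hYE)
  have hLW : L ≤ Subgroup.centralizer (Cfsg.generalizedFittingSubgroup X : Set X) :=
    Subgroup.le_centralizer_iff.mp (sup_le hLE hLF)
  have hLW' : L ≤ Cfsg.generalizedFittingSubgroup X := hLW.trans Cfsg.Agent.S1265.result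
  have hLbot : L = ⊥ := by
    rw [← hLperf, Subgroup.commutator_eq_bot_iff_le_centralizer]
    exact hLW.trans (Subgroup.centralizer_le (SetLike.coe_subset_coe.mpr hLW'))
  have hKbot : K = ⊥ := by
    rw [hLbot, Subgroup.map_bot] at hKL
    exact le_bot_iff.mp hKL
  have := component_nontrivial hK
  exact (Subgroup.nontrivial_iff_ne_bot K).mp this hKbot

end Cfsg.Agent.Lib.Helper3
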