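import Mathlib
import Cfsg.Agent.Lib.Helper3.FStarQuot2
import Cfsg.Agent.Lib.Helper3.PQ
import Cfsg.Agent.Lib.Helper3.Subn

set_option autoImplicit false
set_option linter.style.haveILetI false
open scoped commutatorElement

universe u

namespace Cfsg.Agent.Lib.Helper3

open Cfsg.Agent.Lib.Helper1

variable {X : Type u} [Group X] [Finite X]

/-- elements of `O_r(X)` and `O_{r'}(X)` commute -/
theorem pCore_comm_pPrimeCore (r : ℕ) [Fact r.Prime] {a b : X} (ha : a ∈ Cfsg.pCore r X)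
    (hb : b ∈ Cfsg.pPrimeCore r X) : a * b = b * a := by
  haveI hPn : (Cfsg.pCore r X).Normal := pCore_normal' r
  haveI hOn : (Cfsg.pPrimeCore r X).Normal := pPrimeCore_normal' r
  have h1 : ⁅a, b⁆ ∈ Cfsg.pCore r X ⊓ Cfsg.pPrimeCore r X := by
    refine Subgroup.mem_inf.mpr ⟨?_, ?_⟩
    · rw [commutatorElement_def]
      have h1 : b * a⁻¹ * b⁻¹ ∈ Cfsg.pCore r X := hPn.conj_mem _ (inv_mem ha) b
      have e' : a * b * a⁻¹ * b⁻¹ = a * (b * a⁻¹ * b⁻¹) := by group
      rw [e']; exact mul_mem ha h1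
    · rw [commutatorElement_def]
      have h1 : a * b * a⁻¹ ∈ Cfsg.pPrimeCore r X := hOn.conj_mem _ hb a
      exact mul_mem h1 (inv_mem hb)
  have h2 : Cfsg.pCore r X ⊓ Cfsg.pPrimeCore r X = ⊥ := by
    apply disjoint_iff.mp
    apply Subgroup.disjoint_of_coprime_natCard
    obtain ⟨k, hk⟩ := IsPGroup.iff_card.mp (pCore_isPGroup (p := r) (G := X))
    rw [hk]; exact Nat.Coprime.pow_left k (pPrimeCore_coprime r).symm
  rw [h2, Subgroup.mem_bot] at h1
  exact commutatorElement_eq_one_iff_mul_comm.mp h1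

theorem pCore_le_pPrimeCore_of_ne {r s : ℕ} [hr : Fact r.Prime] [hs : Fact s.Prime] (hrs : r ≠ s) :
    Cfsg.pCore s X ≤ Cfsg.pPrimeCore r X := by
  apply le_pPrimeCore _ (pCore_normal' s)
  obtain ⟨k, hk⟩ := IsPGroup.iff_card.mp (pCore_isPGroup (p := s) (G := X))
  rw [hk]
  exact Nat.Coprime.pow_left k ((Nat.coprime_primes hs.out hr.out).mpr (Ne.symm hrs))

/-- decomposition of an element of `F(X)` into its `r`-part and `r'`-part -/
theorem fitting_decomp (r : ℕ) [Fact r.Prime] {f : X} (hf : f ∈ Cfsg.fittingSubgroup X) :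
    ∃ a ∈ Cfsg.pCore r X, ∃ b ∈ Cfsg.pPrimeCore r X, f = a * b ∧ ∃ m : ℕ, a = f ^ m := by
  haveI hOn : (Cfsg.pPrimeCore r X).Normal := pPrimeCore_normal' r
  have hf' : f ∈ pCoreSup X := by rw [← fitting_eq_pCoreSup]; exact hf
  have h2 : f ∈ Cfsg.pCore r X ⊔ Cfsg.pPrimeCore r X := pCoreSup_le_sup r hf'
  have h3 : f ∈ ((Cfsg.pCore r X ⊔ Cfsg.pPrimeCore r X : Subgroup X) : Set X) := h2
  rw [Subgroup.mul_normal] at h3
  obtain ⟨a, ha, b, hb, hab⟩ := Set.mem_mul.mp h3
  refine ⟨a, ha, b, hb, hab.symm, ?_⟩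
  have hcomm : Commute a b := pCore_comm_pPrimeCore r ha hb
  obtain ⟨n, hn⟩ : ∃ n : ℕ, n = Nat.card (Cfsg.pPrimeCore r X) := ⟨_, rfl⟩
  have hbn : b ^ n = 1 := by
    rw [hn]; exact (orderOf_dvd_iff_pow_eq_one).mp (Subgroup.orderOf_dvd_natCard _ hb)
  have hfn : f ^ n = a ^ n := by rw [← hab, hcomm.mul_pow, hbn, mul_one]
  have hcop : n.Coprime (orderOf a) := by
    obtain ⟨k, hk⟩ := (pCore_isPGroup (p := r) (G := X)) ⟨a, ha⟩
    have h1 : a ^ (r ^ k) = 1 := by
      have := congrArg Subtype.val hk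
      simpa using this
    have h2 : orderOf a ∣ r ^ k := orderOf_dvd_of_pow_eq_one h1
    rw [hn]
    exact Nat.Coprime.coprime_dvd_right h2 (Nat.Coprime.pow_right k (pPrimeCore_coprime r))
  obtain ⟨m', hm'⟩ := exists_pow_eq_self_of_coprime hcop
  refine ⟨n * m', ?_⟩
  rw [pow_mul, hfn, hm']

/-- a perfect subgroup lies in any subgroup it normalizes that contains its `q'`-elements -/
theorem perfect_le_of_pprime_mem (L C : Subgroup X) (hperf : ⁅L, L⁆ = L)
    (hn : ∀ l ∈ L, ∀ c ∈ C, l * c * l⁻¹ ∈ C) (q : ℕ) [Fact q.Prime]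
    (h : ∀ x ∈ L, (orderOf x).Coprime q → x ∈ C) : L ≤ C := by
  haveI hLP : Group.IsPerfect ↥L := Subgroup.isPerfect_iff.mpr hperf
  obtain ⟨Cq, hCqdef⟩ : ∃ Cq : Subgroup ↥L, Cq = C.subgroupOf L := ⟨_, rfl⟩
  haveI hCqn : Cq.Normal := by
    rw [hCqdef]
    refine ⟨fun n hn' g => ?_⟩
    rw [Subgroup.mem_subgroupOf] at hn' ⊢
    exact hn g g.2 n hn'
  have hidx : ∀ r : ℕ, r.Prime → r ∣ Cq.index → r = q := by
    intro r hr hdvd
    by_contra hrq
    haveI : Fact r.Prime := ⟨hr⟩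
    obtain ⟨R⟩ : Nonempty (Sylow r ↥L) := inferInstance
    have hRC : (R : Subgroup ↥L) ≤ Cq := by
      intro x hx
      rw [hCqdef, Subgroup.mem_subgroupOf]
      apply h (x : X) x.2
      obtain ⟨k, hk⟩ := R.isPGroup' ⟨x, hx⟩
      have h1 := congrArg Subtype.val hk
      have h2 := congrArg Subtype.val h1
      have h3 : (x : X) ^ (r ^ k) = 1 := by simpa using h2
      have h4 : orderOf (x : X) ∣ r ^ k := orderOf_dvd_of_pow_eq_one h3
      exact Nat.Coprime.coprime_dvd_left h4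
        (Nat.Coprime.pow_left k ((Nat.coprime_primes hr (Fact.out : q.Prime)).mpr hrq))
    exact R.not_dvd_index (dvd_trans hdvd (Subgroup.index_dvd_of_le hRC))
  have hidx0 : Cq.index ≠ 0 := Subgroup.index_ne_zero_of_finite
  have hpow := Nat.eq_prime_pow_of_unique_prime_dvd hidx0 (fun {d} hd hdvd => hidx d hd hdvd)
  have hPG : IsPGroup q (↥L ⧸ Cq) :=
    IsPGroup.of_card (n := Cq.index.primeFactorsList.length)
      (by rw [← Subgroup.index_eq_card]; exact hpow)
  have hnil : Group.IsNilpotent (↥L ⧸ Cq) := hPG.isNilpotent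
  have hss : Subsingleton (↥L ⧸ Cq) := by
    by_contra hns
    rw [not_subsingleton_iff_nontrivial] at hns
    haveI := hns
    exact Group.IsPerfect.not_isNilpotent (↥L ⧸ Cq) hnil
  have htop : Cq = ⊤ := QuotientGroup.subgroup_eq_top_of_subsingleton Cq hss
  rw [hCqdef, Subgroup.subgroupOf_eq_top] at htop
  exact htop

/-- Bender's lemma, core: an `S`-invariant `p`-subgroup `D` centralizes `E(X)` and every `O_r(X)`,
`r ≠ p`, when `S` is subnormal in `F*(X)` and contains its centralizer in `F*(X)`. -/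
theorem bender_core (S D : Subgroup X) {p : ℕ} [Fact p.Prime]
    (hSF : S ≤ Cfsg.generalizedFittingSubgroup X) (hSsn : S.IsSubnormal)
    (hSC : Cfsg.generalizedFittingSubgroup X ⊓ Subgroup.centralizer (S : Set X) ≤ S)
    (hDp : IsPGroup p D) (hSD : S ≤ Subgroup.normalizer (D : Set X)) :
    D ≤ Subgroup.centralizer (Cfsg.layer X : Set X) ∧
      ∀ r : ℕ, r.Prime → r ≠ p → D ≤ Subgroup.centralizer (Cfsg.pCore r X : Set X) := by
  have hp := (Fact.out : p.Prime)
  haveI hEn : (Cfsg.layer X).Normal := layer_normal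
  haveI hFn : (Cfsg.fittingSubgroup X).Normal := fitting_normal
  have hW : Cfsg.generalizedFittingSubgroup X = Cfsg.layer X ⊔ Cfsg.fittingSubgroup X := rfl
  have hEW : Cfsg.layer X ≤ Cfsg.generalizedFittingSubgroup X := by rw [hW]; exact le_sup_left
  have hFW : Cfsg.fittingSubgroup X ≤ Cfsg.generalizedFittingSubgroup X := by
    rw [hW]; exact le_sup_right
  have hES : Cfsg.layer X ≤ S := by
    rw [layer_le_iff]
    intro K hK
    rcases component_subnormal hK hSsn with h | h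
    · exact h
    · have h1 : K ≤ Subgroup.centralizer (S : Set X) :=
        Subgroup.commutator_eq_bot_iff_le_centralizer.mp h
      exact (le_inf ((component_le_layer hK).trans hEW) h1).trans hSC
  have hconjD : ∀ s ∈ S, ∀ d ∈ D, s * d * s⁻¹ ∈ D := by
    intro s hs d hd
    exact ((Subgroup.mem_normalizer_iff.mp (hSD hs)) d).mp hd
  have hDE : D ≤ Subgroup.centralizer (Cfsg.layer X : Set X) := by
    have hPpF : Cfsg.pCore p X ≤ Cfsg.fittingSubgroup X := by
      rw [fitting_eq_pCoreSup]; exact pCore_le_pCoreSup hp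
    have hDEp : D ⊓ Cfsg.layer X ≤ Cfsg.pCore p X := by
      apply subnormal_pgroup_le_pCore p _ (hDp.to_le inf_le_left)
      have hnorm : Cfsg.layer X ≤
          Subgroup.normalizer ((D ⊓ Cfsg.layer X : Subgroup X) : Set X) :=
        (le_inf (hES.trans hSD) Subgroup.le_normalizer).trans
          Subgroup.inf_normalizer_le_normalizer_inf
      have hn' : ((D ⊓ Cfsg.layer X).subgroupOf (Cfsg.layer X)).Normal :=
        Subgroup.normal_subgroupOf_of_le_normalizer hnorm
      exact Subgroup.IsSubnormal.trans inf_le_right hn'.isSubnormal hEn.isSubnormal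
    apply le_centralizer_layer_of_comm_le (Cfsg.pCore p X) D hPpF
    intro d hd e he
    apply hDEp
    refine Subgroup.mem_inf.mpr ⟨?_, ?_⟩
    · rw [commutatorElement_def]
      exact mul_mem (hconjD e (hES he) d hd) (inv_mem hd)
    · rw [commutatorElement_def]
      have h1 : d * e⁻¹ * d⁻¹ ∈ Cfsg.layer X := hEn.conj_mem _ (inv_mem he) d
      have e' : e * d * e⁻¹ * d⁻¹ = e * (d * e⁻¹ * d⁻¹) := by group
      rw [e']; exact mul_mem he h1
  refine ⟨hDE, ?_⟩
  intro r hr hrp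
  haveI : Fact r.Prime := ⟨hr⟩
  haveI hPn : (Cfsg.pCore r X).Normal := pCore_normal' r
  have hPr : IsPGroup r (Cfsg.pCore r X) := pCore_isPGroup
  have hPrF : Cfsg.pCore r X ≤ Cfsg.fittingSubgroup X := by
    rw [fitting_eq_pCoreSup]; exact pCore_le_pCoreSup hr
  intro d hd
  have hdord : (orderOf d).Coprime r := by
    obtain ⟨k, hk⟩ := hDp ⟨d, hd⟩
    have h1 : d ^ (p ^ k) = 1 := by
      have := congrArg Subtype.val hk
      simpa using this
    have h2 : orderOf d ∣ p ^ k := orderOf_dvd_of_pow_eq_one h1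
    exact Nat.Coprime.coprime_dvd_left h2
      (Nat.Coprime.pow_left k ((Nat.coprime_primes hp hr).mpr (Ne.symm hrp)))
  have hDP : D ⊓ Cfsg.pCore r X = ⊥ := by
    apply disjoint_iff.mp
    apply Subgroup.disjoint_of_coprime_natCard
    obtain ⟨k, hk⟩ := IsPGroup.iff_card.mp hDp
    obtain ⟨j, hj⟩ := IsPGroup.iff_card.mp hPr
    rw [hk, hj]
    exact Nat.Coprime.pow _ _ ((Nat.coprime_primes hp hr).mpr (Ne.symm hrp))
  have hdU : d ∈ Subgroup.centralizer ((S ⊓ Cfsg.pCore r X : Subgroup X) : Set X) := by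
    rw [Subgroup.mem_centralizer_iff]
    intro u hu
    obtain ⟨huS, huP⟩ := Subgroup.mem_inf.mp hu
    have h1 : ⁅u, d⁆ ∈ D ⊓ Cfsg.pCore r X := by
      refine Subgroup.mem_inf.mpr ⟨?_, ?_⟩
      · rw [commutatorElement_def]
        exact mul_mem (hconjD u huS d hd) (inv_mem hd)
      · rw [commutatorElement_def]
        have h1 : d * u⁻¹ * d⁻¹ ∈ Cfsg.pCore r X := hPn.conj_mem _ (inv_mem huP) d
        have e' : u * d * u⁻¹ * d⁻¹ = u * (d * u⁻¹ * d⁻¹) := by group
        rw [e']; exact mul_mem huP h1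
    rw [hDP, Subgroup.mem_bot] at h1
    exact commutatorElement_eq_one_iff_mul_comm.mp h1
  apply pq_lemma_elem (p := r) (hPr.to_le inf_le_right) hdord hdU (Nat.card (Cfsg.pCore r X))
    (Cfsg.pCore r X) le_rfl hPr ?_ ?_ ?_
  · rw [Subgroup.normalizer_eq_top_iff.mpr hPn]; exact le_top
  · rw [Subgroup.normalizer_eq_top_iff.mpr hPn]; exact Subgroup.mem_top d
  · intro u hu
    obtain ⟨huP, huC⟩ := Subgroup.mem_inf.mp hu
    have huS : u ∈ S := by
      apply hSC
      refine Subgroup.mem_inf.mpr ⟨hFW (hPrF huP), ?_⟩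
      rw [Subgroup.mem_centralizer_iff]
      intro s hs
      have hsW0 : s ∈ Cfsg.layer X ⊔ Cfsg.fittingSubgroup X := hSF hs
      have hsW : s ∈ ((Cfsg.layer X ⊔ Cfsg.fittingSubgroup X : Subgroup X) : Set X) := hsW0
      rw [Subgroup.normal_mul] at hsW
      obtain ⟨e, he, f, hf, hef⟩ := Set.mem_mul.mp hsW
      have hfS : f ∈ S := by
        have e' : f = e⁻¹ * s := by rw [← hef]; group
        rw [e']; exact mul_mem (inv_mem (hES he)) hs
      have hue : e * u = u * e := by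
        have := fitting_le_centralizer_layer (hPrF huP)
        rw [Subgroup.mem_centralizer_iff] at this
        exact this e he
      obtain ⟨a, ha, b, hb, hfab, m, ham⟩ := fitting_decomp r hf
      have haS : a ∈ S ⊓ Cfsg.pCore r X := by
        refine Subgroup.mem_inf.mpr ⟨?_, ha⟩
        rw [ham]; exact pow_mem hfS m
      have hua : a * u = u * a := by
        rw [Subgroup.mem_centralizer_iff] at huC
        exact huC a haS
      have hub : b * u = u * b := (pCore_comm_pPrimeCore r huP hb).symm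
      rw [← hef, hfab]
      calc e * (a * b) * u = e * a * (b * u) := by group
        _ = e * a * (u * b) := by rw [hub]
        _ = e * (a * u) * b := by group
        _ = e * (u * a) * b := by rw [hua]
        _ = (e * u) * a * b := by group
        _ = (u * e) * a * b := by rw [hue]
        _ = u * (e * (a * b)) := by group
    have : u ∈ S ⊓ Cfsg.pCore r X := Subgroup.mem_inf.mpr ⟨huS, huP⟩
    rw [Subgroup.mem_centralizer_iff] at hdU
    exact (hdU u this).symm

/-- Bender's lemma (a): if `p ∤ |F(X)|` then an `S`-invariant `p`-subgroup is trivial. -/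
theorem bender_trivial (S D : Subgroup X) {p : ℕ} [Fact p.Prime]
    (hSF : S ≤ Cfsg.generalizedFittingSubgroup X) (hSsn : S.IsSubnormal)
    (hSC : Cfsg.generalizedFittingSubgroup X ⊓ Subgroup.centralizer (S : Set X) ≤ S)
    (hDp : IsPGroup p D) (hSD : S ≤ Subgroup.normalizer (D : Set X))
    (hpF : ¬ p ∣ Nat.card (Cfsg.fittingSubgroup X)) : D = ⊥ := by
  obtain ⟨hDE, hDr⟩ := bender_core S D hSF hSsn hSC hDp hSD
  have hp := (Fact.out : p.Prime)
  haveI hEn : (Cfsg.layer X).Normal := layer_normal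
  haveI hFn : (Cfsg.fittingSubgroup X).Normal := fitting_normal
  have hPp : Cfsg.pCore p X = ⊥ := by
    have h1 : Cfsg.pCore p X ≤ Cfsg.fittingSubgroup X := by
      rw [fitting_eq_pCoreSup]; exact pCore_le_pCoreSup hp
    have h2 : Nat.card (Cfsg.pCore p X) ∣ Nat.card (Cfsg.fittingSubgroup X) :=
      Subgroup.card_dvd_of_le h1
    obtain ⟨k, hk⟩ := IsPGroup.iff_card.mp (pCore_isPGroup (p := p) (G := X))
    have hk0 : k = 0 := by
      by_contra hne
      apply hpF
      exact dvd_trans (hk ▸ dvd_pow_self p hne) h2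
    rw [hk0, pow_zero] at hk
    exact Subgroup.card_eq_one.mp hk
  have hDF : Cfsg.fittingSubgroup X ≤ Subgroup.centralizer (D : Set X) := by
    rw [fitting_eq_pCoreSup]
    unfold pCoreSup
    apply iSup_le
    intro r
    by_cases hrp : (r : ℕ) = p
    · rw [hrp, hPp]; exact bot_le
    · exact Subgroup.le_centralizer_iff.mp (hDr r r.2 hrp)
  have hDW : D ≤ Subgroup.centralizer (Cfsg.generalizedFittingSubgroup X : Set X) :=
    Subgroup.le_centralizer_iff.mp (sup_le (Subgroup.le_centralizer_iff.mp hDE) hDF)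
  have hDW' : D ≤ Cfsg.generalizedFittingSubgroup X := hDW.trans Cfsg.Agent.S1265.result
  have hZF : Cfsg.generalizedFittingSubgroup X ⊓
      Subgroup.centralizer (Cfsg.generalizedFittingSubgroup X : Set X) ≤
      Cfsg.fittingSubgroup X := by
    haveI hWn : (Cfsg.generalizedFittingSubgroup X).Normal := by
      unfold Cfsg.generalizedFittingSubgroup; infer_instance
    apply normal_nilpotent_le_fitting inferInstance
    apply isNilpotent_of_comm
    rintro ⟨a, ha⟩ ⟨b, hb⟩
    apply Subtype.ext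
    have h1 := (Subgroup.mem_inf.mp hb).2
    rw [Subgroup.mem_centralizer_iff] at h1
    exact h1 a (Subgroup.mem_inf.mp ha).1
  have hDF' : D ≤ Cfsg.fittingSubgroup X := (le_inf hDW' hDW).trans hZF
  have h2 : Nat.card D ∣ Nat.card (Cfsg.fittingSubgroup X) := Subgroup.card_dvd_of_le hDF'
  obtain ⟨k, hk⟩ := IsPGroup.iff_card.mp hDp
  have hk0 : k = 0 := by
    by_contra hne
    apply hpF
    exact dvd_trans (hk ▸ dvd_pow_self p hne) h2
  rw [hk0, pow_zero] at hk
  exact Subgroup.card_eq_one.mp hk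

theorem layer_le_of_selfcentralizing (S : Subgroup X) (hSsn : S.IsSubnormal)
    (hSC : Cfsg.generalizedFittingSubgroup X ⊓ Subgroup.centralizer (S : Set X) ≤ S) :
    Cfsg.layer X ≤ S := by
  have hW : Cfsg.generalizedFittingSubgroup X = Cfsg.layer X ⊔ Cfsg.fittingSubgroup X := rfl
  have hEW : Cfsg.layer X ≤ Cfsg.generalizedFittingSubgroup X := by rw [hW]; exact le_sup_left
  rw [layer_le_iff]
  intro K hK
  rcases component_subnormal hK hSsn with h | h
  · exact h
  · have h1 : K ≤ Subgroup.centralizer (S : Set X) :=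
      Subgroup.commutator_eq_bot_iff_le_centralizer.mp h
    exact (le_inf ((component_le_layer hK).trans hEW) h1).trans hSC

theorem pCore_inf_centralizer_ne_bot (r : ℕ) [Fact r.Prime] (h : Cfsg.pCore r X ≠ ⊥) :
    Cfsg.pCore r X ⊓ Subgroup.centralizer (Cfsg.pCore r X : Set X) ≠ ⊥ := by
  have hTp : IsPGroup r (Cfsg.pCore r X) := pCore_isPGroup
  haveI : Nontrivial ↥(Cfsg.pCore r X) := (Subgroup.nontrivial_iff_ne_bot _).mpr h
  haveI hc : Nontrivial (Subgroup.center ↥(Cfsg.pCore r X)) := hTp.center_nontrivial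
  obtain ⟨z, hz⟩ := exists_ne (1 : Subgroup.center ↥(Cfsg.pCore r X))
  intro hbot
  have hzmem : ((z : ↥(Cfsg.pCore r X)) : X) ∈
      Cfsg.pCore r X ⊓ Subgroup.centralizer (Cfsg.pCore r X : Set X) := by
    refine Subgroup.mem_inf.mpr ⟨(z : ↥(Cfsg.pCore r X)).2, ?_⟩
    rw [Subgroup.mem_centralizer_iff]
    intro t ht
    have := Subgroup.mem_center_iff.mp z.2 ⟨t, ht⟩
    exact congrArg Subtype.val this
  rw [hbot, Subgroup.mem_bot] at hzmem
  apply hz
  apply Subtype.ext
  apply Subtype.ext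
  exact hzmem

theorem le_centralizer_genFitting (V : Subgroup X) (r : ℕ) [Fact r.Prime]
    (hV1 : V ≤ Cfsg.pCore r X) (hV2 : V ≤ Subgroup.centralizer (Cfsg.pCore r X : Set X)) :
    V ≤ Subgroup.centralizer (Cfsg.generalizedFittingSubgroup X : Set X) := by
  have hr := (Fact.out : r.Prime)
  have hVF : V ≤ Cfsg.fittingSubgroup X :=
    hV1.trans (by rw [fitting_eq_pCoreSup]; exact pCore_le_pCoreSup hr)
  rw [Subgroup.le_centralizer_iff]
  apply sup_le
  · exact Subgroup.le_centralizer_iff.mp (hVF.trans fitting_le_centralizer_layer)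
  · rw [fitting_eq_pCoreSup]
    unfold pCoreSup
    apply iSup_le
    intro s
    haveI : Fact (s : ℕ).Prime := ⟨s.2⟩
    by_cases hs : (s : ℕ) = r
    · rw [hs]; exact Subgroup.le_centralizer_iff.mp hV2
    · intro b hb
      rw [Subgroup.mem_centralizer_iff]
      intro v hv
      exact pCore_comm_pPrimeCore r (hV1 hv) (pCore_le_pPrimeCore_of_ne (Ne.symm hs) hb)

/-- `F*(X) ≤ Q T` where `Q = E(X) ⨆_{r ≠ p} O_r(X)` and `T = O_p(X)`; a `p'`-element of `F*(X)`
lies in `Q`. -/
theorem pprime_mem_layer_sup (p : ℕ) [Fact p.Prime] {f : X}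
    (hf : f ∈ Cfsg.generalizedFittingSubgroup X) (hford : (orderOf f).Coprime p) :
    f ∈ Cfsg.layer X ⊔ ⨆ r : {r : Nat.Primes // (r : ℕ) ≠ p}, Cfsg.pCore (r.1 : ℕ) X := by
  have hp := (Fact.out : p.Prime)
  haveI hEn : (Cfsg.layer X).Normal := layer_normal
  haveI : ∀ r : {r : Nat.Primes // (r : ℕ) ≠ p}, (Cfsg.pCore (r.1 : ℕ) X).Normal :=
    fun r => pCore_normal' _
  obtain ⟨Q, hQdef⟩ : ∃ Q : Subgroup X,
      Q = Cfsg.layer X ⊔ ⨆ r : {r : Nat.Primes // (r : ℕ) ≠ p}, Cfsg.pCore (r.1 : ℕ) X :=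
    ⟨_, rfl⟩
  haveI hQn : Q.Normal := by rw [hQdef]; infer_instance
  rw [← hQdef]
  have hTp : IsPGroup p (Cfsg.pCore p X) := pCore_isPGroup
  have hWQT : Cfsg.generalizedFittingSubgroup X ≤ Q ⊔ Cfsg.pCore p X := by
    apply sup_le
    · rw [hQdef]; exact le_sup_left.trans le_sup_left
    · rw [fitting_eq_pCoreSup]
      unfold pCoreSup
      apply iSup_le
      intro s
      by_cases hs : (s : ℕ) = p
      · rw [hs]; exact le_sup_right
      · refine le_trans ?_ le_sup_left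
        rw [hQdef]
        refine le_trans ?_ le_sup_right
        exact le_iSup (fun r : {r : Nat.Primes // (r : ℕ) ≠ p} => Cfsg.pCore (r.1 : ℕ) X)
          ⟨s, hs⟩
  have h1 : f ∈ Q ⊔ Cfsg.pCore p X := hWQT hf
  have h1' : f ∈ ((Q ⊔ Cfsg.pCore p X : Subgroup X) : Set X) := h1
  rw [Subgroup.normal_mul] at h1'
  obtain ⟨q, hq, t, ht, hqt⟩ := Set.mem_mul.mp h1'
  obtain ⟨k, hk⟩ := hTp ⟨t, ht⟩
  have htk : t ^ (p ^ k) = 1 := by
    have := congrArg Subtype.val hk
    simpa using this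
  have hfk : f ^ (p ^ k) ∈ Q := by
    rw [← QuotientGroup.eq_one_iff]
    show QuotientGroup.mk' Q (f ^ (p ^ k)) = 1
    rw [map_pow, ← hqt, map_mul]
    have : QuotientGroup.mk' Q q = 1 := (QuotientGroup.eq_one_iff q).mpr hq
    rw [this, one_mul, ← map_pow, htk, map_one]
  have hcop : (p ^ k).Coprime (orderOf f) := Nat.Coprime.pow_left k (Nat.Coprime.symm hford)
  obtain ⟨m', hm'⟩ := exists_pow_eq_self_of_coprime hcop
  rw [← hm']; exact pow_mem hfk _

/-- conjugation by an element of `N(P)` preserves `C(P)` -/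
theorem conj_mem_centralizer_of_mem_normalizer {Y : Type*} [Group Y] {P : Subgroup Y} {g c : Y}
    (hg : g ∈ Subgroup.normalizer (P : Set Y)) (hc : c ∈ Subgroup.centralizer (P : Set Y)) :
    g * c * g⁻¹ ∈ Subgroup.centralizer (P : Set Y) := by
  rw [Subgroup.mem_centralizer_iff] at hc ⊢
  intro t ht
  have ht' : g⁻¹ * t * g ∈ (P : Set Y) := by
    have hg' := (Subgroup.mem_normalizer_iff.mp hg) (g⁻¹ * t * g)
    have e : g * (g⁻¹ * t * g) * g⁻¹ = t := by group
    rw [e] at hg'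
    exact hg'.mpr ht
  have h1 := hc _ ht'
  calc t * (g * c * g⁻¹) = g * ((g⁻¹ * t * g) * c) * g⁻¹ := by group
    _ = g * (c * (g⁻¹ * t * g)) * g⁻¹ := by rw [h1]
    _ = g * c * g⁻¹ * t := by group

end Cfsg.Agent.Lib.Helper3
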