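import Mathlib
import Cfsg.Agent.Lib.Helper3.PRes
import Cfsg.Agent.Lib.Helper3.Frattini

set_option autoImplicit false
open scoped commutatorElement

universe u

namespace Cfsg.Agent.Lib.Helper3

/-- `O^p(K)` for a subgroup `K`, as a subgroup of the ambient group, in closure form. -/
def pResOf {X : Type u} [Group X] (p : ℕ) (K : Subgroup X) : Subgroup X :=
  Subgroup.closure {g : X | g ∈ K ∧ (orderOf g).Coprime p}

theorem map_pRes_eq {X : Type u} [Group X] (p : ℕ) (K : Subgroup X) :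
    (Cfsg.pResidual p ↥K).map K.subtype = pResOf p K := by
  unfold Cfsg.pResidual pResOf
  rw [MonoidHom.map_closure]
  congr 1
  ext g
  constructor
  · rintro ⟨a, ha, rfl⟩
    refine ⟨a.2, ?_⟩
    have h1 : Nat.Coprime (orderOf a) p := ha
    rw [Subgroup.coe_subtype, Subgroup.orderOf_coe]
    exact h1
  · rintro ⟨hgK, hg⟩
    refine ⟨⟨g, hgK⟩, ?_, rfl⟩
    show Nat.Coprime (orderOf (⟨g, hgK⟩ : ↥K)) p
    rw [← Subgroup.orderOf_coe]
    exact hg

theorem pResOf_top {X : Type u} [Group X] (p : ℕ) : pResOf p (⊤ : Subgroup X) = Cfsg.pResidual p X := by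
  unfold Cfsg.pResidual pResOf
  congr 1
  ext g
  simp

theorem pResOf_mono {X : Type u} [Group X] (p : ℕ) {K K₂ : Subgroup X} (h : K ≤ K₂) :
    pResOf p K ≤ pResOf p K₂ := by
  unfold pResOf
  apply Subgroup.closure_mono
  rintro g ⟨hg1, hg2⟩
  exact ⟨h hg1, hg2⟩

theorem pResOf_le {X : Type u} [Group X] (p : ℕ) (K : Subgroup X) : pResOf p K ≤ K := by
  unfold pResOf
  rw [Subgroup.closure_le]
  rintro g ⟨hg1, _⟩
  exact hg1

theorem map_pResOf {X : Type u} [Group X] (p : ℕ) (K₁ : Subgroup X) (K' : Subgroup ↥K₁) :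
    (pResOf p K').map K₁.subtype = pResOf p (K'.map K₁.subtype) := by
  unfold pResOf
  rw [MonoidHom.map_closure]
  congr 1
  ext g
  constructor
  · rintro ⟨a, ⟨ha1, ha2⟩, rfl⟩
    refine ⟨⟨a, ha1, rfl⟩, ?_⟩
    rw [Subgroup.coe_subtype, Subgroup.orderOf_coe]
    exact ha2
  · rintro ⟨⟨a, ha, rfl⟩, hg⟩
    refine ⟨a, ⟨ha, ?_⟩, rfl⟩
    rw [Subgroup.coe_subtype, Subgroup.orderOf_coe] at hg
    exact hg

/-- conjugation by elements of `K` preserves `O^p(K)` -/
theorem pResOf_conj_mem {X : Type u} [Group X] (p : ℕ) (K : Subgroup X) {k x : X} (hk : k ∈ K)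
    (hx : x ∈ pResOf p K) : k * x * k⁻¹ ∈ pResOf p K := by
  rw [← map_pRes_eq] at hx ⊢
  obtain ⟨y, hy, rfl⟩ := hx
  have hn := pRes_normal p ↥K
  exact ⟨(⟨k, hk⟩ : ↥K) * y * (⟨k, hk⟩ : ↥K)⁻¹, hn.conj_mem y hy _, rfl⟩

/-- If `X = K P` with `K` subnormal and `P` a normal `p`-subgroup then `O^p(X) = O^p(K)`. -/
theorem pRes_le_pResOf_of_sup_eq_top (p : ℕ) [Fact p.Prime] :
    ∀ (n : ℕ) (X : Type u) [Group X] [Finite X], Nat.card X = n →
      ∀ (K P : Subgroup X), K.IsSubnormal → P.Normal → IsPGroup p P → K ⊔ P = ⊤ →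
        Cfsg.pResidual p X ≤ pResOf p K := by
  intro n
  induction n using Nat.strong_induction_on with
  | _ n ih =>
    intro X _ _ hn K P hK hPn hPp hKP
    rcases hK.lt_normal with rfl | ⟨K₁, hK₁n, hKK₁, hK₁lt⟩
    · rw [pResOf_top]
    · haveI := hK₁n
      haveI := hPn
      have hK₁P : K₁ ⊔ P = ⊤ := top_le_iff.mp (hKP ▸ sup_le_sup_right hKK₁ P)
      have hgen : ∀ g : X, (orderOf g).Coprime p → g ∈ K₁ := by
        intro g hg
        have hmem : g ∈ ((K₁ ⊔ P : Subgroup X) : Set X) := by rw [hK₁P]; trivial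
        rw [Subgroup.normal_mul] at hmem
        obtain ⟨k, hk, y, hy, rfl⟩ := Set.mem_mul.mp hmem
        obtain ⟨a, ha⟩ := hPp ⟨y, hy⟩
        have hy1 : y ^ (p ^ a) = 1 := by simpa using congrArg Subtype.val ha
        have hq : (QuotientGroup.mk' K₁ (k * y)) ^ (p ^ a) = 1 := by
          have hk1 : QuotientGroup.mk' K₁ k = 1 := (QuotientGroup.eq_one_iff k).mpr hk
          rw [map_mul, hk1, one_mul, ← map_pow, hy1, map_one]
        have hd1 : orderOf (QuotientGroup.mk' K₁ (k * y)) ∣ p ^ a := orderOf_dvd_of_pow_eq_one hq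
        have hd2 : orderOf (QuotientGroup.mk' K₁ (k * y)) ∣ orderOf (k * y) := orderOf_map_dvd _ _
        have hcop : Nat.Coprime (orderOf (k * y)) (p ^ a) := Nat.Coprime.pow_right a hg
        have hone : orderOf (QuotientGroup.mk' K₁ (k * y)) = 1 :=
          Nat.dvd_one.mp (hcop ▸ Nat.dvd_gcd hd2 hd1)
        exact (QuotientGroup.eq_one_iff _).mp (orderOf_eq_one_iff.mp hone)
      have hcard : Nat.card ↥K₁ < n := by
        rw [← hn]
        refine lt_of_le_of_ne (Subgroup.card_le_card_group K₁) ?_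
        intro h
        exact hK₁lt.ne (Subgroup.eq_top_of_card_eq K₁ h)
      have hK'sn : (K.subgroupOf K₁).IsSubnormal := hK.subgroupOf
      have hP'n : (P.subgroupOf K₁).Normal := inferInstance
      have hP'p : IsPGroup p (P.subgroupOf K₁) := hPp.comap_subtype
      have hK'P' : K.subgroupOf K₁ ⊔ P.subgroupOf K₁ = ⊤ := by
        rw [eq_top_iff]
        intro z _
        have hz : (z : X) ∈ ((K ⊔ P : Subgroup X) : Set X) := by rw [hKP]; trivial
        rw [Subgroup.mul_normal] at hz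
        obtain ⟨k, hk, y, hy, hky⟩ := Set.mem_mul.mp hz
        have hyK₁ : y ∈ K₁ := by
          have : y = k⁻¹ * (z : X) := by rw [← hky]; group
          rw [this]; exact K₁.mul_mem (K₁.inv_mem (hKK₁ hk)) z.2
        have hzeq : z = (⟨k, hKK₁ hk⟩ : ↥K₁) * ⟨y, hyK₁⟩ := Subtype.ext hky.symm
        rw [hzeq]
        exact Subgroup.mul_mem _
          (Subgroup.mem_sup_left (Subgroup.mem_subgroupOf.mpr hk))
          (Subgroup.mem_sup_right (Subgroup.mem_subgroupOf.mpr hy))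
      have hind := ih (Nat.card ↥K₁) hcard ↥K₁ rfl (K.subgroupOf K₁) (P.subgroupOf K₁) hK'sn hP'n
        hP'p hK'P'
      calc Cfsg.pResidual p X ≤ pResOf p K₁ := by
            unfold Cfsg.pResidual pResOf
            apply Subgroup.closure_mono
            intro g hg
            exact ⟨hgen g hg, hg⟩
        _ = (Cfsg.pResidual p ↥K₁).map K₁.subtype := (map_pRes_eq p K₁).symm
        _ ≤ (pResOf p (K.subgroupOf K₁)).map K₁.subtype := Subgroup.map_mono hind
        _ = pResOf p ((K.subgroupOf K₁).map K₁.subtype) := map_pResOf p K₁ _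
        _ = pResOf p K := by rw [Subgroup.map_subgroupOf_eq_of_le hKK₁]

/-- A normal `p`-subgroup normalizes `O^p(K)` for every subnormal subgroup `K`. -/
theorem normal_pgroup_le_normalizer_pResOf {p : ℕ} [Fact p.Prime] {X : Type u} [Group X] [Finite X]
    (K P : Subgroup X) (hK : K.IsSubnormal) (hPn : P.Normal) (hPp : IsPGroup p P) :
    P ≤ Subgroup.normalizer ((pResOf p K : Subgroup X) : Set X) := by
  haveI := hPn
  have hKM : K ≤ K ⊔ P := le_sup_left
  have hPM : P ≤ K ⊔ P := le_sup_right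
  have hK'sn : (K.subgroupOf (K ⊔ P)).IsSubnormal := hK.subgroupOf
  have hP'n : (P.subgroupOf (K ⊔ P)).Normal := inferInstance
  have hP'p : IsPGroup p (P.subgroupOf (K ⊔ P)) := hPp.comap_subtype
  have hK'P' : K.subgroupOf (K ⊔ P) ⊔ P.subgroupOf (K ⊔ P) = ⊤ := by
    rw [eq_top_iff]
    intro z _
    have hz : (z : X) ∈ ((K ⊔ P : Subgroup X) : Set X) := z.2
    rw [Subgroup.mul_normal] at hz
    obtain ⟨k, hk, y, hy, hky⟩ := Set.mem_mul.mp hz
    have hzeq : z = (⟨k, hKM hk⟩ : ↥(K ⊔ P)) * ⟨y, hPM hy⟩ := Subtype.ext hky.symm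
    rw [hzeq]
    exact Subgroup.mul_mem _
      (Subgroup.mem_sup_left (Subgroup.mem_subgroupOf.mpr hk))
      (Subgroup.mem_sup_right (Subgroup.mem_subgroupOf.mpr hy))
  have h1 := pRes_le_pResOf_of_sup_eq_top p (Nat.card ↥(K ⊔ P)) ↥(K ⊔ P) rfl
    (K.subgroupOf (K ⊔ P)) (P.subgroupOf (K ⊔ P)) hK'sn hP'n hP'p hK'P'
  have h2 : pResOf p (K ⊔ P) ≤ pResOf p K := by
    calc pResOf p (K ⊔ P) = (Cfsg.pResidual p ↥(K ⊔ P)).map (K ⊔ P).subtype := (map_pRes_eq p _).symm
      _ ≤ (pResOf p (K.subgroupOf (K ⊔ P))).map (K ⊔ P).subtype := Subgroup.map_mono h1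
      _ = pResOf p ((K.subgroupOf (K ⊔ P)).map (K ⊔ P).subtype) := map_pResOf p _ _
      _ = pResOf p K := by rw [Subgroup.map_subgroupOf_eq_of_le hKM]
  have h3 : pResOf p K = pResOf p (K ⊔ P) := le_antisymm (pResOf_mono p hKM) h2
  intro x hx
  apply mem_normalizer_of_map_conj_le
  rintro _ ⟨y, hy, rfl⟩
  show x * y * x⁻¹ ∈ pResOf p K
  rw [h3] at hy ⊢
  exact pResOf_conj_mem p (K ⊔ P) (hPM hx) hy

end Cfsg.Agent.Lib.Helper3
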