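import Mathlib
import Cfsg.Agent.Lib.Helper3.Bender
import Cfsg.Agent.Lib.Helper3.SubnRes
import Cfsg.Agent.Lib.Helper3.PRes
import Cfsg.Agent.Lib.Helper3.CharP
import Cfsg.Agent.S1265
import Cfsg.Agent.S1247

set_option autoImplicit false
set_option linter.style.haveILetI false
open scoped commutatorElement

universe u

/-!
Bender's uniqueness theorem, symmetric case: for distinct maximal subgroups `M`, `N` of a simple
group that are related both ways (`BenderRel`), `F*(M)` and `F*(N)` are `p`-groups for one `p`.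
Key new step: the `p'`-elements of `C(O_p(M))` and of `C(O_p(N))` coincide.
-/

namespace Cfsg.Agent.Lib.Helper3

open Cfsg.Agent.Lib.Helper1

theorem orderOf_conj_eq {Y : Type*} [Group Y] (g a : Y) : orderOf (g * a * g⁻¹) = orderOf a := by
  have := orderOf_injective (MulAut.conj g).toMonoidHom (MulAut.conj g).injective a
  simpa [MulAut.conj_apply] using this

theorem le_normalizer_closure_of_conj {Y : Type*} [Group Y] (K : Subgroup Y) (s : Set Y)
    (hs : ∀ g ∈ K, ∀ a ∈ s, g * a * g⁻¹ ∈ s) :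
    K ≤ Subgroup.normalizer ((Subgroup.closure s : Subgroup Y) : Set Y) := by
  have key : ∀ g ∈ K, ∀ h ∈ Subgroup.closure s, g * h * g⁻¹ ∈ Subgroup.closure s := by
    intro g hg h hh
    have h1 : (Subgroup.closure s).map (MulAut.conj g).toMonoidHom ≤ Subgroup.closure s := by
      rw [MonoidHom.map_closure, Subgroup.closure_le]
      rintro _ ⟨a, ha, rfl⟩
      exact Subgroup.subset_closure (by simpa [MulAut.conj_apply] using hs g hg a ha)
    exact h1 ⟨h, hh, by simp [MulAut.conj_apply]⟩
  intro g hg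
  rw [Subgroup.mem_normalizer_iff]
  intro h
  constructor
  · exact key g hg h
  · intro hh
    have := key g⁻¹ (inv_mem hg) _ hh
    simpa [mul_assoc] using this

theorem isSubnormal_of_nilp {Y : Type*} [Group Y] [Finite Y] [hn : Group.IsNilpotent Y]
    (H : Subgroup Y) : H.IsSubnormal := by
  have hnc : NormalizerCondition Y := Group.normalizerCondition_of_isNilpotent
  induction H using WellFoundedGT.induction with
  | ind H ih =>
    by_cases hH : H = ⊤
    · rw [hH]; exact Subgroup.IsSubnormal.top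
    · have hlt : H < Subgroup.normalizer (H : Set Y) := hnc H (lt_top_iff_ne_top.2 hH)
      exact Subgroup.IsSubnormal.step H _ hlt.le (ih _ hlt) Subgroup.normal_in_normalizer

theorem subnormal_of_nilpotent_quotient {Y : Type*} [Group Y] [Finite Y] (E : Subgroup Y)
    [E.Normal] (hnil : Group.IsNilpotent (Y ⧸ E)) (S : Subgroup Y) (hES : E ≤ S) :
    S.IsSubnormal := by
  have h1 : (S.map (QuotientGroup.mk' E)).IsSubnormal := isSubnormal_of_nilp _
  have h2 := h1.comap (QuotientGroup.mk' E)
  rw [Subgroup.comap_map_eq_self (by rw [QuotientGroup.ker_mk']; exact hES)] at h2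
  exact h2

section general

variable {X : Type u} [Group X] [Finite X]

theorem pCore_ne_bot_of_dvd (r : ℕ) [Fact r.Prime]
    (h : r ∣ Nat.card ↥(Cfsg.fittingSubgroup X)) : Cfsg.pCore r X ≠ ⊥ := by
  have hr := (Fact.out : r.Prime)
  intro hbot
  have h1 : Cfsg.fittingSubgroup X ≤ Cfsg.pPrimeCore r X := by
    rw [fitting_eq_pCoreSup]
    have := pCoreSup_le_sup (G := X) r
    rw [hbot, bot_sup_eq] at this
    exact this
  have h2 := Subgroup.card_dvd_of_le h1
  have h3 := pPrimeCore_coprime (G := X) r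
  exact (Nat.Prime.coprime_iff_not_dvd hr).mp h3.symm (dvd_trans h h2)

theorem layer_le_pResOf (p : ℕ) [Fact p.Prime] :
    Cfsg.layer X ≤ pResOf p (Cfsg.generalizedFittingSubgroup X) := by
  have hperf : Group.IsPerfect ↥(Cfsg.layer X) := Subgroup.isPerfect_iff.mpr layer_perfect
  have h1 : Cfsg.pResidual p ↥(Cfsg.layer X) = ⊤ := by
    apply pRes_eq_top_of_sup_commutator
    rw [hperf.commutator_eq_top, sup_top_eq]
  have h2 := map_pRes_eq p (Cfsg.layer X)
  rw [h1, ← MonoidHom.range_eq_map, Subgroup.range_subtype] at h2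
  calc Cfsg.layer X = pResOf p (Cfsg.layer X) := h2
    _ ≤ pResOf p (Cfsg.generalizedFittingSubgroup X) := pResOf_mono p le_sup_left

theorem mem_centralizer_genFitting_of (p : ℕ) [Fact p.Prime] (z : X)
    (hzP : z ∈ Subgroup.centralizer (Cfsg.pCore p X : Set X))
    (hzX : ∀ y ∈ Cfsg.generalizedFittingSubgroup X, (orderOf y).Coprime p → y * z = z * y) :
    z ∈ Subgroup.centralizer (Cfsg.generalizedFittingSubgroup X : Set X) := by
  have hp := (Fact.out : p.Prime)
  have hXs : pResOf p (Cfsg.generalizedFittingSubgroup X) ≤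
      Subgroup.centralizer ({z} : Set X) := by
    unfold pResOf
    rw [Subgroup.closure_le]
    rintro y ⟨hy1, hy2⟩
    rw [SetLike.mem_coe, Subgroup.mem_centralizer_iff]
    intro h hh
    rw [Set.mem_singleton_iff] at hh
    rw [hh]; exact (hzX y hy1 hy2).symm
  have hle : Cfsg.generalizedFittingSubgroup X ≤ Subgroup.centralizer ({z} : Set X) := by
    show Cfsg.layer X ⊔ Cfsg.fittingSubgroup X ≤ _
    apply sup_le
    · exact (layer_le_pResOf p).trans hXs
    · rw [fitting_eq_pCoreSup]
      unfold pCoreSup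
      apply iSup_le
      intro s
      haveI : Fact (s : ℕ).Prime := ⟨s.2⟩
      by_cases hs : (s : ℕ) = p
      · rw [hs]
        intro b hb
        rw [Subgroup.mem_centralizer_iff]
        intro h hh
        rw [Set.mem_singleton_iff] at hh
        rw [hh]
        exact ((Subgroup.mem_centralizer_iff.mp hzP) b hb).symm
      · intro b hb
        apply hXs
        show b ∈ Subgroup.closure {g : X | g ∈ Cfsg.generalizedFittingSubgroup X ∧
          (orderOf g).Coprime p}
        apply Subgroup.subset_closure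
        refine ⟨?_, ?_⟩
        · have hTF : Cfsg.pCore (s : ℕ) X ≤ Cfsg.fittingSubgroup X := by
            rw [fitting_eq_pCoreSup]; exact pCore_le_pCoreSup s.2
          exact (le_sup_right : Cfsg.fittingSubgroup X ≤ Cfsg.generalizedFittingSubgroup X)
            (hTF hb)
        · obtain ⟨k, hk⟩ := (IsPGroup.iff_orderOf.mp
            (pCore_isPGroup (p := (s : ℕ)) (G := X))) ⟨b, hb⟩
          rw [Subgroup.orderOf_mk] at hk
          rw [hk]
          exact Nat.Coprime.pow_left k ((Nat.coprime_primes s.2 hp).mpr hs)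
  rw [Subgroup.mem_centralizer_iff]
  intro g hg
  have := hle hg
  rw [Subgroup.mem_centralizer_iff] at this
  exact (this z rfl).symm

theorem pprime_genFit_centralizes_pCore (p : ℕ) [Fact p.Prime] {y : X}
    (hy : y ∈ Cfsg.generalizedFittingSubgroup X) (hyo : (orderOf y).Coprime p) :
    y ∈ Subgroup.centralizer (Cfsg.pCore p X : Set X) := by
  have hp := (Fact.out : p.Prime)
  have h1 := pprime_mem_layer_sup p hy hyo
  have hle : Cfsg.layer X ⊔ ⨆ r : {r : Nat.Primes // (r : ℕ) ≠ p}, Cfsg.pCore (r.1 : ℕ) X ≤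
      Subgroup.centralizer (Cfsg.pCore p X : Set X) := by
    apply sup_le
    · rw [Subgroup.le_centralizer_iff]
      have hTF : Cfsg.pCore p X ≤ Cfsg.fittingSubgroup X := by
        rw [fitting_eq_pCoreSup]; exact pCore_le_pCoreSup hp
      exact hTF.trans fitting_le_centralizer_layer
    · apply iSup_le
      intro r
      haveI : Fact (r.1 : ℕ).Prime := ⟨r.1.2⟩
      intro b hb
      rw [Subgroup.mem_centralizer_iff]
      intro v hv
      exact pCore_comm_pPrimeCore p hv (pCore_le_pPrimeCore_of_ne (Ne.symm r.2) hb)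
  exact hle h1

/-- Key step: if a `p`-subgroup `T` centralizes the `p'`-elements of `F*(X)` and is normalized by
`Z(O_p(X))`, then every `p'`-element of `C_X(O_p(X))` centralizes `T`. -/
theorem pprime_centralizes (p : ℕ) [Fact p.Prime] (T : Subgroup X) (hT : IsPGroup p T)
    (hTX : ∀ t ∈ T, ∀ y ∈ Cfsg.generalizedFittingSubgroup X, (orderOf y).Coprime p →
      t * y = y * t)
    (hZT : Cfsg.pCore p X ⊓ Subgroup.centralizer (Cfsg.pCore p X : Set X) ≤
      Subgroup.normalizer (T : Set X))
    {u : X} (hu : u ∈ Subgroup.centralizer (Cfsg.pCore p X : Set X))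
    (hord : (orderOf u).Coprime p) : ∀ t ∈ T, t * u = u * t := by
  intro t ht
  have hp := (Fact.out : p.Prime)
  haveI hPn : (Cfsg.pCore p X).Normal := pCore_normal' p
  haveI hFn : (Cfsg.fittingSubgroup X).Normal := fitting_normal
  haveI hEn : (Cfsg.layer X).Normal := layer_normal
  haveI hWn : (Cfsg.generalizedFittingSubgroup X).Normal := by
    unfold Cfsg.generalizedFittingSubgroup
    infer_instance
  obtain ⟨z, hzdef⟩ : ∃ z : X, z = t⁻¹ * (u⁻¹ * t * u) := ⟨_, rfl⟩
  have hconj : u⁻¹ * t * u = t * z := by rw [hzdef]; group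
  have hz1 : ∀ y ∈ Cfsg.generalizedFittingSubgroup X, (orderOf y).Coprime p →
      y * z = z * y := by
    intro y hy hyo
    have h1 : Commute t y := hTX t ht y hy hyo
    have hy' : u * y * u⁻¹ ∈ Cfsg.generalizedFittingSubgroup X := hWn.conj_mem y hy u
    have hyo' : (orderOf (u * y * u⁻¹)).Coprime p := by rw [orderOf_conj_eq]; exact hyo
    have h2 : t * (u * y * u⁻¹) = (u * y * u⁻¹) * t := hTX t ht _ hy' hyo'
    have h3 : Commute (u⁻¹ * t * u) y := by
      show (u⁻¹ * t * u) * y = y * (u⁻¹ * t * u)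
      calc (u⁻¹ * t * u) * y = u⁻¹ * (t * (u * y * u⁻¹)) * u := by group
        _ = u⁻¹ * ((u * y * u⁻¹) * t) * u := by rw [h2]
        _ = y * (u⁻¹ * t * u) := by group
    have h4 : Commute z y := by
      rw [hzdef]; exact (h1.inv_left).mul_left h3
    exact h4.eq.symm
  have hz2 : z ∈ Subgroup.centralizer (Cfsg.pCore p X : Set X) := by
    have e : z = (t⁻¹ * u⁻¹ * t⁻¹⁻¹) * u := by rw [hzdef]; group
    rw [e]
    have hCn : (Subgroup.centralizer (Cfsg.pCore p X : Set X)).Normal :=
      Subgroup.normal_centralizer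
    exact mul_mem (hCn.conj_mem _ (inv_mem hu) t⁻¹) hu
  have hz3 : z ∈ Subgroup.centralizer (Cfsg.generalizedFittingSubgroup X : Set X) :=
    mem_centralizer_genFitting_of p z hz2 hz1
  have hz4 : z ∈ Cfsg.generalizedFittingSubgroup X := Cfsg.Agent.S1265.result hz3
  obtain ⟨a, b, ha, hb, hzab, ⟨k, hk⟩, hbo⟩ := exists_p_decomp p z
  obtain ⟨ZF, hZFdef⟩ : ∃ ZF : Subgroup X, ZF = Cfsg.generalizedFittingSubgroup X ⊓
      Subgroup.centralizer (Cfsg.generalizedFittingSubgroup X : Set X) := ⟨_, rfl⟩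
  have hZFle : ZF ≤ Cfsg.generalizedFittingSubgroup X ⊓
      Subgroup.centralizer (Cfsg.generalizedFittingSubgroup X : Set X) := hZFdef.le
  have hzZF : z ∈ ZF := by rw [hZFdef]; exact Subgroup.mem_inf.mpr ⟨hz4, hz3⟩
  have hpowZF : Subgroup.zpowers z ≤ ZF := Subgroup.zpowers_le.mpr hzZF
  obtain ⟨haW, haC⟩ := Subgroup.mem_inf.mp (hZFle (hpowZF ha))
  obtain ⟨hbW, hbC⟩ := Subgroup.mem_inf.mp (hZFle (hpowZF hb))
  have hZFn : ZF.Normal := by rw [hZFdef]; infer_instance
  have hZFnil : Group.IsNilpotent ↥ZF := by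
    apply isNilpotent_of_comm
    intro x y
    have hx := Subgroup.mem_inf.mp (hZFle x.2)
    have hy := Subgroup.mem_inf.mp (hZFle y.2)
    have := (Subgroup.mem_centralizer_iff.mp hx.2) y hy.1
    exact Subtype.ext this.symm
  have haF : a ∈ Cfsg.fittingSubgroup X :=
    normal_nilpotent_le_fitting hZFn hZFnil (hpowZF ha)
  obtain ⟨a', ha', b', hb', hab', m, hm⟩ := fitting_decomp p haF
  have hb'1 : b' = 1 := by
    have hb'a : b' = a'⁻¹ * a := by rw [hab']; group
    have hmem : b' ∈ Subgroup.zpowers a := by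
      rw [hb'a, hm]
      exact mul_mem (inv_mem (Subgroup.npow_mem_zpowers a m)) (Subgroup.mem_zpowers a)
    have hd1 : orderOf b' ∣ p ^ k := hk ▸ orderOf_dvd_of_mem_zpowers hmem
    have hcop : (Nat.card ↥(Cfsg.pPrimeCore p X)).Coprime p := pPrimeCore_coprime p
    have hd2 : orderOf b' ∣ Nat.card ↥(Cfsg.pPrimeCore p X) :=
      Subgroup.orderOf_dvd_natCard (Cfsg.pPrimeCore p X) hb'
    have hc : (p ^ k).Coprime (Nat.card ↥(Cfsg.pPrimeCore p X)) :=
      Nat.Coprime.pow_left k hcop.symm
    have h1 := Nat.dvd_gcd hd1 hd2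
    rw [Nat.Coprime.gcd_eq_one hc] at h1
    exact orderOf_eq_one_iff.mp (Nat.dvd_one.mp h1)
  have haP : a ∈ Cfsg.pCore p X := by rw [hab', hb'1, mul_one]; exact ha'
  have hPW : Cfsg.pCore p X ≤ Cfsg.generalizedFittingSubgroup X := by
    have hTF : Cfsg.pCore p X ≤ Cfsg.fittingSubgroup X := by
      rw [fitting_eq_pCoreSup]; exact pCore_le_pCoreSup hp
    exact hTF.trans le_sup_right
  have haCP : a ∈ Subgroup.centralizer (Cfsg.pCore p X : Set X) :=
    Subgroup.centralizer_le (SetLike.coe_subset_coe.mpr hPW) haC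
  have haNT : a ∈ Subgroup.normalizer (T : Set X) := hZT (Subgroup.mem_inf.mpr ⟨haP, haCP⟩)
  have htb : Commute t b := hTX t ht b hbW hbo
  have hab : Commute a b := (Subgroup.mem_centralizer_iff.mp hbC) a haW
  have hTa : IsPGroup p ↥(T ⊔ Subgroup.zpowers a) := by
    apply IsPGroup.to_sup_of_normal_left' hT
    · exact IsPGroup.of_card (n := k) (by rw [Nat.card_zpowers, hk])
    · exact Subgroup.zpowers_le.mpr haNT
  have hta_mem : t * a ∈ T ⊔ Subgroup.zpowers a :=
    mul_mem (Subgroup.mem_sup_left ht) (Subgroup.mem_sup_right (Subgroup.mem_zpowers a))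
  obtain ⟨k1, hk1⟩ := hTa ⟨t * a, hta_mem⟩
  have hk1' : (t * a) ^ (p ^ k1) = 1 := by
    have := congrArg Subtype.val hk1
    simpa using this
  obtain ⟨k2, hk2⟩ := hT ⟨t, ht⟩
  have hk2' : t ^ (p ^ k2) = 1 := by
    have := congrArg Subtype.val hk2
    simpa using this
  have hord_tz : orderOf (t * z) = orderOf t := by
    rw [← hconj]
    have := orderOf_conj_eq u⁻¹ t
    rwa [inv_inv] at this
  have htz : (t * z) ^ (p ^ k2) = 1 := by
    apply orderOf_dvd_iff_pow_eq_one.mp
    rw [hord_tz]; exact orderOf_dvd_of_pow_eq_one hk2'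
  have hb1 : b = 1 := by
    have hcomm : Commute (t * a) b := htb.mul_left hab
    have e : t * z = (t * a) * b := by rw [hzab, mul_assoc]
    have h1 : ((t * a) * b) ^ (p ^ (k1 + k2)) = 1 := by
      rw [← e, pow_add, pow_mul', htz, one_pow]
    have h2 : (t * a) ^ (p ^ (k1 + k2)) = 1 := by
      rw [pow_add, pow_mul, hk1', one_pow]
    rw [hcomm.mul_pow, h2, one_mul] at h1
    have hd : orderOf b ∣ p ^ (k1 + k2) := orderOf_dvd_of_pow_eq_one h1
    have hc : (orderOf b).Coprime (p ^ (k1 + k2)) := Nat.Coprime.pow_right _ hbo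
    exact orderOf_eq_one_iff.mp (Nat.Coprime.eq_one_of_dvd hc hd)
  have hza : z = a := by rw [hzab, hb1, mul_one]
  have hzP : z ∈ Cfsg.pCore p X := by rw [hza]; exact haP
  have huz : Commute u z := ((Subgroup.mem_centralizer_iff.mp hu) z hzP).symm
  have hzk : orderOf z = p ^ k := by rw [hza]; exact hk
  have e2 : t⁻¹ * u * t = u * z⁻¹ := by rw [hzdef]; group
  have ho : orderOf (u * z⁻¹) = orderOf u * orderOf z⁻¹ := by
    apply Commute.orderOf_mul_eq_mul_orderOf_of_coprime huz.inv_right
    rw [orderOf_inv, hzk]; exact Nat.Coprime.pow_right k hord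
  have ho2 : orderOf (t⁻¹ * u * t) = orderOf u := by
    have := orderOf_conj_eq t⁻¹ u
    rwa [inv_inv] at this
  rw [e2, ho] at ho2
  have hz1' : orderOf z⁻¹ = 1 := by
    have hpos : 0 < orderOf u := orderOf_pos u
    exact Nat.eq_of_mul_eq_mul_left hpos (by rw [ho2, mul_one])
  have hz_one : z = 1 := by
    rw [orderOf_inv] at hz1'; exact orderOf_eq_one_iff.mp hz1'
  rw [hz_one, mul_one] at hconj
  calc t * u = u * (u⁻¹ * t * u) := by group
    _ = u * t := by rw [hconj]

end general

end Cfsg.Agent.Lib.Helper3
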