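import Mathlib
import Cfsg.Agent.Lib.Helper3.Bender2

set_option autoImplicit false
set_option linter.style.haveILetI false
open scoped commutatorElement

universe u

namespace Cfsg.Agent.Lib.Helper3

open Cfsg.Agent.Lib.Helper1

section amb

variable {G : Type u} [Group G]

theorem normalizer_map_eq_of_isCoatom [IsSimpleGroup G] {M : Subgroup G} (hM : IsCoatom M)
    (V' : Subgroup ↥M) (hV'n : V'.Normal) (hV'ne : V' ≠ ⊥) :
    Subgroup.normalizer ((V'.map M.subtype : Subgroup G) : Set G) = M := by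
  have h1 : M ≤ Subgroup.normalizer ((V'.map M.subtype : Subgroup G) : Set G) := by
    have h := Subgroup.le_normalizer_map (H := V') M.subtype
    rw [Subgroup.normalizer_eq_top_iff.mpr hV'n, ← MonoidHom.range_eq_map,
      Subgroup.range_subtype] at h
    exact h
  by_contra hne
  have hlt : M < Subgroup.normalizer ((V'.map M.subtype : Subgroup G) : Set G) :=
    lt_of_le_of_ne h1 (Ne.symm hne)
  have htop := hM.2 _ hlt
  have hn : (V'.map M.subtype).Normal := Subgroup.normalizer_eq_top_iff.mp htop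
  rcases hn.eq_bot_or_eq_top with h | h
  · exact hV'ne ((Subgroup.map_eq_bot_iff_of_injective _ (Subgroup.subtype_injective M)).mp h)
  · apply hM.1
    rw [eq_top_iff, ← h]; exact Subgroup.map_subtype_le _

/-- The two-sided relation produced by Bender's lemma (S1247) for a pair of subgroups. -/
def BenderRel (M N : Subgroup G) : Prop :=
  (∀ q : ℕ, q.Prime → ¬ q ∣ Nat.card ↥(Cfsg.fittingSubgroup ↥M) →
    (Cfsg.pCore q ↥N).map N.subtype ⊓ M = ⊥) ∧
  (∀ p : ℕ, p.Prime → p ∣ Nat.card ↥(Cfsg.fittingSubgroup ↥M) →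
    ∀ x ∈ (Cfsg.pCore p ↥N).map N.subtype, ∀ y : ↥M, y ∈ Cfsg.generalizedFittingSubgroup ↥M →
      (orderOf y).Coprime p → x * (y : G) = (y : G) * x) ∧
  ((Cfsg.layer ↥M).map M.subtype ≤ N) ∧
  (∀ v : ↥M, v ∈ Cfsg.generalizedFittingSubgroup ↥M →
    v ∈ Subgroup.centralizer (Cfsg.generalizedFittingSubgroup ↥M : Set ↥M) → (v : G) ∈ N)

variable [Finite G]

theorem leadsTo_S_props (M Q : Subgroup G)
    (hQF : Q ≤ (Cfsg.fittingSubgroup ↥M).map M.subtype) :
    ((((Cfsg.generalizedFittingSubgroup ↥M).map M.subtype ⊓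
        Subgroup.normalizer (Q : Set G)).subgroupOf
        ((Cfsg.generalizedFittingSubgroup ↥M).map M.subtype)).IsSubnormal) ∧
    ((Cfsg.generalizedFittingSubgroup ↥M).map M.subtype ⊓ Subgroup.centralizer
        ((((Cfsg.generalizedFittingSubgroup ↥M).map M.subtype ⊓
          Subgroup.normalizer (Q : Set G) : Subgroup G)) : Set G)
      ≤ (Cfsg.generalizedFittingSubgroup ↥M).map M.subtype ⊓
        Subgroup.normalizer (Q : Set G)) ∧
    ((Cfsg.layer ↥M).map M.subtype ≤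
      (Cfsg.generalizedFittingSubgroup ↥M).map M.subtype ⊓ Subgroup.normalizer (Q : Set G)) ∧
    (∀ v : ↥M, v ∈ Cfsg.generalizedFittingSubgroup ↥M →
      v ∈ Subgroup.centralizer (Cfsg.generalizedFittingSubgroup ↥M : Set ↥M) →
      (v : G) ∈ (Cfsg.generalizedFittingSubgroup ↥M).map M.subtype ⊓
        Subgroup.normalizer (Q : Set G)) := by
  haveI hFn : (Cfsg.fittingSubgroup ↥M).Normal := fitting_normal
  haveI hEn : (Cfsg.layer ↥M).Normal := layer_normal
  obtain ⟨W, hWdef⟩ : ∃ W : Subgroup G,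
    W = (Cfsg.generalizedFittingSubgroup ↥M).map M.subtype := ⟨_, rfl⟩
  have hWM : W ≤ M := by rw [hWdef]; exact Subgroup.map_subtype_le _
  have hFW : (Cfsg.fittingSubgroup ↥M).map M.subtype ≤ W := by
    rw [hWdef]; exact Subgroup.map_mono le_sup_right
  have hEW : (Cfsg.layer ↥M).map M.subtype ≤ W := by
    rw [hWdef]; exact Subgroup.map_mono le_sup_left
  obtain ⟨S, hSdef⟩ : ∃ S : Subgroup G, S = W ⊓ Subgroup.normalizer (Q : Set G) := ⟨_, rfl⟩
  have hQS : Q ≤ S := by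
    rw [hSdef]; exact le_inf (hQF.trans hFW) Subgroup.le_normalizer
  have hSC : W ⊓ Subgroup.centralizer (S : Set G) ≤ S := by
    intro x hx
    obtain ⟨hxW, hxC⟩ := Subgroup.mem_inf.mp hx
    rw [hSdef]
    refine Subgroup.mem_inf.mpr ⟨hxW, ?_⟩
    apply Subgroup.centralizer_le_normalizer
    exact Subgroup.centralizer_le (SetLike.coe_subset_coe.mpr hQS) hxC
  have hES : (Cfsg.layer ↥M).map M.subtype ≤ S := by
    rw [hSdef]
    refine le_inf hEW ?_
    rintro _ ⟨e, he, rfl⟩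
    apply Subgroup.centralizer_le_normalizer
    rw [Subgroup.mem_centralizer_iff]
    intro h hh
    obtain ⟨f, hf, rfl⟩ := hQF hh
    have h1 := fitting_le_centralizer_layer hf
    rw [Subgroup.mem_centralizer_iff] at h1
    have := h1 e he
    rw [← map_mul, ← map_mul, this]
  obtain ⟨E', hE'def⟩ : ∃ E' : Subgroup ↥W,
    E' = ((Cfsg.layer ↥M).map M.subtype).subgroupOf W := ⟨_, rfl⟩
  haveI hE'n : E'.Normal := by
    rw [hE'def]
    apply Subgroup.normal_subgroupOf_of_le_normalizer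
    have h := Subgroup.le_normalizer_map (H := Cfsg.layer ↥M) M.subtype
    rw [Subgroup.normalizer_eq_top_iff.mpr hEn, ← MonoidHom.range_eq_map,
      Subgroup.range_subtype] at h
    exact hWM.trans h
  haveI hFnil : Group.IsNilpotent ↥(Cfsg.fittingSubgroup ↥M) := by
    rw [fitting_eq_pCoreSup]
    exact pCoreSup_isNilpotent
  have hnilq : Group.IsNilpotent (↥W ⧸ E') := by
    let φ : ↥(Cfsg.fittingSubgroup ↥M) →* ↥W :=
      (M.subtype.comp (Cfsg.fittingSubgroup ↥M).subtype).codRestrict W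
        (fun f => hFW ⟨f.1, f.2, rfl⟩)
    apply Group.nilpotent_of_surjective ((QuotientGroup.mk' E').comp φ)
    intro x
    obtain ⟨x, rfl⟩ := QuotientGroup.mk'_surjective E' x
    have hxW : (x : G) ∈ (Cfsg.generalizedFittingSubgroup ↥M).map M.subtype := hWdef ▸ x.2
    obtain ⟨w, hw, hwx⟩ := hxW
    have hw' : w ∈ (↑(Cfsg.fittingSubgroup ↥M ⊔ Cfsg.layer ↥M) : Set ↥M) := by
      rw [sup_comm]; exact hw
    rw [Subgroup.mul_normal] at hw'
    obtain ⟨f, hf, e, he, hfe⟩ := Set.mem_mul.mp hw'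
    refine ⟨⟨f, hf⟩, ?_⟩
    rw [MonoidHom.comp_apply, QuotientGroup.mk'_apply, QuotientGroup.mk'_apply, QuotientGroup.eq]
    rw [hE'def, Subgroup.mem_subgroupOf]
    refine ⟨e, he, ?_⟩
    show (e : G) = ((φ ⟨f, hf⟩ : ↥W) : G)⁻¹ * (x : G)
    rw [← hwx, ← hfe]
    show (e : G) = ((f : ↥M) : G)⁻¹ * (((f : ↥M) : G) * ((e : ↥M) : G))
    group
  have hSsn : (S.subgroupOf W).IsSubnormal := by
    apply subnormal_of_nilpotent_quotient E' hnilq
    rw [hE'def]
    intro x hx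
    rw [Subgroup.mem_subgroupOf] at hx ⊢
    exact hES hx
  have h4 : ∀ v : ↥M, v ∈ Cfsg.generalizedFittingSubgroup ↥M →
      v ∈ Subgroup.centralizer (Cfsg.generalizedFittingSubgroup ↥M : Set ↥M) →
      (v : G) ∈ S := by
    intro v hv hvC
    rw [hSdef]
    refine Subgroup.mem_inf.mpr ⟨by rw [hWdef]; exact ⟨v, hv, rfl⟩, ?_⟩
    apply Subgroup.centralizer_le_normalizer
    rw [Subgroup.mem_centralizer_iff]
    intro h hh
    obtain ⟨f, hf, rfl⟩ := hQF hh
    have := (Subgroup.mem_centralizer_iff.mp hvC) f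
      ((le_sup_right : Cfsg.fittingSubgroup ↥M ≤ Cfsg.generalizedFittingSubgroup ↥M) hf)
    exact congrArg Subtype.val this
  subst hSdef
  subst hWdef
  exact ⟨hSsn, hSC, hES, h4⟩

theorem benderRel_of_S [IsSimpleGroup G] (hG : ¬ IsMulCommutative G) (M N : Subgroup G)
    (hM : IsCoatom M) (S : Subgroup G)
    (hSW : S ≤ (Cfsg.generalizedFittingSubgroup ↥M).map M.subtype)
    (hSsn : (S.subgroupOf ((Cfsg.generalizedFittingSubgroup ↥M).map M.subtype)).IsSubnormal)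
    (hSC : (Cfsg.generalizedFittingSubgroup ↥M).map M.subtype ⊓
      Subgroup.centralizer (S : Set G) ≤ S)
    (hSN : S ≤ N) (hES : (Cfsg.layer ↥M).map M.subtype ≤ S)
    (hZS : ∀ v : ↥M, v ∈ Cfsg.generalizedFittingSubgroup ↥M →
      v ∈ Subgroup.centralizer (Cfsg.generalizedFittingSubgroup ↥M : Set ↥M) → (v : G) ∈ S) :
    BenderRel M N := by
  obtain ⟨ha, hb⟩ := Cfsg.Agent.S1247.result hG M hM S hSW hSsn hSC N hSN
  refine ⟨ha, ?_, hES.trans hSN, fun v h1 h2 => hSN (hZS v h1 h2)⟩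
  intro p hp hpF x hx y hy hyo
  refine hb p hp hpF x hx y ⟨⟨y, hy⟩, Subgroup.subset_closure ?_, rfl⟩
  show Nat.Coprime (orderOf (⟨y, hy⟩ : ↥(Cfsg.generalizedFittingSubgroup ↥M))) p
  rw [Subgroup.orderOf_mk]; exact hyo

theorem benderRel_of_leadsTo [IsSimpleGroup G] (hG : ¬ IsMulCommutative G) {M N : Subgroup G}
    (hM : IsCoatom M) (h : Cfsg.leadsTo M N) : BenderRel M N := by
  obtain ⟨Q, hQne, hQF, hQN⟩ := h
  obtain ⟨h1, h2, h3, h4⟩ := leadsTo_S_props M Q hQF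
  exact benderRel_of_S hG M N hM _ inf_le_left h1 h2 hQN h3 h4

theorem benderRel_of_le [IsSimpleGroup G] (hG : ¬ IsMulCommutative G) {M N : Subgroup G}
    (hM : IsCoatom M) (h : (Cfsg.generalizedFittingSubgroup ↥M).map M.subtype ≤ N) :
    BenderRel M N := by
  apply benderRel_of_S hG M N hM ((Cfsg.generalizedFittingSubgroup ↥M).map M.subtype) le_rfl
    ?_ inf_le_left h (Subgroup.map_mono le_sup_left) (fun v hv _ => ⟨v, hv, rfl⟩)
  rw [Subgroup.subgroupOf_self]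
  exact Subgroup.IsSubnormal.top

theorem b_closure {M : Subgroup G} (p : ℕ) (x : G)
    (hx : ∀ y : ↥M, y ∈ Cfsg.generalizedFittingSubgroup ↥M → (orderOf y).Coprime p →
      x * (y : G) = (y : G) * x) :
    ∀ e : ↥M, e ∈ pResOf p (Cfsg.generalizedFittingSubgroup ↥M) → x * (e : G) = (e : G) * x := by
  have hle : pResOf p (Cfsg.generalizedFittingSubgroup ↥M) ≤
      (Subgroup.centralizer ({x} : Set G)).comap M.subtype := by
    unfold pResOf
    rw [Subgroup.closure_le]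
    rintro y ⟨hy1, hy2⟩
    show M.subtype y ∈ Subgroup.centralizer ({x} : Set G)
    rw [Subgroup.mem_centralizer_iff]
    intro h hh
    rw [Set.mem_singleton_iff] at hh
    rw [hh]; exact hx y hy1 hy2
  intro e he
  have := hle he
  rw [Subgroup.mem_comap, Subgroup.mem_centralizer_iff] at this
  exact this x rfl

theorem prime_dvd_of_rel {M N : Subgroup G}
    (h1 : BenderRel M N) (h2 : BenderRel N M) (q : ℕ) (hq : q.Prime)
    (hqN : q ∣ Nat.card ↥(Cfsg.fittingSubgroup ↥N)) :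
    q ∣ Nat.card ↥(Cfsg.fittingSubgroup ↥M) := by
  obtain ⟨h1a, -, -, -⟩ := h1
  obtain ⟨-, -, -, h2d⟩ := h2
  by_contra hqM
  haveI : Fact q.Prime := ⟨hq⟩
  have hbot := h1a q hq hqM
  have hTne : Cfsg.pCore q ↥N ≠ ⊥ := pCore_ne_bot_of_dvd q hqN
  have hZne := pCore_inf_centralizer_ne_bot q hTne
  apply hZne
  rw [eq_bot_iff]
  intro v hv
  obtain ⟨hvT, hvC⟩ := Subgroup.mem_inf.mp hv
  have hTF : Cfsg.pCore q ↥N ≤ Cfsg.fittingSubgroup ↥N := by
    rw [fitting_eq_pCoreSup]; exact pCore_le_pCoreSup hq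
  have hvW : v ∈ Cfsg.generalizedFittingSubgroup ↥N :=
    (le_sup_right : Cfsg.fittingSubgroup ↥N ≤ Cfsg.generalizedFittingSubgroup ↥N) (hTF hvT)
  have hvCW := le_centralizer_genFitting _ q inf_le_left inf_le_right hv
  have hvM : (v : G) ∈ M := h2d v hvW hvCW
  have : (v : G) ∈ (Cfsg.pCore q ↥N).map N.subtype ⊓ M :=
    Subgroup.mem_inf.mpr ⟨⟨v, hvT, rfl⟩, hvM⟩
  rw [hbot, Subgroup.mem_bot] at this
  rw [Subgroup.mem_bot]
  exact Subtype.ext this

theorem asym_false {M N : Subgroup G} (h1 : BenderRel M N)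
    (hπσ : ∀ q : ℕ, q.Prime → q ∣ Nat.card ↥(Cfsg.fittingSubgroup ↥M) →
      q ∣ Nat.card ↥(Cfsg.fittingSubgroup ↥N))
    (p : ℕ) [Fact p.Prime] (hpM : p ∣ Nat.card ↥(Cfsg.fittingSubgroup ↥M))
    (hHM : ∃ y : ↥M, y ∈ Cfsg.generalizedFittingSubgroup ↥M ∧ (orderOf y).Coprime p ∧ y ≠ 1)
    (hHN : ∀ y : ↥N, y ∈ Cfsg.generalizedFittingSubgroup ↥N → (orderOf y).Coprime p → y = 1) :
    False := by
  obtain ⟨-, h1b, h1c, -⟩ := h1
  have hp := (Fact.out : p.Prime)
  have hWNp : IsPGroup p ↥(Cfsg.generalizedFittingSubgroup ↥N) :=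
    isPGroup_of_no_pprime _ hHN
  haveI hFNn : (Cfsg.fittingSubgroup ↥N).Normal := fitting_normal
  haveI hENn : (Cfsg.layer ↥N).Normal := layer_normal
  haveI hWNn : (Cfsg.generalizedFittingSubgroup ↥N).Normal := by
    unfold Cfsg.generalizedFittingSubgroup
    infer_instance
  have hWNle : Cfsg.generalizedFittingSubgroup ↥N ≤ Cfsg.pCore p ↥N := le_pCore _ hWNn hWNp
  have hcomm : ∀ e ∈ Cfsg.layer ↥M, ∀ w ∈ Cfsg.generalizedFittingSubgroup ↥N,
      ((w : ↥N) : G) * ((e : ↥M) : G) = ((e : ↥M) : G) * ((w : ↥N) : G) := by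
    intro e he w hw
    apply b_closure p (w : G) ?_ e (layer_le_pResOf p he)
    intro y hy hyo
    exact h1b p hp hpM (w : G) ⟨w, hWNle hw, rfl⟩ y hy hyo
  have hEp : IsPGroup p ↥(Cfsg.layer ↥M) := by
    intro e
    have heN : ((e : ↥M) : G) ∈ N := h1c ⟨(e : ↥M), e.2, rfl⟩
    have hec : (⟨((e : ↥M) : G), heN⟩ : ↥N) ∈
        Subgroup.centralizer (Cfsg.generalizedFittingSubgroup ↥N : Set ↥N) := by
      rw [Subgroup.mem_centralizer_iff]
      intro w hw
      exact Subtype.ext (hcomm (e : ↥M) e.2 w hw)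
    have heW := Cfsg.Agent.S1265.result hec
    obtain ⟨k, hk⟩ := hWNp ⟨_, heW⟩
    refine ⟨k, ?_⟩
    have h3 := congrArg (fun z : ↥(Cfsg.generalizedFittingSubgroup ↥N) => ((z : ↥N) : G)) hk
    apply Subtype.ext
    apply Subtype.ext
    simpa using h3
  have hE1 : Cfsg.layer ↥M = ⊥ := by
    by_contra hne
    haveI : Nontrivial ↥(Cfsg.layer ↥M) := (Subgroup.nontrivial_iff_ne_bot _).mpr hne
    haveI : Group.IsPerfect ↥(Cfsg.layer ↥M) := Subgroup.isPerfect_iff.mpr layer_perfect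
    haveI hnil : Group.IsNilpotent ↥(Cfsg.layer ↥M) := hEp.isNilpotent
    exact Group.IsPerfect.not_isSolvable ↥(Cfsg.layer ↥M) inferInstance
  obtain ⟨y, hyW, hyo, hy1⟩ := hHM
  have hyF : y ∈ Cfsg.fittingSubgroup ↥M := by
    have e : Cfsg.generalizedFittingSubgroup ↥M = Cfsg.layer ↥M ⊔ Cfsg.fittingSubgroup ↥M := rfl
    rw [e, hE1, bot_sup_eq] at hyW; exact hyW
  have hone : orderOf y ≠ 1 := fun h => hy1 (orderOf_eq_one_iff.mp h)
  obtain ⟨r, hr, hry⟩ := Nat.exists_prime_and_dvd hone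
  have hrF : r ∣ Nat.card ↥(Cfsg.fittingSubgroup ↥M) :=
    hry.trans (Subgroup.orderOf_dvd_natCard _ hyF)
  have hrN := hπσ r hr hrF
  have hFNp : IsPGroup p ↥(Cfsg.fittingSubgroup ↥N) := hWNp.to_le le_sup_right
  obtain ⟨k, hk⟩ := IsPGroup.iff_card.mp hFNp
  rw [hk] at hrN
  have hrp : r = p := (Nat.prime_dvd_prime_iff_eq hr hp).mp (hr.dvd_of_dvd_pow hrN)
  rw [hrp] at hry
  exact (Nat.Prime.coprime_iff_not_dvd hp).mp hyo.symm hry

end amb

end Cfsg.Agent.Lib.Helper3
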