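import Mathlib
import Cfsg.Agent.Lib.Helper3.Bender3

set_option autoImplicit false
set_option linter.style.haveILetI false
open scoped commutatorElement

universe u

namespace Cfsg.Agent.Lib.Helper3

open Cfsg.Agent.Lib.Helper1

section amb

variable {G : Type u} [Group G] [Finite G] [IsSimpleGroup G]

theorem pCore_map_le_of_hasPP {M N : Subgroup G} (hM : IsCoatom M) (h1 : BenderRel M N)
    (p : ℕ) [Fact p.Prime] (hpM : p ∣ Nat.card ↥(Cfsg.fittingSubgroup ↥M))
    (hHM : ∃ y : ↥M, y ∈ Cfsg.generalizedFittingSubgroup ↥M ∧ (orderOf y).Coprime p ∧ y ≠ 1) :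
    (Cfsg.pCore p ↥N).map N.subtype ≤ M := by
  obtain ⟨-, h1b, -, -⟩ := h1
  have hp := (Fact.out : p.Prime)
  haveI hFn : (Cfsg.fittingSubgroup ↥M).Normal := fitting_normal
  haveI hEn : (Cfsg.layer ↥M).Normal := layer_normal
  haveI hWn : (Cfsg.generalizedFittingSubgroup ↥M).Normal := by
    unfold Cfsg.generalizedFittingSubgroup
    infer_instance
  obtain ⟨Xs, hXsdef⟩ : ∃ Xs : Subgroup ↥M,
    Xs = pResOf p (Cfsg.generalizedFittingSubgroup ↥M) := ⟨_, rfl⟩
  have hXn : Xs.Normal := by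
    rw [hXsdef]
    unfold pResOf
    apply closure_normal_of_conj_inv
    rintro g a ⟨ha1, ha2⟩
    exact ⟨hWn.conj_mem a ha1 g, by rw [orderOf_conj_eq]; exact ha2⟩
  have hXne : Xs ≠ ⊥ := by
    obtain ⟨y, hyW, hyo, hy1⟩ := hHM
    intro hbot
    have : y ∈ Xs := by
      rw [hXsdef]
      exact Subgroup.subset_closure ⟨hyW, hyo⟩
    rw [hbot, Subgroup.mem_bot] at this
    exact hy1 this
  have hNX := normalizer_map_eq_of_isCoatom hM Xs hXn hXne
  intro x hx
  have hxc : x ∈ Subgroup.centralizer ((Xs.map M.subtype : Subgroup G) : Set G) := by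
    rw [Subgroup.mem_centralizer_iff]
    rintro _ ⟨e, he, rfl⟩
    rw [hXsdef] at he
    exact (b_closure p x (fun y hy hyo => h1b p hp hpM x hx y hy hyo) e he).symm
  have := Subgroup.centralizer_le_normalizer _ hxc
  rwa [hNX] at this

theorem centralizer_transfer {M N : Subgroup G} (hM : IsCoatom M)
    (h1 : BenderRel M N) (p : ℕ) [Fact p.Prime]
    (hpM : p ∣ Nat.card ↥(Cfsg.fittingSubgroup ↥M)) (hPM : Cfsg.pCore p ↥M ≠ ⊥)
    (hPsM : (Cfsg.pCore p ↥N).map N.subtype ≤ M)
    {u : G} (hu : u ∈ Subgroup.centralizer (((Cfsg.pCore p ↥M).map M.subtype : Subgroup G) : Set G))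
    (hord : (orderOf u).Coprime p) :
    u ∈ Subgroup.centralizer (((Cfsg.pCore p ↥N).map N.subtype : Subgroup G) : Set G) := by
  obtain ⟨-, h1b, -, h1d⟩ := h1
  have hp := (Fact.out : p.Prime)
  haveI hPn : (Cfsg.pCore p ↥M).Normal := pCore_normal' p
  haveI hPNn : (Cfsg.pCore p ↥N).Normal := pCore_normal' p
  have hNM := normalizer_map_eq_of_isCoatom hM _ hPn hPM
  have huM : u ∈ M := by
    have := Subgroup.centralizer_le_normalizer _ hu
    rwa [hNM] at this
  have hNn : N ≤ Subgroup.normalizer (((Cfsg.pCore p ↥N).map N.subtype : Subgroup G) : Set G) := by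
    have h := Subgroup.le_normalizer_map (H := Cfsg.pCore p ↥N) N.subtype
    rw [Subgroup.normalizer_eq_top_iff.mpr hPNn, ← MonoidHom.range_eq_map,
      Subgroup.range_subtype] at h
    exact h
  obtain ⟨T, hTdef⟩ : ∃ T : Subgroup ↥M,
    T = ((Cfsg.pCore p ↥N).map N.subtype).subgroupOf M := ⟨_, rfl⟩
  have hTmem : ∀ t : ↥M, t ∈ T ↔ (t : G) ∈ (Cfsg.pCore p ↥N).map N.subtype := by
    intro t; rw [hTdef, Subgroup.mem_subgroupOf]
  have hT : IsPGroup p ↥T := by
    rw [hTdef]
    exact ((pCore_isPGroup (p := p) (G := ↥N)).map N.subtype).comap_subtype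
  have hTX : ∀ t ∈ T, ∀ y ∈ Cfsg.generalizedFittingSubgroup ↥M, (orderOf y).Coprime p →
      t * y = y * t := by
    intro t ht y hy hyo
    exact Subtype.ext (h1b p hp hpM (t : G) ((hTmem t).mp ht) y hy hyo)
  have hTF : Cfsg.pCore p ↥M ≤ Cfsg.fittingSubgroup ↥M := by
    rw [fitting_eq_pCoreSup]; exact pCore_le_pCoreSup hp
  have hZT : Cfsg.pCore p ↥M ⊓ Subgroup.centralizer (Cfsg.pCore p ↥M : Set ↥M) ≤
      Subgroup.normalizer (T : Set ↥M) := by
    intro v hv
    obtain ⟨hvP, hvC⟩ := Subgroup.mem_inf.mp hv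
    have hvW : v ∈ Cfsg.generalizedFittingSubgroup ↥M :=
      (le_sup_right : Cfsg.fittingSubgroup ↥M ≤ Cfsg.generalizedFittingSubgroup ↥M) (hTF hvP)
    have hvCW := le_centralizer_genFitting _ p inf_le_left inf_le_right hv
    have hvN : (v : G) ∈ N := h1d v hvW hvCW
    have hvnorm := hNn hvN
    rw [Subgroup.mem_normalizer_iff] at hvnorm ⊢
    intro h
    rw [hTmem, hTmem]
    exact hvnorm (h : G)
  have hu' : (⟨u, huM⟩ : ↥M) ∈ Subgroup.centralizer (Cfsg.pCore p ↥M : Set ↥M) := by
    rw [Subgroup.mem_centralizer_iff]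
    intro x hx
    exact Subtype.ext ((Subgroup.mem_centralizer_iff.mp hu) (x : G) ⟨x, hx, rfl⟩)
  have hord' : (orderOf (⟨u, huM⟩ : ↥M)).Coprime p := by
    rw [Subgroup.orderOf_mk]; exact hord
  have key := pprime_centralizes p T hT hTX hZT hu' hord'
  rw [Subgroup.mem_centralizer_iff]
  intro x hx
  have := key ⟨x, hPsM hx⟩ ((hTmem _).mpr hx)
  exact congrArg Subtype.val this

/-- Bender's theorem, symmetric form, from the two-sided relation. -/
theorem bender_symmetric {M N : Subgroup G} (hM : IsCoatom M) (hN : IsCoatom N)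
    (h1 : BenderRel M N) (h2 : BenderRel N M) (hne : M ≠ N)
    (hπ : ∃ p : ℕ, p.Prime ∧ p ∣ Nat.card ↥(Cfsg.fittingSubgroup ↥M)) :
    ∃ p : ℕ, p.Prime ∧ IsPGroup p ↥(Cfsg.generalizedFittingSubgroup ↥M) ∧
      IsPGroup p ↥(Cfsg.generalizedFittingSubgroup ↥N) := by
  obtain ⟨p, hp, hpM⟩ := hπ
  haveI : Fact p.Prime := ⟨hp⟩
  have hpN : p ∣ Nat.card ↥(Cfsg.fittingSubgroup ↥N) := prime_dvd_of_rel h2 h1 p hp hpM
  by_cases hHM : ∀ y : ↥M, y ∈ Cfsg.generalizedFittingSubgroup ↥M → (orderOf y).Coprime p → y = 1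
  · by_cases hHN : ∀ y : ↥N, y ∈ Cfsg.generalizedFittingSubgroup ↥N →
        (orderOf y).Coprime p → y = 1
    · exact ⟨p, hp, isPGroup_of_no_pprime _ hHM, isPGroup_of_no_pprime _ hHN⟩
    · exfalso
      push_neg at hHN
      obtain ⟨y, hy1, hy2, hy3⟩ := hHN
      exact asym_false h2 (fun q hq => prime_dvd_of_rel h1 h2 q hq) p hpN ⟨y, hy1, hy2, hy3⟩ hHM
  · push_neg at hHM
    obtain ⟨yM, hyM1, hyM2, hyM3⟩ := hHM
    by_cases hHN : ∀ y : ↥N, y ∈ Cfsg.generalizedFittingSubgroup ↥N →
        (orderOf y).Coprime p → y = 1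
    · exfalso
      exact asym_false h1 (fun q hq => prime_dvd_of_rel h2 h1 q hq) p hpM
        ⟨yM, hyM1, hyM2, hyM3⟩ hHN
    · exfalso
      push_neg at hHN
      obtain ⟨yN, hyN1, hyN2, hyN3⟩ := hHN
      haveI hPMn : (Cfsg.pCore p ↥M).Normal := pCore_normal' p
      haveI hPNn : (Cfsg.pCore p ↥N).Normal := pCore_normal' p
      have hPMne : Cfsg.pCore p ↥M ≠ ⊥ := pCore_ne_bot_of_dvd p hpM
      have hPNne : Cfsg.pCore p ↥N ≠ ⊥ := pCore_ne_bot_of_dvd p hpN
      have hPsM : (Cfsg.pCore p ↥N).map N.subtype ≤ M :=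
        pCore_map_le_of_hasPP hM h1 p hpM ⟨yM, hyM1, hyM2, hyM3⟩
      have hPN : (Cfsg.pCore p ↥M).map M.subtype ≤ N :=
        pCore_map_le_of_hasPP hN h2 p hpN ⟨yN, hyN1, hyN2, hyN3⟩
      obtain ⟨Sset, hSdef⟩ : ∃ Sset : Set G, Sset = {u : G |
        u ∈ Subgroup.centralizer (((Cfsg.pCore p ↥M).map M.subtype : Subgroup G) : Set G) ∧
          (orderOf u).Coprime p} := ⟨_, rfl⟩
      have hS2 : Sset = {u : G |
        u ∈ Subgroup.centralizer (((Cfsg.pCore p ↥N).map N.subtype : Subgroup G) : Set G) ∧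
          (orderOf u).Coprime p} := by
        rw [hSdef]
        ext u
        constructor
        · rintro ⟨a, b⟩
          exact ⟨centralizer_transfer hM h1 p hpM hPMne hPsM a b, b⟩
        · rintro ⟨a, b⟩
          exact ⟨centralizer_transfer hN h2 p hpN hPNne hPN a b, b⟩
      have hNM := normalizer_map_eq_of_isCoatom hM _ hPMn hPMne
      have hNN := normalizer_map_eq_of_isCoatom hN _ hPNn hPNne
      have hMW : M ≤ Subgroup.normalizer ((Subgroup.closure Sset : Subgroup G) : Set G) := by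
        apply le_normalizer_closure_of_conj
        intro g hg a ha
        rw [hSdef] at ha ⊢
        have hgn : g ∈ Subgroup.normalizer
            (((Cfsg.pCore p ↥M).map M.subtype : Subgroup G) : Set G) := by
          rw [hNM]; exact hg
        refine ⟨conj_mem_centralizer_of_mem_normalizer hgn ha.1, ?_⟩
        rw [orderOf_conj_eq]; exact ha.2
      have hNW : N ≤ Subgroup.normalizer ((Subgroup.closure Sset : Subgroup G) : Set G) := by
        apply le_normalizer_closure_of_conj
        intro g hg a ha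
        rw [hS2] at ha ⊢
        have hgn : g ∈ Subgroup.normalizer
            (((Cfsg.pCore p ↥N).map N.subtype : Subgroup G) : Set G) := by
          rw [hNN]; exact hg
        refine ⟨conj_mem_centralizer_of_mem_normalizer hgn ha.1, ?_⟩
        rw [orderOf_conj_eq]; exact ha.2
      have htop : Subgroup.normalizer ((Subgroup.closure Sset : Subgroup G) : Set G) = ⊤ := by
        by_contra hnt
        have e1 : M = Subgroup.normalizer ((Subgroup.closure Sset : Subgroup G) : Set G) := by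
          by_contra h; exact hnt (hM.2 _ (lt_of_le_of_ne hMW h))
        have e2 : N = Subgroup.normalizer ((Subgroup.closure Sset : Subgroup G) : Set G) := by
          by_contra h; exact hnt (hN.2 _ (lt_of_le_of_ne hNW h))
        exact hne (e1.trans e2.symm)
      have hWn : (Subgroup.closure Sset).Normal := Subgroup.normalizer_eq_top_iff.mp htop
      have hyS : (yM : G) ∈ Sset := by
        rw [hSdef]
        refine ⟨?_, by rw [Subgroup.orderOf_coe]; exact hyM2⟩
        have := pprime_genFit_centralizes_pCore p hyM1 hyM2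
        rw [Subgroup.mem_centralizer_iff] at this ⊢
        rintro _ ⟨x, hx, rfl⟩
        exact congrArg Subtype.val (this x hx)
      rcases hWn.eq_bot_or_eq_top with hb | ht
      · have : (yM : G) ∈ Subgroup.closure Sset := Subgroup.subset_closure hyS
        rw [hb, Subgroup.mem_bot] at this
        exact hyM3 (Subtype.ext this)
      · have hle : Subgroup.closure Sset ≤ M := by
          rw [Subgroup.closure_le]
          intro u hu
          rw [hSdef] at hu
          have := Subgroup.centralizer_le_normalizer _ hu.1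
          rw [hNM] at this
          exact this
        rw [ht] at hle
        exact hM.1 (eq_top_iff.mpr hle)

end amb

end Cfsg.Agent.Lib.Helper3
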