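import Mathlib
import Cfsg.Agent.Lib.Helper3.Bender4
import Cfsg.Agent.Lib.Helper3.Bender5

set_option autoImplicit false
set_option linter.style.haveILetI false
open scoped commutatorElement

universe u

/-! Bender's theorem for primitive pairs (Kurzweil–Stellmacher style). -/

namespace Cfsg.Agent.Lib.Helper3

open Cfsg.Agent.Lib.Helper1

section amb

variable {G : Type u} [Group G] [Finite G]

theorem benderRel_of_le_gen {M N : Subgroup G}
    (h : (Cfsg.generalizedFittingSubgroup ↥M).map M.subtype ≤ N)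
    (hprim : ∀ V' : Subgroup ↥M, V'.Normal → V' ≠ ⊥ → V'.map M.subtype ≤ N →
      N ⊓ Subgroup.normalizer ((V'.map M.subtype : Subgroup G) : Set G) ≤ M) :
    BenderRel M N := by
  have hsn : (((Cfsg.generalizedFittingSubgroup ↥M).map M.subtype).subgroupOf
      ((Cfsg.generalizedFittingSubgroup ↥M).map M.subtype)).IsSubnormal := by
    rw [Subgroup.subgroupOf_self]
    exact Subgroup.IsSubnormal.top
  obtain ⟨ha, hb⟩ := bender_lemma_gen M ((Cfsg.generalizedFittingSubgroup ↥M).map M.subtype)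
    le_rfl hsn inf_le_left N h hprim
  refine ⟨ha, ?_, (Subgroup.map_mono le_sup_left).trans h, fun v hv _ => h ⟨v, hv, rfl⟩⟩
  intro p hp hpF x hx y hy hyo
  refine hb p hp hpF x hx y ⟨⟨y, hy⟩, Subgroup.subset_closure ?_, rfl⟩
  show Nat.Coprime (orderOf (⟨y, hy⟩ : ↥(Cfsg.generalizedFittingSubgroup ↥M))) p
  rw [Subgroup.orderOf_mk]; exact hyo

theorem centralizer_transfer' {M N : Subgroup G}
    (h1 : BenderRel M N) (p : ℕ) [Fact p.Prime]
    (hpM : p ∣ Nat.card ↥(Cfsg.fittingSubgroup ↥M))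
    (hPsM : (Cfsg.pCore p ↥N).map N.subtype ≤ M)
    {u : G} (huM : u ∈ M)
    (hu : u ∈ Subgroup.centralizer (((Cfsg.pCore p ↥M).map M.subtype : Subgroup G) : Set G))
    (hord : (orderOf u).Coprime p) :
    u ∈ Subgroup.centralizer (((Cfsg.pCore p ↥N).map N.subtype : Subgroup G) : Set G) := by
  obtain ⟨-, h1b, -, h1d⟩ := h1
  have hp := (Fact.out : p.Prime)
  haveI hPn : (Cfsg.pCore p ↥M).Normal := pCore_normal' p
  haveI hPNn : (Cfsg.pCore p ↥N).Normal := pCore_normal' p
  have hNn : N ≤ Subgroup.normalizer (((Cfsg.pCore p ↥N).map N.subtype : Subgroup G) : Set G) := by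
    have h := Subgroup.le_normalizer_map (H := Cfsg.pCore p ↥N) N.subtype
    rw [Subgroup.normalizer_eq_top_iff.mpr hPNn, ← MonoidHom.range_eq_map,
      Subgroup.range_subtype] at h
    exact h
  obtain ⟨T, hTdef⟩ : ∃ T : Subgroup ↥M,
    T = ((Cfsg.pCore p ↥N).map N.subtype).subgroupOf M := ⟨_, rfl⟩
  have hTmem : ∀ t : ↥M, t ∈ T ↔ (t : G) ∈ (Cfsg.pCore p ↥N).map N.subtype := by
    intro t; rw [hTdef, Subgroup.mem_subgroupOf]
  have hT : IsPGroup p ↥T := by
    rw [hTdef]
    exact ((pCore_isPGroup (p := p) (G := ↥N)).map N.subtype).comap_subtype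
  have hTX : ∀ t ∈ T, ∀ y ∈ Cfsg.generalizedFittingSubgroup ↥M, (orderOf y).Coprime p →
      t * y = y * t := by
    intro t ht y hy hyo
    exact Subtype.ext (h1b p hp hpM (t : G) ((hTmem t).mp ht) y hy hyo)
  have hTF : Cfsg.pCore p ↥M ≤ Cfsg.fittingSubgroup ↥M := by
    rw [fitting_eq_pCoreSup]; exact pCore_le_pCoreSup hp
  have hZT : Cfsg.pCore p ↥M ⊓ Subgroup.centralizer (Cfsg.pCore p ↥M : Set ↥M) ≤
      Subgroup.normalizer (T : Set ↥M) := by
    intro v hv
    obtain ⟨hvP, hvC⟩ := Subgroup.mem_inf.mp hv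
    have hvW : v ∈ Cfsg.generalizedFittingSubgroup ↥M :=
      (le_sup_right : Cfsg.fittingSubgroup ↥M ≤ Cfsg.generalizedFittingSubgroup ↥M) (hTF hvP)
    have hvCW := le_centralizer_genFitting _ p inf_le_left inf_le_right hv
    have hvN : (v : G) ∈ N := h1d v hvW hvCW
    have hvnorm := hNn hvN
    rw [Subgroup.mem_normalizer_iff] at hvnorm ⊢
    intro h
    rw [hTmem, hTmem]
    exact hvnorm (h : G)
  have hu' : (⟨u, huM⟩ : ↥M) ∈ Subgroup.centralizer (Cfsg.pCore p ↥M : Set ↥M) := by
    rw [Subgroup.mem_centralizer_iff]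
    intro x hx
    exact Subtype.ext ((Subgroup.mem_centralizer_iff.mp hu) (x : G) ⟨x, hx, rfl⟩)
  have hord' : (orderOf (⟨u, huM⟩ : ↥M)).Coprime p := by
    rw [Subgroup.orderOf_mk]; exact hord
  have key := pprime_centralizes p T hT hTX hZT hu' hord'
  rw [Subgroup.mem_centralizer_iff]
  intro x hx
  have := key ⟨x, hPsM hx⟩ ((hTmem _).mpr hx)
  exact congrArg Subtype.val this

theorem char_p_of_genFit_pgroup {X : Type u} [Group X] [Finite X] (p : ℕ) [Fact p.Prime]
    (h : IsPGroup p ↥(Cfsg.generalizedFittingSubgroup X)) :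
    Subgroup.centralizer (Cfsg.pCore p X : Set X) ≤ Cfsg.pCore p X := by
  have hp := (Fact.out : p.Prime)
  haveI hFn : (Cfsg.fittingSubgroup X).Normal := fitting_normal
  haveI hEn : (Cfsg.layer X).Normal := layer_normal
  haveI hWn : (Cfsg.generalizedFittingSubgroup X).Normal := by
    unfold Cfsg.generalizedFittingSubgroup
    infer_instance
  have h1 : Cfsg.generalizedFittingSubgroup X ≤ Cfsg.pCore p X := le_pCore _ hWn h
  have h2 : Cfsg.pCore p X ≤ Cfsg.generalizedFittingSubgroup X := by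
    have hTF : Cfsg.pCore p X ≤ Cfsg.fittingSubgroup X := by
      rw [fitting_eq_pCoreSup]; exact pCore_le_pCoreSup hp
    exact hTF.trans le_sup_right
  have h3 : Cfsg.generalizedFittingSubgroup X = Cfsg.pCore p X := le_antisymm h1 h2
  rw [← h3]
  exact Cfsg.Agent.S1265.result

/-- Bender's theorem for a primitive pair, from the two-sided relation. -/
theorem bender_symmetric_prim {M N : Subgroup G} (hne : M ≠ N)
    (hP : ∀ A : Subgroup G, A ≠ ⊥ → A ≤ M ⊓ N →
      (M ≤ Subgroup.normalizer (A : Set G) → N ⊓ Subgroup.normalizer (A : Set G) = M ⊓ N) ∧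
      (N ≤ Subgroup.normalizer (A : Set G) → M ⊓ Subgroup.normalizer (A : Set G) = M ⊓ N))
    (hMN : (Cfsg.generalizedFittingSubgroup ↥M).map M.subtype ≤ N)
    (hNM : (Cfsg.generalizedFittingSubgroup ↥N).map N.subtype ≤ M)
    (h1 : BenderRel M N) (h2 : BenderRel N M)
    (hπ : ∃ p : ℕ, p.Prime ∧ p ∣ Nat.card ↥(Cfsg.fittingSubgroup ↥M)) :
    ∃ p : ℕ, p.Prime ∧ IsPGroup p ↥(Cfsg.generalizedFittingSubgroup ↥M) ∧
      IsPGroup p ↥(Cfsg.generalizedFittingSubgroup ↥N) := by
  obtain ⟨p, hp, hpM⟩ := hπ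
  haveI : Fact p.Prime := ⟨hp⟩
  have hpN : p ∣ Nat.card ↥(Cfsg.fittingSubgroup ↥N) := prime_dvd_of_rel h2 h1 p hp hpM
  by_cases hHM : ∀ y : ↥M, y ∈ Cfsg.generalizedFittingSubgroup ↥M → (orderOf y).Coprime p → y = 1
  · by_cases hHN : ∀ y : ↥N, y ∈ Cfsg.generalizedFittingSubgroup ↥N →
        (orderOf y).Coprime p → y = 1
    · exact ⟨p, hp, isPGroup_of_no_pprime _ hHM, isPGroup_of_no_pprime _ hHN⟩
    · exfalso
      push_neg at hHN
      obtain ⟨y, hy1, hy2, hy3⟩ := hHN
      exact asym_false h2 (fun q hq => prime_dvd_of_rel h1 h2 q hq) p hpN ⟨y, hy1, hy2, hy3⟩ hHM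
  · push_neg at hHM
    obtain ⟨yM, hyM1, hyM2, hyM3⟩ := hHM
    by_cases hHN : ∀ y : ↥N, y ∈ Cfsg.generalizedFittingSubgroup ↥N →
        (orderOf y).Coprime p → y = 1
    · exfalso
      exact asym_false h1 (fun q hq => prime_dvd_of_rel h2 h1 q hq) p hpM
        ⟨yM, hyM1, hyM2, hyM3⟩ hHN
    · exfalso
      haveI hPMn : (Cfsg.pCore p ↥M).Normal := pCore_normal' p
      haveI hPNn : (Cfsg.pCore p ↥N).Normal := pCore_normal' p
      have hPMne : Cfsg.pCore p ↥M ≠ ⊥ := pCore_ne_bot_of_dvd p hpM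
      have hPNne : Cfsg.pCore p ↥N ≠ ⊥ := pCore_ne_bot_of_dvd p hpN
      have hPWM : Cfsg.pCore p ↥M ≤ Cfsg.generalizedFittingSubgroup ↥M := by
        have hTF : Cfsg.pCore p ↥M ≤ Cfsg.fittingSubgroup ↥M := by
          rw [fitting_eq_pCoreSup]; exact pCore_le_pCoreSup hp
        exact hTF.trans le_sup_right
      have hPWN : Cfsg.pCore p ↥N ≤ Cfsg.generalizedFittingSubgroup ↥N := by
        have hTF : Cfsg.pCore p ↥N ≤ Cfsg.fittingSubgroup ↥N := by
          rw [fitting_eq_pCoreSup]; exact pCore_le_pCoreSup hp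
        exact hTF.trans le_sup_right
      have hPsM : (Cfsg.pCore p ↥N).map N.subtype ≤ M := (Subgroup.map_mono hPWN).trans hNM
      have hPN : (Cfsg.pCore p ↥M).map M.subtype ≤ N := (Subgroup.map_mono hPWM).trans hMN
      have hMnP : M ≤ Subgroup.normalizer
          (((Cfsg.pCore p ↥M).map M.subtype : Subgroup G) : Set G) := by
        have h := Subgroup.le_normalizer_map (H := Cfsg.pCore p ↥M) M.subtype
        rw [Subgroup.normalizer_eq_top_iff.mpr hPMn, ← MonoidHom.range_eq_map,
          Subgroup.range_subtype] at h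
        exact h
      have hNnP : N ≤ Subgroup.normalizer
          (((Cfsg.pCore p ↥N).map N.subtype : Subgroup G) : Set G) := by
        have h := Subgroup.le_normalizer_map (H := Cfsg.pCore p ↥N) N.subtype
        rw [Subgroup.normalizer_eq_top_iff.mpr hPNn, ← MonoidHom.range_eq_map,
          Subgroup.range_subtype] at h
        exact h
      have hPMG : (Cfsg.pCore p ↥M).map M.subtype ≠ ⊥ := fun h =>
        hPMne ((Subgroup.map_eq_bot_iff_of_injective _ (Subgroup.subtype_injective M)).mp h)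
      have hPNG : (Cfsg.pCore p ↥N).map N.subtype ≠ ⊥ := fun h =>
        hPNne ((Subgroup.map_eq_bot_iff_of_injective _ (Subgroup.subtype_injective N)).mp h)
      -- elements of M normalizing O_p(N) lie in N and conversely
      have hMtoN : M ⊓ Subgroup.normalizer
          (((Cfsg.pCore p ↥N).map N.subtype : Subgroup G) : Set G) ≤ N := by
        have := (hP _ hPNG (le_inf hPsM (Subgroup.map_subtype_le _))).2 hNnP
        rw [this]; exact inf_le_right
      have hNtoM : N ⊓ Subgroup.normalizer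
          (((Cfsg.pCore p ↥M).map M.subtype : Subgroup G) : Set G) ≤ M := by
        have := (hP _ hPMG (le_inf (Subgroup.map_subtype_le _) hPN)).1 hMnP
        rw [this]; exact inf_le_left
      obtain ⟨Sset, hSdef⟩ : ∃ Sset : Set G, Sset = {u : G | u ∈ M ∧
        u ∈ Subgroup.centralizer (((Cfsg.pCore p ↥M).map M.subtype : Subgroup G) : Set G) ∧
          (orderOf u).Coprime p} := ⟨_, rfl⟩
      have hS2 : Sset = {u : G | u ∈ N ∧
        u ∈ Subgroup.centralizer (((Cfsg.pCore p ↥N).map N.subtype : Subgroup G) : Set G) ∧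
          (orderOf u).Coprime p} := by
        rw [hSdef]
        ext u
        constructor
        · rintro ⟨a0, a, b⟩
          have hc := centralizer_transfer' h1 p hpM hPsM a0 a b
          exact ⟨hMtoN (Subgroup.mem_inf.mpr ⟨a0, Subgroup.centralizer_le_normalizer _ hc⟩),
            hc, b⟩
        · rintro ⟨a0, a, b⟩
          have hc := centralizer_transfer' h2 p hpN hPN a0 a b
          exact ⟨hNtoM (Subgroup.mem_inf.mpr ⟨a0, Subgroup.centralizer_le_normalizer _ hc⟩),
            hc, b⟩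
      have hMW : M ≤ Subgroup.normalizer ((Subgroup.closure Sset : Subgroup G) : Set G) := by
        apply le_normalizer_closure_of_conj
        intro g hg a ha
        rw [hSdef] at ha ⊢
        refine ⟨mul_mem (mul_mem hg ha.1) (inv_mem hg),
          conj_mem_centralizer_of_mem_normalizer (hMnP hg) ha.2.1, ?_⟩
        rw [orderOf_conj_eq]; exact ha.2.2
      have hNW : N ≤ Subgroup.normalizer ((Subgroup.closure Sset : Subgroup G) : Set G) := by
        apply le_normalizer_closure_of_conj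
        intro g hg a ha
        rw [hS2] at ha ⊢
        refine ⟨mul_mem (mul_mem hg ha.1) (inv_mem hg),
          conj_mem_centralizer_of_mem_normalizer (hNnP hg) ha.2.1, ?_⟩
        rw [orderOf_conj_eq]; exact ha.2.2
      have hWle : Subgroup.closure Sset ≤ M ⊓ N := by
        rw [Subgroup.closure_le]
        intro u hu
        refine Subgroup.mem_inf.mpr ⟨?_, ?_⟩
        · rw [hSdef] at hu; exact hu.1
        · rw [hS2] at hu; exact hu.1
      have hyS : (yM : G) ∈ Sset := by
        rw [hSdef]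
        refine ⟨yM.2, ?_, by rw [Subgroup.orderOf_coe]; exact hyM2⟩
        have := pprime_genFit_centralizes_pCore p hyM1 hyM2
        rw [Subgroup.mem_centralizer_iff] at this ⊢
        rintro _ ⟨x, hx, rfl⟩
        exact congrArg Subtype.val (this x hx)
      have hWne : Subgroup.closure Sset ≠ ⊥ := by
        intro hb
        have : (yM : G) ∈ Subgroup.closure Sset := Subgroup.subset_closure hyS
        rw [hb, Subgroup.mem_bot] at this
        exact hyM3 (Subtype.ext this)
      obtain ⟨e1, e2⟩ := hP _ hWne hWle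
      have e1' := e1 hMW
      have e2' := e2 hNW
      rw [inf_eq_left.mpr hNW] at e1'
      rw [inf_eq_left.mpr hMW] at e2'
      -- e1' : N = M ⊓ N, e2' : M = M ⊓ N
      exact hne (e2'.trans e1'.symm)

end amb

end Cfsg.Agent.Lib.Helper3
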