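import Mathlib
import Cfsg.Agent.Lib.Helper3.Bender6
import Cfsg.Agent.Lib.Helper3.PQ

set_option autoImplicit false
set_option linter.style.haveILetI false
open scoped commutatorElement

universe u

namespace Cfsg.Agent.Lib.Helper3

open Cfsg.Agent.Lib.Helper1

section gen
variable {X : Type u} [Group X] [Finite X]

theorem layer_eq_bot_of_solvable (hs : Group.IsSolvable X) : Cfsg.layer X = ⊥ := by
  unfold Cfsg.layer
  rw [sSup_eq_bot]
  intro K hK
  exfalso
  haveI := component_nontrivial hK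
  haveI : Group.IsPerfect ↥K := hK.2.1
  haveI := hs
  exact Group.IsPerfect.not_isSolvable ↥K inferInstance

theorem pCore_le_fitting' (p : ℕ) (hp : p.Prime) : Cfsg.pCore p X ≤ Cfsg.fittingSubgroup X := by
  rw [fitting_eq_pCoreSup]; exact pCore_le_pCoreSup hp

theorem dvd_card_fitting_of_pCore_ne_bot (p : ℕ) [Fact p.Prime] (h : Cfsg.pCore p X ≠ ⊥) :
    p ∣ Nat.card ↥(Cfsg.fittingSubgroup X) := by
  have hp := (Fact.out : p.Prime)
  have hdvd : Nat.card ↥(Cfsg.pCore p X) ∣ Nat.card ↥(Cfsg.fittingSubgroup X) :=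
    Subgroup.card_dvd_of_le (pCore_le_fitting' p hp)
  obtain ⟨k, hk⟩ := IsPGroup.iff_card.mp (pCore_isPGroup (p := p) (G := X))
  have hk0 : k ≠ 0 := by
    intro h0
    rw [h0, pow_zero] at hk
    exact h (Subgroup.card_eq_one.mp hk)
  rw [hk] at hdvd
  exact (dvd_pow_self p hk0).trans hdvd

end gen

section amb
variable {G : Type u} [Group G]

theorem eq_one_of_mem_pgroups {p q : ℕ} (hp : p.Prime) (hq : q.Prime) (hpq : p ≠ q)
    {A B : Subgroup G} (hA : IsPGroup p A) (hB : IsPGroup q B) {c : G} (hcA : c ∈ A)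
    (hcB : c ∈ B) : c = 1 := by
  obtain ⟨k, hk⟩ := hA ⟨c, hcA⟩
  obtain ⟨l, hl⟩ := hB ⟨c, hcB⟩
  have hk' : c ^ (p ^ k) = 1 := by simpa using congrArg Subtype.val hk
  have hl' : c ^ (q ^ l) = 1 := by simpa using congrArg Subtype.val hl
  have h1 : orderOf c ∣ p ^ k := orderOf_dvd_of_pow_eq_one hk'
  have h2 : orderOf c ∣ q ^ l := orderOf_dvd_of_pow_eq_one hl'
  have hcop : (p ^ k).Coprime (q ^ l) :=
    Nat.Coprime.pow k l ((Nat.coprime_primes hp hq).mpr hpq)
  have : orderOf c = 1 := Nat.eq_one_of_dvd_coprimes hcop h1 h2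
  exact orderOf_eq_one_iff.mp this

theorem orderOf_coprime_of_mem_pgroup {p q : ℕ} (hp : p.Prime) (hq : q.Prime) (hpq : p ≠ q)
    {A : Subgroup G} (hA : IsPGroup p A) {y : G} (hy : y ∈ A) : (orderOf y).Coprime q := by
  obtain ⟨k, hk⟩ := hA ⟨y, hy⟩
  have hk' : y ^ (p ^ k) = 1 := by simpa using congrArg Subtype.val hk
  have h1 : orderOf y ∣ p ^ k := orderOf_dvd_of_pow_eq_one hk'
  exact Nat.Coprime.coprime_dvd_left h1
    (Nat.Coprime.pow_left k ((Nat.coprime_primes hp hq).mpr hpq))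

theorem le_normalizer_map_subtype (L : Subgroup G) (V' : Subgroup ↥L) [hV : V'.Normal] :
    L ≤ Subgroup.normalizer ((V'.map L.subtype : Subgroup G) : Set G) := by
  have h := Subgroup.le_normalizer_map (H := V') L.subtype
  rw [Subgroup.normalizer_eq_top_iff.mpr hV, ← MonoidHom.range_eq_map,
    Subgroup.range_subtype] at h
  exact h

/-- `Z(O_r(H))` as a subgroup of `G`. -/
def zCoreOf (r : ℕ) (H : Subgroup G) : Subgroup G :=
  ((Cfsg.pCore r ↥H) ⊓ Subgroup.centralizer (Cfsg.pCore r ↥H : Set ↥H)).map H.subtype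

theorem zCoreOf_le_pCore (r : ℕ) (H : Subgroup G) :
    zCoreOf r H ≤ (Cfsg.pCore r ↥H).map H.subtype :=
  Subgroup.map_mono inf_le_left

variable [Finite G]

theorem zCoreOf_le_center_fitting (r : ℕ) [Fact r.Prime] (H : Subgroup G) :
    zCoreOf r H ≤ Cfsg.fittingOf H ⊓ Subgroup.centralizer (Cfsg.fittingOf H : Set G) := by
  have hr := (Fact.out : r.Prime)
  unfold Cfsg.fittingOf
  rintro _ ⟨v, hv, rfl⟩
  have hvT : v ∈ Cfsg.pCore r ↥H := (Subgroup.mem_inf.mp hv).1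
  have hvC := le_centralizer_genFitting _ r inf_le_left inf_le_right hv
  refine Subgroup.mem_inf.mpr ⟨⟨v, pCore_le_fitting' r hr hvT, rfl⟩, ?_⟩
  rw [Subgroup.mem_centralizer_iff]
  rintro _ ⟨w, hw, rfl⟩
  have hwW : w ∈ Cfsg.generalizedFittingSubgroup ↥H :=
    (le_sup_right : Cfsg.fittingSubgroup ↥H ≤ Cfsg.generalizedFittingSubgroup ↥H) hw
  have := Subgroup.mem_centralizer_iff.mp hvC w hwW
  exact congrArg Subtype.val this

theorem zCoreOf_ne_bot (r : ℕ) [Fact r.Prime] (H : Subgroup G)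
    (h : r ∣ Nat.card ↥(Cfsg.fittingSubgroup ↥H)) : zCoreOf r H ≠ ⊥ := by
  have h1 : Cfsg.pCore r ↥H ≠ ⊥ := pCore_ne_bot_of_dvd r h
  have h2 := pCore_inf_centralizer_ne_bot r h1
  intro hbot
  exact h2 ((Subgroup.map_eq_bot_iff_of_injective _ H.subtype_injective).mp hbot)

theorem zCoreOf_isPGroup (r : ℕ) [Fact r.Prime] (H : Subgroup G) :
    IsPGroup r ↥(zCoreOf r H) := by
  have h1 : IsPGroup r ↥(Cfsg.pCore r ↥H) := pCore_isPGroup
  have h2 : IsPGroup r
      ↥((Cfsg.pCore r ↥H) ⊓ Subgroup.centralizer (Cfsg.pCore r ↥H : Set ↥H)) :=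
    h1.to_le inf_le_left
  exact h2.map H.subtype

theorem zCoreOf_normalizer [IsSimpleGroup G] (r : ℕ) [Fact r.Prime] {H : Subgroup G}
    (hH : IsCoatom H) (h : r ∣ Nat.card ↥(Cfsg.fittingSubgroup ↥H)) :
    Subgroup.normalizer ((zCoreOf r H : Subgroup G) : Set G) = H := by
  have hne := zCoreOf_ne_bot r H h
  have hne' : (Cfsg.pCore r ↥H) ⊓ Subgroup.centralizer (Cfsg.pCore r ↥H : Set ↥H) ≠ ⊥ := by
    intro hb; apply hne; unfold zCoreOf; rw [hb, Subgroup.map_bot]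
  exact normalizer_map_eq_of_isCoatom hH _ inferInstance hne'

/-- Elements of `Z(O_p(H))` centralize `O_q(L)` when `Z(O_p(H)), Z(O_q(H)) ≤ L`
(Thompson's `P × Q` lemma). -/
theorem zCoreOf_le_centralizer_pCore [IsSimpleGroup G] {H L : Subgroup G} (hH : IsCoatom H)
    (p q : ℕ) [Fact p.Prime] [Fact q.Prime] (hpq : p ≠ q)
    (hqH : q ∣ Nat.card ↥(Cfsg.fittingSubgroup ↥H))
    (hZpL : zCoreOf p H ≤ L) (hZqL : zCoreOf q H ≤ L) :
    zCoreOf p H ≤
      Subgroup.centralizer (((Cfsg.pCore q ↥L).map L.subtype : Subgroup G) : Set G) := by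
  have hp := (Fact.out : p.Prime)
  have hq := (Fact.out : q.Prime)
  intro y hy
  have hLN : L ≤ Subgroup.normalizer (((Cfsg.pCore q ↥L).map L.subtype : Subgroup G) : Set G) :=
    le_normalizer_map_subtype L _
  have hZqP : IsPGroup q ↥(zCoreOf q H) := zCoreOf_isPGroup q H
  have hZpP : IsPGroup p ↥(zCoreOf p H) := zCoreOf_isPGroup p H
  have hPLq : IsPGroup q ↥((Cfsg.pCore q ↥L).map L.subtype) :=
    (pCore_isPGroup (p := q) (G := ↥L)).map L.subtype
  have hPHp : IsPGroup p ↥((Cfsg.pCore p ↥H).map H.subtype) :=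
    (pCore_isPGroup (p := p) (G := ↥H)).map H.subtype
  have hyo : (orderOf y).Coprime q := orderOf_coprime_of_mem_pgroup hp hq hpq hZpP hy
  have hyC : y ∈ Subgroup.centralizer ((zCoreOf q H : Subgroup G) : Set G) := by
    have h1 := (zCoreOf_le_center_fitting p H hy)
    have h2 := Subgroup.mem_centralizer_iff.mp (Subgroup.mem_inf.mp h1).2
    rw [Subgroup.mem_centralizer_iff]
    intro h hh
    exact h2 h (Subgroup.mem_inf.mp (zCoreOf_le_center_fitting q H hh)).1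
  have hNq : Subgroup.normalizer ((zCoreOf q H : Subgroup G) : Set G) = H :=
    zCoreOf_normalizer q hH hqH
  have hHNp : H ≤ Subgroup.normalizer (((Cfsg.pCore p ↥H).map H.subtype : Subgroup G) : Set G) :=
    le_normalizer_map_subtype H _
  apply pq_lemma_elem hZqP hyo hyC (Nat.card ↥((Cfsg.pCore q ↥L).map L.subtype)) _ le_rfl hPLq
    (hZqL.trans hLN) (hLN (hZpL hy))
  intro u hu
  obtain ⟨huQ, huC⟩ := Subgroup.mem_inf.mp hu
  have huH : u ∈ H := by
    have := Subgroup.centralizer_le_normalizer _ huC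
    rwa [hNq] at this
  have hyPH : y ∈ (Cfsg.pCore p ↥H).map H.subtype := zCoreOf_le_pCore p H hy
  have hc1 : u * y * u⁻¹ * y⁻¹ ∈ (Cfsg.pCore p ↥H).map H.subtype := by
    have h1 : u * y * u⁻¹ ∈ (Cfsg.pCore p ↥H).map H.subtype :=
      (Subgroup.mem_normalizer_iff.mp (hHNp huH) y).mp hyPH
    exact Subgroup.mul_mem _ h1 (Subgroup.inv_mem _ hyPH)
  have hc2 : u * y * u⁻¹ * y⁻¹ ∈ (Cfsg.pCore q ↥L).map L.subtype := by
    have hyN := hLN (hZpL hy)
    have h1 : y * u⁻¹ * y⁻¹ ∈ (Cfsg.pCore q ↥L).map L.subtype :=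
      (Subgroup.mem_normalizer_iff.mp hyN u⁻¹).mp (Subgroup.inv_mem _ huQ)
    have : u * y * u⁻¹ * y⁻¹ = u * (y * u⁻¹ * y⁻¹) := by group
    rw [this]
    exact Subgroup.mul_mem _ huQ h1
  have hc := eq_one_of_mem_pgroups hp hq hpq hPHp hPLq hc1 hc2
  have : u * y = y * u := by
    have h3 : u * y * u⁻¹ * y⁻¹ * (y * u) = y * u := by rw [hc, one_mul]
    rw [← h3]; group
  exact this.symm

theorem fitting_map_le_of_pCore {L K : Subgroup G}
    (h : ∀ q : ℕ, q.Prime → (Cfsg.pCore q ↥L).map L.subtype ≤ K) :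
    (Cfsg.fittingSubgroup ↥L).map L.subtype ≤ K := by
  rw [fitting_eq_pCoreSup]
  unfold pCoreSup
  rw [Subgroup.map_iSup]
  apply iSup_le
  intro q
  exact h q q.2

theorem genFit_map_le_of_solvable {L K : Subgroup G} (hs : Group.IsSolvable ↥L)
    (h : ∀ q : ℕ, q.Prime → (Cfsg.pCore q ↥L).map L.subtype ≤ K) :
    (Cfsg.generalizedFittingSubgroup ↥L).map L.subtype ≤ K := by
  unfold Cfsg.generalizedFittingSubgroup
  rw [layer_eq_bot_of_solvable hs, bot_sup_eq]
  exact fitting_map_le_of_pCore h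

end amb

end Cfsg.Agent.Lib.Helper3
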