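import Mathlib
import Cfsg.Agent.Lib.Helper3.Bender7
import Cfsg.Agent.Lib.Helper3.Frattini
import Cfsg.Agent.Lib.Helper7.PiCore
import Cfsg.Agent.S0023
import Cfsg.Agent.S0024
import Cfsg.Agent.S0025
import Cfsg.Agent.S0026
import Cfsg.Agent.S0028
import Cfsg.Agent.S0044

/-!
# Bender's lemma on maximal local subgroups

Let `H` be a maximal local subgroup of a finite group, `F = F(H)` with at least two prime
divisors, `M ≤ F` with `C_F(M) ≤ M`, and `R` a solvable subgroup normalized by `M` and `C_H(F)`.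
Then the `M`-invariant `q`-subgroups of `R` (`q ∤ |F|`) have a unique maximal member, a Sylow
`q`-subgroup of `O_{π(F)'}(R)`.
-/

set_option autoImplicit false
set_option linter.style.haveILetI false
set_option linter.unusedVariables false

open scoped commutatorElement

universe u

namespace Cfsg.Agent.Lib.Helper3

open Cfsg
open Cfsg.Agent.Lib.Helper1

section general

theorem orderOf_eq_pow_of_mem_pgroup {Y : Type*} [Group Y] {p : ℕ} (hp : p.Prime)
    {A : Subgroup Y} (hA : IsPGroup p ↥A) {y : Y} (hy : y ∈ A) : ∃ k : ℕ, orderOf y = p ^ k := by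
  obtain ⟨k, hk⟩ := hA ⟨y, hy⟩
  have hk' : y ^ (p ^ k) = 1 := by simpa using congrArg Subtype.val hk
  obtain ⟨m, -, hm⟩ := (Nat.dvd_prime_pow hp).mp (orderOf_dvd_of_pow_eq_one hk')
  exact ⟨m, hm⟩

theorem isSolvable_of_le' {Y : Type*} [Group Y] {A B : Subgroup Y} (h : A ≤ B)
    (hB : Group.IsSolvable ↥B) : Group.IsSolvable ↥A := by
  haveI := hB
  exact Group.isSolvable_of_isSolvable_injective (f := Subgroup.inclusion h)
    (Subgroup.inclusion_injective h)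

theorem isSolvable_subgroupOf' {Y : Type*} [Group Y] (A L : Subgroup Y)
    (hA : Group.IsSolvable ↥A) : Group.IsSolvable ↥(A.subgroupOf L) := by
  haveI := hA
  let f : ↥(A.subgroupOf L) →* ↥A :=
    { toFun := fun x => ⟨((x : ↥L) : Y), Subgroup.mem_subgroupOf.mp x.2⟩
      map_one' := rfl
      map_mul' := fun _ _ => rfl }
  apply Group.isSolvable_of_isSolvable_injective (f := f)
  intro x y hxy
  have h1 : (f x : Y) = (f y : Y) := congrArg Subtype.val hxy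
  exact Subtype.ext (Subtype.ext h1)

variable {X : Type u} [Group X] [Finite X]

/-- A subnormal solvable subgroup centralizing `F(X)` lies in `F(X)`. -/
theorem subnormal_solvable_centralizing_le_fitting {Y : Subgroup X} (hY : Y.IsSubnormal)
    (hs : Group.IsSolvable ↥Y)
    (hc : Y ≤ Subgroup.centralizer (Cfsg.fittingSubgroup X : Set X)) :
    Y ≤ Cfsg.fittingSubgroup X := by
  haveI := hs
  have h1 := fitting_subnormal_le hY
  have h2 : Subgroup.centralizer (Cfsg.fittingSubgroup ↥Y : Set ↥Y) = ⊤ := by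
    rw [eq_top_iff]
    intro y _
    rw [Subgroup.mem_centralizer_iff]
    intro v hv
    have hv' : (v : X) ∈ Cfsg.fittingSubgroup X := h1 ⟨v, hv, rfl⟩
    have := (Subgroup.mem_centralizer_iff.mp (hc y.2)) (v : X) hv'
    exact Subtype.ext this
  have h3 : (⊤ : Subgroup ↥Y) ≤ Cfsg.fittingSubgroup ↥Y := by
    rw [← h2]; exact Cfsg.Agent.S0044.result
  intro y hy
  exact h1 ⟨⟨y, hy⟩, h3 (Subgroup.mem_top _), rfl⟩

/-- A `p`-element of `F(X)` lies in `O_p(X)`. -/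
theorem mem_pCore_of_mem_fitting (p : ℕ) [Fact p.Prime] {y : X}
    (hy : y ∈ Cfsg.fittingSubgroup X) (hyo : ∃ k : ℕ, orderOf y = p ^ k) :
    y ∈ Cfsg.pCore p X := by
  obtain ⟨k, hk⟩ := hyo
  have hle : Subgroup.zpowers y ≤ Cfsg.fittingSubgroup X := Subgroup.zpowers_le.mpr hy
  haveI : Group.IsNilpotent ↥(Cfsg.fittingSubgroup X) := Cfsg.Agent.S0008.result
  have h1 : ((Subgroup.zpowers y).subgroupOf (Cfsg.fittingSubgroup X)).IsSubnormal :=
    isSubnormal_of_nilp _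
  have hFn : (Cfsg.fittingSubgroup X).Normal := fitting_normal
  have h2 : (Subgroup.zpowers y).IsSubnormal := Subgroup.IsSubnormal.trans hle h1 hFn.isSubnormal
  have h3 : IsPGroup p ↥(Subgroup.zpowers y) :=
    IsPGroup.of_card (n := k) (by rw [Nat.card_zpowers, hk])
  exact subnormal_pgroup_le_pCore p h2 h3 (Subgroup.mem_zpowers y)

end general

section quot

/-- Thompson's `P × Q` lemma in a quotient by a normal `p'`-subgroup, lifting fixed points. -/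
theorem quot_centralizes {Bt Γ : Type*} [Group Bt] [Finite Bt] [Group Γ] [Finite Γ]
    (ρ : Bt →* Γ) (hρ : Function.Surjective ρ)
    (p r : ℕ) [Fact p.Prime] [Fact r.Prime] (hpr : p ≠ r) (hcop : (Nat.card ↥ρ.ker).Coprime p)
    (Zp Zr : Subgroup Bt) (hZp : IsPGroup p ↥Zp) (hZr : IsPGroup r ↥Zr)
    (hcomm : Zp ≤ Subgroup.centralizer (Zr : Set Bt))
    (hnorm : Subgroup.centralizer (Zp : Set Bt) ≤ Subgroup.normalizer (Zr : Set Bt))
    (U : Subgroup Γ) (hUn : U.Normal) (hU : IsPGroup p ↥U) :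
    Zr.map ρ ≤ Subgroup.centralizer (U : Set Γ) := by
  have hp := (Fact.out : p.Prime)
  have hr := (Fact.out : r.Prime)
  have hZph : IsPGroup p ↥(Zp.map ρ) := hZp.map ρ
  have hZrh : IsPGroup r ↥(Zr.map ρ) := hZr.map ρ
  have hQc : (Nat.card ↥(Zr.map ρ)).Coprime p := by
    obtain ⟨k, hk⟩ := IsPGroup.iff_card.mp hZrh
    rw [hk]
    exact Nat.Coprime.pow_left k ((Nat.coprime_primes hr hp).mpr (Ne.symm hpr))
  have hNU : Subgroup.normalizer (U : Set Γ) = ⊤ := Subgroup.normalizer_eq_top_iff.mpr hUn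
  have hkn : (ρ.ker).Normal := inferInstance
  apply Cfsg.Agent.S0028.result p (Zp.map ρ) (Zr.map ρ) U hZph hQc hU
  · rintro _ ⟨x, hx, rfl⟩
    rw [Subgroup.mem_centralizer_iff]
    rintro _ ⟨z, hz, rfl⟩
    have := (Subgroup.mem_centralizer_iff.mp (hcomm hx)) z hz
    rw [← map_mul, ← map_mul, this]
  · rw [hNU]; exact le_top
  · rw [hNU]; exact le_top
  · intro uh huh
    obtain ⟨huU, huC⟩ := Subgroup.mem_inf.mp huh
    obtain ⟨u₀, rfl⟩ := hρ uh
    have hd : ∀ x ∈ Zp, ⁅u₀, x⁆ ∈ ρ.ker := by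
      intro x hx
      rw [MonoidHom.mem_ker, map_commutatorElement, commutatorElement_eq_one_iff_mul_comm]
      exact ((Subgroup.mem_centralizer_iff.mp huC) _ ⟨x, hx, rfl⟩).symm
    obtain ⟨k, hk, hku⟩ := exists_mul_mem_centralizer hkn hcop hZp u₀ hd
    have hρk : ρ (k * u₀) = ρ u₀ := by
      rw [map_mul, MonoidHom.mem_ker.mp hk, one_mul]
    have hu₁N := hnorm hku
    rw [Subgroup.mem_centralizer_iff]
    rintro _ ⟨z, hz, rfl⟩
    have hc : (k * u₀) * z * (k * u₀)⁻¹ * z⁻¹ ∈ Zr :=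
      Zr.mul_mem ((Subgroup.mem_normalizer_iff.mp hu₁N z).mp hz) (Zr.inv_mem hz)
    have hc1 : ρ ((k * u₀) * z * (k * u₀)⁻¹ * z⁻¹) ∈ Zr.map ρ := ⟨_, hc, rfl⟩
    have e : ρ ((k * u₀) * z * (k * u₀)⁻¹ * z⁻¹) = ρ u₀ * ρ z * (ρ u₀)⁻¹ * (ρ z)⁻¹ := by
      rw [map_mul, map_mul, map_mul, map_inv, map_inv, hρk]
    have hc2 : ρ ((k * u₀) * z * (k * u₀)⁻¹ * z⁻¹) ∈ U := by
      rw [e]
      have e2 : ρ u₀ * ρ z * (ρ u₀)⁻¹ * (ρ z)⁻¹ = ρ u₀ * (ρ z * (ρ u₀)⁻¹ * (ρ z)⁻¹) := by group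
      rw [e2]
      exact U.mul_mem huU (hUn.conj_mem _ (U.inv_mem huU) _)
    have h1 := eq_one_of_mem_pgroups hr hp (Ne.symm hpr) hZrh hU hc1 hc2
    rw [e] at h1
    have h2 : (ρ u₀ * ρ z) * (ρ z * ρ u₀)⁻¹ = 1 := by rw [← h1]; group
    exact (mul_inv_eq_one.mp h2).symm

/-- In the quotient of `Rt` by its `π'`-core, `O_s` is trivial for `s ∈ π'`. -/
theorem pCore_quot_eq_bot {Bt Γ : Type*} [Group Bt] [Finite Bt] [Group Γ] [Finite Γ]
    (ρ : Bt →* Γ) (hρ : Function.Surjective ρ) (n : ℕ) (Rt : Subgroup Bt) (hRn : Rt.Normal)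
    (hNpi : ∀ t : ℕ, t.Prime → t ∣ Nat.card ↥ρ.ker → ¬ t ∣ n)
    (hmax : ∀ W : Subgroup Bt, W ≤ Rt → W.Normal →
      (∀ t : ℕ, t.Prime → t ∣ Nat.card ↥W → ¬ t ∣ n) → W ≤ ρ.ker)
    (s : ℕ) [Fact s.Prime] (hs : ¬ s ∣ n) : Cfsg.pCore s ↥(Rt.map ρ) = ⊥ := by
  have hsp := (Fact.out : s.Prime)
  have hTn : (Rt.map ρ).Normal := hRn.map ρ hρ
  have hVp : IsPGroup s ↥((Cfsg.pCore s ↥(Rt.map ρ)).map (Rt.map ρ).subtype) :=
    (pCore_isPGroup (p := s) (G := ↥(Rt.map ρ))).map _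
  have hVn : ((Cfsg.pCore s ↥(Rt.map ρ)).map (Rt.map ρ).subtype).Normal := by
    rw [← Subgroup.normalizer_eq_top_iff]
    have h1 := normalizer_le_normalizer_map_char (Rt.map ρ) (Cfsg.pCore s ↥(Rt.map ρ))
    rw [Subgroup.normalizer_eq_top_iff.mpr hTn] at h1
    exact top_le_iff.mp h1
  have hVT : (Cfsg.pCore s ↥(Rt.map ρ)).map (Rt.map ρ).subtype ≤ Rt.map ρ :=
    Subgroup.map_subtype_le _
  obtain ⟨V, hVdef⟩ : ∃ V : Subgroup Γ,
      V = (Cfsg.pCore s ↥(Rt.map ρ)).map (Rt.map ρ).subtype := ⟨_, rfl⟩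
  rw [← hVdef] at hVp hVn hVT
  have hWle : V.comap ρ ⊓ Rt ≤ ρ.ker := by
    apply hmax _ inf_le_right
    · haveI := hVn
      haveI := hRn
      exact inferInstance
    · intro t ht htd
      by_cases hts : t = s
      · rw [hts]; exact hs
      · haveI : Fact t.Prime := ⟨ht⟩
        obtain ⟨x, hx⟩ := exists_prime_orderOf_dvd_card' t htd
        have hxV : ρ (x : Bt) ∈ V := (Subgroup.mem_inf.mp x.2).1
        have hxo : orderOf (x : Bt) = t := by rw [Subgroup.orderOf_coe]; exact hx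
        have h1 : ρ (x : Bt) = 1 := by
          obtain ⟨k, hk⟩ := hVp ⟨ρ (x : Bt), hxV⟩
          have hk' : (ρ (x : Bt)) ^ (s ^ k) = 1 := by simpa using congrArg Subtype.val hk
          have hxt : (x : Bt) ^ t = 1 := by rw [← hxo]; exact pow_orderOf_eq_one _
          have ht' : (ρ (x : Bt)) ^ t = 1 := by rw [← map_pow, hxt, map_one]
          have hcop : Nat.Coprime (s ^ k) t :=
            Nat.Coprime.pow_left k ((Nat.coprime_primes hsp ht).mpr (Ne.symm hts))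
          have hd1 := orderOf_dvd_of_pow_eq_one hk'
          have hd2 := orderOf_dvd_of_pow_eq_one ht'
          exact orderOf_eq_one_iff.mp
            ((Nat.Coprime.coprime_dvd_left hd1 hcop).eq_one_of_dvd hd2)
        have hxN : (x : Bt) ∈ ρ.ker := MonoidHom.mem_ker.mpr h1
        have hdvd : t ∣ Nat.card ↥ρ.ker := by
          rw [← hxo]
          exact Subgroup.orderOf_dvd_natCard _ hxN
        exact hNpi t ht hdvd
  have hVbot : V = ⊥ := by
    rw [eq_bot_iff]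
    intro v hv
    obtain ⟨x, hxR, rfl⟩ := hVT hv
    have : x ∈ ρ.ker := hWle (Subgroup.mem_inf.mpr ⟨hv, hxR⟩)
    rw [Subgroup.mem_bot]; exact MonoidHom.mem_ker.mp this
  rw [hVdef] at hVbot
  exact (Subgroup.map_eq_bot_iff_of_injective _ (Rt.map ρ).subtype_injective).mp hVbot

/-- Abstract form of the key step: invariant `q`-subgroups lie in the kernel. -/
theorem inv_qsubgroup_le {Bt Γ : Type*} [Group Bt] [Finite Bt] [Group Γ] [Finite Γ]
    (ρ : Bt →* Γ) (hρ : Function.Surjective ρ) (n : ℕ) (Rt Qt : Subgroup Bt)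
    (hRn : Rt.Normal) (hRs : Group.IsSolvable ↥Rt)
    (hNpi : ∀ t : ℕ, t.Prime → t ∣ Nat.card ↥ρ.ker → ¬ t ∣ n)
    (hmax : ∀ W : Subgroup Bt, W ≤ Rt → W.Normal →
      (∀ t : ℕ, t.Prime → t ∣ Nat.card ↥W → ¬ t ∣ n) → W ≤ ρ.ker)
    (Z : ℕ → Subgroup Bt)
    (hZp : ∀ r : ℕ, r.Prime → r ∣ n → IsPGroup r ↥(Z r))
    (hZc : ∀ p r : ℕ, p.Prime → r.Prime → p ∣ n → r ∣ n →
      Z p ≤ Subgroup.centralizer (Z r : Set Bt))
    (hZn : ∀ p r : ℕ, p.Prime → r.Prime → p ∣ n → r ∣ n →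
      Subgroup.centralizer (Z p : Set Bt) ≤ Subgroup.normalizer (Z r : Set Bt))
    (h2 : ∀ p : ℕ, p.Prime → p ∣ n → ∃ r : ℕ, r.Prime ∧ r ∣ n ∧ r ≠ p)
    (q : ℕ) [Fact q.Prime] (hq : ¬ q ∣ n) (hQR : Qt ≤ Rt) (hQq : IsPGroup q ↥Qt)
    (hZQ : ∀ r : ℕ, r.Prime → r ∣ n → Z r ≤ Subgroup.normalizer (Qt : Set Bt))
    (hfix : ∀ r : ℕ, r.Prime → r ∣ n → Qt ⊓ Subgroup.centralizer (Z r : Set Bt) = ⊥) :
    Qt ≤ ρ.ker := by
  have hqp := (Fact.out : q.Prime)
  have hTn : (Rt.map ρ).Normal := hRn.map ρ hρ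
  haveI hTs : Group.IsSolvable ↥(Rt.map ρ) := by
    haveI := hRs
    exact Group.isSolvable_of_surjective (f := ρ.subgroupMap Rt) (ρ.subgroupMap_surjective Rt)
  have hs2 : ∀ s : ℕ, s.Prime → ¬ s ∣ n → Cfsg.pCore s ↥(Rt.map ρ) = ⊥ := by
    intro s hs hsn
    haveI : Fact s.Prime := ⟨hs⟩
    exact pCore_quot_eq_bot ρ hρ n Rt hRn hNpi hmax s hsn
  have hs6 : ∀ p : ℕ, p.Prime → p ∣ n →
      Qt.map ρ ≤ Subgroup.centralizer
        (((Cfsg.pCore p ↥(Rt.map ρ)).map (Rt.map ρ).subtype : Subgroup Γ) : Set Γ) := by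
    intro p hp hpn
    obtain ⟨r, hr, hrn, hrp⟩ := h2 p hp hpn
    haveI : Fact p.Prime := ⟨hp⟩
    haveI : Fact r.Prime := ⟨hr⟩
    have hUp : IsPGroup p ↥((Cfsg.pCore p ↥(Rt.map ρ)).map (Rt.map ρ).subtype) :=
      (pCore_isPGroup (p := p) (G := ↥(Rt.map ρ))).map _
    have hUn : ((Cfsg.pCore p ↥(Rt.map ρ)).map (Rt.map ρ).subtype).Normal := by
      rw [← Subgroup.normalizer_eq_top_iff]
      have h1 := normalizer_le_normalizer_map_char (Rt.map ρ) (Cfsg.pCore p ↥(Rt.map ρ))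
      rw [Subgroup.normalizer_eq_top_iff.mpr hTn] at h1
      exact top_le_iff.mp h1
    obtain ⟨U, hUdef⟩ : ∃ U : Subgroup Γ,
        U = (Cfsg.pCore p ↥(Rt.map ρ)).map (Rt.map ρ).subtype := ⟨_, rfl⟩
    rw [← hUdef] at hUp hUn ⊢
    have hcop : (Nat.card ↥ρ.ker).Coprime p :=
      Nat.Coprime.symm ((Nat.Prime.coprime_iff_not_dvd hp).mpr (fun h => hNpi p hp h hpn))
    have hZU : (Z r).map ρ ≤ Subgroup.centralizer (U : Set Γ) :=
      quot_centralizes ρ hρ p r (Ne.symm hrp) hcop (Z p) (Z r) (hZp p hp hpn) (hZp r hr hrn)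
        (hZc p r hp hr hpn hrn) (hZn p r hp hr hpn hrn) U hUn hUp
    have hrq : r ≠ q := fun h => hq (h ▸ hrn)
    have hcop2 : (Nat.card ↥(Z r)).Coprime (Nat.card ↥Qt) := by
      obtain ⟨k, hk⟩ := IsPGroup.iff_card.mp (hZp r hr hrn)
      obtain ⟨l, hl⟩ := IsPGroup.iff_card.mp hQq
      rw [hk, hl]
      exact Nat.Coprime.pow k l ((Nat.coprime_primes hr hqp).mpr hrq)
    have hQsolv : Group.IsSolvable ↥Qt := by
      haveI : Group.IsNilpotent ↥Qt := hQq.isNilpotent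
      infer_instance
    have h26 := Cfsg.Agent.S0026.result (Z r) Qt (hZQ r hr hrn) hcop2 (Or.inr hQsolv)
    rw [hfix r hr hrn, sup_bot_eq] at h26
    have hcommQ : ⁅Qt.map ρ, (Z r).map ρ⁆ = Qt.map ρ := by
      rw [← Subgroup.map_commutator, h26]
    have h1 : ⁅⁅(Z r).map ρ, U⁆, Qt.map ρ⁆ = ⊥ := by
      rw [Subgroup.commutator_eq_bot_iff_le_centralizer.mpr hZU, Subgroup.commutator_bot_left]
    have h2' : ⁅⁅U, Qt.map ρ⁆, (Z r).map ρ⁆ = ⊥ := by
      rw [Subgroup.commutator_eq_bot_iff_le_centralizer]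
      haveI := hUn
      exact (Subgroup.commutator_le_left U (Qt.map ρ)).trans (Subgroup.le_centralizer_iff.mp hZU)
    have h3 := Subgroup.commutator_commutator_eq_bot_of_rotate h1 h2'
    rw [hcommQ] at h3
    exact Subgroup.commutator_eq_bot_iff_le_centralizer.mp h3
  have hQhT : Qt.map ρ ≤ Rt.map ρ := Subgroup.map_mono hQR
  have hcentF : (Qt.map ρ).subgroupOf (Rt.map ρ) ≤
      Subgroup.centralizer (Cfsg.fittingSubgroup ↥(Rt.map ρ) : Set ↥(Rt.map ρ)) := by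
    rw [Subgroup.le_centralizer_iff, fitting_eq_pCoreSup]
    unfold pCoreSup
    apply iSup_le
    intro p
    by_cases hpn : (p : ℕ) ∣ n
    · intro v hv
      rw [Subgroup.mem_centralizer_iff]
      intro y hy
      have hyQ : (y : Γ) ∈ Qt.map ρ := Subgroup.mem_subgroupOf.mp hy
      have hvU : (v : Γ) ∈ (Cfsg.pCore (p : ℕ) ↥(Rt.map ρ)).map (Rt.map ρ).subtype :=
        ⟨v, hv, rfl⟩
      have := (Subgroup.mem_centralizer_iff.mp (hs6 p p.2 hpn hyQ)) _ hvU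
      exact Subtype.ext this.symm
    · rw [hs2 p p.2 hpn]; exact bot_le
  have hQF : (Qt.map ρ).subgroupOf (Rt.map ρ) ≤ Cfsg.fittingSubgroup ↥(Rt.map ρ) :=
    hcentF.trans Cfsg.Agent.S0044.result
  have hQhq : IsPGroup q ↥((Qt.map ρ).subgroupOf (Rt.map ρ)) := (hQq.map ρ).comap_subtype
  have hbot : (Qt.map ρ).subgroupOf (Rt.map ρ) = ⊥ := by
    rw [eq_bot_iff]
    intro y hy
    have h1 := mem_pCore_of_mem_fitting q (hQF hy) (orderOf_eq_pow_of_mem_pgroup hqp hQhq hy)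
    rw [hs2 q hqp hq] at h1
    exact h1
  intro x hx
  have hx1 : ρ x ∈ Qt.map ρ := ⟨x, hx, rfl⟩
  have hx2 : (⟨ρ x, hQhT hx1⟩ : ↥(Rt.map ρ)) ∈ (Qt.map ρ).subgroupOf (Rt.map ρ) := hx1
  rw [hbot, Subgroup.mem_bot] at hx2
  exact MonoidHom.mem_ker.mpr (congrArg Subtype.val hx2)

end quot

end Cfsg.Agent.Lib.Helper3
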