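import Mathlib
import Cfsg.Agent.Lib.Helper3.Bender8

/-!
# Bender's lemma on maximal local subgroups: the concrete setting
-/

set_option autoImplicit false
set_option linter.style.haveILetI false
set_option linter.unusedVariables false

open scoped commutatorElement

universe u

namespace Cfsg.Agent.Lib.Helper3

open Cfsg
open Cfsg.Agent.Lib.Helper1

variable {G : Type u} [Group G] [Finite G]

omit [Finite G] in
theorem fittingOf_le (H : Subgroup G) : Cfsg.fittingOf H ≤ H := by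
  unfold Cfsg.fittingOf; exact Subgroup.map_subtype_le _

omit [Finite G] in
theorem le_normalizer_fittingOf (H : Subgroup G) :
    H ≤ Subgroup.normalizer ((Cfsg.fittingOf H : Subgroup G) : Set G) := by
  unfold Cfsg.fittingOf
  haveI : (Cfsg.fittingSubgroup ↥H).Normal := fitting_normal
  exact le_normalizer_map_subtype H _

omit [Finite G] in
theorem card_fittingOf (H : Subgroup G) :
    Nat.card ↥(Cfsg.fittingOf H) = Nat.card ↥(Cfsg.fittingSubgroup ↥H) := by
  unfold Cfsg.fittingOf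
  exact Subgroup.card_map_of_injective H.subtype_injective

theorem normalizer_le_normalizer_centralizer' (A : Subgroup G) :
    Subgroup.normalizer (A : Set G) ≤
      Subgroup.normalizer ((Subgroup.centralizer (A : Set G) : Subgroup G) : Set G) := by
  intro g hg
  apply mem_normalizer_of_map_conj_le
  rintro _ ⟨x, hx, rfl⟩
  have hx' := Subgroup.mem_centralizer_iff.mp
    (show x ∈ Subgroup.centralizer (A : Set G) from hx)
  rw [Subgroup.mem_centralizer_iff]
  intro a ha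
  have ha' : g⁻¹ * a * g ∈ A := by
    have := (Subgroup.mem_normalizer_iff.mp (Subgroup.inv_mem _ hg) a).mp ha
    simpa using this
  have h1 := hx' _ ha'
  show a * (g * x * g⁻¹) = (g * x * g⁻¹) * a
  calc a * (g * x * g⁻¹) = g * ((g⁻¹ * a * g) * x) * g⁻¹ := by group
    _ = g * (x * (g⁻¹ * a * g)) * g⁻¹ := by rw [h1]
    _ = (g * x * g⁻¹) * a := by group

theorem centralizer_le_normalizer' (A : Subgroup G) :
    Subgroup.centralizer (A : Set G) ≤ Subgroup.normalizer (A : Set G) := by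
  intro g hg
  apply mem_normalizer_of_map_conj_le
  rintro _ ⟨x, hx, rfl⟩
  have h1 := (Subgroup.mem_centralizer_iff.mp hg) x hx
  show g * x * g⁻¹ ∈ A
  have : g * x * g⁻¹ = x := by rw [← h1]; group
  rw [this]; exact hx

omit [Finite G] in
theorem le_normalizer_inf' {A B Y : Subgroup G} (hA : Y ≤ Subgroup.normalizer (A : Set G))
    (hB : Y ≤ Subgroup.normalizer (B : Set G)) :
    Y ≤ Subgroup.normalizer ((A ⊓ B : Subgroup G) : Set G) := by
  intro g hg
  rw [Subgroup.mem_normalizer_iff]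
  intro x
  have h1 := Subgroup.mem_normalizer_iff.mp (hA hg) x
  have h2 := Subgroup.mem_normalizer_iff.mp (hB hg) x
  rw [Subgroup.mem_inf, Subgroup.mem_inf, h1, h2]

/-- (L1) An `M`-invariant `π(F)'`-subgroup of `H` centralizes `F = F(H)`. -/
theorem bender_L1 (H M D : Subgroup G) (hM : M ≤ Cfsg.fittingOf H)
    (hCM : Cfsg.fittingOf H ⊓ Subgroup.centralizer (M : Set G) ≤ M) (hDH : D ≤ H)
    (hDc : (Nat.card ↥D).Coprime (Nat.card ↥(Cfsg.fittingOf H)))
    (hMD : M ≤ Subgroup.normalizer (D : Set G)) :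
    D ≤ Subgroup.centralizer ((Cfsg.fittingOf H : Subgroup G) : Set G) := by
  have hDF : D ⊓ Cfsg.fittingOf H = ⊥ := Subgroup.inf_eq_bot_of_coprime hDc
  have hHF := le_normalizer_fittingOf H
  have hMcD : M ≤ Subgroup.centralizer (D : Set G) := by
    intro m hm
    rw [Subgroup.mem_centralizer_iff]
    intro d hd
    have hc1 : d * m * d⁻¹ * m⁻¹ ∈ Cfsg.fittingOf H := by
      have h1 : d * m * d⁻¹ ∈ Cfsg.fittingOf H :=
        (Subgroup.mem_normalizer_iff.mp (hHF (hDH hd)) m).mp (hM hm)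
      exact Subgroup.mul_mem _ h1 (Subgroup.inv_mem _ (hM hm))
    have hc2 : d * m * d⁻¹ * m⁻¹ ∈ D := by
      have h1 : m * d⁻¹ * m⁻¹ ∈ D :=
        (Subgroup.mem_normalizer_iff.mp (hMD hm) d⁻¹).mp (Subgroup.inv_mem _ hd)
      have e : d * m * d⁻¹ * m⁻¹ = d * (m * d⁻¹ * m⁻¹) := by group
      rw [e]; exact Subgroup.mul_mem _ hd h1
    have hc3 : d * m * d⁻¹ * m⁻¹ ∈ D ⊓ Cfsg.fittingOf H := Subgroup.mem_inf.mpr ⟨hc2, hc1⟩
    rw [hDF, Subgroup.mem_bot] at hc3
    have : (d * m) * (m * d)⁻¹ = 1 := by rw [← hc3]; group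
    exact mul_inv_eq_one.mp this
  have hFeq : Cfsg.fittingOf H = ⨆ p : Nat.Primes, (Cfsg.pCore (p : ℕ) ↥H).map H.subtype := by
    unfold Cfsg.fittingOf
    rw [fitting_eq_pCoreSup]
    unfold pCoreSup
    rw [Subgroup.map_iSup]
  rw [Subgroup.le_centralizer_iff, hFeq]
  apply iSup_le
  intro p
  rw [← Subgroup.le_centralizer_iff]
  haveI : Fact (p : ℕ).Prime := ⟨p.2⟩
  have hp := p.2
  have hFpF : (Cfsg.pCore (p : ℕ) ↥H).map H.subtype ≤ Cfsg.fittingOf H := by
    unfold Cfsg.fittingOf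
    exact Subgroup.map_mono (pCore_le_fitting' (p : ℕ) hp)
  have hU : IsPGroup (p : ℕ) ↥((Cfsg.pCore (p : ℕ) ↥H).map H.subtype) :=
    (pCore_isPGroup (p := (p : ℕ)) (G := ↥H)).map H.subtype
  by_cases hpn : (p : ℕ) ∣ Nat.card ↥(Cfsg.fittingOf H)
  swap
  · have hbot : (Cfsg.pCore (p : ℕ) ↥H).map H.subtype = ⊥ := by
      obtain ⟨k, hk⟩ := IsPGroup.iff_card.mp hU
      have hdvd := Subgroup.card_dvd_of_le hFpF
      rw [hk] at hdvd
      rcases Nat.eq_zero_or_pos k with rfl | hkpos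
      · rw [pow_zero] at hk
        exact Subgroup.card_eq_one.mp hk
      · exact absurd ((dvd_pow_self (p : ℕ) hkpos.ne').trans hdvd) hpn
    rw [hbot]
    intro d _
    rw [Subgroup.mem_centralizer_iff]
    intro x hx
    have hx1 : x = 1 := Subgroup.mem_bot.mp hx
    rw [hx1, one_mul, mul_one]
  · have hQc : (Nat.card ↥D).Coprime (p : ℕ) := Nat.Coprime.coprime_dvd_right hpn hDc
    have hHFp : H ≤ Subgroup.normalizer
        (((Cfsg.pCore (p : ℕ) ↥H).map H.subtype : Subgroup G) : Set G) :=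
      le_normalizer_map_subtype H _
    apply Cfsg.Agent.S0028.result (p : ℕ) (M ⊓ (Cfsg.pCore (p : ℕ) ↥H).map H.subtype) D
      ((Cfsg.pCore (p : ℕ) ↥H).map H.subtype) (hU.to_le inf_le_right) hQc hU
      (inf_le_left.trans hMcD) (inf_le_right.trans Subgroup.le_normalizer) (hDH.trans hHFp)
    intro x hx
    obtain ⟨hxU, hxC⟩ := Subgroup.mem_inf.mp hx
    apply hMcD
    apply hCM
    refine Subgroup.mem_inf.mpr ⟨hFpF hxU, ?_⟩
    rw [Subgroup.mem_centralizer_iff]
    intro m hm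
    obtain ⟨x', hx', rfl⟩ := hxU
    have hm2 : m ∈ (Cfsg.fittingSubgroup ↥H).map H.subtype := hM hm
    obtain ⟨m', hm', rfl⟩ := hm2
    obtain ⟨a, b, ha, hb, hab, hao, hbo⟩ := exists_p_decomp (p : ℕ) m'
    have hzM : ∀ c ∈ Subgroup.zpowers m', H.subtype c ∈ M := by
      intro c hc
      obtain ⟨i, rfl⟩ := Subgroup.mem_zpowers_iff.mp hc
      rw [map_zpow]; exact M.zpow_mem hm i
    have haF : a ∈ Cfsg.fittingSubgroup ↥H := (Subgroup.zpowers_le.mpr hm') ha
    have hbF : b ∈ Cfsg.fittingSubgroup ↥H := (Subgroup.zpowers_le.mpr hm') hb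
    have haP : a ∈ Cfsg.pCore (p : ℕ) ↥H := mem_pCore_of_mem_fitting (p : ℕ) haF hao
    have haMU : H.subtype a ∈ M ⊓ (Cfsg.pCore (p : ℕ) ↥H).map H.subtype :=
      Subgroup.mem_inf.mpr ⟨hzM a ha, ⟨a, haP, rfl⟩⟩
    have hax : H.subtype a * H.subtype x' = H.subtype x' * H.subtype a :=
      (Subgroup.mem_centralizer_iff.mp hxC) _ haMU
    have hax' : a * x' = x' * a := H.subtype_injective (by rw [map_mul, map_mul]; exact hax)
    have hbgen : b ∈ Cfsg.generalizedFittingSubgroup ↥H := by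
      unfold Cfsg.generalizedFittingSubgroup
      exact Subgroup.mem_sup_right hbF
    have hbC := pprime_genFit_centralizes_pCore (p : ℕ) hbgen hbo
    have hxb : x' * b = b * x' := (Subgroup.mem_centralizer_iff.mp hbC) x' hx'
    rw [← map_mul, ← map_mul]
    congr 1
    rw [hab]
    calc a * b * x' = a * (b * x') := by group
      _ = a * (x' * b) := by rw [hxb]
      _ = (a * x') * b := by group
      _ = (x' * a) * b := by rw [hax']
      _ = x' * (a * b) := by group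

/-- (L2) `R ∩ C_H(F) ≤ F` for `R` solvable normalized by `C_H(F)`. -/
theorem bender_L2 (H R : Subgroup G) (hR : Group.IsSolvable ↥R)
    (hXR : H ⊓ Subgroup.centralizer ((Cfsg.fittingOf H : Subgroup G) : Set G) ≤
      Subgroup.normalizer (R : Set G)) :
    R ⊓ (H ⊓ Subgroup.centralizer ((Cfsg.fittingOf H : Subgroup G) : Set G)) ≤
      Cfsg.fittingOf H := by
  obtain ⟨X₀, hX₀⟩ : ∃ X₀ : Subgroup G,
      X₀ = H ⊓ Subgroup.centralizer ((Cfsg.fittingOf H : Subgroup G) : Set G) := ⟨_, rfl⟩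
  rw [← hX₀] at hXR ⊢
  have hX₀H : X₀ ≤ H := by rw [hX₀]; exact inf_le_left
  have hX₀C : X₀ ≤ Subgroup.centralizer ((Cfsg.fittingOf H : Subgroup G) : Set G) := by
    rw [hX₀]; exact inf_le_right
  have hHX₀ : H ≤ Subgroup.normalizer (X₀ : Set G) := by
    rw [hX₀]
    exact le_normalizer_inf' Subgroup.le_normalizer
      ((le_normalizer_fittingOf H).trans (normalizer_le_normalizer_centralizer' _))
  have hX₀Y : X₀ ≤ Subgroup.normalizer ((R ⊓ X₀ : Subgroup G) : Set G) :=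
    le_normalizer_inf' hXR Subgroup.le_normalizer
  haveI hKn : (X₀.subgroupOf H).Normal := Subgroup.normal_subgroupOf_of_le_normalizer hHX₀
  have hle : (R ⊓ X₀).subgroupOf H ≤ X₀.subgroupOf H := by
    intro y hy
    exact (Subgroup.mem_inf.mp (Subgroup.mem_subgroupOf.mp hy)).2
  have hnorm : (((R ⊓ X₀).subgroupOf H).subgroupOf (X₀.subgroupOf H)).Normal := by
    refine ⟨fun y hy g => ?_⟩
    rw [Subgroup.mem_subgroupOf, Subgroup.mem_subgroupOf] at hy ⊢
    have hg : ((g : ↥H) : G) ∈ X₀ := g.2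
    have := (Subgroup.mem_normalizer_iff.mp (hX₀Y hg) _).mp hy
    simpa using this
  have hsub : ((R ⊓ X₀).subgroupOf H).IsSubnormal :=
    Subgroup.IsSubnormal.step _ _ hle hKn.isSubnormal hnorm
  have hsolv : Group.IsSolvable ↥((R ⊓ X₀).subgroupOf H) :=
    isSolvable_subgroupOf' _ _ (isSolvable_of_le' inf_le_left hR)
  have hcent : (R ⊓ X₀).subgroupOf H ≤
      Subgroup.centralizer (Cfsg.fittingSubgroup ↥H : Set ↥H) := by
    intro y hy
    rw [Subgroup.mem_centralizer_iff]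
    intro v hv
    have hyC := hX₀C (Subgroup.mem_inf.mp (Subgroup.mem_subgroupOf.mp hy)).2
    have hvF : (v : G) ∈ Cfsg.fittingOf H := by
      unfold Cfsg.fittingOf; exact ⟨v, hv, rfl⟩
    have := (Subgroup.mem_centralizer_iff.mp hyC) _ hvF
    exact Subtype.ext this
  have hfin := subnormal_solvable_centralizing_le_fitting hsub hsolv hcent
  intro y hy
  have hyH : y ∈ H := hX₀H (Subgroup.mem_inf.mp hy).2
  show y ∈ (Cfsg.fittingSubgroup ↥H).map H.subtype
  exact ⟨⟨y, hyH⟩, hfin (show (⟨y, hyH⟩ : ↥H) ∈ (R ⊓ X₀).subgroupOf H from hy), rfl⟩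

/-- (L123) An `M`-invariant `π(F)'`-subgroup of `R ∩ H` is trivial. -/
theorem bender_L123 (H M R D : Subgroup G) (hM : M ≤ Cfsg.fittingOf H)
    (hCM : Cfsg.fittingOf H ⊓ Subgroup.centralizer (M : Set G) ≤ M)
    (hR : Group.IsSolvable ↥R)
    (hXR : H ⊓ Subgroup.centralizer ((Cfsg.fittingOf H : Subgroup G) : Set G) ≤
      Subgroup.normalizer (R : Set G))
    (hDR : D ≤ R) (hDH : D ≤ H)
    (hDc : (Nat.card ↥D).Coprime (Nat.card ↥(Cfsg.fittingOf H)))
    (hMD : M ≤ Subgroup.normalizer (D : Set G)) : D = ⊥ := by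
  have h1 := bender_L1 H M D hM hCM hDH hDc hMD
  have h2 : D ≤ Cfsg.fittingOf H := by
    intro d hd
    exact bender_L2 H R hR hXR
      (Subgroup.mem_inf.mpr ⟨hDR hd, Subgroup.mem_inf.mpr ⟨hDH hd, h1 hd⟩⟩)
  have h3 : D ⊓ Cfsg.fittingOf H = ⊥ := Subgroup.inf_eq_bot_of_coprime hDc
  rw [← h3]; exact (inf_eq_left.mpr h2).symm

theorem zCoreOf_normalizer_of_max (H : Subgroup G)
    (hHmax : ∀ L : Subgroup G, Cfsg.IsLocalSubgroup L → H ≤ L → L = H) (r : ℕ) [Fact r.Prime]
    (hr : r ∣ Nat.card ↥(Cfsg.fittingOf H)) :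
    Subgroup.normalizer ((zCoreOf r H : Subgroup G) : Set G) = H := by
  have hrp := (Fact.out : r.Prime)
  rw [card_fittingOf] at hr
  have hne := zCoreOf_ne_bot r H hr
  apply hHmax
  · exact ⟨r, zCoreOf r H, hrp, zCoreOf_isPGroup r H, hne, rfl⟩
  · unfold zCoreOf
    exact le_normalizer_map_subtype H _

theorem zCoreOf_le_of_self_centralizing (H M : Subgroup G) (hM : M ≤ Cfsg.fittingOf H)
    (hCM : Cfsg.fittingOf H ⊓ Subgroup.centralizer (M : Set G) ≤ M) (r : ℕ) [Fact r.Prime] :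
    zCoreOf r H ≤ M := by
  intro z hz
  have h1 := zCoreOf_le_center_fitting r H hz
  apply hCM
  exact Subgroup.mem_inf.mpr ⟨(Subgroup.mem_inf.mp h1).1,
    Subgroup.centralizer_le (SetLike.coe_subset_coe.mpr hM) (Subgroup.mem_inf.mp h1).2⟩

theorem le_centralizer_zCoreOf (H M : Subgroup G) (hM : M ≤ Cfsg.fittingOf H) (r : ℕ)
    [Fact r.Prime] : M ≤ Subgroup.centralizer ((zCoreOf r H : Subgroup G) : Set G) := by
  rw [Subgroup.le_centralizer_iff]
  intro z hz
  have h1 := zCoreOf_le_center_fitting r H hz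
  exact Subgroup.centralizer_le (SetLike.coe_subset_coe.mpr hM) (Subgroup.mem_inf.mp h1).2

omit [Finite G] in
theorem piCoreOf_le (π : Set ℕ) (R : Subgroup G) : Cfsg.piCoreOf π R ≤ R := by
  unfold Cfsg.piCoreOf; exact Subgroup.map_subtype_le _

omit [Finite G] in
theorem normalizer_le_normalizer_piCoreOf (π : Set ℕ) (R : Subgroup G) :
    Subgroup.normalizer (R : Set G) ≤
      Subgroup.normalizer ((Cfsg.piCoreOf π R : Subgroup G) : Set G) := by
  unfold Cfsg.piCoreOf
  exact normalizer_le_normalizer_map_char R (Cfsg.piCore π ↥R)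

theorem piCoreOf_primes (π : Set ℕ) (R : Subgroup G) (t : ℕ) (ht : t.Prime)
    (hd : t ∣ Nat.card ↥(Cfsg.piCoreOf π R)) : t ∈ π := by
  unfold Cfsg.piCoreOf at hd
  rw [Subgroup.card_map_of_injective R.subtype_injective] at hd
  exact Cfsg.Agent.Lib.Helper7.piCore_isPiGrp π t ht hd

omit [Finite G] in
theorem le_piCoreOf (π : Set ℕ) (R W : Subgroup G) (hWR : W ≤ R)
    (hn : R ≤ Subgroup.normalizer (W : Set G))
    (hpi : ∀ t : ℕ, t.Prime → t ∣ Nat.card ↥W → t ∈ π) : W ≤ Cfsg.piCoreOf π R := by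
  have h1 : (W.subgroupOf R).Normal := Subgroup.normal_subgroupOf_of_le_normalizer hn
  have h2 : Cfsg.Agent.Lib.Helper7.IsPiGrp π (W.subgroupOf R) := by
    intro t ht htd
    rw [Nat.card_congr (Subgroup.subgroupOfEquivOfLe hWR).toEquiv] at htd
    exact hpi t ht htd
  have h3 := Cfsg.Agent.Lib.Helper7.le_piCore π _ h1 h2
  intro x hx
  show x ∈ (Cfsg.piCore π ↥R).map R.subtype
  exact ⟨⟨x, hWR hx⟩, h3 (show (⟨x, hWR hx⟩ : ↥R) ∈ W.subgroupOf R from hx), rfl⟩

end Cfsg.Agent.Lib.Helper3
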