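import Mathlib
import Cfsg.Agent.Lib.Helper3.Bender9

/-!
# Bender's lemma on maximal local subgroups: assembly
-/

set_option autoImplicit false
set_option linter.style.haveILetI false
set_option linter.unusedVariables false

open scoped commutatorElement

universe u

namespace Cfsg.Agent.Lib.Helper3

open Cfsg
open Cfsg.Agent.Lib.Helper1

variable {G : Type u} [Group G] [Finite G]

/-- (A) every `M`-invariant `q`-subgroup of `R` lies in `O_{π(F)'}(R)`. -/
theorem bender_inv_le_piCoreOf (H : Subgroup G)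
    (hHmax : ∀ L : Subgroup G, Cfsg.IsLocalSubgroup L → H ≤ L → L = H)
    (hF2 : 2 ≤ (Nat.card ↥(Cfsg.fittingOf H)).primeFactors.card)
    (M : Subgroup G) (hM : M ≤ Cfsg.fittingOf H)
    (hCM : Cfsg.fittingOf H ⊓ Subgroup.centralizer (M : Set G) ≤ M)
    (R : Subgroup G) (hR : Group.IsSolvable ↥R) (hMR : M ≤ Subgroup.normalizer (R : Set G))
    (hXR : H ⊓ Subgroup.centralizer ((Cfsg.fittingOf H : Subgroup G) : Set G) ≤
      Subgroup.normalizer (R : Set G))
    (q : ℕ) [Fact q.Prime] (hq : ¬ q ∣ Nat.card ↥(Cfsg.fittingOf H))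
    (Q : Subgroup G) (hQR : Q ≤ R) (hQq : IsPGroup q ↥Q)
    (hMQ : M ≤ Subgroup.normalizer (Q : Set G)) :
    Q ≤ Cfsg.piCoreOf (Cfsg.primesNotDvd (Nat.card ↥(Cfsg.fittingOf H))) R := by
  have hqp := (Fact.out : q.Prime)
  obtain ⟨n, hn⟩ : ∃ n : ℕ, n = Nat.card ↥(Cfsg.fittingOf H) := ⟨_, rfl⟩
  rw [← hn] at hF2 hq ⊢
  obtain ⟨K, hKdef⟩ : ∃ K : Subgroup G, K = Cfsg.piCoreOf (Cfsg.primesNotDvd n) R := ⟨_, rfl⟩
  rw [← hKdef]
  obtain ⟨B, hBdef⟩ : ∃ B : Subgroup G, B = Subgroup.normalizer (R : Set G) := ⟨_, rfl⟩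
  have hRB : R ≤ B := by rw [hBdef]; exact Subgroup.le_normalizer
  have hMB : M ≤ B := by rw [hBdef]; exact hMR
  have hKR : K ≤ R := by rw [hKdef]; exact piCoreOf_le _ R
  have hKB : K ≤ B := hKR.trans hRB
  have hBK : B ≤ Subgroup.normalizer (K : Set G) := by
    rw [hBdef, hKdef]; exact normalizer_le_normalizer_piCoreOf _ R
  have hBR : B ≤ Subgroup.normalizer (R : Set G) := by rw [hBdef]
  have hKpi : ∀ t : ℕ, t.Prime → t ∣ Nat.card ↥K → ¬ t ∣ n := by
    intro t ht htd
    rw [hKdef] at htd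
    have h := piCoreOf_primes _ R t ht htd
    have h' : t.Prime ∧ ¬ t ∣ n := h
    exact h'.2
  have hZM : ∀ r : ℕ, r.Prime → zCoreOf r H ≤ M := fun r hr => by
    haveI : Fact r.Prime := ⟨hr⟩
    exact zCoreOf_le_of_self_centralizing H M hM hCM r
  have hMZ : ∀ r : ℕ, r.Prime →
      M ≤ Subgroup.centralizer ((zCoreOf r H : Subgroup G) : Set G) := fun r hr => by
    haveI : Fact r.Prime := ⟨hr⟩
    exact le_centralizer_zCoreOf H M hM r
  have hNZ : ∀ r : ℕ, r.Prime → r ∣ n →
      Subgroup.normalizer ((zCoreOf r H : Subgroup G) : Set G) = H := by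
    intro r hr hrn
    haveI : Fact r.Prime := ⟨hr⟩
    exact zCoreOf_normalizer_of_max H hHmax r (hn ▸ hrn)
  have hCZH : ∀ r : ℕ, r.Prime → r ∣ n →
      Subgroup.centralizer ((zCoreOf r H : Subgroup G) : Set G) ≤ H := fun r hr hrn =>
    (centralizer_le_normalizer' _).trans (hNZ r hr hrn).le
  have h2 : ∀ p : ℕ, p.Prime → p ∣ n → ∃ r : ℕ, r.Prime ∧ r ∣ n ∧ r ≠ p := by
    intro p hp hpn
    by_contra hcon
    push Not at hcon
    have : n.primeFactors.card ≤ 1 := by
      apply Finset.card_le_one.mpr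
      intro a ha b hb
      rw [Nat.mem_primeFactors] at ha hb
      rw [hcon a ha.1 ha.2.1, hcon b hb.1 hb.2.1]
    omega
  have hfixG : ∀ r : ℕ, r.Prime → r ∣ n →
      Q ⊓ Subgroup.centralizer ((zCoreOf r H : Subgroup G) : Set G) = ⊥ := by
    intro r hr hrn
    apply bender_L123 H M R _ hM hCM hR hXR (inf_le_left.trans hQR)
      (inf_le_right.trans (hCZH r hr hrn))
    · rw [← hn]
      have hdvd : Nat.card ↥(Q ⊓ Subgroup.centralizer ((zCoreOf r H : Subgroup G) : Set G)) ∣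
          Nat.card ↥Q := Subgroup.card_dvd_of_le inf_le_left
      obtain ⟨l, hl⟩ := IsPGroup.iff_card.mp hQq
      rw [hl] at hdvd
      exact Nat.Coprime.coprime_dvd_left hdvd
        (Nat.Coprime.pow_left l ((Nat.Prime.coprime_iff_not_dvd hqp).mpr hq))
    · apply le_normalizer_inf' hMQ
      exact ((hMZ r hr).trans (centralizer_le_normalizer' _)).trans
        (normalizer_le_normalizer_centralizer' _)
  haveI hK'n : (K.subgroupOf B).Normal := Subgroup.normal_subgroupOf_of_le_normalizer hBK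
  have hker : (QuotientGroup.mk' (K.subgroupOf B)).ker = K.subgroupOf B :=
    QuotientGroup.ker_mk' _
  have hmain : Q.subgroupOf B ≤ (QuotientGroup.mk' (K.subgroupOf B)).ker := by
    refine inv_qsubgroup_le (QuotientGroup.mk' (K.subgroupOf B))
      (QuotientGroup.mk'_surjective _) n (R.subgroupOf B) (Q.subgroupOf B)
      (Subgroup.normal_subgroupOf_of_le_normalizer hBR) (isSolvable_subgroupOf' R B hR)
      ?_ ?_ (fun r => (zCoreOf r H).subgroupOf B) ?_ ?_ ?_ h2 q hq ?_ ?_ ?_ ?_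
    · intro t ht htd
      rw [hker, Nat.card_congr (Subgroup.subgroupOfEquivOfLe hKB).toEquiv] at htd
      exact hKpi t ht htd
    · intro W hWR hWn hWpi
      rw [hker]
      haveI := hWn
      have h1 : W.map B.subtype ≤ K := by
        rw [hKdef]
        apply le_piCoreOf
        · rintro _ ⟨w, hw, rfl⟩; exact Subgroup.mem_subgroupOf.mp (hWR hw)
        · exact hRB.trans (le_normalizer_map_subtype B W)
        · intro t ht htd
          rw [Subgroup.card_map_of_injective B.subtype_injective] at htd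
          show t.Prime ∧ ¬ t ∣ n
          exact ⟨ht, hWpi t ht htd⟩
      intro w hw
      exact Subgroup.mem_subgroupOf.mpr (h1 ⟨w, hw, rfl⟩)
    · intro r hr hrn
      haveI : Fact r.Prime := ⟨hr⟩
      exact (zCoreOf_isPGroup r H).comap_subtype
    · intro p r hp hr hpn hrn x hx
      rw [Subgroup.mem_centralizer_iff]
      intro z hz
      exact Subtype.ext ((Subgroup.mem_centralizer_iff.mp
        (hMZ r hr (hZM p hp (Subgroup.mem_subgroupOf.mp hx)))) _ (Subgroup.mem_subgroupOf.mp hz))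
    · intro p r hp hr hpn hrn g hg
      have hgC : (g : G) ∈ Subgroup.centralizer ((zCoreOf p H : Subgroup G) : Set G) := by
        rw [Subgroup.mem_centralizer_iff]
        intro z hz
        have hzB : z ∈ B := hMB (hZM p hp hz)
        have := (Subgroup.mem_centralizer_iff.mp hg) ⟨z, hzB⟩ (Subgroup.mem_subgroupOf.mpr hz)
        exact congrArg Subtype.val this
      have hgH : (g : G) ∈ H := hCZH p hp hpn hgC
      have hgN : (g : G) ∈ Subgroup.normalizer ((zCoreOf r H : Subgroup G) : Set G) := by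
        rw [hNZ r hr hrn]; exact hgH
      rw [Subgroup.mem_normalizer_iff]
      intro x
      rw [Subgroup.mem_subgroupOf, Subgroup.mem_subgroupOf]
      have := Subgroup.mem_normalizer_iff.mp hgN (x : G)
      simpa using this
    · intro x hx
      exact Subgroup.mem_subgroupOf.mpr (hQR (Subgroup.mem_subgroupOf.mp hx))
    · exact hQq.comap_subtype
    · intro r hr hrn g hg
      have hgM : (g : G) ∈ M := hZM r hr (Subgroup.mem_subgroupOf.mp hg)
      rw [Subgroup.mem_normalizer_iff]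
      intro x
      rw [Subgroup.mem_subgroupOf, Subgroup.mem_subgroupOf]
      have := Subgroup.mem_normalizer_iff.mp (hMQ hgM) (x : G)
      simpa using this
    · intro r hr hrn
      rw [eq_bot_iff]
      intro x hx
      obtain ⟨hxQ, hxC⟩ := Subgroup.mem_inf.mp hx
      have hxG : (x : G) ∈ Q ⊓ Subgroup.centralizer ((zCoreOf r H : Subgroup G) : Set G) := by
        refine Subgroup.mem_inf.mpr ⟨Subgroup.mem_subgroupOf.mp hxQ, ?_⟩
        rw [Subgroup.mem_centralizer_iff]
        intro z hz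
        have hzB : z ∈ B := hMB (hZM r hr hz)
        have := (Subgroup.mem_centralizer_iff.mp hxC) ⟨z, hzB⟩ (Subgroup.mem_subgroupOf.mpr hz)
        exact congrArg Subtype.val this
      rw [hfixG r hr hrn, Subgroup.mem_bot] at hxG
      rw [Subgroup.mem_bot]; exact Subtype.ext hxG
  intro x hx
  have hxB : x ∈ B := hRB (hQR hx)
  have := hmain (show (⟨x, hxB⟩ : ↥B) ∈ Q.subgroupOf B from hx)
  rw [hker] at this
  exact this

/-- (B), (C): the unique maximal `M`-invariant `q`-subgroup of `R`. -/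
theorem bender_maxlocal_unique (H : Subgroup G)
    (hHmax : ∀ L : Subgroup G, Cfsg.IsLocalSubgroup L → H ≤ L → L = H)
    (hF2 : 2 ≤ (Nat.card ↥(Cfsg.fittingOf H)).primeFactors.card)
    (M : Subgroup G) (hM : M ≤ Cfsg.fittingOf H)
    (hCM : Cfsg.fittingOf H ⊓ Subgroup.centralizer (M : Set G) ≤ M)
    (R : Subgroup G) (hR : Group.IsSolvable ↥R) (hMR : M ≤ Subgroup.normalizer (R : Set G))
    (hXR : H ⊓ Subgroup.centralizer ((Cfsg.fittingOf H : Subgroup G) : Set G) ≤
      Subgroup.normalizer (R : Set G))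
    (q : ℕ) [Fact q.Prime] (hq : ¬ q ∣ Nat.card ↥(Cfsg.fittingOf H)) :
    ∃ Qs : Subgroup G, Qs ∈ Cfsg.invSubgroups R M {q} ∧
      (∀ Y ∈ Cfsg.invSubgroups R M {q}, Y ≤ Qs) ∧
      Qs ≤ Cfsg.piCoreOf (Cfsg.primesNotDvd (Nat.card ↥(Cfsg.fittingOf H))) R ∧
      ¬ q ∣ Qs.relIndex (Cfsg.piCoreOf (Cfsg.primesNotDvd (Nat.card ↥(Cfsg.fittingOf H))) R) := by
  have hqp := (Fact.out : q.Prime)
  have hA := bender_inv_le_piCoreOf H hHmax hF2 M hM hCM R hR hMR hXR q hq
  obtain ⟨n, hn⟩ : ∃ n : ℕ, n = Nat.card ↥(Cfsg.fittingOf H) := ⟨_, rfl⟩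
  rw [← hn] at hF2 hq hA ⊢
  obtain ⟨K, hKdef⟩ : ∃ K : Subgroup G, K = Cfsg.piCoreOf (Cfsg.primesNotDvd n) R := ⟨_, rfl⟩
  rw [← hKdef] at hA ⊢
  have hKR : K ≤ R := by rw [hKdef]; exact piCoreOf_le _ R
  have hMK : M ≤ Subgroup.normalizer (K : Set G) := by
    rw [hKdef]; exact hMR.trans (normalizer_le_normalizer_piCoreOf _ R)
  have hKpi : ∀ t : ℕ, t.Prime → t ∣ Nat.card ↥K → ¬ t ∣ n := by
    intro t ht htd
    rw [hKdef] at htd
    have h := piCoreOf_primes _ R t ht htd
    have h' : t.Prime ∧ ¬ t ∣ n := h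
    exact h'.2
  have hMn : Nat.card ↥M ∣ n := by rw [hn]; exact Subgroup.card_dvd_of_le hM
  have hcopMK : (Nat.card ↥M).Coprime (Nat.card ↥K) := by
    by_contra h
    obtain ⟨t, ht, h1, h2⟩ := Nat.Prime.not_coprime_iff_dvd.mp h
    exact hKpi t ht h2 (h1.trans hMn)
  have hcopKn : (Nat.card ↥K).Coprime n := by
    by_contra h
    obtain ⟨t, ht, h1, h2⟩ := Nat.Prime.not_coprime_iff_dvd.mp h
    exact hKpi t ht h1 h2
  have hKs : Group.IsSolvable ↥K := isSolvable_of_le' hKR hR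
  obtain ⟨P, hP⟩ := Cfsg.Agent.S0023.result M K hMK hcopMK (Or.inr hKs) q
  -- a prime dividing n
  have hne : n.primeFactors.Nonempty := Finset.card_pos.mp (by omega)
  obtain ⟨r, hr⟩ := hne
  rw [Nat.mem_primeFactors] at hr
  obtain ⟨hrp, hrn, -⟩ := hr
  haveI : Fact r.Prime := ⟨hrp⟩
  have hZM : zCoreOf r H ≤ M := zCoreOf_le_of_self_centralizing H M hM hCM r
  have hNZ : Subgroup.normalizer ((zCoreOf r H : Subgroup G) : Set G) = H :=
    zCoreOf_normalizer_of_max H hHmax r (hn ▸ hrn)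
  have hCMH : Subgroup.centralizer (M : Set G) ≤ H :=
    ((Subgroup.centralizer_le (SetLike.coe_subset_coe.mpr hZM)).trans
      (centralizer_le_normalizer' _)).trans hNZ.le
  have hCKM : K ⊓ Subgroup.centralizer (M : Set G) = ⊥ := by
    apply bender_L123 H M R _ hM hCM hR hXR (inf_le_left.trans hKR) (inf_le_right.trans hCMH)
    · rw [← hn]
      exact Nat.Coprime.coprime_dvd_left (Subgroup.card_dvd_of_le inf_le_left) hcopKn
    · exact le_normalizer_inf' hMK
        (Subgroup.le_normalizer.trans (normalizer_le_normalizer_centralizer' M))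
  have hall : ∀ Y ∈ Cfsg.invSubgroups R M {q}, Y ≤ (P : Subgroup ↥K).map K.subtype := by
    intro Y hY
    obtain ⟨hYR, hYpi, hMY⟩ := hY
    have hYq : IsPGroup q ↥Y := by
      have := Nat.eq_prime_pow_of_unique_prime_dvd (Nat.card_pos (α := ↥Y)).ne' (p := q)
        (fun {t} ht htd => Set.mem_singleton_iff.mp (hYpi t ht htd))
      exact IsPGroup.of_card this
    have hYK : Y ≤ K := hA Y hYR hYq hMY
    obtain ⟨P', hYP', hMP'⟩ :=
      Cfsg.Agent.S0025.result M K hMK hcopMK (Or.inr hKs) q Y hYK hYq hMY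
    obtain ⟨c, hcM, hcP⟩ := Cfsg.Agent.S0024.result M K hMK hcopMK (Or.inr hKs) q P P' hP hMP'
    have hc1 : (c : G) = 1 := by
      have : (c : G) ∈ K ⊓ Subgroup.centralizer (M : Set G) := Subgroup.mem_inf.mpr ⟨c.2, hcM⟩
      rw [hCKM, Subgroup.mem_bot] at this
      exact this
    have hc2 : c = 1 := Subtype.ext hc1
    rw [hc2, map_one, one_smul] at hcP
    rw [← hcP] at hYP'
    exact hYP'
  refine ⟨(P : Subgroup ↥K).map K.subtype, ?_, hall, Subgroup.map_subtype_le _, ?_⟩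
  · show (P : Subgroup ↥K).map K.subtype ≤ R ∧
      (∀ p : ℕ, p.Prime → p ∣ Nat.card ↥((P : Subgroup ↥K).map K.subtype) → p ∈ ({q} : Set ℕ)) ∧
      M ≤ Subgroup.normalizer (((P : Subgroup ↥K).map K.subtype : Subgroup G) : Set G)
    refine ⟨(Subgroup.map_subtype_le _).trans hKR, ?_, hP⟩
    intro t ht htd
    rw [Subgroup.card_map_of_injective K.subtype_injective] at htd
    obtain ⟨k, hk⟩ := IsPGroup.iff_card.mp P.isPGroup'
    rw [hk] at htd
    exact Set.mem_singleton_iff.mpr ((Nat.prime_dvd_prime_iff_eq ht hqp).mp (ht.dvd_of_dvd_pow htd))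
  · have hsub : ((P : Subgroup ↥K).map K.subtype).subgroupOf K = (P : Subgroup ↥K) :=
      Subgroup.comap_map_eq_self_of_injective K.subtype_injective _
    unfold Subgroup.relIndex
    rw [hsub]
    exact P.not_dvd_index

end Cfsg.Agent.Lib.Helper3
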