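import Mathlib
import Cfsg.Prelude.Def_LieExceptional
import Cfsg.Agent.Lib.Helper3.Frattini
import Cfsg.Agent.Lib.Helper3.Conj
import Cfsg.Agent.Lib.Helper3.QN
import Cfsg.Agent.Lib.Helper3.Transport
import Cfsg.Agent.Lib.Helper1.Fitting
import Cfsg.Agent.Lib.Helper4.SylowRel
import Cfsg.Agent.Lib.Helper5.MaxP
import Cfsg.Agent.Lib.Helper3.GTMain

set_option autoImplicit false
set_option linter.unusedSectionVars false
set_option linter.unusedVariables false
set_option linter.style.haveILetI false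
open scoped commutatorElement
open Cfsg

/-! Quotients of CN-groups by solvable normal subgroups are CN-groups. -/

namespace Cfsg.Agent.Lib.Helper3

universe u

section cnquot

/-- elements of coprime prime-power orders in a finite nilpotent group commute -/
lemma commute_of_nilpotent_of_prime_powers {N : Type*} [Group N] [Finite N]
    [hN : Group.IsNilpotent N] {q s : ℕ} [hq : Fact q.Prime] [hs : Fact s.Prime] (hqs : q ≠ s)
    {a b : N} (ha : ∃ k, a ^ (q ^ k) = 1) (hb : ∃ k, b ^ (s ^ k) = 1) : a * b = b * a := by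
  have htfae := (Group.isNilpotent_of_finite_tfae (G := N)).out 0 3
  have hnorm := htfae.mp hN
  have hpg : ∀ (r : ℕ) [Fact r.Prime] (c : N), (∃ k, c ^ (r ^ k) = 1) →
      IsPGroup r (Subgroup.zpowers c) := by
    intro r hr c ⟨k, hk⟩
    have h1 : orderOf c ∣ r ^ k := orderOf_dvd_of_pow_eq_one hk
    obtain ⟨j, -, hj⟩ := (Nat.dvd_prime_pow hr.out).mp h1
    exact IsPGroup.of_card (n := j) (by rw [Nat.card_zpowers, hj])
  obtain ⟨Pq, hPq⟩ := (hpg q a ha).exists_le_sylow
  obtain ⟨Ps, hPs⟩ := (hpg s b hb).exists_le_sylow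
  have hdis : Disjoint (Pq : Subgroup N) (Ps : Subgroup N) :=
    IsPGroup.disjoint_of_ne q s hqs _ _ Pq.2 Ps.2
  exact (Subgroup.commute_of_normal_of_disjoint _ _ (hnorm q hq Pq) (hnorm s hs Ps) hdis a b
    (hPq (Subgroup.mem_zpowers a)) (hPs (Subgroup.mem_zpowers b))).eq

/-- in a CN-group, elements of coprime prime-power orders centralizing a common nonidentity
element commute -/
lemma commute_in_cn {G : Type*} [Group G] [Finite G] (hCN : Cfsg.IsCNGroup G) {w a b : G}
    (hw : w ≠ 1) (haw : a * w = w * a) (hbw : b * w = w * b) {q s : ℕ} [Fact q.Prime]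
    [Fact s.Prime] (hqs : q ≠ s) (ha : ∃ k, a ^ (q ^ k) = 1) (hb : ∃ k, b ^ (s ^ k) = 1) :
    a * b = b * a := by
  haveI hnil := hCN w hw
  have ha' : a ∈ Subgroup.centralizer ({w} : Set G) := by
    rw [Subgroup.mem_centralizer_iff]
    intro z hz
    rw [Set.mem_singleton_iff] at hz
    rw [hz]; exact haw.symm
  have hb' : b ∈ Subgroup.centralizer ({w} : Set G) := by
    rw [Subgroup.mem_centralizer_iff]
    intro z hz
    rw [Set.mem_singleton_iff] at hz
    rw [hz]; exact hbw.symm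
  obtain ⟨k, hk⟩ := ha
  obtain ⟨l, hl⟩ := hb
  have h1 := commute_of_nilpotent_of_prime_powers (N := ↥(Subgroup.centralizer ({w} : Set G)))
    hqs (a := ⟨a, ha'⟩) (b := ⟨b, hb'⟩) ⟨k, Subtype.ext (by simpa using hk)⟩
    ⟨l, Subtype.ext (by simpa using hl)⟩
  exact congrArg Subtype.val h1

/-- lifting an element of prime-power order to an element of prime-power order -/
lemma exists_ppower_lift {X Y : Type*} [Group X] [Finite X] [Group Y] {r : ℕ} [hr : Fact r.Prime]
    (π : X →* Y) (g : X) (h : ∃ k, (π g) ^ (r ^ k) = 1) :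
    ∃ g' ∈ Subgroup.zpowers g, π g' = π g ∧ ∃ k, g' ^ (r ^ k) = 1 := by
  have hp := hr.out
  obtain ⟨a, m, hm, ho⟩ := Nat.exists_eq_pow_mul_and_not_dvd (orderOf_pos g).ne' r hp.ne_one
  have hcop : Nat.Coprime (r ^ a) m := (hp.coprime_iff_not_dvd.mpr hm).pow_left a
  obtain ⟨k, hk1, hk0⟩ := Nat.chineseRemainder hcop 1 0
  have hmk : m ∣ k := Nat.modEq_zero_iff_dvd.mp hk0
  refine ⟨g ^ k, Subgroup.npow_mem_zpowers g k, ?_, a, ?_⟩
  · rw [map_pow]
    obtain ⟨j, hj⟩ := h
    have h1 : orderOf (π g) ∣ r ^ j := orderOf_dvd_of_pow_eq_one hj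
    obtain ⟨i, -, hi⟩ := (Nat.dvd_prime_pow hp).mp h1
    have h2 : orderOf (π g) ∣ r ^ a := by
      have h3 : orderOf (π g) ∣ r ^ a * m := by rw [← ho]; exact orderOf_map_dvd π g
      have h4 : Nat.Coprime (orderOf (π g)) m := by
        rw [hi]; exact (hp.coprime_iff_not_dvd.mpr hm).pow_left i
      exact h4.dvd_of_dvd_mul_right h3
    have h3 : k ≡ 1 [MOD orderOf (π g)] := hk1.of_dvd h2
    have h4 := pow_eq_pow_iff_modEq.mpr h3
    rw [pow_one] at h4
    exact h4
  · rw [← pow_mul]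
    apply orderOf_dvd_iff_pow_eq_one.mp
    rw [ho, mul_comm k]
    exact Nat.mul_dvd_mul_left _ hmk

lemma isNilpotent_map' {A B : Type*} [Group A] [Group B] (f : A →* B) {K : Subgroup A}
    (hK : Group.IsNilpotent ↥K) : Group.IsNilpotent ↥(K.map f) :=
  Group.nilpotent_of_surjective (f.subgroupMap K) (f.subgroupMap_surjective K)

lemma isCN_of_equiv {A B : Type*} [Group A] [Group B] (e : A ≃* B) (h : Cfsg.IsCNGroup A) :
    Cfsg.IsCNGroup B := by
  intro b hb
  have hne : e.symm b ≠ 1 := by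
    intro h1
    apply hb
    have := congrArg e h1
    rwa [e.apply_symm_apply, map_one] at this
  have h1 := h (e.symm b) hne
  have h2 : Subgroup.centralizer ({b} : Set B) =
      (Subgroup.centralizer ({e.symm b} : Set A)).map e.toMonoidHom := by
    ext y
    constructor
    · intro hy
      have hy' : e.symm y ∈ Subgroup.centralizer ({e.symm b} : Set A) := by
        rw [Subgroup.mem_centralizer_iff] at hy ⊢
        intro z hz
        rw [Set.mem_singleton_iff] at hz
        rw [hz, ← map_mul, ← map_mul, hy b (Set.mem_singleton b)]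
      exact ⟨e.symm y, hy', e.apply_symm_apply y⟩
    · rintro ⟨x, hx, rfl⟩
      have hx' : x ∈ Subgroup.centralizer ({e.symm b} : Set A) := hx
      rw [Subgroup.mem_centralizer_iff] at hx' ⊢
      have hx := hx'
      intro z hz
      rw [Set.mem_singleton_iff] at hz
      have h3 := hx (e.symm b) (Set.mem_singleton _)
      have h4 := congrArg e h3
      rw [map_mul, map_mul, e.apply_symm_apply] at h4
      rw [hz]; exact h4
  rw [h2]
  exact isNilpotent_map' e.toMonoidHom h1

theorem exists_abelian_normal_pgroup {G : Type*} [Group G] [Finite G] (H : Subgroup G)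
    [hHn : H.Normal] (hH : Group.IsSolvable ↥H) (hne : H ≠ ⊥) :
    ∃ (q : ℕ) (_ : Fact q.Prime) (H₁ : Subgroup G), H₁ ≤ H ∧ H₁.Normal ∧ H₁ ≠ ⊥ ∧
      (∀ a ∈ H₁, ∀ b ∈ H₁, a * b = b * a) ∧ IsPGroup q H₁ := by
  classical
  obtain ⟨D, hD⟩ : ∃ D : ℕ → Subgroup G, D = fun n => (derivedSeries ↥H n).map H.subtype :=
    ⟨_, rfl⟩
  have hD0 : D 0 = H := by
    rw [hD]
    show (derivedSeries ↥H 0).map H.subtype = H
    rw [derivedSeries_zero, ← MonoidHom.range_eq_map, Subgroup.range_subtype]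
  have hDs : ∀ n, D (n + 1) = ⁅D n, D n⁆ := by
    intro n
    rw [hD]
    show (derivedSeries ↥H (n + 1)).map H.subtype = _
    rw [derivedSeries_succ, Subgroup.map_commutator]
  have hDn : ∀ n, (D n).Normal := by
    intro n
    induction n with
    | zero => rw [hD0]; exact hHn
    | succ n ih =>
      rw [hDs]
      haveI := ih
      exact Subgroup.commutator_normal _ _
  have hDH : ∀ n, D n ≤ H := by
    intro n
    rw [hD]
    exact Subgroup.map_subtype_le _
  have hex : ∃ n, D n = ⊥ := by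
    obtain ⟨n, hn⟩ := (Group.isSolvable_def ↥H).mp hH
    refine ⟨n, ?_⟩
    rw [hD]
    show (derivedSeries ↥H n).map H.subtype = ⊥
    rw [hn, Subgroup.map_bot]
  obtain ⟨n, hn, hmin⟩ : ∃ n, D n = ⊥ ∧ ∀ j < n, D j ≠ ⊥ :=
    ⟨Nat.find hex, Nat.find_spec hex, fun j hj => Nat.find_min hex hj⟩
  have hn0 : n ≠ 0 := by
    rintro rfl
    rw [hD0] at hn
    exact hne hn
  obtain ⟨A, hA⟩ : ∃ A : Subgroup G, A = D (n - 1) := ⟨_, rfl⟩
  have hAne : A ≠ ⊥ := by rw [hA]; exact hmin (n - 1) (by omega)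
  have hAn : A.Normal := by rw [hA]; exact hDn _
  have hAH : A ≤ H := by rw [hA]; exact hDH _
  have hAc : ⁅A, A⁆ = ⊥ := by
    rw [hA, ← hDs]
    have : n - 1 + 1 = n := by omega
    rw [this]; exact hn
  have hAab : ∀ a ∈ A, ∀ b ∈ A, a * b = b * a := by
    intro a ha b hb
    have h1 := Subgroup.commutator_eq_bot_iff_le_centralizer.mp hAc
    exact (Subgroup.mem_centralizer_iff.mp (h1 ha) b hb).symm
  have hcard : Nat.card ↥A ≠ 1 := by
    intro h
    exact hAne (Subgroup.eq_bot_of_card_eq _ h)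
  obtain ⟨q, hq, hqdvd⟩ := Nat.exists_prime_and_dvd hcard
  haveI hqf : Fact q.Prime := ⟨hq⟩
  let H₁ : Subgroup G :=
    { carrier := {a | a ∈ A ∧ a ^ q = 1}
      mul_mem' := by
        rintro a b ⟨ha, ha1⟩ ⟨hb, hb1⟩
        refine ⟨A.mul_mem ha hb, ?_⟩
        have hc : Commute a b := hAab a ha b hb
        rw [hc.mul_pow, ha1, hb1, one_mul]
      one_mem' := ⟨A.one_mem, one_pow q⟩
      inv_mem' := by
        rintro a ⟨ha, ha1⟩
        exact ⟨A.inv_mem ha, by rw [inv_pow, ha1, inv_one]⟩ }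
  refine ⟨q, hqf, H₁, ?_, ?_, ?_, ?_, ?_⟩
  · intro a ha
    exact hAH ha.1
  · refine ⟨fun a ha g => ⟨hAn.conj_mem a ha.1 g, ?_⟩⟩
    rw [conj_pow, ha.2, mul_one, mul_inv_cancel]
  · obtain ⟨x, hx⟩ := exists_prime_orderOf_dvd_card' (G := ↥A) q hqdvd
    intro hbot
    have hx1 : (x : G) ∈ H₁ := by
      refine ⟨x.2, ?_⟩
      have := pow_orderOf_eq_one x
      rw [hx] at this
      exact_mod_cast congrArg Subtype.val this
    rw [hbot, Subgroup.mem_bot] at hx1
    have hx2 : x = 1 := Subtype.ext hx1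
    rw [hx2, orderOf_one] at hx
    exact hq.one_lt.ne hx
  · intro a ha b hb
    exact hAab a ha.1 b hb.1
  · rintro ⟨a, ha⟩
    refine ⟨1, Subtype.ext ?_⟩
    rw [pow_one]
    show a ^ q = 1
    exact ha.2

open Cfsg.Agent.Lib.Helper1 Cfsg.Agent.Lib.Helper4 Cfsg.Agent.Lib.Helper5 in
theorem cn_quotient_elemAb {G : Type*} [Group G] [Finite G] (hCN : Cfsg.IsCNGroup G)
    (H : Subgroup G) [hHn : H.Normal] {q : ℕ} [hq : Fact q.Prime]
    (hHab : ∀ a ∈ H, ∀ b ∈ H, a * b = b * a) (hHq : IsPGroup q H) (hHne : H ≠ ⊥) :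
    Cfsg.IsCNGroup (G ⧸ H) := by
  classical
  intro xb hxb
  obtain ⟨π, hπ⟩ : ∃ π : G →* G ⧸ H, π = QuotientGroup.mk' H := ⟨_, rfl⟩
  have hπs : Function.Surjective π := by rw [hπ]; exact QuotientGroup.mk'_surjective H
  have hker : π.ker = H := by rw [hπ]; exact QuotientGroup.ker_mk' H
  have hox : orderOf xb ≠ 1 := by rw [Ne, orderOf_eq_one_iff]; exact hxb
  obtain ⟨r, hr, hrdvd⟩ := Nat.exists_prime_and_dvd hox
  haveI hrf : Fact r.Prime := ⟨hr⟩
  obtain ⟨yb, hyb⟩ : ∃ yb, yb = xb ^ (orderOf xb / r) := ⟨_, rfl⟩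
  have hyb_ord : orderOf yb = r := by
    rw [hyb]; exact orderOf_pow_orderOf_div (orderOf_pos xb).ne' hrdvd
  have hyb1 : yb ≠ 1 := by
    intro h
    rw [h, orderOf_one] at hyb_ord
    exact hr.one_lt.ne hyb_ord
  have hcent : Subgroup.centralizer ({xb} : Set (G ⧸ H)) ≤
      Subgroup.centralizer ({yb} : Set (G ⧸ H)) := by
    intro c hc
    rw [Subgroup.mem_centralizer_iff] at hc ⊢
    intro z hz
    rw [Set.mem_singleton_iff] at hz
    have h1 : Commute xb c := hc xb (Set.mem_singleton _)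
    rw [hz, hyb]
    exact (h1.pow_left _).eq
  suffices hnil : Group.IsNilpotent ↥(Subgroup.centralizer ({yb} : Set (G ⧸ H))) from
    isNilpotent_of_le hcent hnil
  obtain ⟨y₀, hy₀⟩ := hπs yb
  obtain ⟨y, -, hyπ, hyr⟩ := exists_ppower_lift (r := r) π y₀
    ⟨1, by rw [hy₀, pow_one, ← hyb_ord]; exact pow_orderOf_eq_one yb⟩
  rw [hy₀] at hyπ
  have hy1 : y ≠ 1 := by
    intro h
    rw [h, map_one] at hyπ
    exact hyb1 hyπ.symm
  have hyH : y ∉ H := by
    intro h
    apply hyb1
    rw [← hyπ]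
    exact (MonoidHom.mem_ker).mp (by rw [hker]; exact h)
  obtain ⟨L, hL⟩ : ∃ L : Subgroup G,
      L = (Subgroup.centralizer ({yb} : Set (G ⧸ H))).comap π := ⟨_, rfl⟩
  have hLmem : ∀ g, g ∈ L ↔ π g * yb = yb * π g := by
    intro g
    rw [hL, Subgroup.mem_comap, Subgroup.mem_centralizer_iff]
    constructor
    · intro h; exact (h yb (Set.mem_singleton _)).symm
    · intro h z hz
      rw [Set.mem_singleton_iff] at hz
      rw [hz]; exact h.symm
  have hCL : Subgroup.centralizer ({yb} : Set (G ⧸ H)) = L.map π := by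
    rw [hL, Subgroup.map_comap_eq_self_of_surjective hπs]
  have hpgz : ∀ (s : ℕ) [Fact s.Prime] (c : G), (∃ k, c ^ (s ^ k) = 1) →
      IsPGroup s (Subgroup.zpowers c) := by
    intro s hs c ⟨k, hk⟩
    have h1 : orderOf c ∣ s ^ k := orderOf_dvd_of_pow_eq_one hk
    obtain ⟨j, -, hj⟩ := (Nat.dvd_prime_pow hs.out).mp h1
    exact IsPGroup.of_card (n := j) (by rw [Nat.card_zpowers, hj])
  have hcopH : ∀ (s : ℕ) [Fact s.Prime], s ≠ q → (Nat.card H).Coprime s := by
    intro s hs hsq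
    obtain ⟨n, hn⟩ := hHq.exists_card_eq
    rw [hn]
    exact Nat.Coprime.pow_left n ((Nat.coprime_primes hq.out hs.out).mpr (Ne.symm hsq))
  have hHqel : ∀ h ∈ H, ∃ k, h ^ (q ^ k) = 1 := by
    intro h hh
    obtain ⟨k, hk⟩ := hHq ⟨h, hh⟩
    exact ⟨k, by simpa using congrArg Subtype.val hk⟩
  by_cases hrq : r = q
  · rw [hrq] at hyr
    have hyq : IsPGroup q (Subgroup.zpowers y) := hpgz q y hyr
    obtain ⟨P, hP⟩ : ∃ P : Subgroup G, P = H ⊔ Subgroup.zpowers y := ⟨_, rfl⟩
    have hPq : IsPGroup q P := by rw [hP]; exact IsPGroup.to_sup_of_normal_left hHq hyq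
    have hHP : H ≤ P := by rw [hP]; exact le_sup_left
    have hPN : P ≤ Subgroup.normalizer (H : Set G) := by
      rw [Subgroup.normalizer_eq_top_iff.mpr hHn]; exact le_top
    obtain ⟨z₁, hz₁H, hz₁1, hz₁c⟩ :=
      exists_central_of_normalizedBy (p := q) H P hPq hHP hPN hHne
    have hsH : ∀ (s : ℕ) [Fact s.Prime], s ≠ q → ∀ t ∈ L, (∃ k, t ^ (s ^ k) = 1) →
        ∀ h ∈ H, t * h = h * t := by
      intro s hs hsq t htL htk h hh
      have hcomm : ∀ u ∈ Subgroup.zpowers t, ⁅y, u⁆ ∈ H := by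
        intro u hu
        have huL : u ∈ L := (Subgroup.zpowers_le.mpr htL) hu
        have h1 := (hLmem u).mp huL
        rw [← hker, MonoidHom.mem_ker, commutatorElement_def, map_mul, map_mul, map_mul, map_inv,
          map_inv, hyπ, ← h1]
        group
      obtain ⟨n, hn, hnd⟩ := exists_mul_mem_centralizer (p := s) hHn (hcopH s hsq)
        (hpgz s t htk) y hcomm
      have hx'1 : n * y ≠ 1 := by
        intro h1
        apply hyH
        have e : y = n⁻¹ * (n * y) := by group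
        rw [e, h1, mul_one]
        exact H.inv_mem hn
      have hx't : t * (n * y) = (n * y) * t :=
        Subgroup.mem_centralizer_iff.mp hnd t (Subgroup.mem_zpowers t)
      have hx'P : n * y ∈ P := by
        rw [hP]; exact Subgroup.mul_mem_sup hn (Subgroup.mem_zpowers y)
      have hx'z : n * y * z₁ = z₁ * (n * y) := hz₁c (n * y) hx'P
      have h1 : t * z₁ = z₁ * t := commute_in_cn hCN hx'1 hx't hx'z.symm hsq htk (hHqel z₁ hz₁H)
      have h2 : h * z₁ = z₁ * h := hHab h hh z₁ hz₁H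
      exact commute_in_cn hCN hz₁1 h1 h2 hsq htk (hHqel h hh)
    have hHL : H ≤ L := by
      intro h hh
      rw [hLmem]
      have h1 : π h = 1 := by rw [← MonoidHom.mem_ker, hker]; exact hh
      rw [h1, one_mul, mul_one]
    obtain ⟨R'⟩ : Nonempty (Sylow q ↥L) := inferInstance
    obtain ⟨R, hR⟩ : ∃ R : Subgroup G, R = (R' : Subgroup ↥L).map L.subtype := ⟨_, rfl⟩
    have hRq : IsPGroup q R := by rw [hR]; exact R'.2.map _
    have hRL : R ≤ L := by rw [hR]; exact Subgroup.map_subtype_le _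
    have hHR : H ≤ R := by
      have h1 : (H.subgroupOf L).Normal := inferInstance
      have h2 : IsPGroup q (H.subgroupOf L) := hHq.comap_subtype
      have h3 : H.subgroupOf L ≤ (R' : Subgroup ↥L) :=
        (le_pCore _ h1 h2).trans (pCore_le_sylow R')
      intro h hh
      rw [hR]
      exact ⟨⟨h, hHL hh⟩, h3 (Subgroup.mem_subgroupOf.mpr hh), rfl⟩
    have hRN : R ≤ Subgroup.normalizer (H : Set G) := by
      rw [Subgroup.normalizer_eq_top_iff.mpr hHn]; exact le_top
    obtain ⟨z₀, hz₀H, hz₀1, hz₀c⟩ :=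
      exists_central_of_normalizedBy (p := q) H R hRq hHR hRN hHne
    obtain ⟨C₀, hC₀⟩ : ∃ C₀ : Subgroup G, C₀ = Subgroup.centralizer ({z₀} : Set G) := ⟨_, rfl⟩
    have hC₀mem : ∀ g, g ∈ C₀ ↔ g * z₀ = z₀ * g := by
      intro g
      rw [hC₀, Subgroup.mem_centralizer_iff]
      constructor
      · intro h; exact (h z₀ (Set.mem_singleton _)).symm
      · intro h z hz
        rw [Set.mem_singleton_iff] at hz
        rw [hz]; exact h.symm
    have hRC : R ≤ C₀ := fun g hg => (hC₀mem g).mpr (hz₀c g hg)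
    have hdvd : Nat.card ↥L ∣ Nat.card ↥(L ⊓ C₀ : Subgroup G) := by
      rw [← Nat.factorization_prime_le_iff_dvd Nat.card_pos.ne' Nat.card_pos.ne']
      intro s hs
      haveI : Fact s.Prime := ⟨hs⟩
      by_cases hsq : s = q
      · rw [hsq]
        have h1 : Nat.card ↥R = q ^ (Nat.card ↥L).factorization q := by
          rw [hR, Subgroup.card_map_of_injective (Subgroup.subtype_injective L),
            R'.card_eq_multiplicity]
        have h2 : Nat.card ↥R ∣ Nat.card ↥(L ⊓ C₀ : Subgroup G) :=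
          Subgroup.card_dvd_of_le (le_inf hRL hRC)
        rw [h1] at h2
        exact (hq.out.pow_dvd_iff_le_factorization Nat.card_pos.ne').mp h2
      · obtain ⟨S'⟩ : Nonempty (Sylow s ↥L) := inferInstance
        have h1 : Nat.card ↥((S' : Subgroup ↥L).map L.subtype) =
            s ^ (Nat.card ↥L).factorization s := by
          rw [Subgroup.card_map_of_injective (Subgroup.subtype_injective L),
            S'.card_eq_multiplicity]
        have hle : (S' : Subgroup ↥L).map L.subtype ≤ L ⊓ C₀ := by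
          rintro _ ⟨g', hg', rfl⟩
          refine Subgroup.mem_inf.mpr ⟨g'.2, ?_⟩
          rw [hC₀mem]
          obtain ⟨k, hk⟩ := S'.2 ⟨g', hg'⟩
          have hk' : (g' : G) ^ (s ^ k) = 1 := by
            have h3 := congrArg Subtype.val (congrArg Subtype.val hk)
            simpa using h3
          exact hsH s hsq (g' : G) g'.2 ⟨k, hk'⟩ z₀ hz₀H
        have h2 := Subgroup.card_dvd_of_le hle
        rw [h1] at h2
        exact (hs.pow_dvd_iff_le_factorization Nat.card_pos.ne').mp h2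
    have hML : L ⊓ C₀ = L :=
      Subgroup.eq_of_le_of_card_ge inf_le_left (Nat.le_of_dvd Nat.card_pos hdvd)
    have hLC : L ≤ C₀ := by rw [← hML]; exact inf_le_right
    have hLnil : Group.IsNilpotent ↥L :=
      isNilpotent_of_le hLC (by rw [hC₀]; exact hCN z₀ hz₀1)
    rw [hCL]
    exact isNilpotent_map' π hLnil
  · have hsub : Subgroup.centralizer ({yb} : Set (G ⧸ H)) ≤
        (Subgroup.centralizer ({y} : Set G)).map π := by
      rw [hCL]
      rintro _ ⟨d, hd, rfl⟩
      have hd' : Commute (π d) yb := (hLmem d).mp hd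
      have hcomm : ∀ t ∈ Subgroup.zpowers y, ⁅d, t⁆ ∈ H := by
        intro t ht
        obtain ⟨j, rfl⟩ := Subgroup.mem_zpowers_iff.mp ht
        rw [← hker, MonoidHom.mem_ker, commutatorElement_def, map_mul, map_mul, map_mul, map_inv,
          map_inv, map_zpow, hyπ, (hd'.zpow_right j).eq]
        group
      obtain ⟨n, hn, hnd⟩ := exists_mul_mem_centralizer (p := r) hHn (hcopH r hrq)
        (hpgz r y hyr) d hcomm
      refine ⟨n * d, ?_, ?_⟩
      · exact Subgroup.centralizer_le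
          (Set.singleton_subset_iff.mpr (Subgroup.mem_zpowers y)) hnd
      · have hn1 : π n = 1 := by rw [← MonoidHom.mem_ker, hker]; exact hn
        rw [map_mul, hn1, one_mul]
    exact isNilpotent_of_le hsub (isNilpotent_map' π (hCN y hy1))

theorem cn_quotient_solvable : ∀ (n : ℕ) (G : Type u) [Group G] [Finite G], Nat.card G = n →
    Cfsg.IsCNGroup G → ∀ (H : Subgroup G) [H.Normal], Group.IsSolvable ↥H →
    Cfsg.IsCNGroup (G ⧸ H) := by
  intro n
  induction n using Nat.strong_induction_on with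
  | _ n ih =>
  intro G _ _ hn hCN H hHn hH
  by_cases hne : H = ⊥
  · subst hne
    exact isCN_of_equiv QuotientGroup.quotientBot.symm hCN
  obtain ⟨q, hq, H₁, hH₁H, hH₁n, hH₁ne, hab, hpg⟩ := exists_abelian_normal_pgroup H hH hne
  haveI := hq
  haveI := hH₁n
  have hCN₁ : Cfsg.IsCNGroup (G ⧸ H₁) := cn_quotient_elemAb hCN H₁ hab hpg hH₁ne
  have hlt : Nat.card (G ⧸ H₁) < n := by rw [← hn]; exact card_quotient_lt H₁ hH₁ne
  haveI hHbn : (H.map (QuotientGroup.mk' H₁)).Normal :=
    Subgroup.Normal.map hHn _ (QuotientGroup.mk'_surjective H₁)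
  have hHbs : Group.IsSolvable ↥(H.map (QuotientGroup.mk' H₁)) := by
    haveI := hH
    exact Group.isSolvable_of_surjective ((QuotientGroup.mk' H₁).subgroupMap_surjective H)
  have h1 := ih _ hlt (G ⧸ H₁) rfl hCN₁ (H.map (QuotientGroup.mk' H₁)) hHbs
  exact isCN_of_equiv (QuotientGroup.quotientQuotientEquivQuotient H₁ H hH₁H) h1

end cnquot

end Cfsg.Agent.Lib.Helper3
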