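import Mathlib
import Cfsg.Agent.Lib.Helper3.CharP
import Cfsg.Agent.Lib.Helper3.NormAux

set_option autoImplicit false
open scoped commutatorElement

namespace Cfsg.Agent.Lib.Helper3

open Cfsg.Agent.Lib.Helper1

variable {G : Type*} [Group G] [Finite G]

/-- `O_p(Y) ≤ O_p(N)` for `Y ⊴ N`. -/
lemma pCore_map_le_of_normal {p : ℕ} [Fact p.Prime] {Y N : Subgroup G} (hYN : Y ≤ N)
    (hn : N ≤ Subgroup.normalizer (Y : Set G)) :
    (Cfsg.pCore p ↥Y).map Y.subtype ≤ (Cfsg.pCore p ↥N).map N.subtype := by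
  apply le_pCore_map ((Subgroup.map_subtype_le _).trans hYN) ((pCore_isPGroup).map _)
  exact hn.trans (normalizer_le_normalizer_map_char Y (Cfsg.pCore p ↥Y))

/-- Passing from `C_N(t)`-like subgroups to `N`: if `H₁ ≤ N` contains `C_N(O_p(N))` and
`H₁` has characteristic `p`, then so has `N`. -/
theorem charp_of_sub {p : ℕ} [Fact p.Prime] {N H₁ : Subgroup G} (hH₁N : H₁ ≤ N)
    (hY : N ⊓ Subgroup.centralizer (((Cfsg.pCore p ↥N).map N.subtype : Subgroup G) : Set G) ≤ H₁)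
    (h : H₁ ⊓ Subgroup.centralizer (((Cfsg.pCore p ↥H₁).map H₁.subtype : Subgroup G) : Set G) ≤
      (Cfsg.pCore p ↥H₁).map H₁.subtype) :
    N ⊓ Subgroup.centralizer (((Cfsg.pCore p ↥N).map N.subtype : Subgroup G) : Set G) ≤
      (Cfsg.pCore p ↥N).map N.subtype := by
  set D := (Cfsg.pCore p ↥N).map N.subtype with hD
  set D₁ := (Cfsg.pCore p ↥H₁).map H₁.subtype with hD₁
  set Y := N ⊓ Subgroup.centralizer (D : Set G) with hYdef
  have hDnorm : N ≤ Subgroup.normalizer (D : Set G) := by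
    have : (Cfsg.pCore p ↥N).Normal := pCore_normal' p
    exact le_normalizer_map_of_normal _
  have hD₁norm : H₁ ≤ Subgroup.normalizer (D₁ : Set G) := by
    have : (Cfsg.pCore p ↥H₁).Normal := pCore_normal' p
    exact le_normalizer_map_of_normal _
  have hD₁p : IsPGroup p D₁ := (pCore_isPGroup).map _
  have hD₁H₁ : D₁ ≤ H₁ := Subgroup.map_subtype_le _
  -- N normalizes Y
  have hNY : N ≤ Subgroup.normalizer (Y : Set G) := by
    refine le_trans ?_ (normalizer_inf_normalizer_le N _)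
    exact le_inf Subgroup.le_normalizer (hDnorm.trans (normalizer_le_normalizer_centralizer D))
  have hYN : Y ≤ N := inf_le_left
  -- Y ⊓ D₁ ≤ D
  have hYD₁ : Y ⊓ D₁ ≤ D := by
    have h1 : Y ⊓ D₁ ≤ (Cfsg.pCore p ↥Y).map Y.subtype := by
      apply le_pCore_map inf_le_left (hD₁p.to_le inf_le_right)
      refine le_trans ?_ (normalizer_inf_normalizer_le Y D₁)
      exact le_inf Subgroup.le_normalizer (hY.trans hD₁norm)
    exact h1.trans (pCore_map_le_of_normal hYN hNY)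
  have hYp : IsPGroup p ↥Y := by
    apply isPGroup_of_no_pprime
    intro y hy hcop
    have hyH₁ : y ∈ H₁ := hY hy
    -- y centralizes D₁
    have h1 : y ∈ Subgroup.centralizer (D₁ : Set G) := by
      rw [Subgroup.mem_centralizer_iff]
      intro d hd
      have hdN : d ∈ N := hH₁N (hD₁H₁ hd)
      have hzY : ⁅y, d⁆ ∈ Y := by
        have h2 : d * y⁻¹ * d⁻¹ ∈ Y := conj_mem_of_mem_normalizer' (hNY hdN) (Y.inv_mem hy)
        have e : ⁅y, d⁆ = y * (d * y⁻¹ * d⁻¹) := by rw [commutatorElement_def]; group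
        rw [e]; exact Y.mul_mem hy h2
      have hzD₁ : ⁅y, d⁆ ∈ D₁ := by
        have h2 : y * d * y⁻¹ ∈ D₁ := conj_mem_of_mem_normalizer' (hD₁norm hyH₁) hd
        rw [commutatorElement_def]
        exact D₁.mul_mem h2 (D₁.inv_mem hd)
      have hzD : ⁅y, d⁆ ∈ D := hYD₁ ⟨hzY, hzD₁⟩
      have hcomm : y * ⁅y, d⁆ = ⁅y, d⁆ * y :=
        (Subgroup.mem_centralizer_iff.mp hy.2 _ hzD).symm
      have hzp : ∃ n : ℕ, ⁅y, d⁆ ^ (p ^ n) = 1 := by
        obtain ⟨k, hk⟩ := hD₁p ⟨_, hzD₁⟩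
        exact ⟨k, by simpa using congrArg Subtype.val hk⟩
      have := commute_of_comm_commutator hcop hzp hcomm
      rw [commutatorElement_eq_one_iff_mul_comm] at this
      exact this.symm
    have h2 : y ∈ D₁ := h ⟨hyH₁, h1⟩
    obtain ⟨k, hk⟩ := hD₁p ⟨y, h2⟩
    have hk' : y ^ (p ^ k) = 1 := by simpa using congrArg Subtype.val hk
    have h3 : orderOf y ∣ p ^ k := orderOf_dvd_of_pow_eq_one hk'
    have h4 : orderOf y = 1 :=
      Nat.eq_one_of_dvd_coprimes (Nat.Coprime.pow_right k hcop) dvd_rfl h3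
    exact orderOf_eq_one_iff.mp h4
  exact le_pCore_map hYN hYp hNY

end Cfsg.Agent.Lib.Helper3
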