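import Mathlib
import Cfsg.Agent.Lib.Helper3.FrobPart

set_option autoImplicit false
set_option linter.unusedSectionVars false
set_option linter.style.haveILetI false
open scoped IsMulCommutative
open Polynomial

/-! The Frobenius-partition argument with a vanishing-norm hypothesis, and the identity
`1 + X + ⋯ + X^(p-1) = (X - 1)^(p-1)` in characteristic `p` for endomorphisms of elementary
abelian `p`-groups. -/

namespace Cfsg.Agent.Lib.Helper3

lemma geom_sum_eq_pow_char (p : ℕ) [hp : Fact p.Prime] :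
    (∑ i ∈ Finset.range p, (X : (ZMod p)[X]) ^ i) = (X - 1) ^ (p - 1) := by
  have hX : (X - 1 : (ZMod p)[X]) ≠ 0 := by
    have := Polynomial.X_sub_C_ne_zero (1 : ZMod p)
    rwa [map_one] at this
  apply mul_right_cancel₀ hX
  rw [geom_sum_mul, ← pow_succ, Nat.sub_add_cancel hp.out.one_le, sub_pow_char, one_pow]

lemma lin_norm {M : Type*} [AddCommGroup M] {p : ℕ} [hp : Fact p.Prime] [Module (ZMod p) M]
    (f : M →ₗ[ZMod p] M) (w : M) :
    ∑ i ∈ Finset.range p, (f ^ i) w = ((f - 1) ^ (p - 1)) w := by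
  have h := congrArg (fun q => (Polynomial.aeval f q) w) (geom_sum_eq_pow_char p)
  simp only [map_sum, map_pow, aeval_X, map_sub, map_one] at h
  rw [LinearMap.sum_apply] at h
  exact h

theorem add_norm {M : Type*} [AddCommGroup M] {p : ℕ} [hp : Fact p.Prime]
    (hexp : ∀ u : M, p • u = 0) (β : M →+ M) (w : M) :
    ∑ i ∈ Finset.range p, (⇑β)^[i] w = (fun x => β x - x)^[p - 1] w := by
  letI : Module (ZMod p) M := AddCommGroup.zmodModule (n := p) hexp
  have h := lin_norm (β.toZModLinearMap p) w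
  have hf : ∀ x : M, (β.toZModLinearMap p) x = β x := fun x => rfl
  have h1 : ∀ i : ℕ, ((β.toZModLinearMap p) ^ i) w = (⇑β)^[i] w := by
    intro i
    induction i with
    | zero => simp
    | succ i ih => rw [pow_succ', Module.End.mul_apply, ih, hf, Function.iterate_succ_apply']
  have h2 : ∀ (k : ℕ) (x : M), (((β.toZModLinearMap p) - 1) ^ k) x =
      (fun x => β x - x)^[k] x := by
    intro k
    induction k with
    | zero => intro x; simp
    | succ k ih =>
      intro x
      rw [pow_succ', Module.End.mul_apply, ih, Function.iterate_succ_apply']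
      rw [LinearMap.sub_apply, hf, Module.End.one_apply]
  simp_rw [h1] at h
  rw [h2] at h
  exact h

/-- in an abelian group of exponent `p`, the norm `1 + β + ⋯ + β^(p-1)` is `(β - 1)^(p-1)` -/
theorem norm_eq_iter {U : Type*} [CommGroup U] {p : ℕ} [hp : Fact p.Prime]
    (hexp : ∀ u : U, u ^ p = 1) (β : U →* U) (w : U) :
    ∏ i ∈ Finset.range p, (⇑β)^[i] w = (fun x => β x * x⁻¹)^[p - 1] w := by
  have h := add_norm (M := Additive U) (p := p) (fun u => by
    show Additive.ofMul ((Additive.toMul u) ^ p) = 0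
    rw [hexp]; rfl) (MonoidHom.toAdditive β) (Additive.ofMul w)
  have h3 : Additive.ofMul (∏ i ∈ Finset.range p, (⇑β)^[i] w) =
      ∑ i ∈ Finset.range p, Additive.ofMul ((⇑β)^[i] w) := ofMul_prod _ _
  have h4 : ∀ i : ℕ, (⇑(MonoidHom.toAdditive β))^[i] (Additive.ofMul w) =
      Additive.ofMul ((⇑β)^[i] w) := by
    intro i
    induction i with
    | zero => rfl
    | succ i ih => rw [Function.iterate_succ_apply', ih, Function.iterate_succ_apply']; rfl
  have h5 : ∀ (k : ℕ) (x : U), (fun x => (MonoidHom.toAdditive β) x - x)^[k] (Additive.ofMul x) =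
      Additive.ofMul ((fun x => β x * x⁻¹)^[k] x) := by
    intro k
    induction k with
    | zero => intro x; rfl
    | succ k ih =>
      intro x
      rw [Function.iterate_succ_apply', ih, Function.iterate_succ_apply']
      rw [sub_eq_add_neg]; rfl
  simp_rw [h4] at h
  rw [h5, ← h3] at h
  exact Additive.ofMul.injective h

section fp
variable {H : Type*} [Group H]
variable {U : Type*} [Group U] [IsMulCommutative U]

/-- the Frobenius-partition argument, assuming that the norm of `⟨b⟩` vanishes -/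
theorem fp_lemma_norm {p : ℕ} [Fact p.Prime]
    (hUexp : ∀ u : U, u ^ p = 1) (θ : H →* MulAut U)
    (E : Subgroup H) [Finite E] (hEcop : (Nat.card E).Coprime p)
    (b : H) (hbE : ∀ e ∈ E, b * e * b⁻¹ ∈ E)
    (hbp : ∀ e ∈ E, b ^ p * e * (b ^ p)⁻¹ = e)
    (hfpf : ∀ e ∈ E, b * e * b⁻¹ = e → e = 1)
    (hS1 : ∀ w : U, ∏ i ∈ Finset.range p, θ (b ^ i) w = 1) :
    ∀ e ∈ E, ∀ u : U, θ e u = u := by
  classical
  letI : Fintype E := Fintype.ofFinite _
  have hpp : p.Prime := Fact.out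
  have hS2 : ∀ (x : H) (u : U), ∏ i ∈ Finset.range p, θ (x * b ^ i * x⁻¹) u = 1 := by
    intro x u
    have h : ∀ i, θ (x * b ^ i * x⁻¹) u = θ x (θ (b ^ i) (θ x⁻¹ u)) := by
      intro i
      rw [map_mul, map_mul, MulAut.mul_apply, MulAut.mul_apply]
    simp_rw [h]
    rw [← map_prod, hS1, map_one]
  have hbiE : ∀ i : ℕ, ∀ e ∈ E, b ^ i * e * (b ^ i)⁻¹ ∈ E := by
    intro i
    induction i with
    | zero => intro e he; simpa using he
    | succ i ih =>
      intro e he
      have := hbE _ (ih e he)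
      have e' : b ^ (i + 1) * e * (b ^ (i + 1))⁻¹ = b * (b ^ i * e * (b ^ i)⁻¹) * b⁻¹ := by
        rw [pow_succ']; group
      rw [e']; exact this
  -- the norm over `E` is fixed by `E`
  have hNE : ∀ (w : U) (e : H), e ∈ E → θ e (∏ x : E, θ (x : H) w) = ∏ x : E, θ (x : H) w := by
    intro w e he
    rw [map_prod]
    have h1 : ∀ z : E, θ e (θ (z : H) w) = θ (((⟨e, he⟩ : E) * z : E) : H) w := by
      intro z
      rw [Subgroup.coe_mul, map_mul, MulAut.mul_apply]
    simp_rw [h1]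
    exact Fintype.prod_equiv (Equiv.mulLeft (⟨e, he⟩ : E)) _ _ (fun z => rfl)
  -- reindexing for `0 < i < p`
  have hre : ∀ i : ℕ, 0 < i → i < p → ∀ u : U,
      ∏ x : E, θ ((x : H) * b ^ i * (x : H)⁻¹) u = ∏ x : E, θ (x : H) (θ (b ^ i) u) := by
    intro i hi0 hip u
    let ψ : E → E := fun x => ⟨(x : H) * (b ^ i * (x : H) * (b ^ i)⁻¹)⁻¹,
      E.mul_mem x.2 (E.inv_mem (hbiE i _ x.2))⟩
    have hψinj : Function.Injective ψ := by
      intro x y hxy
      have h0 : (x : H) * (b ^ i * (x : H) * (b ^ i)⁻¹)⁻¹ =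
          (y : H) * (b ^ i * (y : H) * (b ^ i)⁻¹)⁻¹ := congrArg Subtype.val hxy
      have hz : b ^ i * ((y : H)⁻¹ * (x : H)) * (b ^ i)⁻¹ = (y : H)⁻¹ * (x : H) := by
        have h1 : (y : H)⁻¹ * (x : H) =
            (b ^ i * (y : H) * (b ^ i)⁻¹)⁻¹ * (b ^ i * (x : H) * (b ^ i)⁻¹) := by
          have h2 : (y : H)⁻¹ * ((x : H) * (b ^ i * (x : H) * (b ^ i)⁻¹)⁻¹) *
              (b ^ i * (x : H) * (b ^ i)⁻¹) = (y : H)⁻¹ * (x : H) := by group
          rw [← h2, h0]; group
        have h3 : b ^ i * ((y : H)⁻¹ * (x : H)) * (b ^ i)⁻¹ =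
            (b ^ i * (y : H) * (b ^ i)⁻¹)⁻¹ * (b ^ i * (x : H) * (b ^ i)⁻¹) := by group
        rw [h3, ← h1]
      have hzE : (y : H)⁻¹ * (x : H) ∈ E := E.mul_mem (E.inv_mem y.2) x.2
      have hfix := conj_fix_of_pow hpp (hbp _ hzE) hi0 hip hz
      have h1 := hfpf _ hzE hfix
      apply Subtype.ext
      have : (x : H) = (y : H) * ((y : H)⁻¹ * (x : H)) := by group
      rw [this, h1, mul_one]
    have hψ : Function.Bijective ψ := hψinj.bijective_of_finite
    have h1 : ∀ x : E, θ ((x : H) * b ^ i * (x : H)⁻¹) u = θ ((ψ x : E) : H) (θ (b ^ i) u) := by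
      intro x
      rw [← MulAut.mul_apply, ← map_mul]
      congr 2
      show (x : H) * b ^ i * (x : H)⁻¹ = (x : H) * (b ^ i * (x : H) * (b ^ i)⁻¹)⁻¹ * b ^ i
      group
    simp_rw [h1]
    exact Fintype.prod_bijective ψ hψ _ _ (fun x => rfl)
  intro e he u
  have hmain : ∏ x : E, ∏ i ∈ Finset.range p, θ ((x : H) * b ^ i * (x : H)⁻¹) u = 1 :=
    Finset.prod_eq_one (fun x _ => hS2 x u)
  rw [Finset.prod_comm] at hmain
  obtain ⟨n, hn⟩ : ∃ n, p = n + 1 := ⟨p - 1, by have := hpp.pos; omega⟩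
  have hmain' : ∏ i ∈ Finset.range (n + 1), ∏ x : E, θ ((x : H) * b ^ i * (x : H)⁻¹) u = 1 := by
    rw [← hn]; exact hmain
  rw [Finset.prod_range_succ'] at hmain'
  have h0 : ∏ x : E, θ ((x : H) * b ^ 0 * (x : H)⁻¹) u = u ^ Nat.card E := by
    have : ∀ x : E, θ ((x : H) * b ^ 0 * (x : H)⁻¹) u = u := by
      intro x
      rw [pow_zero, mul_one, mul_inv_cancel, map_one, MulAut.one_apply]
    simp_rw [this]
    rw [Finset.prod_const, Finset.card_univ, Nat.card_eq_fintype_card]
  rw [h0] at hmain'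
  set z := ∏ i ∈ Finset.range n, ∏ x : E, θ ((x : H) * b ^ (i + 1) * (x : H)⁻¹) u with hz
  have hzfix : θ e z = z := by
    rw [hz, map_prod]
    refine Finset.prod_congr rfl ?_
    intro i hi
    have hi' : i + 1 < p := by rw [hn]; have := Finset.mem_range.mp hi; omega
    rw [hre (i + 1) (Nat.succ_pos i) hi' u]
    exact hNE _ e he
  have hufix : θ e (u ^ Nat.card E) = u ^ Nat.card E := by
    have h1 : u ^ Nat.card E = z⁻¹ := eq_inv_of_mul_eq_one_right hmain'
    rw [h1, map_inv, hzfix]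
  have h1 : (θ e u * u⁻¹) ^ Nat.card E = 1 := by
    rw [mul_pow, inv_pow, ← map_pow, hufix, mul_inv_cancel]
  have h2 : (θ e u * u⁻¹) ^ p = 1 := hUexp _
  have h3 : orderOf (θ e u * u⁻¹) = 1 :=
    Nat.eq_one_of_dvd_coprimes hEcop (orderOf_dvd_of_pow_eq_one h1) (orderOf_dvd_of_pow_eq_one h2)
  exact mul_inv_eq_one.mp (orderOf_eq_one_iff.mp h3)

end fp

end Cfsg.Agent.Lib.Helper3
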