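import Mathlib
import Cfsg.Prelude.Def_LocalEven
import Cfsg.Prelude.Def_PLocal
import Cfsg.Agent.Lib.Helper3.FrobPart2
import Cfsg.Agent.Lib.Helper3.FunctorNPC

set_option autoImplicit false
set_option linter.unusedSectionVars false
set_option linter.style.haveILetI false
open scoped commutatorElement
open scoped IsMulCommutative
open Cfsg Cfsg.Agent.Lib.Helper1 Cfsg.Agent.Lib.Helper4

/-! In the final configuration of the Glauberman--Thompson induction no element of the Sylow
subgroup outside `O_p` satisfies the `(p-1)`-Engel condition nontrivially on a chief factor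
inside `O_p`. -/

namespace Cfsg.Agent.Lib.Helper3

section ce
variable {Y : Type*} [Group Y] [Finite Y] {p : ℕ} [Fact p.Prime]

lemma iterCommutator_mono (N : Subgroup Y) {A B : Subgroup Y} (h : A ≤ B) (k : ℕ) :
    Cfsg.iterCommutator N A k ≤ Cfsg.iterCommutator N B k := by
  induction k with
  | zero => exact le_rfl
  | succ k ih => exact Subgroup.commutator_mono ih h

/-- the final configuration from a maximal Sylow subgroup -/
theorem exists_gtconf (T : Sylow p Y) (hco : IsCoatom (T : Subgroup Y))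
    (hc : Subgroup.centralizer (Cfsg.pCore p Y : Set Y) ≤ Cfsg.pCore p Y)
    (hK : HasNormalPComplement p (Y ⧸ Cfsg.pCore p Y)) : ∃ K : Subgroup Y, GTConf T K := by
  obtain ⟨Kb, hKbn, hKbc, hKbq⟩ := exists_normal_hall_of_hasNormalPComplement p hK
  have hsurj : Function.Surjective (opi p Y) := opi_surjective
  haveI hKn : (Kb.comap (opi p Y)).Normal := hKbn.comap _
  have hQK : Cfsg.pCore p Y ≤ Kb.comap (opi p Y) := by
    intro x hx
    rw [Subgroup.mem_comap, opi_eq_one_iff.mpr hx]
    exact Subgroup.one_mem _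
  have hmapK : (Kb.comap (opi p Y)).map (opi p Y) = Kb :=
    Subgroup.map_comap_eq_self_of_surjective hsurj _
  have hGK : IsPGroup p (Y ⧸ Kb.comap (opi p Y)) := by
    intro y
    induction y using QuotientGroup.induction_on with
    | H x =>
      obtain ⟨n, hn⟩ := hKbq ((opi p Y x : Y ⧸ Cfsg.pCore p Y) : (Y ⧸ Cfsg.pCore p Y) ⧸ Kb)
      refine ⟨n, ?_⟩
      rw [← QuotientGroup.mk_pow, QuotientGroup.eq_one_iff]
      rw [← QuotientGroup.mk_pow, QuotientGroup.eq_one_iff, ← map_pow] at hn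
      exact hn
  have hcop : (Nat.card ↥((Kb.comap (opi p Y)).map (opi p Y))).Coprime p := by
    rw [hmapK]; exact hKbc
  have hKP : Kb.comap (opi p Y) ⊔ (T : Subgroup Y) = ⊤ := sup_sylow_eq_top _ hGK T
  refine ⟨Kb.comap (opi p Y), hc, ?_, hKn, hQK, hcop, hKP⟩
  intro G₁ hG₁
  by_cases h : G₁ = (T : Subgroup Y)
  · left; exact h
  · right; exact hco.2 G₁ (lt_of_le_of_ne hG₁ (Ne.symm h))

/-- a power of `g` outside the normal subgroup `Q` whose `p`-th power lies in `Q` -/
lemma exists_pow_not_mem {Q : Subgroup Y} {g : Y} (hg : ∃ k : ℕ, g ^ (p ^ k) = 1) (hgQ : g ∉ Q) :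
    ∃ a' ∈ Subgroup.zpowers g, a' ∉ Q ∧ a' ^ p ∈ Q := by
  classical
  have hex : ∃ i : ℕ, g ^ (p ^ i) ∈ Q := by
    obtain ⟨k, hk⟩ := hg
    exact ⟨k, by rw [hk]; exact Subgroup.one_mem _⟩
  have hi0 : Nat.find hex ≠ 0 := by
    intro h0
    have := Nat.find_spec hex
    rw [h0, pow_zero, pow_one] at this
    exact hgQ this
  obtain ⟨j, hj⟩ := Nat.exists_eq_succ_of_ne_zero hi0
  refine ⟨g ^ (p ^ j), Subgroup.pow_mem _ (Subgroup.mem_zpowers g) _, ?_, ?_⟩
  · exact Nat.find_min hex (by rw [hj]; exact Nat.lt_succ_self j)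
  · rw [← pow_mul, ← pow_succ, ← Nat.succ_eq_add_one, ← hj]
    exact Nat.find_spec hex

theorem chief_contra {T : Sylow p Y} {K : Subgroup Y} (h : GTConf T K) (g : Y)
    (hgT : g ∈ (T : Subgroup Y)) (hgQ : g ∉ Cfsg.pCore p Y) (U V : Subgroup Y)
    (hch : Cfsg.IsChiefFactor U V) (hUQ : U ≤ Cfsg.pCore p Y)
    (hiter : Cfsg.iterCommutator U (Subgroup.zpowers g) (p - 1) ≤ V)
    (hnot : ¬ ⁅U, Subgroup.zpowers g⁆ ≤ V) : False := by
  have hpp : p.Prime := Fact.out
  obtain ⟨hVU, hUn, hVn, hchief⟩ := hch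
  haveI := hUn
  haveI := hVn
  have hQp : IsPGroup p (Cfsg.pCore p Y) := pCore_isPGroup
  have hsurj : Function.Surjective (QuotientGroup.mk' V) := QuotientGroup.mk'_surjective V
  have hUhn : (U.map (QuotientGroup.mk' V)).Normal := hUn.map _ hsurj
  have hQhn : ((Cfsg.pCore p Y).map (QuotientGroup.mk' V)).Normal :=
    (Cfsg.pCore_normal p Y).map _ hsurj
  have hQhp : IsPGroup p ((Cfsg.pCore p Y).map (QuotientGroup.mk' V)) := hQp.map _
  have hUQ' : U.map (QuotientGroup.mk' V) ≤ (Cfsg.pCore p Y).map (QuotientGroup.mk' V) :=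
    Subgroup.map_mono hUQ
  have hmin : ∀ N : Subgroup (Y ⧸ V), N.Normal → N ≤ U.map (QuotientGroup.mk' V) →
      N = ⊥ ∨ N = U.map (QuotientGroup.mk' V) := by
    intro N hNn hNU
    have hN₀n : (N.comap (QuotientGroup.mk' V)).Normal := hNn.comap _
    have hVN₀ : V ≤ N.comap (QuotientGroup.mk' V) := by
      intro w hw
      show QuotientGroup.mk' V w ∈ N
      have : QuotientGroup.mk' V w = 1 := (QuotientGroup.eq_one_iff w).mpr hw
      rw [this]; exact N.one_mem
    have hN₀U : N.comap (QuotientGroup.mk' V) ≤ U := by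
      intro y hy
      have h1 : QuotientGroup.mk' V y ∈ U.map (QuotientGroup.mk' V) := hNU hy
      obtain ⟨v, hv, hvy⟩ := Subgroup.mem_map.mp h1
      have h2 : v⁻¹ * y ∈ V := QuotientGroup.eq.mp hvy
      have : y = v * (v⁻¹ * y) := by group
      rw [this]; exact U.mul_mem hv (hVU.le h2)
    have hmap : (N.comap (QuotientGroup.mk' V)).map (QuotientGroup.mk' V) = N :=
      Subgroup.map_comap_eq_self_of_surjective hsurj N
    rcases hchief _ hN₀n hVN₀ hN₀U with h1 | h1
    · left
      rw [← hmap, h1, eq_bot_iff]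
      rintro _ ⟨w, hw, rfl⟩
      exact Subgroup.mem_bot.mpr ((QuotientGroup.eq_one_iff w).mpr hw)
    · right; rw [← hmap, h1]
  have hcent := minimal_normal_central _ _ hQhp hUQ' hmin
  have hexp := minimal_normal_exponent _ _ hQhp hUQ' hmin
  haveI : IsMulCommutative ↥(U.map (QuotientGroup.mk' V)) :=
    IsMulCommutative.of_comm (fun u w => Subtype.ext (hcent w.1 w.2 u.1 (hUQ' u.2)))
  let θG : Y →* MulAut ↥(U.map (QuotientGroup.mk' V)) :=
    (MulAut.conjNormal (H := U.map (QuotientGroup.mk' V))).comp (QuotientGroup.mk' V)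
  have hker : Cfsg.pCore p Y ≤ θG.ker := by
    intro y hy
    rw [MonoidHom.mem_ker]
    ext u
    show ((MulAut.conjNormal (QuotientGroup.mk' V y) u : ↥(U.map (QuotientGroup.mk' V))) : Y ⧸ V)
      = (u : Y ⧸ V)
    rw [MulAut.conjNormal_apply]
    have h1 := hcent u.1 u.2 (QuotientGroup.mk' V y) (Subgroup.mem_map_of_mem _ hy)
    rw [h1]; group
  let θ : Y ⧸ Cfsg.pCore p Y →* MulAut ↥(U.map (QuotientGroup.mk' V)) :=
    QuotientGroup.lift (Cfsg.pCore p Y) θG hker
  have hθ : ∀ (y : Y) (u : ↥(U.map (QuotientGroup.mk' V))),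
      ((θ (opi p Y y) u : ↥(U.map (QuotientGroup.mk' V))) : Y ⧸ V) =
        QuotientGroup.mk' V y * u * (QuotientGroup.mk' V y)⁻¹ := by
    intro y u
    show ((QuotientGroup.lift (Cfsg.pCore p Y) θG hker (QuotientGroup.mk y) u :
      ↥(U.map (QuotientGroup.mk' V))) : Y ⧸ V) = _
    rw [QuotientGroup.lift_mk]
    exact MulAut.conjNormal_apply _ _
  have hUexp : ∀ u : ↥(U.map (QuotientGroup.mk' V)), u ^ p = 1 :=
    fun u => Subtype.ext (by rw [Subgroup.coe_pow]; exact hexp u.1 u.2)
  have hKbn := h.kb_normal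
  by_cases hcase : K.map (opi p Y) ≤ θ.ker
  · -- the `p'`-part acts trivially: the chief factor is central
    apply hnot
    have hKtriv : ∀ k ∈ K, ∀ u ∈ U.map (QuotientGroup.mk' V),
        QuotientGroup.mk' V k * u * (QuotientGroup.mk' V k)⁻¹ = u := by
      intro k hk u hu
      have h1 : θ (opi p Y k) = 1 := MonoidHom.mem_ker.mp (hcase (Subgroup.mem_map_of_mem _ hk))
      have h2 := hθ k ⟨u, hu⟩
      rw [h1, MulAut.one_apply] at h2
      exact h2.symm
    have hne : U.map (QuotientGroup.mk' V) ≠ ⊥ := by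
      intro h0
      apply hVU.not_ge
      intro u hu
      have h1 : QuotientGroup.mk' V u ∈ U.map (QuotientGroup.mk' V) :=
        Subgroup.mem_map_of_mem _ hu
      rw [h0, Subgroup.mem_bot] at h1
      exact (QuotientGroup.eq_one_iff u).mp h1
    have hTp : IsPGroup p ↥((T : Subgroup Y).map (QuotientGroup.mk' V)) := T.isPGroup'.map _
    have hUp : IsPGroup p ↥(U.map (QuotientGroup.mk' V)) := hQhp.to_le hUQ'
    have hlt : ⁅U.map (QuotientGroup.mk' V), (T : Subgroup Y).map (QuotientGroup.mk' V)⁆ <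
        U.map (QuotientGroup.mk' V) :=
      commutator_lt_of_pgroup hTp hUp (le_normalizer_of_normal inferInstance _) hne
    have hMle : ⁅U.map (QuotientGroup.mk' V), (⊤ : Subgroup (Y ⧸ V))⁆ ≤
        ⁅U.map (QuotientGroup.mk' V), (T : Subgroup Y).map (QuotientGroup.mk' V)⁆ := by
      rw [Subgroup.commutator_le]
      intro u hu y' _
      obtain ⟨y, rfl⟩ := hsurj y'
      have hy : y ∈ ((K ⊔ (T : Subgroup Y) : Subgroup Y) : Set Y) := by
        rw [h.hKP]; exact Set.mem_univ _
      haveI := h.hKn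
      rw [Subgroup.normal_mul] at hy
      obtain ⟨k, hk, t, ht, rfl⟩ := hy
      have hu' : QuotientGroup.mk' V t * u⁻¹ * (QuotientGroup.mk' V t)⁻¹ ∈
          U.map (QuotientGroup.mk' V) :=
        hUhn.conj_mem _ (Subgroup.inv_mem _ hu) _
      have h1 := hKtriv k hk _ hu'
      have h2 : ⁅u, QuotientGroup.mk' V (k * t)⁆ = ⁅u, QuotientGroup.mk' V t⁆ := by
        rw [commutatorElement_def, commutatorElement_def, map_mul]
        calc u * (QuotientGroup.mk' V k * QuotientGroup.mk' V t) * u⁻¹ *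
              (QuotientGroup.mk' V k * QuotientGroup.mk' V t)⁻¹
            = u * (QuotientGroup.mk' V k * (QuotientGroup.mk' V t * u⁻¹ *
                (QuotientGroup.mk' V t)⁻¹) * (QuotientGroup.mk' V k)⁻¹) := by group
          _ = u * (QuotientGroup.mk' V t * u⁻¹ * (QuotientGroup.mk' V t)⁻¹) := by rw [h1]
          _ = u * QuotientGroup.mk' V t * u⁻¹ * (QuotientGroup.mk' V t)⁻¹ := by group
      rw [h2]
      exact Subgroup.commutator_mem_commutator hu (Subgroup.mem_map_of_mem _ ht)
    have hMn : (⁅U.map (QuotientGroup.mk' V), (⊤ : Subgroup (Y ⧸ V))⁆).Normal := inferInstance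
    have hMU : ⁅U.map (QuotientGroup.mk' V), (⊤ : Subgroup (Y ⧸ V))⁆ ≤ U.map (QuotientGroup.mk' V) :=
      Subgroup.commutator_le_left _ _
    have hM : ⁅U.map (QuotientGroup.mk' V), (⊤ : Subgroup (Y ⧸ V))⁆ = ⊥ := by
      rcases hmin _ hMn hMU with h1 | h1
      · exact h1
      · exfalso
        rw [h1] at hMle
        exact hlt.not_ge hMle
    rw [Subgroup.commutator_le]
    intro u hu z _
    have h1 : ⁅QuotientGroup.mk' V u, QuotientGroup.mk' V z⁆ ∈
        ⁅U.map (QuotientGroup.mk' V), (⊤ : Subgroup (Y ⧸ V))⁆ :=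
      Subgroup.commutator_mem_commutator (Subgroup.mem_map_of_mem _ hu) (Subgroup.mem_top _)
    rw [hM, Subgroup.mem_bot, ← map_commutatorElement] at h1
    exact (QuotientGroup.eq_one_iff _).mp h1
  · -- the `p'`-part acts faithfully
    have hinf : K.map (opi p Y) ⊓ θ.ker = ⊥ := by
      rcases h.irred (K.map (opi p Y) ⊓ θ.ker) inf_le_left (by
        intro x _ m hm
        exact Subgroup.mem_inf.mpr ⟨hKbn.conj_mem m (Subgroup.mem_inf.mp hm).1 x,
          (MonoidHom.normal_ker θ).conj_mem m (Subgroup.mem_inf.mp hm).2 x⟩) with h1 | h1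
      · exact h1
      · exfalso
        apply hcase
        rw [← h1]; exact inf_le_right
    obtain ⟨a', ha'z, ha'Q, ha'p⟩ := exists_pow_not_mem (p := p) (Q := Cfsg.pCore p Y) (g := g)
      (by
        obtain ⟨k, hk⟩ := T.isPGroup' ⟨g, hgT⟩
        refine ⟨k, ?_⟩
        have := congrArg Subtype.val hk
        simpa using this) hgQ
    have ha'T : a' ∈ (T : Subgroup Y) := (Subgroup.zpowers_le.mpr hgT) ha'z
    have hzle : Subgroup.zpowers a' ≤ Subgroup.zpowers g := Subgroup.zpowers_le.mpr ha'z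
    have hiter' : Cfsg.iterCommutator U (Subgroup.zpowers a') (p - 1) ≤ V :=
      le_trans (iterCommutator_mono U hzle _) hiter
    have habK := h.kb_comm
    have hb'K : ∀ k ∈ K.map (opi p Y), opi p Y a' * k * (opi p Y a')⁻¹ ∈ K.map (opi p Y) :=
      fun k hk => hKbn.conj_mem k hk _
    have hap : ∀ k ∈ K.map (opi p Y), (opi p Y a') ^ p * k * ((opi p Y a') ^ p)⁻¹ = k := by
      intro k hk
      have : (opi p Y a') ^ p = 1 := by
        rw [← map_pow]; exact opi_eq_one_iff.mpr ha'p
      rw [this, one_mul, inv_one, mul_one]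
    have hcop' : (Nat.card ↥(commPart (K.map (opi p Y)) (opi p Y a') habK hb'K)).Coprime p :=
      Nat.Coprime.coprime_dvd_left (Subgroup.card_dvd_of_le commPart_le) h.hcop
    -- the iterated commutators
    have hdelta : ∀ (k : ℕ) (u : ↥(U.map (QuotientGroup.mk' V))),
        ∃ v ∈ Cfsg.iterCommutator U (Subgroup.zpowers a') k,
          (((fun x => ((θ (opi p Y a')).toMonoidHom x) * x⁻¹)^[k] u :
            ↥(U.map (QuotientGroup.mk' V))) : Y ⧸ V) = QuotientGroup.mk' V v := by
      intro k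
      induction k with
      | zero =>
        intro u
        obtain ⟨v, hv, hvu⟩ := Subgroup.mem_map.mp u.2
        exact ⟨v, hv, hvu.symm⟩
      | succ k ih =>
        intro u
        obtain ⟨v, hv, hvu⟩ := ih u
        refine ⟨⁅a', v⁆, ?_, ?_⟩
        · show ⁅a', v⁆ ∈ ⁅Cfsg.iterCommutator U (Subgroup.zpowers a') k, Subgroup.zpowers a'⁆
          rw [Subgroup.commutator_comm]
          exact Subgroup.commutator_mem_commutator (Subgroup.mem_zpowers a') hv
        · rw [Function.iterate_succ_apply']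
          show ((θ (opi p Y a') _ * _⁻¹ : ↥(U.map (QuotientGroup.mk' V))) : Y ⧸ V) = _
          rw [Subgroup.coe_mul, Subgroup.coe_inv, hθ, hvu, commutatorElement_def, map_mul, map_mul,
            map_mul, map_inv, map_inv]
    have hnorm : ∀ w : ↥(U.map (QuotientGroup.mk' V)),
        ∏ i ∈ Finset.range p, θ ((opi p Y a') ^ i) w = 1 := by
      intro w
      have h1 : ∀ i : ℕ, θ ((opi p Y a') ^ i) w = (⇑((θ (opi p Y a')).toMonoidHom))^[i] w := by
        intro i
        induction i with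
        | zero => simp
        | succ i ih =>
          rw [pow_succ', map_mul, MulAut.mul_apply, ih, Function.iterate_succ_apply']
          rfl
      simp_rw [h1]
      rw [norm_eq_iter hUexp]
      obtain ⟨v, hv, hvu⟩ := hdelta (p - 1) w
      apply Subtype.ext
      rw [hvu, Subgroup.coe_one]
      exact (QuotientGroup.eq_one_iff v).mpr (hiter' hv)
    have hfp := fp_lemma_norm (H := Y ⧸ Cfsg.pCore p Y) (U := ↥(U.map (QuotientGroup.mk' V)))
      hUexp θ (commPart (K.map (opi p Y)) (opi p Y a') habK hb'K) hcop' (opi p Y a')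
      commPart_conj (fun e he => hap e (commPart_le he)) (commPart_fpf h.hcop hap) hnorm
    have hbot : commPart (K.map (opi p Y)) (opi p Y a') habK hb'K = ⊥ := by
      rw [eq_bot_iff, ← hinf]
      intro e he
      refine Subgroup.mem_inf.mpr ⟨commPart_le he, ?_⟩
      rw [MonoidHom.mem_ker]
      ext u
      rw [hfp e he u, MulAut.one_apply]
    have hcentK := commPart_eq_bot_iff.mp hbot
    have h5 : opi p Y a' ∈ (T : Subgroup Y).map (opi p Y) ⊓
        Subgroup.centralizer ((K.map (opi p Y) : Subgroup _) : Set _) := by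
      refine Subgroup.mem_inf.mpr ⟨Subgroup.mem_map_of_mem _ ha'T, ?_⟩
      rw [Subgroup.mem_centralizer_iff]
      intro k hk
      have := hcentK k hk
      exact (mul_inv_eq_iff_eq_mul.mp this).symm
    rw [h.pb_inf_centralizer, Subgroup.mem_bot] at h5
    exact ha'Q (opi_eq_one_iff.mp h5)

end ce

end Cfsg.Agent.Lib.Helper3
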