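import Mathlib

set_option autoImplicit false
open scoped commutatorElement

namespace Cfsg.Agent.Lib.Helper3

/-! commutator identities when `G' ≤ Z(G)` -/
section classtwo
variable {G : Type*} [Group G] (hc : commutator G ≤ Subgroup.center G)
include hc

lemma ct_comm_central (x y z : G) : ⁅x, y⁆ * z = z * ⁅x, y⁆ := by
  have h1 : ⁅x, y⁆ ∈ commutator G :=
    Subgroup.commutator_mem_commutator (Subgroup.mem_top x) (Subgroup.mem_top y)
  exact ((Subgroup.mem_center_iff.mp (hc h1)) z).symm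

lemma ct_comm_mul_left (x y z : G) : ⁅x * y, z⁆ = ⁅x, z⁆ * ⁅y, z⁆ := by
  have h1 : ⁅x * y, z⁆ = x * ⁅y, z⁆ * x⁻¹ * ⁅x, z⁆ := by
    simp only [commutatorElement_def]; group
  rw [h1, ← ct_comm_central hc y z x, mul_inv_cancel_right]
  exact ct_comm_central hc y z _

lemma ct_comm_mul_right (x y z : G) : ⁅x, y * z⁆ = ⁅x, y⁆ * ⁅x, z⁆ := by
  have h1 : ⁅x, y * z⁆ = ⁅x, y⁆ * (y * ⁅x, z⁆ * y⁻¹) := by
    simp only [commutatorElement_def]; group
  rw [h1, ← ct_comm_central hc x z y, mul_inv_cancel_right]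

lemma ct_comm_pow_left (x z : G) (n : ℕ) : ⁅x ^ n, z⁆ = ⁅x, z⁆ ^ n := by
  induction n with
  | zero => simp
  | succ n ih => rw [pow_succ, ct_comm_mul_left hc, ih, pow_succ]

lemma ct_comm_pow_right (x z : G) (n : ℕ) : ⁅x, z ^ n⁆ = ⁅x, z⁆ ^ n := by
  induction n with
  | zero => simp
  | succ n ih => rw [pow_succ, ct_comm_mul_right hc, ih, pow_succ]

lemma ct_comm_pow_pow (x z : G) (m n : ℕ) : ⁅x ^ m, z ^ n⁆ = ⁅x, z⁆ ^ (m * n) := by
  rw [ct_comm_pow_left hc, ct_comm_pow_right hc, ← pow_mul, mul_comm]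

end classtwo

end Cfsg.Agent.Lib.Helper3
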