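import Mathlib
import Cfsg.Agent.Lib.Helper3.ClassTwo

set_option autoImplicit false
open scoped commutatorElement

namespace Cfsg.Agent.Lib.Helper3

section classtwo
variable {G : Type*} [Group G] (hc : commutator G ≤ Subgroup.center G)
include hc

/-- the power formula in class two -/
lemma ct_mul_pow (x y : G) (n : ℕ) : (x * y) ^ n = x ^ n * y ^ n * ⁅y, x⁆ ^ (n.choose 2) := by
  induction n with
  | zero => simp
  | succ n ih =>
    have hcen : ∀ (k : ℕ) (z : G), ⁅y, x⁆ ^ k * z = z * ⁅y, x⁆ ^ k := by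
      intro k z
      exact (Commute.pow_left (show Commute ⁅y, x⁆ z from ct_comm_central hc y x z) k).eq
    have h1 : y ^ n * x = ⁅y, x⁆ ^ n * (x * y ^ n) := by
      rw [← ct_comm_pow_left hc]
      simp only [commutatorElement_def]; group
    have h2 : Nat.choose (n + 1) 2 = Nat.choose n 2 + n := by
      rw [Nat.choose_succ_succ' n 1, Nat.choose_one_right, add_comm]
    calc (x * y) ^ (n + 1) = (x * y) ^ n * (x * y) := pow_succ _ _
      _ = x ^ n * y ^ n * ⁅y, x⁆ ^ (n.choose 2) * (x * y) := by rw [ih]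
      _ = x ^ n * y ^ n * ((x * y) * ⁅y, x⁆ ^ (n.choose 2)) := by
          rw [mul_assoc (x ^ n * y ^ n), hcen]
      _ = x ^ n * (y ^ n * x) * y * ⁅y, x⁆ ^ (n.choose 2) := by group
      _ = x ^ n * (⁅y, x⁆ ^ n * (x * y ^ n)) * y * ⁅y, x⁆ ^ (n.choose 2) := by rw [h1]
      _ = x ^ n * ((x * y ^ n) * ⁅y, x⁆ ^ n) * y * ⁅y, x⁆ ^ (n.choose 2) := by rw [hcen]
      _ = x ^ (n + 1) * y ^ n * (⁅y, x⁆ ^ n * y) * ⁅y, x⁆ ^ (n.choose 2) := by
          rw [pow_succ]; group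
      _ = x ^ (n + 1) * y ^ n * (y * ⁅y, x⁆ ^ n) * ⁅y, x⁆ ^ (n.choose 2) := by rw [hcen]
      _ = x ^ (n + 1) * y ^ (n + 1) * (⁅y, x⁆ ^ n * ⁅y, x⁆ ^ (n.choose 2)) := by
          rw [pow_succ y]; group
      _ = x ^ (n + 1) * y ^ (n + 1) * ⁅y, x⁆ ^ ((n + 1).choose 2) := by
          congr 1
          rw [h2, add_comm (n.choose 2) n, pow_add]

end classtwo

end Cfsg.Agent.Lib.Helper3
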