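import Mathlib

set_option autoImplicit false
set_option linter.unusedSectionVars false
set_option linter.unusedVariables false
set_option linter.style.haveILetI false

/-! A crossed homomorphism into a finite abelian group of order prime to the index of a subgroup on
which it vanishes is principal. -/

namespace Cfsg.Agent.Lib.Helper3

theorem cocycle_trivial {H B : Type*} [Group H] [Finite H] [CommGroup B] [Finite B]
    (act : H →* MulAut B) (P : Subgroup H) (hcop : (Nat.card B).Coprime P.index) (φ : H → B)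
    (h2 : ∀ h g, φ (h * g) = φ h * act h (φ g)) (h1 : ∀ g, ∀ t ∈ P, φ (g * t) = φ g) :
    ∃ w : B, ∀ h, φ h = w * (act h w)⁻¹ := by
  classical
  haveI : Fintype (H ⧸ P) := Fintype.ofFinite _
  have key : ∀ g : H, φ g = φ (Quotient.out (g : H ⧸ P)) := by
    intro g
    obtain ⟨u, hu⟩ := QuotientGroup.mk_out_eq_mul P g
    rw [hu, h1 g u u.2]
  obtain ⟨z, hz⟩ : ∃ z : B, z = ∏ c : H ⧸ P, φ (Quotient.out c) := ⟨_, rfl⟩
  have hmain : ∀ h : H, z = φ h ^ P.index * act h z := by
    intro h
    have e1 : ∏ c : H ⧸ P, φ (Quotient.out ((MulAction.toPerm h : Equiv.Perm (H ⧸ P)) c)) = z := by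
      rw [hz]
      exact Equiv.prod_comp (MulAction.toPerm h : Equiv.Perm (H ⧸ P))
        (fun c => φ (Quotient.out c))
    have e2 : ∀ c : H ⧸ P, c ∈ (Finset.univ : Finset (H ⧸ P)) →
        φ (Quotient.out ((MulAction.toPerm h : Equiv.Perm (H ⧸ P)) c)) =
          φ h * act h (φ (Quotient.out c)) := by
      intro c _
      rw [← h2, key (h * Quotient.out c)]
      have h3 : ((h * Quotient.out c : H) : H ⧸ P) = h • c := by
        rw [← smul_eq_mul, ← MulAction.Quotient.smul_mk, QuotientGroup.out_eq']
      rw [h3]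
      rfl
    rw [Finset.prod_congr rfl e2, Finset.prod_mul_distrib, Finset.prod_const, Finset.card_univ,
      ← map_prod, ← hz] at e1
    rw [Subgroup.index_eq_card, Nat.card_eq_fintype_card]
    exact e1.symm
  obtain ⟨w, hw⟩ : ∃ w : B, w ^ P.index = z :=
    ⟨(powCoprime hcop).symm z, by rw [← powCoprime_apply hcop, Equiv.apply_symm_apply]⟩
  refine ⟨w, fun h => ?_⟩
  apply (powCoprime hcop).injective
  rw [powCoprime_apply, powCoprime_apply, mul_pow, inv_pow, ← map_pow, hw]
  have h3 := hmain h
  rw [eq_mul_inv_iff_mul_eq]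
  exact h3.symm

end Cfsg.Agent.Lib.Helper3
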