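import Mathlib
import Cfsg.Prelude.Def_Balance
import Cfsg.Agent.Lib.Helper3.PComp4
import Cfsg.Agent.Lib.Helper3.PConstr
import Cfsg.Agent.Lib.Helper3.Transport

set_option autoImplicit false
open scoped Pointwise

namespace Cfsg.Agent.Lib.Helper3

open Cfsg.Agent.Lib.Helper1

section general

variable {X : Type*} [Group X]

lemma pLayer_normal (p : ℕ) : (Cfsg.pLayer p X).Normal := by
  constructor
  intro n hn g
  have h1 : Cfsg.pLayer p X ≤ (Cfsg.pLayer p X).comap (MulAut.conj g).toMonoidHom := by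
    rw [pLayer_le_iff]
    intro K hK x hx
    rw [Subgroup.mem_comap]
    exact pcomp_le_pLayer (pcomp_conj hK g) ⟨x, hx, rfl⟩
  have := h1 hn
  rw [Subgroup.mem_comap] at this
  simpa using this

/-- `O_{p'}(H)` as a subgroup of `X` -/
def subPPrimeCore (p : ℕ) (H : Subgroup X) : Subgroup X := (Cfsg.pPrimeCore p ↥H).map H.subtype

lemma subPPrimeCore_le (p : ℕ) (H : Subgroup X) : subPPrimeCore p H ≤ H :=
  Subgroup.map_subtype_le _

lemma subPPrimeCore_map_conj (p : ℕ) (H : Subgroup X) (g : X) :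
    subPPrimeCore p (H.map (MulAut.conj g).toMonoidHom) =
      (subPPrimeCore p H).map (MulAut.conj g).toMonoidHom := by
  unfold subPPrimeCore
  set e : ↥H ≃* ↥(H.map (MulAut.conj g).toMonoidHom) :=
    H.equivMapOfInjective _ (MulAut.conj g).injective with he
  rw [← pPrimeCore_map_equiv p e, Subgroup.map_map, Subgroup.map_map]
  congr 1

lemma centralizer_map_conj (S : Subgroup X) (g : X) :
    Subgroup.centralizer ((S.map (MulAut.conj g).toMonoidHom : Subgroup X) : Set X) =
      (Subgroup.centralizer (S : Set X)).map (MulAut.conj g).toMonoidHom := by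
  ext x
  rw [mem_map_conj, Subgroup.mem_centralizer_iff, Subgroup.mem_centralizer_iff]
  constructor
  · intro h s hs
    have := h (g * s * g⁻¹) (conj_mem_map_conj hs)
    calc s * (g⁻¹ * x * g) = g⁻¹ * ((g * s * g⁻¹) * x) * g := by group
      _ = g⁻¹ * (x * (g * s * g⁻¹)) * g := by rw [this]
      _ = g⁻¹ * x * g * s := by group
  · intro h y hy
    have hy' : y ∈ S.map (MulAut.conj g).toMonoidHom := hy
    rw [mem_map_conj] at hy'
    have := h _ hy'
    calc y * x = g * ((g⁻¹ * y * g) * (g⁻¹ * x * g)) * g⁻¹ := by group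
      _ = g * ((g⁻¹ * x * g) * (g⁻¹ * y * g)) * g⁻¹ := by rw [this]
      _ = x * y := by group

/-- `O_{p'}(C_X(S))` as a subgroup of `X` -/
def cenCore (p : ℕ) (S : Subgroup X) : Subgroup X :=
  subPPrimeCore p (Subgroup.centralizer (S : Set X))

lemma cenCore_map_conj (p : ℕ) (S : Subgroup X) (g : X) :
    cenCore p (S.map (MulAut.conj g).toMonoidHom) =
      (cenCore p S).map (MulAut.conj g).toMonoidHom := by
  unfold cenCore
  rw [centralizer_map_conj, subPPrimeCore_map_conj]

lemma cenCore_le_centralizer (p : ℕ) (S : Subgroup X) :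
    cenCore p S ≤ Subgroup.centralizer (S : Set X) := subPPrimeCore_le p _

lemma cenCore_map_conj_of_mem_normalizer (p : ℕ) {S : Subgroup X} {g : X}
    (hg : g ∈ Subgroup.normalizer (S : Set X)) :
    (cenCore p S).map (MulAut.conj g).toMonoidHom = cenCore p S := by
  have h1 : S.map (MulAut.conj g).toMonoidHom = S :=
    Subgroup.mem_normalizer_iff_map_conj_eq.mp hg
  rw [← cenCore_map_conj, h1]

/-- conjugating a Sylow subgroup of a normal subgroup by an element of the big group -/
lemma sylow_conjNormal_smul_map {q : ℕ} (M : Subgroup X) [M.Normal] (g : X) (P : Sylow q ↥M) :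
    (((MulAut.conjNormal g : MulAut ↥M) • P : Sylow q ↥M) : Subgroup ↥M).map M.subtype =
      ((P : Subgroup ↥M).map M.subtype).map (MulAut.conj g).toMonoidHom := by
  ext x
  constructor
  · rintro ⟨y, hy, rfl⟩
    rw [Sylow.pointwise_smul_def] at hy
    have hy' : y ∈ (MulAut.conjNormal g : MulAut ↥M) • (P : Subgroup ↥M) := hy
    rw [Subgroup.mem_pointwise_smul_iff_inv_smul_mem] at hy'
    refine ⟨g⁻¹ * y * g, ⟨_, hy', ?_⟩, ?_⟩
    · simp [MulAut.smul_def, ← map_inv, MulAut.conjNormal_apply, mul_assoc]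
    · simp [mul_assoc]
  · rintro ⟨_, ⟨z, hz, rfl⟩, rfl⟩
    refine ⟨(MulAut.conjNormal g : MulAut ↥M) z, ?_, by simp [MulAut.conjNormal_apply]⟩
    rw [Sylow.pointwise_smul_def]
    show (MulAut.conjNormal g : MulAut ↥M) z ∈ (MulAut.conjNormal g : MulAut ↥M) • (P : Subgroup ↥M)
    rw [Subgroup.mem_pointwise_smul_iff_inv_smul_mem]
    have hz' : z ∈ (P : Subgroup ↥M) := hz
    simpa [MulAut.smul_def] using hz'

end general

section ext

variable {X : Type*} [Group X] [Finite X]

/-- `L_{p'}(X) O_{p',p}(X)` -/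
abbrev layerM (p : ℕ) (X : Type*) [Group X] : Subgroup X := Cfsg.pLayer p X ⊔ Cfsg.pPrimePCore p X

instance layerM_normal (p : ℕ) : (layerM p X).Normal := by
  have := pLayer_normal (X := X) p
  have := pPrimePCore_normal (X := X) p
  exact Subgroup.sup_normal _ _

/-- the subgroup of `X` underlying a Sylow subgroup of `L_{p'}(X) O_{p',p}(X)` -/
abbrev sylowSub {p : ℕ} (T : Sylow p ↥(layerM p X)) : Subgroup X :=
  (T : Subgroup ↥(layerM p X)).map (layerM p X).subtype

omit [Finite X] in
lemma extendedTwoLayer_eq :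
    Cfsg.extendedTwoLayer X = Cfsg.pLayer 2 X ⊔ Cfsg.pPrimeCore 2 X ⊔
      ⨆ T : Sylow 2 ↥(layerM 2 X), cenCore 2 (sylowSub T) := rfl

lemma cenCore_le_extendedTwoLayer (T : Sylow 2 ↥(layerM 2 X)) :
    cenCore 2 (sylowSub T) ≤ Cfsg.extendedTwoLayer X := by
  rw [extendedTwoLayer_eq]
  exact le_trans (le_iSup (fun T : Sylow 2 ↥(layerM 2 X) => cenCore 2 (sylowSub T)) T) le_sup_right

/-- the extended 2-layer is normal -/
theorem extendedTwoLayer_normal : (Cfsg.extendedTwoLayer X).Normal := by
  have hLn : (Cfsg.pLayer 2 X).Normal := pLayer_normal 2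
  have hNn : (Cfsg.pPrimeCore 2 X).Normal := pPrimeCore_normal' 2
  constructor
  intro n hn g
  have h1 : Cfsg.extendedTwoLayer X ≤
      (Cfsg.extendedTwoLayer X).comap (MulAut.conj g).toMonoidHom := by
    conv_lhs => rw [extendedTwoLayer_eq]
    apply sup_le
    · apply sup_le
      · intro x hx
        rw [Subgroup.mem_comap]
        have : g * x * g⁻¹ ∈ Cfsg.pLayer 2 X := hLn.conj_mem x hx g
        rw [extendedTwoLayer_eq]
        exact Subgroup.mem_sup_left (Subgroup.mem_sup_left this)
      · intro x hx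
        rw [Subgroup.mem_comap]
        have : g * x * g⁻¹ ∈ Cfsg.pPrimeCore 2 X := hNn.conj_mem x hx g
        rw [extendedTwoLayer_eq]
        exact Subgroup.mem_sup_left (Subgroup.mem_sup_right this)
    · apply iSup_le
      intro T
      rw [← Subgroup.map_le_iff_le_comap, ← cenCore_map_conj]
      have h2 : (sylowSub T).map (MulAut.conj g).toMonoidHom =
          sylowSub ((MulAut.conjNormal g : MulAut ↥(layerM 2 X)) • T) :=
        (sylow_conjNormal_smul_map (layerM 2 X) g T).symm
      rw [h2]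
      exact cenCore_le_extendedTwoLayer _
  have := h1 hn
  rw [Subgroup.mem_comap] at this
  simpa using this

end ext

end Cfsg.Agent.Lib.Helper3
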