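import Mathlib
import Cfsg.Agent.Lib.Helper3.ExtLayer
import Cfsg.Agent.Lib.Helper3.QN

set_option autoImplicit false
open scoped Pointwise

namespace Cfsg.Agent.Lib.Helper3

open Cfsg.Agent.Lib.Helper1

section

variable {X : Type*} [Group X]

lemma sylowSub_conj_smul {q : ℕ} (K : Subgroup X) (c : ↥K) (P : Sylow q ↥K) :
    ((c • P : Sylow q ↥K) : Subgroup ↥K).map K.subtype =
      ((P : Subgroup ↥K).map K.subtype).map (MulAut.conj (c : X)).toMonoidHom := by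
  rw [Sylow.smul_def]
  ext x
  constructor
  · rintro ⟨y, hy, rfl⟩
    rw [Sylow.pointwise_smul_def] at hy
    have hy' : y ∈ MulAut.conj c • (P : Subgroup ↥K) := hy
    rw [Subgroup.mem_pointwise_smul_iff_inv_smul_mem] at hy'
    refine ⟨(c : X)⁻¹ * y * c, ⟨_, hy', ?_⟩, ?_⟩
    · simp [MulAut.smul_def, mul_assoc]
    · simp [mul_assoc]
  · rintro ⟨_, ⟨z, hz, rfl⟩, rfl⟩
    refine ⟨c * z * c⁻¹, ?_, by simp⟩
    rw [Sylow.pointwise_smul_def]
    show c * z * c⁻¹ ∈ MulAut.conj c • (P : Subgroup ↥K)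
    rw [Subgroup.mem_pointwise_smul_iff_inv_smul_mem]
    have hz' : z ∈ (P : Subgroup ↥K) := hz
    simpa [MulAut.smul_def, mul_assoc] using hz'

lemma map_conj_le_of_mem {A W : Subgroup X} (hAW : A ≤ W) {w : X} (hw : w ∈ W) :
    A.map (MulAut.conj w).toMonoidHom ≤ W := by
  rintro _ ⟨a, ha, rfl⟩
  exact W.mul_mem (W.mul_mem hw (hAW ha)) (W.inv_mem hw)

variable [Finite X] (p : ℕ) [Fact p.Prime]

/-- `O_{p',p}(X) ≤ O_{p'}(X) T` for a Sylow `p`-subgroup `T` of `L_{p'}(X) O_{p',p}(X)` -/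
lemma pPrimePCore_le_sup_sylowSub (T : Sylow p ↥(layerM p X)) :
    Cfsg.pPrimePCore p X ≤ Cfsg.pPrimeCore p X ⊔ sylowSub T := by
  set Mb := (layerM p X).map (ppi p X) with hMb
  set f : ↥(layerM p X) →* ↥Mb := (ppi p X).subgroupMap (layerM p X) with hf
  have hfs : Function.Surjective f := MonoidHom.subgroupMap_surjective _ _
  set Tb : Sylow p ↥Mb := T.mapSurjective hfs with hTb
  set D := Cfsg.pCore p (X ⧸ Cfsg.pPrimeCore p X) with hD
  have hDn : D.Normal := pCore_normal' p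
  have hDp : IsPGroup p ↥D := pCore_isPGroup
  have hDn' : (D.subgroupOf Mb).Normal := hDn.subgroupOf Mb
  have hDp' : IsPGroup p ↥(D.subgroupOf Mb) := hDp.comap_subtype
  have h1 : D.subgroupOf Mb ≤ (Tb : Subgroup ↥Mb) := hDp'.le_sylow_of_normal Tb
  intro x hx
  have hxM : x ∈ layerM p X := (le_sup_right : Cfsg.pPrimePCore p X ≤ layerM p X) hx
  have hxb : ppi p X x ∈ Mb := ⟨x, hxM, rfl⟩
  have h2 : (⟨ppi p X x, hxb⟩ : ↥Mb) ∈ D.subgroupOf Mb := by
    rw [Subgroup.mem_subgroupOf]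
    exact (mem_pPrimePCore_iff p x).mp hx
  have h3 : (⟨ppi p X x, hxb⟩ : ↥Mb) ∈ (T : Subgroup ↥(layerM p X)).map f := h1 h2
  obtain ⟨t, ht, hft⟩ := h3
  have h4 : ppi p X (t : X) = ppi p X x := congrArg Subtype.val hft
  have h5 : x * (t : X)⁻¹ ∈ Cfsg.pPrimeCore p X := by
    rw [← ppi_eq_one_iff, map_mul, map_inv, h4, mul_inv_cancel]
  have h6 : x = (x * (t : X)⁻¹) * (t : X) := by group
  rw [h6]
  exact Subgroup.mul_mem _ (Subgroup.mem_sup_left h5) (Subgroup.mem_sup_right ⟨t, ht, rfl⟩)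

lemma layerM_le_sup_sylowSub (T : Sylow p ↥(layerM p X)) :
    layerM p X ≤ (Cfsg.pLayer p X ⊔ Cfsg.pPrimeCore p X) ⊔ sylowSub T :=
  sup_le (le_sup_left.trans le_sup_left)
    ((pPrimePCore_le_sup_sylowSub p T).trans (sup_le_sup_right le_sup_right _))

theorem cenCore_le_of_sylow (T T₁ : Sylow p ↥(layerM p X)) :
    cenCore p (sylowSub T₁) ≤
      Cfsg.pLayer p X ⊔ Cfsg.pPrimeCore p X ⊔ cenCore p (sylowSub T) := by
  obtain ⟨m, hm⟩ := MulAction.exists_smul_eq ↥(layerM p X) T T₁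
  have h1 : sylowSub T₁ = (sylowSub T).map (MulAut.conj (m : X)).toMonoidHom := by
    rw [← hm]; exact sylowSub_conj_smul _ m T
  rw [h1, cenCore_map_conj]
  set W := Cfsg.pLayer p X ⊔ Cfsg.pPrimeCore p X ⊔ cenCore p (sylowSub T) with hW
  have hLN : (Cfsg.pLayer p X ⊔ Cfsg.pPrimeCore p X).Normal := by
    have := pLayer_normal (X := X) p
    have := pPrimeCore_normal' (G := X) p
    exact Subgroup.sup_normal _ _
  have hm' : (m : X)⁻¹ ∈ sylowSub T ⊔ (Cfsg.pLayer p X ⊔ Cfsg.pPrimeCore p X) := by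
    rw [sup_comm]
    exact layerM_le_sup_sylowSub p T ((layerM p X).inv_mem m.2)
  obtain ⟨t, ht, w, hw, hmtw⟩ := mem_mul_of_mem_sup_left_normal
    (le_normalizer_of_normal hLN _) hm'
  have hm2 : (m : X) = w⁻¹ * t⁻¹ := by
    have : (m : X) = ((m : X)⁻¹)⁻¹ := (inv_inv _).symm
    rw [this, hmtw, mul_inv_rev]
  rw [hm2, ← map_conj_map_conj,
    cenCore_map_conj_of_mem_normalizer p (Subgroup.le_normalizer ((sylowSub T).inv_mem ht))]
  apply map_conj_le_of_mem le_sup_right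
  exact W.inv_mem (le_sup_left (a := Cfsg.pLayer p X ⊔ Cfsg.pPrimeCore p X) hw)

theorem extendedTwoLayer_eq_of_sylow (T : Sylow 2 ↥(layerM 2 X)) :
    Cfsg.extendedTwoLayer X =
      Cfsg.pLayer 2 X ⊔ Cfsg.pPrimeCore 2 X ⊔ cenCore 2 (sylowSub T) := by
  rw [extendedTwoLayer_eq]
  apply le_antisymm
  · exact sup_le le_sup_left (iSup_le fun T₁ => cenCore_le_of_sylow 2 T T₁)
  · exact sup_le_sup_left
      (le_iSup (fun T : Sylow 2 ↥(layerM 2 X) => cenCore 2 (sylowSub T)) T) _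

end

end Cfsg.Agent.Lib.Helper3
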