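import Mathlib
import Cfsg.Agent.Lib.Helper3.ExtLayer2
import Cfsg.Agent.Lib.Helper3.PComp
import Cfsg.Agent.Lib.Helper3.CharP
import Cfsg.Agent.Lib.Helper3.SylowAux

set_option autoImplicit false
open scoped Pointwise commutatorElement

namespace Cfsg.Agent.Lib.Helper3

open Cfsg.Agent.Lib.Helper1

section

variable {X : Type*} [Group X] [Finite X]

/-- an element whose image normalizes the image of a `p`-component normalizes it -/
lemma mem_normalizer_pcomp_of_ppi {p : ℕ} [Fact p.Prime] {K : Subgroup X}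
    (hK : Cfsg.IsPComponent p K) {g : X}
    (hg : ppi p X g ∈ Subgroup.normalizer ((K.map (ppi p X) : Subgroup _) : Set _)) :
    g ∈ Subgroup.normalizer (K : Set X) := by
  rw [Subgroup.mem_normalizer_iff_map_conj_eq] at hg
  have h2' : (K.map (ppi p X)).map (MulAut.conj (ppi p X g)).toMonoidHom = K.map (ppi p X) := hg
  have h3 : K.map (MulAut.conj g).toMonoidHom = K := by
    apply pcomp_unique (pcomp_conj hK g) hK
    rw [map_conj_map_ppi, h2']
  rw [Subgroup.mem_normalizer_iff_map_conj_eq]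
  exact h3

/-- In a group with `O_{p'} = 1`, an element centralizing a "Sylow-like" `p`-subgroup of
`E O_p` normalizes every component. -/
theorem centralizer_sylow_le_normalizer_component (p : ℕ) [Fact p.Prime]
    (h0 : Cfsg.pPrimeCore p X = ⊥) (Tb : Subgroup X)
    (hT : ∀ R : Subgroup X, IsPGroup p ↥R → R ≤ Cfsg.layer X ⊔ Cfsg.pCore p X →
      ∃ m ∈ Cfsg.layer X ⊔ Cfsg.pCore p X, R.map (MulAut.conj m).toMonoidHom ≤ Tb)
    {Kb : Subgroup X} (hKb : Cfsg.IsComponent Kb) {y : X}
    (hy : y ∈ Subgroup.centralizer (Tb : Set X)) : y ∈ Subgroup.normalizer (Kb : Set X) := by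
  obtain ⟨S⟩ : Nonempty (Sylow p ↥Kb) := inferInstance
  set P' := (S : Subgroup ↥Kb).map Kb.subtype with hP'
  have hP'K : P' ≤ Kb := Subgroup.map_subtype_le _
  have hKlayer : Kb ≤ Cfsg.layer X := component_le_layer hKb
  obtain ⟨m, hm, hPm⟩ := hT P' (S.isPGroup'.map _) ((hP'K.trans hKlayer).trans le_sup_left)
  have hMN : Cfsg.layer X ⊔ Cfsg.pCore p X ≤ Subgroup.normalizer (Kb : Set X) := by
    apply sup_le (layer_le_normalizer_component hKb)
    exact (((pCore_le_fitting p).trans fitting_le_centralizer_layer).trans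
      (Subgroup.centralizer_le hKlayer)).trans (Subgroup.centralizer_le_normalizer _)
  have hmK : Kb.map (MulAut.conj m).toMonoidHom = Kb :=
    Subgroup.mem_normalizer_iff_map_conj_eq.mp (hMN hm)
  set P'' := P'.map (MulAut.conj m).toMonoidHom with hP''
  have hP''K : P'' ≤ Kb := by
    rw [← hmK]; exact map_conj_mono hP'K m
  by_contra hyN
  have hne : Kb.map (MulAut.conj y).toMonoidHom ≠ Kb := by
    intro h
    apply hyN
    rw [Subgroup.mem_normalizer_iff_map_conj_eq]
    exact h
  have hKy : Cfsg.IsComponent (Kb.map (MulAut.conj y).toMonoidHom) :=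
    component_map_equiv hKb (MulAut.conj y)
  have hcomm := components_commute hKb hKy hne.symm
  rw [Subgroup.commutator_eq_bot_iff_le_centralizer] at hcomm
  -- P'' is central in Kb
  have hcen : P''.subgroupOf Kb ≤ Subgroup.center ↥Kb := by
    intro t ht
    rw [Subgroup.mem_subgroupOf] at ht
    rw [Subgroup.mem_center_iff]
    intro k
    have ht1 : (t : X) ∈ Tb := hPm ht
    have hyt : y * (t : X) * y⁻¹ = (t : X) := by
      have := Subgroup.mem_centralizer_iff.mp hy (t : X) ht1
      rw [← this]; group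
    have ht2 : (t : X) ∈ Kb.map (MulAut.conj y).toMonoidHom := by
      rw [← hyt]; exact conj_mem_map_conj t.2
    have := Subgroup.mem_centralizer_iff.mp (hcomm k.2) (t : X) ht2
    apply Subtype.ext
    simp only [Subgroup.coe_mul]
    exact this.symm
  have hcardP : Nat.card ↥(P''.subgroupOf Kb) = Nat.card ↥(S : Subgroup ↥Kb) := by
    rw [Nat.card_congr (Subgroup.subgroupOfEquivOfLe hP''K).toEquiv, hP'', card_map_conj, hP']
    exact (Nat.card_congr ((S : Subgroup ↥Kb).equivMapOfInjective Kb.subtype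
      (Subgroup.subtype_injective _)).toEquiv).symm
  have hidx : (P''.subgroupOf Kb).index = (S : Subgroup ↥Kb).index := by
    have h1 := (P''.subgroupOf Kb).card_mul_index
    have h2 := (S : Subgroup ↥Kb).card_mul_index
    rw [hcardP, ← h2] at h1
    exact Nat.eq_of_mul_eq_mul_left Nat.card_pos h1
  have hcop : ((Subgroup.center ↥Kb).index).Coprime p := by
    have h1 : (Subgroup.center ↥Kb).index ∣ (S : Subgroup ↥Kb).index := by
      rw [← hidx]; exact Subgroup.index_dvd_of_le hcen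
    have h2 : ((S : Subgroup ↥Kb).index).Coprime p :=
      ((Nat.Prime.coprime_iff_not_dvd Fact.out).mpr S.not_dvd_index).symm
    exact Nat.Coprime.coprime_dvd_left h1 h2
  have hP : Group.IsPerfect ↥Kb := hKb.2.1
  have h2 : (Nat.card ↥Kb).Coprime p := coprime_card_of_perfect_of_index_center ↥Kb hcop
  have h3 := component_p_dvd_card p h0 hKb
  have h4 : p ∣ Nat.gcd (Nat.card ↥Kb) p := Nat.dvd_gcd h3 dvd_rfl
  rw [h2] at h4
  exact (Fact.out : p.Prime).one_lt.ne' (Nat.dvd_one.mp h4)

lemma layerM_map_ppi (p : ℕ) [Fact p.Prime] :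
    (layerM p X).map (ppi p X) =
      Cfsg.layer (X ⧸ Cfsg.pPrimeCore p X) ⊔ Cfsg.pCore p (X ⧸ Cfsg.pPrimeCore p X) := by
  rw [Subgroup.map_sup, pLayer_map_eq]
  congr 1
  exact Subgroup.map_comap_eq_self_of_surjective (ppi_surjective p) _

/-- Elements centralizing a Sylow `p`-subgroup of `L_{p'}(X) O_{p',p}(X)` normalize every
`p`-component. -/
theorem centralizer_sylowSub_le_normalizer_pcomp (p : ℕ) [Fact p.Prime]
    (T : Sylow p ↥(layerM p X)) {K : Subgroup X} (hK : Cfsg.IsPComponent p K) :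
    Subgroup.centralizer ((sylowSub T : Subgroup X) : Set X) ≤ Subgroup.normalizer (K : Set X) := by
  intro y hy
  apply mem_normalizer_pcomp_of_ppi hK
  apply centralizer_sylow_le_normalizer_component p (pPrimeCore_quotient_eq_bot p)
    ((sylowSub T).map (ppi p X)) ?_ hK.2.1
  · rw [Subgroup.mem_centralizer_iff]
    rintro _ ⟨t, ht, rfl⟩
    have := Subgroup.mem_centralizer_iff.mp hy t ht
    rw [← map_mul, ← map_mul, this]
  · intro R hR hRM
    rw [← layerM_map_ppi] at hRM ⊢
    set Mb := (layerM p X).map (ppi p X) with hMb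
    set f : ↥(layerM p X) →* ↥Mb := (ppi p X).subgroupMap (layerM p X) with hf
    have hfs : Function.Surjective f := MonoidHom.subgroupMap_surjective _ _
    set Tb : Sylow p ↥Mb := T.mapSurjective hfs with hTb
    have hR' : IsPGroup p ↥(R.subgroupOf Mb) := hR.comap_subtype
    obtain ⟨x, hx⟩ := exists_le_conj_sylow Tb (R.subgroupOf Mb) hR'
    refine ⟨((x⁻¹ : ↥Mb) : X ⧸ Cfsg.pPrimeCore p X), (x⁻¹).2, ?_⟩
    rintro _ ⟨r, hr, rfl⟩
    have h1 : (⟨r, hRM hr⟩ : ↥Mb) ∈ (Tb : Subgroup ↥Mb).map (MulAut.conj x).toMonoidHom :=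
      hx (show (⟨r, hRM hr⟩ : ↥Mb) ∈ R.subgroupOf Mb from hr)
    rw [mem_map_conj] at h1
    have h2 : x⁻¹ * (⟨r, hRM hr⟩ : ↥Mb) * x ∈ (T : Subgroup ↥(layerM p X)).map f := h1
    obtain ⟨t, ht, hft⟩ := h2
    refine ⟨(t : X), ⟨t, ht, rfl⟩, ?_⟩
    have h3 := congrArg Subtype.val hft
    have h4 : ((f t : ↥Mb) : X ⧸ Cfsg.pPrimeCore p X) = ppi p X (t : X) := rfl
    rw [h4] at h3
    simp only [MulEquiv.coe_toMonoidHom, MulAut.conj_apply, Subgroup.coe_inv, inv_inv]
    simpa using h3

end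

end Cfsg.Agent.Lib.Helper3
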