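import Mathlib
import Cfsg.Agent.Lib.Helper3.FF8

set_option autoImplicit false
set_option linter.unusedSectionVars false
set_option linter.style.haveILetI false
set_option linter.unusedSimpArgs false
open scoped commutatorElement

/-! Small offenders for `p = 2`: `|V : C_V(A)| < |A|²` forces a section `SL₂(2)`. -/

namespace Cfsg.Agent.Lib.Helper3

section ff9
variable {G : Type*} [Group G] [Finite G]
variable {V H : Subgroup G}

/-- a transvection in a faithful group with self-centralizing `2'`-core lies in an `SL₂(2)` -/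
theorem transvection_sl2 [hp : Fact (Nat.Prime 2)] (s : FFSetup 2 V H) {a : G} (haH : a ∈ H)
    (ha1 : a ≠ 1) (ha2 : a ^ 2 = 1)
    (hidx : (V ⊓ Subgroup.centralizer ((Subgroup.zpowers a : Subgroup G) : Set G)).relIndex V = 2) :
    ∃ E : Subgroup G, E ≤ H ∧
      Nonempty (↥E ≃* Matrix.SpecialLinearGroup (Fin 2) (ZMod 2)) := by
  have hcardA : Nat.card ↥(Subgroup.zpowers a) = 2 := by
    rw [Nat.card_zpowers]
    exact orderOf_eq_of_pow_prime (p := 2) ha2 ha1
  have hAH : Subgroup.zpowers a ≤ H := Subgroup.zpowers_le.mpr haH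
  have hpow : ∀ x ∈ Subgroup.zpowers a, x ^ 2 = 1 := by
    intro x hx
    obtain ⟨k, rfl⟩ := Subgroup.mem_zpowers_iff.mp hx
    rw [← zpow_natCast, ← zpow_mul, mul_comm, zpow_mul, zpow_natCast, ha2, one_zpow]
  have hVcard : Nat.card ↥V =
      Nat.card ↥(V ⊓ Subgroup.centralizer ((Subgroup.zpowers a : Subgroup G) : Set G)) * 2 := by
    rw [card_eq_card_mul_relIndex (inf_le_left :
      V ⊓ Subgroup.centralizer ((Subgroup.zpowers a : Subgroup G) : Set G) ≤ V), hidx]
  have hne : ⁅V, Subgroup.zpowers a⁆ ≠ ⊥ := by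
    intro h
    rw [Subgroup.commutator_eq_bot_iff_le_centralizer] at h
    rw [inf_eq_left.mpr h, Subgroup.relIndex_self] at hidx
    omega
  have hbo : Cfsg.IsBestOffenderOn 2 V (Subgroup.zpowers a) := by
    refine ⟨?_, ?_, ?_⟩
    · intro B hB
      rcases eq_bot_or_eq_of_card_prime (p := 2) hcardA hB with h | h
      · rw [h, hcardA, Subgroup.card_bot, one_mul]
        have e : V ⊓ Subgroup.centralizer (((⊥ : Subgroup G) : Subgroup G) : Set G) = V := by
          rw [Subgroup.coe_bot, Subgroup.centralizer_eq_top_iff_subset.mpr]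
          · exact inf_top_eq _
          · intro x hx
            rw [Set.mem_singleton_iff] at hx
            rw [hx]
            exact Subgroup.one_mem _
        rw [e, hVcard, mul_comm]
      · rw [h]
    · rw [Subgroup.commutator_le]
      intro x hx y hy
      obtain ⟨i, rfl⟩ := Subgroup.mem_zpowers_iff.mp hx
      obtain ⟨j, rfl⟩ := Subgroup.mem_zpowers_iff.mp hy
      have : ⁅a ^ i, a ^ j⁆ = 1 :=
        commutatorElement_eq_one_iff_commute.mpr (Commute.zpow_zpow_self a i j)
      rw [this]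
      exact Subgroup.one_mem _
    · intro x hx
      rw [hpow x hx]
      exact Subgroup.one_mem _
  have m : MinBO 2 V H (Subgroup.zpowers a) := by
    refine ⟨hAH, hbo, hne, ?_⟩
    intro B hB _ hBne
    rcases eq_bot_or_eq_of_card_prime (p := 2) hcardA hB with h | h
    · exfalso
      apply hBne
      rw [h]
      exact Subgroup.commutator_bot_right V
    · exact h
  have hblk := m.isBlk s
  exact ⟨_, hblk.le_H, hblk.iso s⟩

end ff9

section split
variable {G : Type*} [Group G] [Finite G]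

/-- in `R ⋊ ⟨a⟩` with `R` of odd order and the involution `a` acting nontrivially, the
centralizer of `R` lies in `R` -/
theorem split_cent {R : Subgroup G} {a : G} (hR : (Nat.card ↥R).Coprime 2)
    (haN : a ∈ Subgroup.normalizer (R : Set G)) (ha2 : a ^ 2 = 1)
    (haC : a ∉ Subgroup.centralizer (R : Set G)) {h : G} (hh : h ∈ R ⊔ Subgroup.zpowers a)
    (hc : h ∈ Subgroup.centralizer (R : Set G)) : h ∈ R := by
  have hle : Subgroup.zpowers a ≤ Subgroup.normalizer (R : Set G) :=
    Subgroup.zpowers_le.mpr haN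
  have hmem : h ∈ ((Subgroup.zpowers a ⊔ R : Subgroup G) : Set G) := by
    rw [sup_comm]; exact hh
  rw [Subgroup.coe_mul_of_left_le_normalizer_right _ _ hle] at hmem
  obtain ⟨x, hx, r, hr, rfl⟩ := Set.mem_mul.mp hmem
  obtain ⟨k, rfl⟩ := Subgroup.mem_zpowers_iff.mp hx
  have hk : a ^ k = 1 ∨ a ^ k = a := by
    rcases Int.even_or_odd' k with ⟨m, hm | hm⟩
    · left
      rw [hm, zpow_mul, zpow_ofNat, ha2, one_zpow]
    · right
      rw [hm, zpow_add, zpow_mul, zpow_ofNat, ha2, one_zpow, one_mul, zpow_one]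
  rcases hk with hk | hk
  · rw [hk, one_mul]; exact hr
  · exfalso
    apply haC
    rw [hk] at hc
    -- `a` commutes with `r`
    have har : a * r = r * a := by
      have := Subgroup.mem_centralizer_iff.mp hc r hr
      -- r * (a * r) = a * r * r
      have h2 : r * a * r = a * r * r := by rw [← this]; group
      exact (mul_right_cancel h2).symm
    have hodd : Odd (orderOf r) := by
      have h1 : orderOf r ∣ Nat.card ↥R := by
        have := orderOf_dvd_natCard (⟨r, hr⟩ : ↥R)
        rwa [Subgroup.orderOf_mk] at this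
      have h2 : (orderOf r).Coprime 2 := Nat.Coprime.coprime_dvd_left h1 hR
      exact Nat.Coprime.odd_of_right h2
    obtain ⟨n, hn⟩ := hodd
    have hpow : (a * r) ^ (orderOf r) = a := by
      rw [(show Commute a r from har).mul_pow, pow_orderOf_eq_one, mul_one, hn, pow_succ, pow_mul,
        ha2, one_pow, one_mul]
    rw [← hpow]
    exact Subgroup.pow_mem _ hc _

/-- the `FFSetup` hypothesis on the `2'`-core for `R ⋊ ⟨a⟩` -/
theorem split_core {R : Subgroup G} {a : G} (hR : (Nat.card ↥R).Coprime 2)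
    (haN : a ∈ Subgroup.normalizer (R : Set G)) (ha2 : a ^ 2 = 1)
    (haC : a ∉ Subgroup.centralizer (R : Set G)) :
    Subgroup.centralizer (Cfsg.pPrimeCore 2 ↥(R ⊔ Subgroup.zpowers a) :
      Set ↥(R ⊔ Subgroup.zpowers a)) ≤ Cfsg.pPrimeCore 2 ↥(R ⊔ Subgroup.zpowers a) := by
  have hRle : R ≤ R ⊔ Subgroup.zpowers a := le_sup_left
  have hnorm : R ⊔ Subgroup.zpowers a ≤ Subgroup.normalizer (R : Set G) :=
    sup_le Subgroup.le_normalizer (Subgroup.zpowers_le.mpr haN)
  have hN : (R.subgroupOf (R ⊔ Subgroup.zpowers a)).Normal :=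
    (Subgroup.normal_subgroupOf_iff_le_normalizer hRle).mpr hnorm
  have hcard : (Nat.card ↥(R.subgroupOf (R ⊔ Subgroup.zpowers a))).Coprime 2 := by
    rw [Nat.card_congr (Subgroup.subgroupOfEquivOfLe hRle).toEquiv]
    exact hR
  have hle : R.subgroupOf (R ⊔ Subgroup.zpowers a) ≤
      Cfsg.pPrimeCore 2 ↥(R ⊔ Subgroup.zpowers a) := le_sSup ⟨hN, hcard⟩
  intro h hh
  apply hle
  rw [Subgroup.mem_subgroupOf]
  apply split_cent hR haN ha2 haC h.2
  rw [Subgroup.mem_centralizer_iff]
  intro r hr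
  have h1 := Subgroup.mem_centralizer_iff.mp hh ⟨r, hRle hr⟩
    (hle (by rw [Subgroup.mem_subgroupOf]; exact hr))
  exact congrArg Subtype.val h1

end split

section small
variable {G : Type*} [Group G] [Finite G]
variable {V M : Subgroup G}

lemma centralizer_bot_eq : Subgroup.centralizer (((⊥ : Subgroup G) : Subgroup G) : Set G) = ⊤ := by
  rw [Subgroup.coe_bot, Subgroup.centralizer_eq_top_iff_subset]
  intro x hx
  rw [Set.mem_singleton_iff] at hx
  rw [hx]
  exact Subgroup.one_mem _

/-- an element of an elementary abelian `p`-subgroup `A` acting nontrivially on the `p'`-core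
acts nontrivially on `C_Q(B)` for some hyperplane `B` of `A` not containing it -/
theorem exists_hyper_of_not_cent {p : ℕ} [hp : Fact p.Prime] {A : Subgroup G} (hAM : A ≤ M)
    (hA : Cfsg.IsElementaryAbelian p A) {a : G} (ha : a ∈ A)
    (haQ : a ∉ Subgroup.centralizer (qp p M : Set G)) :
    ∃ B : Subgroup G, B ≤ A ∧ B.relIndex A = p ∧ a ∉ B ∧
      ¬ (qp p M ⊓ Subgroup.centralizer (B : Set G) ≤ Subgroup.centralizer ({a} : Set G)) := by
  have hpp : p.Prime := hp.out
  by_contra hcon
  push Not at hcon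
  have hcommA : ∀ x ∈ A, ∀ y ∈ A, x * y = y * x := fun x hx y hy => by
    have := hA.1.is_comm.comm (⟨x, hx⟩ : ↥A) ⟨y, hy⟩
    exact congrArg Subtype.val this
  have hAp : IsPGroup p ↥A := by
    intro x
    refine ⟨1, ?_⟩
    apply Subtype.ext
    rw [pow_one]
    simpa using hA.2 x x.2
  have hX : ¬ p ∣ Nat.card ↥(qp p M) :=
    (Nat.Prime.coprime_iff_not_dvd hpp).mp (qp_coprime M).symm
  have hgen := Cfsg.Agent.Lib.Helper5.le_iSup_hyperplane p A (qp p M) hcommA hA.2 hX
    (hAM.trans (qp_normalizer M)) (Nat.card ↥A - Nat.card ↥(⊥ : Subgroup G)) ⊥ bot_le rfl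
  rw [centralizer_bot_eq, inf_top_eq] at hgen
  apply haQ
  have hQa : qp p M ≤ Subgroup.centralizer ({a} : Set G) := by
    refine hgen.trans (iSup_le ?_)
    rintro ⟨B, hBA, hrel⟩
    show qp p M ⊓ Subgroup.centralizer (B : Set G) ≤ Subgroup.centralizer ({a} : Set G)
    by_cases haB : a ∈ B
    · refine inf_le_right.trans (Subgroup.centralizer_le ?_)
      intro x hx
      rw [Set.mem_singleton_iff] at hx
      rw [hx]; exact haB
    · apply hcon B hBA _ haB
      have h1 : B.relIndex A ≠ 1 := by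
        intro h1
        exact haB (Subgroup.relIndex_eq_one.mp h1 ha)
      have hdvd : B.relIndex A ∣ Nat.card ↥A := Subgroup.relIndex_dvd_card B A
      obtain ⟨n, hn⟩ := (IsPGroup.iff_card).mp hAp
      rw [hn] at hdvd
      obtain ⟨k, hk, hk'⟩ := (Nat.dvd_prime_pow hpp).mp hdvd
      have hk1 : k ≠ 0 := by
        intro h0
        apply h1
        rw [hk', h0, pow_zero]
      apply le_antisymm hrel
      rw [hk']
      calc p = p ^ 1 := (pow_one p).symm
        _ ≤ p ^ k := Nat.pow_le_pow_right hpp.pos (Nat.one_le_iff_ne_zero.mpr hk1)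
  rw [Subgroup.mem_centralizer_iff]
  intro x hx
  exact ((Subgroup.mem_centralizer_iff.mp (hQa hx)) a (Set.mem_singleton a)).symm

end small

section main9
variable {G : Type*} [Group G] [Finite G]
variable {V M : Subgroup G}

/-- the reduced configuration: a hyperplane `B` of `A`, `V₀ = C_V(B)`, `H₀ = C_Q(B)⟨a⟩` -/
theorem hyper_setup [hp : Fact (Nat.Prime 2)] (s : FFSetup 2 V M) {A B : Subgroup G} {a : G}
    (hAM : A ≤ M) (hA : Cfsg.IsElementaryAbelian 2 A) (ha : a ∈ A) (hBA : B ≤ A)
    (hnc : ¬ (qp 2 M ⊓ Subgroup.centralizer (B : Set G) ≤ Subgroup.centralizer ({a} : Set G))) :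
    FFSetup 2 (V ⊓ Subgroup.centralizer (B : Set G))
      ((qp 2 M ⊓ Subgroup.centralizer (B : Set G)) ⊔ Subgroup.zpowers a) := by
  have hcommA : ∀ x ∈ A, ∀ y ∈ A, x * y = y * x := fun x hx y hy => by
    have := hA.1.is_comm.comm (⟨x, hx⟩ : ↥A) ⟨y, hy⟩
    exact congrArg Subtype.val this
  have haM : a ∈ M := hAM ha
  have ha2 : a ^ 2 = 1 := hA.2 a ha
  have haB : a ∈ Subgroup.centralizer (B : Set G) := by
    rw [Subgroup.mem_centralizer_iff]
    intro b hb
    exact hcommA b (hBA hb) a ha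
  have hBp : IsPGroup 2 ↥B := by
    intro x
    refine ⟨1, ?_⟩
    apply Subtype.ext
    rw [pow_one]
    simpa using hA.2 x (hBA x.2)
  have hNCB : Subgroup.centralizer (B : Set G) ≤
      Subgroup.normalizer ((Subgroup.centralizer (B : Set G) : Subgroup G) : Set G) :=
    (Subgroup.centralizer_le_normalizer _).trans (normalizer_le_normalizer_centralizer B)
  have hR : (Nat.card ↥(qp 2 M ⊓ Subgroup.centralizer (B : Set G))).Coprime 2 :=
    Nat.Coprime.coprime_dvd_left (Subgroup.card_dvd_of_le inf_le_left) (qp_coprime M)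
  have haN : a ∈ Subgroup.normalizer
      ((qp 2 M ⊓ Subgroup.centralizer (B : Set G) : Subgroup G) : Set G) :=
    normalizer_inf_normalizer_le _ _ ⟨qp_normalizer M haM, hNCB haB⟩
  have haC : a ∉ Subgroup.centralizer
      ((qp 2 M ⊓ Subgroup.centralizer (B : Set G) : Subgroup G) : Set G) := by
    intro h
    apply hnc
    intro x hx
    rw [Subgroup.mem_centralizer_iff]
    intro y hy
    rw [Set.mem_singleton_iff] at hy
    rw [hy]
    exact (Subgroup.mem_centralizer_iff.mp h x hx).symm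
  have hH₀le : (qp 2 M ⊓ Subgroup.centralizer (B : Set G)) ⊔ Subgroup.zpowers a ≤
      M ⊓ Subgroup.centralizer (B : Set G) :=
    sup_le (inf_le_inf_right _ (qp_le M)) (Subgroup.zpowers_le.mpr (Subgroup.mem_inf.mpr ⟨haM, haB⟩))
  have hMB : M ⊓ Subgroup.centralizer (B : Set G) ≤
      Subgroup.normalizer ((V ⊓ Subgroup.centralizer (B : Set G) : Subgroup G) : Set G) := by
    intro g hg
    obtain ⟨hg1, hg2⟩ := Subgroup.mem_inf.mp hg
    exact normalizer_inf_normalizer_le _ _ ⟨s.hHV hg1, hNCB hg2⟩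
  have hHN : (qp 2 M ⊓ Subgroup.centralizer (B : Set G)) ⊔ Subgroup.zpowers a ≤
      Subgroup.normalizer ((V ⊓ Subgroup.centralizer (B : Set G) : Subgroup G) : Set G) :=
    hH₀le.trans hMB
  have hHNR : (qp 2 M ⊓ Subgroup.centralizer (B : Set G)) ⊔ Subgroup.zpowers a ≤
      Subgroup.normalizer ((qp 2 M ⊓ Subgroup.centralizer (B : Set G) : Subgroup G) : Set G) :=
    sup_le Subgroup.le_normalizer (Subgroup.zpowers_le.mpr haN)
  -- odd-order elements of `C_Q(B)` centralizing `C_V(B)` are trivial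
  have hRV : ∀ y ∈ qp 2 M ⊓ Subgroup.centralizer (B : Set G),
      y ∈ Subgroup.centralizer ((V ⊓ Subgroup.centralizer (B : Set G) : Subgroup G) : Set G) →
      y = 1 := by
    intro y hy hyV
    obtain ⟨hyQ, hyB⟩ := Subgroup.mem_inf.mp hy
    have h1 := pq_lemma_elem (p := 2) hBp (qp_orderOf_coprime hyQ) hyB (Nat.card ↥V) V le_rfl
      s.V_pgroup ((hBA.trans hAM).trans s.hHV) (s.hHV (qp_le M hyQ))
      (fun u hu => (Subgroup.mem_centralizer_iff.mp hyV u hu).symm)
    exact s.eq_one_of_centralizes (qp_le M hyQ) h1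
  refine ⟨⟨⟨⟨fun x y => Subtype.ext (s.V_comm x (inf_le_left (a := V) x.2) y
    (inf_le_left (a := V) y.2))⟩⟩, fun g hg => s.hV.2 g (inf_le_left (a := V) hg)⟩, hHN, ?_,
    split_core hR haN ha2 haC⟩
  rw [eq_bot_iff]
  intro g hg
  obtain ⟨hgH, hgV⟩ := Subgroup.mem_inf.mp hg
  rw [Subgroup.mem_bot]
  have hgR : g ∈ Subgroup.centralizer
      ((qp 2 M ⊓ Subgroup.centralizer (B : Set G) : Subgroup G) : Set G) := by
    rw [Subgroup.mem_centralizer_iff]
    intro r hr
    have h1 : ⁅g, r⁆ ∈ qp 2 M ⊓ Subgroup.centralizer (B : Set G) := by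
      rw [commutatorElement_def]
      exact Subgroup.mul_mem _ (conj_mem_of_mem_normalizer' (hHNR hgH) hr) (Subgroup.inv_mem _ hr)
    have h2 : ⁅g, r⁆ ∈ Subgroup.centralizer
        ((V ⊓ Subgroup.centralizer (B : Set G) : Subgroup G) : Set G) := by
      have e : ⁅g, r⁆ = g * (r * g⁻¹ * r⁻¹) := by rw [commutatorElement_def]; group
      rw [e]
      have hrN := normalizer_le_normalizer_centralizer _ (hHN (Subgroup.mem_sup_left hr))
      exact Subgroup.mul_mem _ hgV (conj_mem_of_mem_normalizer' hrN (Subgroup.inv_mem _ hgV))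
    have h3 := hRV _ h1 h2
    exact (commutatorElement_eq_one_iff_mul_comm.mp h3).symm
  exact hRV g (split_cent hR haN ha2 haC hgH hgR) hgV

/-- **small offenders**: an elementary abelian `2`-subgroup `A` with `|V : C_V(A)| < |A|²` forces a
subgroup `SL₂(2)` -/
theorem small_offender_sl2 [hp : Fact (Nat.Prime 2)] (s : FFSetup 2 V M) :
    ∀ n : ℕ, ∀ A : Subgroup G, Nat.card ↥A = n → A ≤ M → Cfsg.IsElementaryAbelian 2 A →
      (V ⊓ Subgroup.centralizer (A : Set G)).relIndex V < Nat.card ↥A ^ 2 →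
      ∃ E : Subgroup G, E ≤ M ∧
        Nonempty (↥E ≃* Matrix.SpecialLinearGroup (Fin 2) (ZMod 2)) := by
  intro n
  induction n using Nat.strong_induction_on with
  | _ n ih =>
  intro A hn hAM hA hsmall
  have hcommA : ∀ x ∈ A, ∀ y ∈ A, x * y = y * x := fun x hx y hy => by
    have := hA.1.is_comm.comm (⟨x, hx⟩ : ↥A) ⟨y, hy⟩
    exact congrArg Subtype.val this
  by_cases hex : ∃ B : Subgroup G, B ≤ A ∧ B ≠ A ∧
      (V ⊓ Subgroup.centralizer (B : Set G)).relIndex V < Nat.card ↥B ^ 2
  · obtain ⟨B, hBA, hBne, hB⟩ := hex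
    have hlt : Nat.card ↥B < n := by
      rw [← hn]
      by_contra hcon
      push Not at hcon
      exact hBne (Subgroup.eq_of_le_of_card_ge hBA hcon)
    exact ih _ hlt B rfl (hBA.trans hAM)
      ⟨⟨⟨fun x y => Subtype.ext (hcommA x (hBA x.2) y (hBA y.2))⟩⟩, fun g hg => hA.2 g (hBA hg)⟩ hB
  push Not at hex
  have hA1 : A ≠ ⊥ := by
    intro h
    rw [h, centralizer_bot_eq, inf_top_eq, Subgroup.relIndex_self, Subgroup.card_bot] at hsmall
    omega
  obtain ⟨⟨a, ha⟩, hane⟩ := (Subgroup.ne_bot_iff_exists_ne_one).mp hA1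
  have ha1 : a ≠ 1 := fun h => hane (Subtype.ext h)
  have haM : a ∈ M := hAM ha
  have ha2 : a ^ 2 = 1 := hA.2 a ha
  have haQ : a ∉ Subgroup.centralizer (qp 2 M : Set G) := by
    intro h
    have h1 := s.mem_qp_of_centralizes haM h
    have h2 : orderOf a ∣ 2 := orderOf_dvd_of_pow_eq_one ha2
    have h3 : orderOf a = 1 := Nat.Coprime.eq_one_of_dvd (qp_orderOf_coprime h1) h2
    exact ha1 (orderOf_eq_one_iff.mp h3)
  obtain ⟨B, hBA, hrel, haB, hnc⟩ := exists_hyper_of_not_cent hAM hA ha haQ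
  have hBne : B ≠ A := fun h => haB (h ▸ ha)
  have hB2 := hex B hBA hBne
  have hcardA : Nat.card ↥A = Nat.card ↥B * 2 := by
    rw [card_eq_card_mul_relIndex hBA, hrel]
  -- `A = B ⟨a⟩`
  have hAeq : A = B ⊔ Subgroup.zpowers a := by
    apply le_antisymm _ (sup_le hBA (Subgroup.zpowers_le.mpr ha))
    have h1 := Subgroup.relIndex_mul_relIndex B (B ⊔ Subgroup.zpowers a) A le_sup_left
      (sup_le hBA (Subgroup.zpowers_le.mpr ha))
    rw [hrel] at h1
    have h2 : B.relIndex (B ⊔ Subgroup.zpowers a) ≠ 1 := by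
      intro h
      apply haB
      exact Subgroup.relIndex_eq_one.mp h (Subgroup.mem_sup_right (Subgroup.mem_zpowers a))
    have h3 : B.relIndex (B ⊔ Subgroup.zpowers a) ∣ 2 := Dvd.intro _ h1
    rcases (Nat.dvd_prime Nat.prime_two).mp h3 with h | h
    · exact absurd h h2
    · rw [h] at h1
      have h4 : (B ⊔ Subgroup.zpowers a).relIndex A = 1 := by omega
      exact Subgroup.relIndex_eq_one.mp h4
  have hCA : Subgroup.centralizer (A : Set G) =
      Subgroup.centralizer (B : Set G) ⊓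
        Subgroup.centralizer ((Subgroup.zpowers a : Subgroup G) : Set G) := by
    conv_lhs => rw [hAeq]
    exact centralizer_sup_eq _ _
  have s₀ := hyper_setup s hAM hA ha hBA hnc
  have haH₀ : a ∈ (qp 2 M ⊓ Subgroup.centralizer (B : Set G)) ⊔ Subgroup.zpowers a :=
    Subgroup.mem_sup_right (Subgroup.mem_zpowers a)
  have hinf : V ⊓ Subgroup.centralizer (B : Set G) ⊓
      Subgroup.centralizer ((Subgroup.zpowers a : Subgroup G) : Set G) =
      V ⊓ Subgroup.centralizer (A : Set G) := by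
    rw [hCA, inf_assoc]
  have hr₀ : (V ⊓ Subgroup.centralizer (B : Set G) ⊓
      Subgroup.centralizer ((Subgroup.zpowers a : Subgroup G) : Set G)).relIndex
        (V ⊓ Subgroup.centralizer (B : Set G)) = 2 := by
    have hmul := Subgroup.relIndex_mul_relIndex (V ⊓ Subgroup.centralizer (A : Set G))
      (V ⊓ Subgroup.centralizer (B : Set G)) V
      (by rw [← hinf]; exact inf_le_left) inf_le_left
    rw [hinf]
    have hpos : 0 < (V ⊓ Subgroup.centralizer (B : Set G)).relIndex V :=
      Nat.pos_of_dvd_of_pos (Subgroup.relIndex_dvd_card _ _) Nat.card_pos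
    have hlt4 : (V ⊓ Subgroup.centralizer (A : Set G)).relIndex
        (V ⊓ Subgroup.centralizer (B : Set G)) < 4 := by
      by_contra hcon
      push Not at hcon
      have h1 : 4 * (V ⊓ Subgroup.centralizer (B : Set G)).relIndex V ≤
          (V ⊓ Subgroup.centralizer (A : Set G)).relIndex V := by
        rw [← hmul]
        exact Nat.mul_le_mul_right _ hcon
      rw [hcardA] at hsmall
      nlinarith
    have hdvd : (V ⊓ Subgroup.centralizer (A : Set G)).relIndex
        (V ⊓ Subgroup.centralizer (B : Set G)) ∣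
        Nat.card ↥(V ⊓ Subgroup.centralizer (B : Set G)) := Subgroup.relIndex_dvd_card _ _
    obtain ⟨k, hk⟩ := (IsPGroup.iff_card).mp s₀.V_pgroup
    rw [hk] at hdvd
    obtain ⟨j, hj, hj'⟩ := (Nat.dvd_prime_pow Nat.prime_two).mp hdvd
    have hj0 : j ≠ 0 := by
      intro h0
      rw [h0, pow_zero] at hj'
      have h1 : V ⊓ Subgroup.centralizer (B : Set G) ≤ V ⊓ Subgroup.centralizer (A : Set G) :=
        Subgroup.relIndex_eq_one.mp hj'
      apply ha1
      apply s₀.eq_one_of_centralizes haH₀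
      rw [Subgroup.mem_centralizer_iff]
      intro v hv
      have h2 := (Subgroup.mem_inf.mp (h1 hv)).2
      exact Subgroup.mem_centralizer_iff.mp h2 a ha |>.symm
    have hj2 : j < 2 := by
      by_contra hcon
      push Not at hcon
      have : 2 ^ 2 ≤ 2 ^ j := Nat.pow_le_pow_right (by norm_num) hcon
      omega
    have : j = 1 := by omega
    rw [hj', this, pow_one]
  obtain ⟨E, hE, hiso⟩ := transvection_sl2 s₀ haH₀ ha1 ha2 hr₀
  refine ⟨E, hE.trans ?_, hiso⟩
  exact sup_le (inf_le_left.trans (qp_le M)) (Subgroup.zpowers_le.mpr haM)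

end main9

end Cfsg.Agent.Lib.Helper3
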