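import Mathlib
import Cfsg.Agent.Lib.Helper3.FF9

set_option autoImplicit false
set_option linter.unusedSectionVars false
set_option linter.style.haveILetI false
set_option linter.unusedSimpArgs false
open scoped commutatorElement

/-! Small offenders for `p = 2`, with the plane on which the `SL₂(2)` acts. -/

namespace Cfsg.Agent.Lib.Helper3

section ff10
variable {G : Type*} [Group G] [Finite G]
variable {V H : Subgroup G}

/-- a transvection in a faithful group with self-centralizing `2'`-core lies in an `SL₂(2)` -/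
theorem transvection_blk [hp : Fact (Nat.Prime 2)] (s : FFSetup 2 V H) {a : G} (haH : a ∈ H)
    (ha1 : a ≠ 1) (ha2 : a ^ 2 = 1)
    (hidx : (V ⊓ Subgroup.centralizer ((Subgroup.zpowers a : Subgroup G) : Set G)).relIndex V = 2) :
    ∃ E : Subgroup G, IsBlk 2 V H E := by
  have hcardA : Nat.card ↥(Subgroup.zpowers a) = 2 := by
    rw [Nat.card_zpowers]
    exact orderOf_eq_of_pow_prime (p := 2) ha2 ha1
  have hAH : Subgroup.zpowers a ≤ H := Subgroup.zpowers_le.mpr haH
  have hpow : ∀ x ∈ Subgroup.zpowers a, x ^ 2 = 1 := by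
    intro x hx
    obtain ⟨k, rfl⟩ := Subgroup.mem_zpowers_iff.mp hx
    rw [← zpow_natCast, ← zpow_mul, mul_comm, zpow_mul, zpow_natCast, ha2, one_zpow]
  have hVcard : Nat.card ↥V =
      Nat.card ↥(V ⊓ Subgroup.centralizer ((Subgroup.zpowers a : Subgroup G) : Set G)) * 2 := by
    rw [card_eq_card_mul_relIndex (inf_le_left :
      V ⊓ Subgroup.centralizer ((Subgroup.zpowers a : Subgroup G) : Set G) ≤ V), hidx]
  have hne : ⁅V, Subgroup.zpowers a⁆ ≠ ⊥ := by
    intro h
    rw [Subgroup.commutator_eq_bot_iff_le_centralizer] at h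
    rw [inf_eq_left.mpr h, Subgroup.relIndex_self] at hidx
    omega
  have hbo : Cfsg.IsBestOffenderOn 2 V (Subgroup.zpowers a) := by
    refine ⟨?_, ?_, ?_⟩
    · intro B hB
      rcases eq_bot_or_eq_of_card_prime (p := 2) hcardA hB with h | h
      · rw [h, hcardA, Subgroup.card_bot, one_mul]
        have e : V ⊓ Subgroup.centralizer (((⊥ : Subgroup G) : Subgroup G) : Set G) = V := by
          rw [Subgroup.coe_bot, Subgroup.centralizer_eq_top_iff_subset.mpr]
          · exact inf_top_eq _
          · intro x hx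
            rw [Set.mem_singleton_iff] at hx
            rw [hx]
            exact Subgroup.one_mem _
        rw [e, hVcard, mul_comm]
      · rw [h]
    · rw [Subgroup.commutator_le]
      intro x hx y hy
      obtain ⟨i, rfl⟩ := Subgroup.mem_zpowers_iff.mp hx
      obtain ⟨j, rfl⟩ := Subgroup.mem_zpowers_iff.mp hy
      have : ⁅a ^ i, a ^ j⁆ = 1 :=
        commutatorElement_eq_one_iff_commute.mpr (Commute.zpow_zpow_self a i j)
      rw [this]
      exact Subgroup.one_mem _
    · intro x hx
      rw [hpow x hx]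
      exact Subgroup.one_mem _
  have m : MinBO 2 V H (Subgroup.zpowers a) := by
    refine ⟨hAH, hbo, hne, ?_⟩
    intro B hB _ hBne
    rcases eq_bot_or_eq_of_card_prime (p := 2) hcardA hB with h | h
    · exfalso
      apply hBne
      rw [h]
      exact Subgroup.commutator_bot_right V
    · exact h
  exact ⟨_, m.isBlk s⟩

end ff10

section main10
variable {G : Type*} [Group G] [Finite G]
variable {V M : Subgroup G}

/-- **small offenders**: an elementary abelian `2`-subgroup `A` with `|V : C_V(A)| < |A|²` forces a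
subgroup `SL₂(2)` -/
theorem small_offender_blk [hp : Fact (Nat.Prime 2)] (s : FFSetup 2 V M) :
    ∀ n : ℕ, ∀ A : Subgroup G, Nat.card ↥A = n → A ≤ M → Cfsg.IsElementaryAbelian 2 A →
      (V ⊓ Subgroup.centralizer (A : Set G)).relIndex V < Nat.card ↥A ^ 2 →
      ∃ E U : Subgroup G, E ≤ M ∧ U ≤ V ∧ E ≤ Subgroup.normalizer (U : Set G) ∧
        Nat.card ↥U = 4 ∧ E ⊓ Subgroup.centralizer (U : Set G) = ⊥ ∧
        Nonempty (↥E ≃* Matrix.SpecialLinearGroup (Fin 2) (ZMod 2)) := by
  intro n
  induction n using Nat.strong_induction_on with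
  | _ n ih =>
  intro A hn hAM hA hsmall
  have hcommA : ∀ x ∈ A, ∀ y ∈ A, x * y = y * x := fun x hx y hy => by
    have := hA.1.is_comm.comm (⟨x, hx⟩ : ↥A) ⟨y, hy⟩
    exact congrArg Subtype.val this
  by_cases hex : ∃ B : Subgroup G, B ≤ A ∧ B ≠ A ∧
      (V ⊓ Subgroup.centralizer (B : Set G)).relIndex V < Nat.card ↥B ^ 2
  · obtain ⟨B, hBA, hBne, hB⟩ := hex
    have hlt : Nat.card ↥B < n := by
      rw [← hn]
      by_contra hcon
      push Not at hcon
      exact hBne (Subgroup.eq_of_le_of_card_ge hBA hcon)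
    exact ih _ hlt B rfl (hBA.trans hAM)
      ⟨⟨⟨fun x y => Subtype.ext (hcommA x (hBA x.2) y (hBA y.2))⟩⟩, fun g hg => hA.2 g (hBA hg)⟩ hB
  push Not at hex
  have hA1 : A ≠ ⊥ := by
    intro h
    rw [h, centralizer_bot_eq, inf_top_eq, Subgroup.relIndex_self, Subgroup.card_bot] at hsmall
    omega
  obtain ⟨⟨a, ha⟩, hane⟩ := (Subgroup.ne_bot_iff_exists_ne_one).mp hA1
  have ha1 : a ≠ 1 := fun h => hane (Subtype.ext h)
  have haM : a ∈ M := hAM ha
  have ha2 : a ^ 2 = 1 := hA.2 a ha
  have haQ : a ∉ Subgroup.centralizer (qp 2 M : Set G) := by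
    intro h
    have h1 := s.mem_qp_of_centralizes haM h
    have h2 : orderOf a ∣ 2 := orderOf_dvd_of_pow_eq_one ha2
    have h3 : orderOf a = 1 := Nat.Coprime.eq_one_of_dvd (qp_orderOf_coprime h1) h2
    exact ha1 (orderOf_eq_one_iff.mp h3)
  obtain ⟨B, hBA, hrel, haB, hnc⟩ := exists_hyper_of_not_cent hAM hA ha haQ
  have hBne : B ≠ A := fun h => haB (h ▸ ha)
  have hB2 := hex B hBA hBne
  have hcardA : Nat.card ↥A = Nat.card ↥B * 2 := by
    rw [card_eq_card_mul_relIndex hBA, hrel]
  -- `A = B ⟨a⟩`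
  have hAeq : A = B ⊔ Subgroup.zpowers a := by
    apply le_antisymm _ (sup_le hBA (Subgroup.zpowers_le.mpr ha))
    have h1 := Subgroup.relIndex_mul_relIndex B (B ⊔ Subgroup.zpowers a) A le_sup_left
      (sup_le hBA (Subgroup.zpowers_le.mpr ha))
    rw [hrel] at h1
    have h2 : B.relIndex (B ⊔ Subgroup.zpowers a) ≠ 1 := by
      intro h
      apply haB
      exact Subgroup.relIndex_eq_one.mp h (Subgroup.mem_sup_right (Subgroup.mem_zpowers a))
    have h3 : B.relIndex (B ⊔ Subgroup.zpowers a) ∣ 2 := Dvd.intro _ h1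
    rcases (Nat.dvd_prime Nat.prime_two).mp h3 with h | h
    · exact absurd h h2
    · rw [h] at h1
      have h4 : (B ⊔ Subgroup.zpowers a).relIndex A = 1 := by omega
      exact Subgroup.relIndex_eq_one.mp h4
  have hCA : Subgroup.centralizer (A : Set G) =
      Subgroup.centralizer (B : Set G) ⊓
        Subgroup.centralizer ((Subgroup.zpowers a : Subgroup G) : Set G) := by
    conv_lhs => rw [hAeq]
    exact centralizer_sup_eq _ _
  have s₀ := hyper_setup s hAM hA ha hBA hnc
  have haH₀ : a ∈ (qp 2 M ⊓ Subgroup.centralizer (B : Set G)) ⊔ Subgroup.zpowers a :=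
    Subgroup.mem_sup_right (Subgroup.mem_zpowers a)
  have hinf : V ⊓ Subgroup.centralizer (B : Set G) ⊓
      Subgroup.centralizer ((Subgroup.zpowers a : Subgroup G) : Set G) =
      V ⊓ Subgroup.centralizer (A : Set G) := by
    rw [hCA, inf_assoc]
  have hr₀ : (V ⊓ Subgroup.centralizer (B : Set G) ⊓
      Subgroup.centralizer ((Subgroup.zpowers a : Subgroup G) : Set G)).relIndex
        (V ⊓ Subgroup.centralizer (B : Set G)) = 2 := by
    have hmul := Subgroup.relIndex_mul_relIndex (V ⊓ Subgroup.centralizer (A : Set G))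
      (V ⊓ Subgroup.centralizer (B : Set G)) V
      (by rw [← hinf]; exact inf_le_left) inf_le_left
    rw [hinf]
    have hpos : 0 < (V ⊓ Subgroup.centralizer (B : Set G)).relIndex V :=
      Nat.pos_of_dvd_of_pos (Subgroup.relIndex_dvd_card _ _) Nat.card_pos
    have hlt4 : (V ⊓ Subgroup.centralizer (A : Set G)).relIndex
        (V ⊓ Subgroup.centralizer (B : Set G)) < 4 := by
      by_contra hcon
      push Not at hcon
      have h1 : 4 * (V ⊓ Subgroup.centralizer (B : Set G)).relIndex V ≤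
          (V ⊓ Subgroup.centralizer (A : Set G)).relIndex V := by
        rw [← hmul]
        exact Nat.mul_le_mul_right _ hcon
      rw [hcardA] at hsmall
      nlinarith
    have hdvd : (V ⊓ Subgroup.centralizer (A : Set G)).relIndex
        (V ⊓ Subgroup.centralizer (B : Set G)) ∣
        Nat.card ↥(V ⊓ Subgroup.centralizer (B : Set G)) := Subgroup.relIndex_dvd_card _ _
    obtain ⟨k, hk⟩ := (IsPGroup.iff_card).mp s₀.V_pgroup
    rw [hk] at hdvd
    obtain ⟨j, hj, hj'⟩ := (Nat.dvd_prime_pow Nat.prime_two).mp hdvd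
    have hj0 : j ≠ 0 := by
      intro h0
      rw [h0, pow_zero] at hj'
      have h1 : V ⊓ Subgroup.centralizer (B : Set G) ≤ V ⊓ Subgroup.centralizer (A : Set G) :=
        Subgroup.relIndex_eq_one.mp hj'
      apply ha1
      apply s₀.eq_one_of_centralizes haH₀
      rw [Subgroup.mem_centralizer_iff]
      intro v hv
      have h2 := (Subgroup.mem_inf.mp (h1 hv)).2
      exact Subgroup.mem_centralizer_iff.mp h2 a ha |>.symm
    have hj2 : j < 2 := by
      by_contra hcon
      push Not at hcon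
      have : 2 ^ 2 ≤ 2 ^ j := Nat.pow_le_pow_right (by norm_num) hcon
      omega
    have : j = 1 := by omega
    rw [hj', this, pow_one]
  obtain ⟨E, hE⟩ := transvection_blk s₀ haH₀ ha1 ha2 hr₀
  have hEH := hE.le_H
  refine ⟨E, ⁅V ⊓ Subgroup.centralizer (B : Set G), E⁆, hEH.trans ?_,
    (s₀.comm_le hEH).trans inf_le_left, ?_, ?_, ?_, hE.iso s₀⟩
  · exact sup_le (inf_le_left.trans (qp_le M)) (Subgroup.zpowers_le.mpr haM)
  · intro e he
    exact normalizer_inf_le_normalizer_commutator _ E ⟨s₀.hHV (hEH he), Subgroup.le_normalizer he⟩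
  · have := hE.card_U s₀
    rw [this]; norm_num
  · rw [eq_bot_iff]
    intro g hg
    obtain ⟨hg1, hg2⟩ := Subgroup.mem_inf.mp hg
    rw [← hE.faithful s₀]
    exact Subgroup.mem_inf.mpr ⟨hg1, Subgroup.mem_inf.mpr ⟨hEH hg1, hg2⟩⟩

end main10

end Cfsg.Agent.Lib.Helper3
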