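import Mathlib

set_option autoImplicit false

namespace Cfsg.Agent.Lib.Helper3

open scoped BigOperators

section
variable {V : Type*} [CommGroup V] {H : Type*} [Group H] [Finite H]

/-- the norm map of the action of `Q` -/
noncomputable def normMap (ρ : H →* MulAut V) (Q : Subgroup H) : V →* V :=
  letI : Fintype ↥Q := Fintype.ofFinite _
  ∏ g : ↥Q, (ρ (g : H)).toMonoidHom

lemma normMap_apply (ρ : H →* MulAut V) (Q : Subgroup H) (v : V) :
    normMap ρ Q v = (letI : Fintype ↥Q := Fintype.ofFinite _; ∏ g : ↥Q, ρ (g : H) v) := by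
  unfold normMap
  rw [MonoidHom.finsetProd_apply]
  rfl

/-- Coprime action on an abelian `p`-group, with an acting `p`-group normalizing `Q`: there is a
fixed point of `A` of order `p` which is not fixed by `Q`. -/
theorem exists_fixed_not_fixed [Finite V] (ρ : H →* MulAut V) {p : ℕ} [Fact p.Prime] (hV : IsPGroup p V)
    (Q A : Subgroup H) (hQ : (Nat.card ↥Q).Coprime p) (hA : IsPGroup p ↥A)
    (hAQ : A ≤ Subgroup.normalizer (Q : Set H)) (hne : ∃ g ∈ Q, ∃ v : V, ρ g v ≠ v) :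
    ∃ v : V, v ≠ 1 ∧ v ^ p = 1 ∧ (∀ a ∈ A, ρ a v = v) ∧ ∃ g ∈ Q, ρ g v ≠ v := by
  classical
  let _ : Fintype ↥Q := Fintype.ofFinite _
  set τ := normMap ρ Q with hτ
  have hτapp : ∀ v, τ v = ∏ g : ↥Q, ρ (g : H) v := fun v => by
    rw [hτ, normMap_apply]
  -- invariance under Q
  have hτQ : ∀ g ∈ Q, ∀ v, τ (ρ g v) = τ v := by
    intro g hg v
    rw [hτapp, hτapp]
    have := Equiv.prod_comp (Equiv.mulRight (⟨g, hg⟩ : ↥Q)) (fun x : ↥Q => ρ (x : H) v)
    rw [← this]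
    apply Finset.prod_congr rfl
    intro x _
    show ρ (x : H) (ρ g v) = ρ ((x * ⟨g, hg⟩ : ↥Q) : H) v
    rw [Subgroup.coe_mul, map_mul]; rfl
  -- equivariance under A
  have hτA : ∀ a ∈ A, ∀ v, τ (ρ a v) = ρ a (τ v) := by
    intro a ha v
    rw [hτapp, hτapp, map_prod]
    have hn : a⁻¹ ∈ Subgroup.normalizer (Q : Set H) := Subgroup.inv_mem _ (hAQ ha)
    let e : ↥Q ≃ ↥Q :=
      { toFun := fun x => ⟨a⁻¹ * x * a⁻¹⁻¹, (Subgroup.mem_set_normalizer_iff.mp hn x).mp x.2⟩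
        invFun := fun x => ⟨a * x * a⁻¹, (Subgroup.mem_set_normalizer_iff.mp (hAQ ha) x).mp x.2⟩
        left_inv := fun x => by apply Subtype.ext; simp only []; group
        right_inv := fun x => by apply Subtype.ext; simp only []; group }
    have := Equiv.prod_comp e (fun x : ↥Q => ρ a (ρ (x : H) v))
    rw [← this]
    apply Finset.prod_congr rfl
    intro x _
    show ρ (x : H) (ρ a v) = ρ a (ρ (a⁻¹ * x * a⁻¹⁻¹) v)
    rw [← MulAut.mul_apply, ← MulAut.mul_apply, ← map_mul, ← map_mul]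
    congr 2
    group
  set V₁ : Subgroup V := τ.ker with hV₁
  -- V₁ meets the fixed points of Q trivially
  have hdisj : ∀ v ∈ V₁, (∀ g ∈ Q, ρ g v = v) → v = 1 := by
    intro v hv hfix
    have h1 : τ v = 1 := hv
    rw [hτapp] at h1
    have h2 : ∏ g : ↥Q, ρ (g : H) v = v ^ (Nat.card ↥Q) := by
      have h0 : ∀ g ∈ (Finset.univ : Finset ↥Q), ρ (g : H) v = v := fun g _ => hfix (g : H) g.2
      rw [Finset.prod_congr rfl h0, Finset.prod_const, Finset.card_univ,
        Nat.card_eq_fintype_card]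
    rw [h2] at h1
    obtain ⟨k, hk⟩ := hV v
    have h3 : orderOf v ∣ Nat.card ↥Q := orderOf_dvd_of_pow_eq_one h1
    have h4 : orderOf v ∣ p ^ k := orderOf_dvd_of_pow_eq_one hk
    have h5 : (Nat.card ↥Q).Coprime (p ^ k) := Nat.Coprime.pow_right k hQ
    exact orderOf_eq_one_iff.mp (Nat.eq_one_of_dvd_coprimes h5 h3 h4)
  -- V₁ is nontrivial
  obtain ⟨g, hg, v, hgv⟩ := hne
  have hu : ρ g v * v⁻¹ ∈ V₁ := by
    show τ (ρ g v * v⁻¹) = 1
    rw [map_mul, map_inv, hτQ g hg, mul_inv_cancel]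
  have hune : ρ g v * v⁻¹ ≠ 1 := fun h => hgv (mul_inv_eq_one.mp h)
  -- Ω₁(V₁)
  set Ω : Subgroup V := V₁ ⊓ (powMonoidHom p : V →* V).ker with hΩ
  have hV₁p : IsPGroup p ↥V₁ := hV.to_subgroup V₁
  have hV₁nt : Nontrivial ↥V₁ := ⟨⟨⟨_, hu⟩, 1, fun h => hune (congrArg Subtype.val h)⟩⟩
  have hpdvd : p ∣ Nat.card ↥V₁ := by
    rcases hV₁p.card_eq_or_dvd with h | h
    · exfalso
      have := (Nat.card_eq_one_iff_unique.mp h).1
      exact not_subsingleton ↥V₁ this
    · exact h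
  obtain ⟨x, hx⟩ := exists_prime_orderOf_dvd_card' p hpdvd
  have hxΩ : (x : V) ∈ Ω := by
    refine ⟨x.2, ?_⟩
    show (x : V) ^ p = 1
    have : x ^ p = 1 := by rw [← hx]; exact pow_orderOf_eq_one x
    exact_mod_cast congrArg Subtype.val this
  have hx1 : (x : V) ≠ 1 := by
    intro h
    have : x = 1 := Subtype.ext h
    rw [this, orderOf_one] at hx
    exact (Fact.out : p.Prime).one_lt.ne hx
  -- A acts on Ω
  have hAΩ : ∀ a ∈ A, ∀ w ∈ Ω, ρ a w ∈ Ω := by
    rintro a ha w ⟨hw1, hw2⟩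
    refine ⟨?_, ?_⟩
    · show τ (ρ a w) = 1
      rw [hτA a ha, show τ w = 1 from hw1, map_one]
    · show (ρ a w) ^ p = 1
      rw [← map_pow, show w ^ p = 1 from hw2, map_one]
  let actA : MulAction ↥A ↥Ω :=
    { smul := fun a w => ⟨ρ (a : H) w, hAΩ a a.2 w w.2⟩
      one_smul := fun w => by
        apply Subtype.ext
        show ρ ((1 : ↥A) : H) w = w
        rw [Subgroup.coe_one, map_one]; rfl
      mul_smul := fun a b w => by
        apply Subtype.ext
        show ρ ((a * b : ↥A) : H) w = ρ (a : H) (ρ (b : H) w)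
        rw [Subgroup.coe_mul, map_mul]; rfl }
  have hΩp : p ∣ Nat.card ↥Ω := by
    have hΩp' : IsPGroup p ↥Ω := hV.to_subgroup Ω
    rcases hΩp'.card_eq_or_dvd with h | h
    · exfalso
      have hs := (Nat.card_eq_one_iff_unique.mp h).1
      have := hs.elim (⟨x, hxΩ⟩ : ↥Ω) 1
      exact hx1 (congrArg Subtype.val this)
    · exact h
  have h1fix : (1 : ↥Ω) ∈ MulAction.fixedPoints ↥A ↥Ω := by
    intro a
    apply Subtype.ext
    show ρ (a : H) ((1 : ↥Ω) : V) = 1
    rw [Subgroup.coe_one, map_one]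
  obtain ⟨w, hwfix, hw1⟩ := hA.exists_fixed_point_of_prime_dvd_card_of_fixed_point ↥Ω hΩp h1fix
  refine ⟨(w : V), ?_, ?_, ?_, ?_⟩
  · intro h; exact hw1 (Subtype.ext h).symm
  · exact w.2.2
  · intro a ha
    have := hwfix ⟨a, ha⟩
    exact congrArg Subtype.val this
  · by_contra hcon
    push Not at hcon
    have := hdisj (w : V) w.2.1 hcon
    exact hw1 (Subtype.ext this).symm

end

end Cfsg.Agent.Lib.Helper3
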