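import Mathlib
import Cfsg.Agent.Lib.Helper3.Conj

set_option autoImplicit false
set_option linter.unusedSectionVars false
set_option linter.style.haveILetI false

/-! Fixed-point-free automorphisms of prime order: restriction to invariant subgroups, induced
automorphisms of quotients, invariant Sylow subgroups, and the partition argument for the
action of a Frobenius group on an abelian group. -/

namespace Cfsg.Agent.Lib.Helper3

section fpf
variable {G : Type*} [Group G]

/-- `φ` is fixed-point-free and its `r`-th power is trivial -/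
structure Fpf (φ : G ≃* G) (r : ℕ) : Prop where
  fix : ∀ g, φ g = g → g = 1
  pow : φ ^ r = 1

/-- invariance of a subgroup under an automorphism -/
def AutInv (φ : G ≃* G) (L : Subgroup G) : Prop := ∀ x ∈ L, φ x ∈ L

lemma autInv_top (φ : G ≃* G) : AutInv φ ⊤ := fun _ _ => Subgroup.mem_top _

lemma autInv_bot (φ : G ≃* G) : AutInv φ ⊥ := by
  intro x hx
  rw [Subgroup.mem_bot] at hx ⊢
  rw [hx, map_one]

lemma AutInv.inf {φ : G ≃* G} {A B : Subgroup G} (hA : AutInv φ A) (hB : AutInv φ B) :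
    AutInv φ (A ⊓ B) := fun x hx =>
  Subgroup.mem_inf.mpr ⟨hA x (Subgroup.mem_inf.mp hx).1, hB x (Subgroup.mem_inf.mp hx).2⟩

lemma AutInv.sup {φ : G ≃* G} {A B : Subgroup G} (hA : AutInv φ A) (hB : AutInv φ B) :
    AutInv φ (A ⊔ B) := by
  intro x hx
  have h1 : (A ⊔ B).map φ.toMonoidHom ≤ A ⊔ B := by
    rw [Subgroup.map_sup]
    apply sup_le
    · rintro _ ⟨a, ha, rfl⟩
      exact Subgroup.mem_sup_left (hA a ha)
    · rintro _ ⟨b, hb, rfl⟩
      exact Subgroup.mem_sup_right (hB b hb)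
  exact h1 (Subgroup.mem_map_of_mem _ hx)

lemma AutInv.map_eq [Finite G] {φ : G ≃* G} {L : Subgroup G} (h : AutInv φ L) :
    L.map φ.toMonoidHom = L := by
  apply Subgroup.eq_of_le_of_card_ge
  · rintro _ ⟨x, hx, rfl⟩
    exact h x hx
  · rw [Subgroup.card_map_of_injective φ.injective]

lemma AutInv.symm_mem [Finite G] {φ : G ≃* G} {L : Subgroup G} (h : AutInv φ L) {x : G}
    (hx : x ∈ L) : φ.symm x ∈ L := by
  rw [← h.map_eq] at hx
  obtain ⟨y, hy, rfl⟩ := hx
  have : φ.symm (φ.toMonoidHom y) = y := φ.symm_apply_apply y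
  rw [this]; exact hy

lemma AutInv.pow_mem {φ : G ≃* G} {L : Subgroup G} (h : AutInv φ L) (i : ℕ) {x : G}
    (hx : x ∈ L) : (φ ^ i) x ∈ L := by
  induction i with
  | zero => simpa using hx
  | succ i ih =>
    rw [pow_succ', MulAut.mul_apply]
    exact h _ ih

/-- the restriction of an automorphism to an invariant subgroup -/
def resAut [Finite G] (φ : G ≃* G) (L : Subgroup G) (h : AutInv φ L) : ↥L ≃* ↥L where
  toFun x := ⟨φ (x : G), h x x.2⟩
  invFun x := ⟨φ.symm (x : G), h.symm_mem x.2⟩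
  left_inv x := Subtype.ext (φ.symm_apply_apply (x : G))
  right_inv x := Subtype.ext (φ.apply_symm_apply (x : G))
  map_mul' x y := Subtype.ext (map_mul φ (x : G) (y : G))

@[simp] lemma resAut_coe [Finite G] (φ : G ≃* G) (L : Subgroup G) (h : AutInv φ L) (x : ↥L) :
    ((resAut φ L h x : ↥L) : G) = φ x := rfl

lemma resAut_pow_coe [Finite G] (φ : G ≃* G) (L : Subgroup G) (h : AutInv φ L) (i : ℕ) (x : ↥L) :
    ((((resAut φ L h) ^ i) x : ↥L) : G) = (φ ^ i) x := by
  induction i with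
  | zero => simp
  | succ i ih =>
    rw [pow_succ', MulAut.mul_apply, pow_succ', MulAut.mul_apply, resAut_coe, ih]

lemma Fpf.res [Finite G] {φ : G ≃* G} {r : ℕ} (hf : Fpf φ r) {L : Subgroup G} (h : AutInv φ L) :
    Fpf (resAut φ L h) r := by
  constructor
  · intro x hx
    have : φ x = x := congrArg Subtype.val hx
    exact Subtype.ext (hf.fix x this)
  · ext x
    rw [resAut_pow_coe, hf.pow]
    rfl

/-- the automorphism induced on the quotient by an invariant normal subgroup -/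
def quotAut [Finite G] (φ : G ≃* G) (N : Subgroup G) [N.Normal] (h : AutInv φ N) :
    G ⧸ N ≃* G ⧸ N :=
  QuotientGroup.congr N N φ h.map_eq

@[simp] lemma quotAut_mk [Finite G] (φ : G ≃* G) (N : Subgroup G) [N.Normal] (h : AutInv φ N)
    (x : G) : quotAut φ N h (QuotientGroup.mk x) = QuotientGroup.mk (φ x) := rfl

lemma quotAut_pow_mk [Finite G] (φ : G ≃* G) (N : Subgroup G) [N.Normal] (h : AutInv φ N)
    (i : ℕ) (x : G) :
    ((quotAut φ N h) ^ i) (QuotientGroup.mk x) = QuotientGroup.mk ((φ ^ i) x) := by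
  induction i with
  | zero => simp
  | succ i ih =>
    rw [pow_succ', MulAut.mul_apply, pow_succ', MulAut.mul_apply, ih, quotAut_mk]

lemma Fpf.quot [Finite G] {φ : G ≃* G} {r : ℕ} (hf : Fpf φ r) {N : Subgroup G} [N.Normal]
    (h : AutInv φ N) : Fpf (quotAut φ N h) r := by
  constructor
  · intro y hy
    induction y using QuotientGroup.induction_on with
    | H x =>
      rw [quotAut_mk] at hy
      have h1 : x / φ x ∈ N := by
        have := (QuotientGroup.eq_iff_div_mem (N := N)).mp hy.symm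
        exact this
      have hfN : MonoidHom.FixedPointFree (resAut φ N h) := (hf.res h).fix
      obtain ⟨n, hn⟩ := hfN.commutatorMap_surjective ⟨x / φ x, h1⟩
      have h2 : (n : G) / φ n = x / φ x := congrArg Subtype.val hn
      have hfG : MonoidHom.FixedPointFree φ := hf.fix
      have h3 : (n : G) = x := hfG.commutatorMap_injective h2
      rw [QuotientGroup.eq_one_iff, ← h3]
      exact n.2
  · ext y
    induction y using QuotientGroup.induction_on with
    | H x =>
      rw [quotAut_pow_mk, hf.pow]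
      rfl

/-- a fixed-point-free automorphism fixes a Sylow `q`-subgroup -/
theorem Fpf.exists_sylow [Finite G] {φ : G ≃* G} {r : ℕ} (hf : Fpf φ r) (q : ℕ)
    [Fact q.Prime] : ∃ P : Sylow q G, AutInv φ (P : Subgroup G) := by
  obtain ⟨P₀⟩ : Nonempty (Sylow q G) := inferInstance
  have hcard : Nat.card ↥((P₀ : Subgroup G).map φ.toMonoidHom) =
      q ^ (Nat.card G).factorization q := by
    rw [Subgroup.card_map_of_injective φ.injective]
    exact P₀.card_eq_multiplicity
  let S : Sylow q G := Sylow.ofCard _ hcard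
  have hS : (S : Subgroup G) = (P₀ : Subgroup G).map φ.toMonoidHom := Sylow.coe_ofCard _ _
  obtain ⟨g, hg⟩ := MulAction.exists_smul_eq G P₀ S
  have hfG : MonoidHom.FixedPointFree φ := hf.fix
  obtain ⟨w, hw⟩ := hfG.commutatorMap_surjective g⁻¹
  rw [MonoidHom.commutatorMap_apply] at hw
  -- `y = w⁻¹`
  refine ⟨w⁻¹ • P₀, ?_⟩
  intro x hx
  rw [sylow_smul_coe, mem_map_conj] at hx ⊢
  rw [inv_inv] at hx ⊢
  have h1 : φ (w * x * w⁻¹) ∈ (S : Subgroup G) := by
    rw [hS]; exact Subgroup.mem_map_of_mem _ hx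
  rw [← hg, sylow_smul_coe, mem_map_conj] at h1
  have hg' : g = φ w * w⁻¹ := by
    have : g = (w / φ w)⁻¹ := by rw [hw, inv_inv]
    rw [this, inv_div, div_eq_mul_inv]
  have e : g⁻¹ * φ (w * x * w⁻¹) * g = w * φ x * w⁻¹ := by
    rw [hg', map_mul, map_mul, map_inv]; group
  rw [e] at h1
  exact h1

lemma pow_apply_of_fixed (ψ : G ≃* G) {g : G} (h : ψ g = g) (j : ℕ) : (ψ ^ j) g = g := by
  induction j with
  | zero => simp
  | succ j ih => rw [pow_succ', MulAut.mul_apply, ih, h]

/-- the nontrivial powers of a fixed-point-free automorphism of prime order are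
fixed-point-free -/
theorem Fpf.pow_fix {φ : G ≃* G} {r : ℕ} (hf : Fpf φ r) (hr : r.Prime) {i : ℕ} (hi : 0 < i)
    (hir : i < r) : ∀ g, (φ ^ i) g = g → g = 1 := by
  intro g hg
  have hcop : Nat.Coprime i r :=
    Nat.Coprime.symm ((Nat.Prime.coprime_iff_not_dvd hr).mpr (Nat.not_dvd_of_pos_of_lt hi hir))
  obtain ⟨j, -, hj⟩ := Nat.exists_mul_mod_eq_one_of_coprime hcop hr.one_lt
  have h1 : (φ ^ (i * j)) g = g := by
    rw [pow_mul]; exact pow_apply_of_fixed _ hg j
  have h2 : i * j = r * (i * j / r) + 1 := by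
    have := Nat.div_add_mod (i * j) r
    omega
  rw [h2, pow_succ, pow_mul, hf.pow, one_pow, one_mul] at h1
  exact hf.fix g h1

theorem Fpf.bij [Finite G] {φ : G ≃* G} {r : ℕ} (hf : Fpf φ r) (hr : r.Prime) {i : ℕ}
    (hi : 0 < i) (hir : i < r) : Function.Bijective (fun w : G => w * ((φ ^ i) w)⁻¹) := by
  have hfp : MonoidHom.FixedPointFree (φ ^ i : G ≃* G) := hf.pow_fix hr hi hir
  have h1 : (fun w : G => w * ((φ ^ i) w)⁻¹) = MonoidHom.commutatorMap (φ ^ i : G ≃* G) := by
    funext w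
    rw [MonoidHom.commutatorMap_apply, div_eq_mul_inv]
  rw [h1]
  exact ⟨hfp.commutatorMap_injective, hfp.commutatorMap_surjective⟩

end fpf

section partition
open scoped IsMulCommutative
variable {U Z : Type*} [Group U] [IsMulCommutative U] [Group Z] [Fintype Z]

/-- the partition argument: a Frobenius group `Z ⋊ ⟨ψ⟩` acting on an abelian group `U` such that
neither `Z` nor the complement has nontrivial fixed points forces `U` to have exponent dividing
`|Z|` -/
theorem frob_partition (ρ : Z →* MulAut U) (ψ : MulAut U) (σ : MulAut Z) (s : ℕ)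
    (hcompat : ∀ z u, ψ (ρ z u) = ρ (σ z) (ψ u))
    (htr : ∀ u, ∏ i ∈ Finset.range (s + 1), (ψ ^ i) u = 1)
    (hfix : ∀ u, (∀ z, ρ z u = u) → u = 1)
    (hbij : ∀ i, i < s → Function.Bijective (fun w : Z => w * ((σ ^ (i + 1)) w)⁻¹)) :
    ∀ u : U, u ^ Fintype.card Z = 1 := by
  have hT : ∀ u, ∏ z, ρ z u = 1 := by
    intro u
    apply hfix
    intro w
    rw [map_prod]
    have h1 : ∀ z, ρ w (ρ z u) = ρ (w * z) u := fun z => by rw [map_mul, MulAut.mul_apply]
    simp_rw [h1]
    exact Fintype.prod_equiv (Equiv.mulLeft w) _ _ (fun z => rfl)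
  have hcompat' : ∀ i z u, (ψ ^ i) (ρ z u) = ρ ((σ ^ i) z) ((ψ ^ i) u) := by
    intro i
    induction i with
    | zero => intro z u; simp
    | succ i ih =>
      intro z u
      simp only [pow_succ', MulAut.mul_apply]
      rw [ih, hcompat]
  have hstep : ∀ i, i < s → ∀ u, ∏ w, ρ w ((ψ ^ (i + 1)) (ρ w⁻¹ u)) = 1 := by
    intro i hi u
    rw [← hT ((ψ ^ (i + 1)) u)]
    refine Eq.trans ?_ ((hbij i hi).prod_comp (fun z => ρ z ((ψ ^ (i + 1)) u)))
    apply Finset.prod_congr rfl
    intro w _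
    show ρ w ((ψ ^ (i + 1)) (ρ w⁻¹ u)) = ρ (w * ((σ ^ (i + 1)) w)⁻¹) ((ψ ^ (i + 1)) u)
    have e : (σ ^ (i + 1)) w⁻¹ = ((σ ^ (i + 1)) w)⁻¹ := map_inv _ _
    rw [hcompat', e, map_mul ρ, MulAut.mul_apply]
  intro u
  have h2 : ∏ i ∈ Finset.range s, ∏ w, ρ w ((ψ ^ (i + 1)) (ρ w⁻¹ u)) = 1 :=
    Finset.prod_eq_one (fun i hi => hstep i (Finset.mem_range.mp hi) u)
  rw [Finset.prod_comm] at h2
  have h3 : ∀ x : U, ∏ i ∈ Finset.range s, (ψ ^ (i + 1)) x = x⁻¹ := by
    intro x
    have := htr x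
    rw [Finset.prod_range_succ', pow_zero, MulAut.one_apply] at this
    exact eq_inv_of_mul_eq_one_left this
  have h4 : ∀ w : Z, ∏ i ∈ Finset.range s, ρ w ((ψ ^ (i + 1)) (ρ w⁻¹ u)) = u⁻¹ := by
    intro w
    rw [← map_prod, h3, map_inv, ← MulAut.mul_apply, ← map_mul, mul_inv_cancel, map_one,
      MulAut.one_apply]
  simp_rw [h4] at h2
  rw [Finset.prod_const, Finset.card_univ, inv_pow, inv_eq_one] at h2
  exact h2

end partition

end Cfsg.Agent.Lib.Helper3
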