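import Mathlib
import Cfsg.Prelude.Def_CaseTheorems
import Cfsg.Prelude.Def_Local
import Cfsg.Agent.Lib.Helper3.Frattini
import Cfsg.Agent.Lib.Helper3.Transport
import Cfsg.Agent.Lib.Helper2.FrattiniTriv

set_option autoImplicit false
open Cfsg
open Cfsg.Agent.Lib.Helper1
open scoped commutatorElement

namespace Cfsg.Agent.Lib.Helper3

variable {Q : Type*} [Group Q] [Finite Q]

/-- `D' ≤ Φ(D)` for a nilpotent group, as subgroups of the ambient group -/
lemma commutator_le_frattini_map (D : Subgroup Q) [Group.IsNilpotent ↥D] :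
    ⁅D, D⁆ ≤ (frattini ↥D).map D.subtype := by
  have h1 : commutator ↥D ≤ frattini ↥D := by
    show commutator ↥D ≤ ⨅ a ∈ {H : Subgroup ↥D | IsCoatom H}, a
    apply le_iInf₂
    intro M hM
    by_contra hcon
    have hM' : IsCoatom M := hM
    have h1 : M ⊔ commutator ↥D = ⊤ := by
      by_contra h2
      have h3 : M < M ⊔ commutator ↥D := by
        refine lt_of_le_of_ne le_sup_left ?_
        intro h4
        apply hcon
        rw [h4]; exact le_sup_right
      exact h2 (hM'.2 _ h3)
    exact hM'.1 (Cfsg.Agent.Lib.Helper2.eq_top_of_sup_commutator_eq_top M h1)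
  rw [Subgroup.commutator_le]
  intro x hx y hy
  have : ⁅(⟨x, hx⟩ : ↥D), ⟨y, hy⟩⁆ ∈ commutator ↥D :=
    Subgroup.commutator_mem_commutator (Subgroup.mem_top _) (Subgroup.mem_top _)
  exact ⟨_, h1 this, rfl⟩

/-- **Faithful action on the Frattini quotient.** If `D = O_p(Q)` contains its centralizer, then the
elements acting trivially on `D / Φ(D)` are exactly those of `D`. -/
theorem mem_pCore_iff_commutator_mem_frattini {p : ℕ} [Fact p.Prime]
    (hD : Subgroup.centralizer (Cfsg.pCore p Q : Set Q) ≤ Cfsg.pCore p Q) (y : Q) :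
    (∀ d ∈ Cfsg.pCore p Q, ⁅y, d⁆ ∈ (frattini ↥(Cfsg.pCore p Q)).map (Cfsg.pCore p Q).subtype) ↔
      y ∈ Cfsg.pCore p Q := by
  have hpp : p.Prime := Fact.out
  set D := Cfsg.pCore p Q with hDdef
  have hDn : D.Normal := pCore_normal' p
  have hDp : IsPGroup p ↥D := pCore_isPGroup
  have hDnil : Group.IsNilpotent ↥D := hDp.isNilpotent
  set Φ := (frattini ↥D).map D.subtype with hΦ
  have hΦD : Φ ≤ D := by rintro _ ⟨x, _, rfl⟩; exact x.2
  have hΦn : Φ.Normal := by
    have h1 := normalizer_le_normalizer_map_char D (frattini ↥D)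
    rw [Subgroup.normalizer_eq_top_iff.mpr hDn] at h1
    exact Subgroup.normalizer_eq_top_iff.mp (top_le_iff.mp h1)
  constructor
  swap
  · intro hy d hd
    have h1 : ⁅y, d⁆ ∈ ⁅D, D⁆ := Subgroup.commutator_mem_commutator hy hd
    exact commutator_le_frattini_map D h1
  intro hy
  -- the kernel of the action on D / Φ
  let K : Subgroup Q :=
    { carrier := {z | ∀ d ∈ D, ⁅z, d⁆ ∈ Φ}
      one_mem' := fun d _ => by rw [commutatorElement_one_left]; exact Subgroup.one_mem _
      mul_mem' := fun {a b} ha hb d hd => by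
        have h1 : ⁅a * b, d⁆ = a * ⁅b, d⁆ * a⁻¹ * ⁅a, d⁆ := by
          simp only [commutatorElement_def]; group
        rw [h1]
        exact Subgroup.mul_mem _ (hΦn.conj_mem _ (hb d hd) a) (ha d hd)
      inv_mem' := fun {a} ha d hd => by
        have h1 : ⁅a⁻¹, d⁆ = a⁻¹ * ⁅a, d⁆⁻¹ * a⁻¹⁻¹ := by
          simp only [commutatorElement_def]; group
        rw [h1]
        exact hΦn.conj_mem _ (Subgroup.inv_mem _ (ha d hd)) a⁻¹ }
  have hKmem : ∀ z, z ∈ K ↔ ∀ d ∈ D, ⁅z, d⁆ ∈ Φ := fun z => Iff.rfl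
  have hKn : K.Normal := by
    constructor
    intro z hz g d hd
    have h1 : ⁅g * z * g⁻¹, d⁆ = g * ⁅z, g⁻¹ * d * g⁻¹⁻¹⁆ * g⁻¹ := by
      simp only [commutatorElement_def]; group
    rw [h1]
    exact hΦn.conj_mem _ (hz _ (hDn.conj_mem d hd g⁻¹)) g
  -- K is a p-group
  have hKp : IsPGroup p ↥K := by
    have hcard : Nat.card ↥K = p ^ (Nat.card ↥K).primeFactorsList.length := by
      apply Nat.eq_prime_pow_of_unique_prime_dvd Nat.card_pos.ne'
      intro q hq hqK
      by_contra hqp
      have : Fact q.Prime := ⟨hq⟩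
      obtain ⟨z, hz⟩ := exists_prime_orderOf_dvd_card' q hqK
      have hzo : orderOf (z : Q) = q := by rw [Subgroup.orderOf_coe]; exact hz
      have hZq : IsPGroup q ↥(Subgroup.zpowers (z : Q)) := by
        apply IsPGroup.of_card (n := 1)
        rw [Nat.card_zpowers, hzo, pow_one]
      have hΦc : (Nat.card ↥Φ).Coprime q := by
        obtain ⟨k, hk⟩ := IsPGroup.iff_card.mp (hDp.to_le hΦD)
        rw [hk]
        apply Nat.Coprime.pow_left
        exact (Nat.coprime_primes hpp hq).mpr (fun h => hqp h.symm)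
      -- z centralizes D
      have hzcen : (z : Q) ∈ Subgroup.centralizer (D : Set Q) := by
        set C : Subgroup ↥D := (Subgroup.centralizer ({(z : Q)} : Set Q)).subgroupOf D with hC
        have hsup : C ⊔ frattini ↥D = ⊤ := by
          rw [eq_top_iff]
          rintro ⟨d, hd⟩ _
          have hdx : ∀ x ∈ Subgroup.zpowers (z : Q), ⁅d, x⁆ ∈ Φ := by
            intro x hx
            have hxK : x ∈ K := by
              obtain ⟨k, rfl⟩ := Subgroup.mem_zpowers_iff.mp hx
              exact Subgroup.zpow_mem _ z.2 k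
            have := Subgroup.inv_mem _ (hxK d hd)
            rwa [commutatorElement_inv] at this
          obtain ⟨n, hn, hnd⟩ := exists_mul_mem_centralizer hΦn hΦc hZq d hdx
          have hndD : n * d ∈ D := Subgroup.mul_mem _ (hΦD hn) hd
          have h1 : (⟨n * d, hndD⟩ : ↥D) ∈ C := by
            show n * d ∈ Subgroup.centralizer ({(z : Q)} : Set Q)
            rw [Subgroup.mem_centralizer_iff]
            intro w hw
            rw [Set.mem_singleton_iff.mp hw]
            exact Subgroup.mem_centralizer_iff.mp hnd _ (Subgroup.mem_zpowers _)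
          have h2 : (⟨n⁻¹, hΦD (Subgroup.inv_mem _ hn)⟩ : ↥D) ∈ frattini ↥D := by
            obtain ⟨w, hw, hwn⟩ := Subgroup.inv_mem _ hn
            have : w = ⟨n⁻¹, hΦD (Subgroup.inv_mem _ hn)⟩ := Subtype.ext hwn
            rw [← this]; exact hw
          have h3 : (⟨d, hd⟩ : ↥D) = ⟨n⁻¹, hΦD (Subgroup.inv_mem _ hn)⟩ * ⟨n * d, hndD⟩ := by
            apply Subtype.ext
            show d = n⁻¹ * (n * d)
            group
          rw [h3]
          exact Subgroup.mul_mem _ (Subgroup.mem_sup_right h2) (Subgroup.mem_sup_left h1)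
        have hCtop : C = ⊤ := frattini_nongenerating hsup
        rw [Subgroup.mem_centralizer_iff]
        intro d hd
        have h1 : (⟨d, hd⟩ : ↥D) ∈ C := by rw [hCtop]; exact Subgroup.mem_top _
        have h2 : d ∈ Subgroup.centralizer ({(z : Q)} : Set Q) := h1
        exact (Subgroup.mem_centralizer_iff.mp h2 _ rfl).symm
      have hzD : (z : Q) ∈ D := hD hzcen
      obtain ⟨k, hk⟩ := hDp ⟨(z : Q), hzD⟩
      have hk' : (z : Q) ^ (p ^ k) = 1 := by simpa using congrArg Subtype.val hk
      have h1 : q ∣ p ^ k := by rw [← hzo]; exact orderOf_dvd_of_pow_eq_one hk'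
      have h2 : q ∣ p := hq.dvd_of_dvd_pow h1
      exact hqp ((Nat.prime_dvd_prime_iff_eq hq hpp).mp h2)
    exact IsPGroup.of_card hcard
  have hKD : K ≤ D := le_pCore K hKn hKp
  exact hKD ((hKmem y).mpr hy)

end Cfsg.Agent.Lib.Helper3
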