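import Mathlib
import Cfsg.Agent.Lib.Helper3.Conj

set_option autoImplicit false

namespace Cfsg.Agent.Lib.Helper3

open scoped Pointwise

variable {G : Type*} [Group G]

/-- If `K ≤ N M`, where `M` normalizes `N`, and `|K|` is coprime to `|M|`, then `K ≤ N`. -/
lemma le_of_coprime_of_le_sup (N M K : Subgroup G) [Finite K] [Finite M]
    (hMN : M ≤ Subgroup.normalizer (N : Set G)) (hK : K ≤ N ⊔ M)
    (hcop : (Nat.card K).Coprime (Nat.card M)) : K ≤ N := by
  intro k hk
  have hkmem : k ∈ ((N ⊔ M : Subgroup G) : Set G) := hK hk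
  rw [Subgroup.coe_mul_of_right_le_normalizer_left N M hMN] at hkmem
  obtain ⟨u, hu, m, hm, rfl⟩ := Set.mem_mul.mp hkmem
  set C := Subgroup.normalizer (N : Set G) with hC
  have hNC : N ≤ C := Subgroup.le_normalizer
  have : (N.subgroupOf C).Normal := Subgroup.normal_in_normalizer
  let π := QuotientGroup.mk' (N.subgroupOf C)
  have humC : u * m ∈ C := C.mul_mem (hNC hu) (hMN hm)
  have e : π ⟨u * m, humC⟩ = π ⟨m, hMN hm⟩ := by
    have : (⟨u * m, humC⟩ : C) = ⟨u, hNC hu⟩ * ⟨m, hMN hm⟩ := rfl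
    rw [this, map_mul]
    have : π ⟨u, hNC hu⟩ = 1 := by
      rw [QuotientGroup.mk'_apply, QuotientGroup.eq_one_iff, Subgroup.mem_subgroupOf]
      exact hu
    rw [this, one_mul]
  have h1 : orderOf (π ⟨u * m, humC⟩) ∣ Nat.card K := by
    have h1 : orderOf (π ⟨u * m, humC⟩) ∣ orderOf (⟨u * m, humC⟩ : C) := orderOf_map_dvd π _
    have h2 : orderOf (⟨u * m, humC⟩ : C) = orderOf (u * m) := by
      rw [← Subgroup.orderOf_coe]
    have h3 : orderOf (u * m) ∣ Nat.card K := by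
      have : orderOf (⟨u * m, hk⟩ : K) = orderOf (u * m) := by rw [← Subgroup.orderOf_coe]
      rw [← this]; exact orderOf_dvd_natCard _
    exact h1.trans (h2 ▸ h3)
  have h2 : orderOf (π ⟨u * m, humC⟩) ∣ Nat.card M := by
    rw [e]
    have h1 : orderOf (π ⟨m, hMN hm⟩) ∣ orderOf (⟨m, hMN hm⟩ : C) := orderOf_map_dvd π _
    have h2 : orderOf (⟨m, hMN hm⟩ : C) = orderOf m := by rw [← Subgroup.orderOf_coe]
    have h3 : orderOf m ∣ Nat.card M := by
      have : orderOf (⟨m, hm⟩ : M) = orderOf m := by rw [← Subgroup.orderOf_coe]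
      rw [← this]; exact orderOf_dvd_natCard _
    exact h1.trans (h2 ▸ h3)
  have h3 : orderOf (π ⟨u * m, humC⟩) = 1 := Nat.eq_one_of_dvd_coprimes hcop h1 h2
  rw [orderOf_eq_one_iff, QuotientGroup.mk'_apply, QuotientGroup.eq_one_iff,
    Subgroup.mem_subgroupOf] at h3
  exact h3

end Cfsg.Agent.Lib.Helper3
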