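import Mathlib
import Cfsg.Prelude.Def_TwoFusion

set_option autoImplicit false

namespace Cfsg.Agent.Lib.Helper3

variable {G : Type*} [Group G]

lemma inv_of_sq {u : G} (hu : u * u = 1) : u⁻¹ = u := inv_eq_of_mul_eq_one_left hu

/-- `u c u = c⁻¹` for `c = u v`. -/
lemma invol_conj_mul {u v : G} (hu : u * u = 1) (hv : v * v = 1) :
    u * (u * v) * u = (u * v)⁻¹ := by
  rw [mul_inv_rev, inv_of_sq hu, inv_of_sq hv]
  calc u * (u * v) * u = (u * u) * (v * u) := by group
    _ = v * u := by rw [hu, one_mul]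

lemma invol_conj_mul' {u v : G} (hu : u * u = 1) (hv : v * v = 1) :
    v * (u * v) * v = (u * v)⁻¹ := by
  rw [mul_inv_rev, inv_of_sq hu, inv_of_sq hv]
  calc v * (u * v) * v = (v * u) * (v * v) := by group
    _ = v * u := by rw [hv, mul_one]

/-- `u c^n u = c^{-n}`. -/
lemma invol_conj_pow {u : G} (hu : u * u = 1) {c : G} (hc : u * c * u = c⁻¹) (n : ℕ) :
    u * c ^ n * u = (c ^ n)⁻¹ := by
  induction n with
  | zero => simpa using hu
  | succ k ih =>
    calc u * c ^ (k + 1) * u = (u * c ^ k * u) * (u * c * u) := by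
          rw [pow_succ]
          calc u * (c ^ k * c) * u = u * c ^ k * 1 * c * u := by group
            _ = u * c ^ k * (u * u) * c * u := by rw [hu]
            _ = (u * c ^ k * u) * (u * c * u) := by group
      _ = (c ^ k)⁻¹ * c⁻¹ := by rw [ih, hc]
      _ = (c ^ (k + 1))⁻¹ := by rw [pow_succ', mul_inv_rev]

/-- `(c^n)⁻¹ u c^n = u c^{2n}`. -/
lemma invol_conj_by_pow {u : G} (hu : u * u = 1) {c : G} (hc : u * c * u = c⁻¹) (n : ℕ) :
    (c ^ n)⁻¹ * u * c ^ n = u * c ^ (2 * n) := by
  have h := invol_conj_pow hu hc n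
  have h2 : (c ^ n)⁻¹ * u = u * c ^ n := by
    rw [← h]
    calc u * c ^ n * u * u = u * c ^ n * (u * u) := by group
      _ = u * c ^ n := by rw [hu, mul_one]
  rw [h2, two_mul, pow_add, mul_assoc]

lemma isolated_conj {z : G} (hz : Cfsg.IsIsolatedInvolution z) (g : G) :
    Cfsg.IsIsolatedInvolution (g * z * g⁻¹) := by
  obtain ⟨ho, hiso⟩ := hz
  refine ⟨?_, ?_⟩
  · have := orderOf_injective (MulAut.conj g).toMonoidHom (MulAut.conj g).injective z
    simpa [MulAut.conj_apply, ho] using this
  · intro h hcomm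
    have e1 : g⁻¹ * (h * (g * z * g⁻¹) * h⁻¹) * g = (g⁻¹ * h * g) * z * (g⁻¹ * h * g)⁻¹ := by group
    have hc : Commute z ((g⁻¹ * h * g) * z * (g⁻¹ * h * g)⁻¹) := by
      rw [← e1]
      have := hcomm.eq
      unfold Commute SemiconjBy
      calc z * (g⁻¹ * (h * (g * z * g⁻¹) * h⁻¹) * g)
          = g⁻¹ * ((g * z * g⁻¹) * (h * (g * z * g⁻¹) * h⁻¹)) * g := by group
        _ = g⁻¹ * ((h * (g * z * g⁻¹) * h⁻¹) * (g * z * g⁻¹)) * g := by rw [this]
        _ = g⁻¹ * (h * (g * z * g⁻¹) * h⁻¹) * g * z := by group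
    have := hiso _ hc
    rw [← e1] at this
    calc h * (g * z * g⁻¹) * h⁻¹ = g * (g⁻¹ * (h * (g * z * g⁻¹) * h⁻¹) * g) * g⁻¹ := by group
      _ = g * z * g⁻¹ := by rw [this]

/-- A conjugate of an isolated involution `z` lying in a subgroup `H ∋ z` is `H`-conjugate to `z`. -/
theorem isolated_conj_in_subgroup [Finite G] (z : G) (hz : Cfsg.IsIsolatedInvolution z)
    (H : Subgroup G) (hzH : z ∈ H) (g : G) (hg : g * z * g⁻¹ ∈ H) :
    ∃ h ∈ H, h * z * h⁻¹ = g * z * g⁻¹ := by
  set u := z with hu'
  set v := g * z * g⁻¹ with hv'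
  have hvi : Cfsg.IsIsolatedInvolution v := isolated_conj hz g
  have hu : u * u = 1 := by
    have := pow_orderOf_eq_one u
    rw [hz.1, pow_two] at this; exact this
  have hv : v * v = 1 := by
    have := pow_orderOf_eq_one v
    rw [hvi.1, pow_two] at this; exact this
  set c := u * v with hc'
  have hcH : c ∈ H := H.mul_mem hzH hg
  have hcu : u * c * u = c⁻¹ := invol_conj_mul hu hv
  have hcv : v * c * v = c⁻¹ := invol_conj_mul' hu hv
  have hpos : 0 < orderOf c := orderOf_pos c
  rcases Nat.even_or_odd (orderOf c) with hev | hodd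
  · exfalso
    obtain ⟨m, hm⟩ := hev
    have hm' : orderOf c = 2 * m := by omega
    have hmpos : 0 < m := by omega
    set w := c ^ m with hw
    have hw1 : w ≠ 1 := by
      intro h
      have := orderOf_dvd_of_pow_eq_one h
      have := Nat.le_of_dvd hmpos this
      omega
    have hw2 : w * w = 1 := by
      rw [hw, ← pow_add, ← two_mul, ← hm']; exact pow_orderOf_eq_one c
    have hwi : w⁻¹ = w := inv_of_sq hw2
    have huw : u * w * u = w := by rw [hw, invol_conj_pow hu hcu m, ← hw, hwi]
    have hvw : v * w * v = w := by rw [hw, invol_conj_pow hv hcv m, ← hw, hwi]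
    rcases Nat.even_or_odd m with hme | hmo
    · obtain ⟨k, hk⟩ := hme
      -- u w is conjugate to u and commutes with u
      have hconj : (c ^ k)⁻¹ * u * ((c ^ k)⁻¹)⁻¹ = u * w := by
        rw [inv_inv, invol_conj_by_pow hu hcu k, hw, hk, two_mul]
      have hcomm : Commute u ((c ^ k)⁻¹ * u * ((c ^ k)⁻¹)⁻¹) := by
        rw [hconj]
        unfold Commute SemiconjBy
        calc u * (u * w) = (u * u) * w := by group
          _ = w := by rw [hu, one_mul]
          _ = u * w * u := huw.symm
      have := hz.2 _ hcomm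
      rw [hconj] at this
      apply hw1
      calc w = u * (u * w) := by rw [← mul_assoc, hu, one_mul]
        _ = u * u := by rw [this]
        _ = 1 := hu
    · obtain ⟨k, hk⟩ := hmo
      -- w v is conjugate to u and commutes with v
      have hwv : w * v = u * c ^ (2 * (k + 1)) := by
        have h1 : v = u * c := by rw [hc', ← mul_assoc, hu, one_mul]
        have h2 : w * u = u * w := by
          calc w * u = (u * u) * w * u := by rw [hu, one_mul]
            _ = u * (u * w * u) := by group
            _ = u * w := by rw [huw]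
        calc w * v = w * (u * c) := by rw [← h1]
          _ = (w * u) * c := by group
          _ = u * w * c := by rw [h2]
          _ = u * (c ^ m * c) := by rw [hw]; group
          _ = u * c ^ (2 * (k + 1)) := by rw [← pow_succ, hk]; congr 2
      have hconj : (c ^ (k + 1))⁻¹ * u * ((c ^ (k + 1))⁻¹)⁻¹ = w * v := by
        rw [inv_inv, invol_conj_by_pow hu hcu (k + 1), hwv]
      -- w v is a conjugate of v
      have hconj2 : ((c ^ (k + 1))⁻¹ * g⁻¹) * v * ((c ^ (k + 1))⁻¹ * g⁻¹)⁻¹ = w * v := by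
        rw [← hconj, hv', hu']; group
      have hcomm : Commute v (((c ^ (k + 1))⁻¹ * g⁻¹) * v * ((c ^ (k + 1))⁻¹ * g⁻¹)⁻¹) := by
        rw [hconj2]
        unfold Commute SemiconjBy
        calc v * (w * v) = v * w * v := by group
          _ = w := hvw
          _ = w * (v * v) := by rw [hv, mul_one]
          _ = w * v * v := by group
      have := hvi.2 _ hcomm
      rw [hconj2] at this
      apply hw1
      calc w = (w * v) * v := by rw [mul_assoc, hv, mul_one]
        _ = v * v := by rw [this]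
        _ = 1 := hv
  · obtain ⟨j, hj⟩ := hodd
    refine ⟨(c ^ (j + 1))⁻¹, H.inv_mem (H.pow_mem hcH _), ?_⟩
    rw [inv_inv, invol_conj_by_pow hu hcu (j + 1)]
    have : 2 * (j + 1) = orderOf c + 1 := by omega
    rw [this, pow_succ, pow_orderOf_eq_one, one_mul, hc', ← mul_assoc, hu, one_mul]

end Cfsg.Agent.Lib.Helper3
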