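import Mathlib
import Cfsg.Prelude.Def_TwoFusion
import Cfsg.Agent.Lib.Helper3.Isolated

set_option autoImplicit false

namespace Cfsg.Agent.Lib.Helper3

variable {G : Type*} [Group G]

lemma isolated_sq {z : G} (hz : Cfsg.IsIsolatedInvolution z) : z * z = 1 := by
  have := pow_orderOf_eq_one z
  rw [hz.1, pow_two] at this; exact this

/-- For an isolated involution `z`, the product `z * (g z g⁻¹)` has odd order. -/
theorem isolated_mul_conj_odd [Finite G] (z : G) (hz : Cfsg.IsIsolatedInvolution z) (g : G) :
    Odd (orderOf (z * (g * z * g⁻¹))) := by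
  set u := z with hu'
  set v := g * z * g⁻¹ with hv'
  have hvi : Cfsg.IsIsolatedInvolution v := isolated_conj hz g
  have hu : u * u = 1 := isolated_sq hz
  have hv : v * v = 1 := isolated_sq hvi
  set c := u * v with hc'
  have hcu : u * c * u = c⁻¹ := invol_conj_mul hu hv
  have hcv : v * c * v = c⁻¹ := invol_conj_mul' hu hv
  have hpos : 0 < orderOf c := orderOf_pos c
  rcases Nat.even_or_odd (orderOf c) with hev | hodd
  · exfalso
    obtain ⟨m, hm⟩ := hev
    have hm' : orderOf c = 2 * m := by omega
    have hmpos : 0 < m := by omega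
    set w := c ^ m with hw
    have hw1 : w ≠ 1 := by
      intro h
      have := orderOf_dvd_of_pow_eq_one h
      have := Nat.le_of_dvd hmpos this
      omega
    have hw2 : w * w = 1 := by
      rw [hw, ← pow_add, ← two_mul, ← hm']; exact pow_orderOf_eq_one c
    have hwi : w⁻¹ = w := inv_of_sq hw2
    have huw : u * w * u = w := by rw [hw, invol_conj_pow hu hcu m, ← hw, hwi]
    have hvw : v * w * v = w := by rw [hw, invol_conj_pow hv hcv m, ← hw, hwi]
    rcases Nat.even_or_odd m with hme | hmo
    · obtain ⟨k, hk⟩ := hme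
      have hconj : (c ^ k)⁻¹ * u * ((c ^ k)⁻¹)⁻¹ = u * w := by
        rw [inv_inv, invol_conj_by_pow hu hcu k, hw, hk, two_mul]
      have hcomm : Commute u ((c ^ k)⁻¹ * u * ((c ^ k)⁻¹)⁻¹) := by
        rw [hconj]
        unfold Commute SemiconjBy
        calc u * (u * w) = (u * u) * w := by group
          _ = w := by rw [hu, one_mul]
          _ = u * w * u := huw.symm
      have := hz.2 _ hcomm
      rw [hconj] at this
      apply hw1
      calc w = u * (u * w) := by rw [← mul_assoc, hu, one_mul]
        _ = u * u := by rw [this]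
        _ = 1 := hu
    · obtain ⟨k, hk⟩ := hmo
      have hwv : w * v = u * c ^ (2 * (k + 1)) := by
        have h1 : v = u * c := by rw [hc', ← mul_assoc, hu, one_mul]
        have h2 : w * u = u * w := by
          calc w * u = (u * u) * w * u := by rw [hu, one_mul]
            _ = u * (u * w * u) := by group
            _ = u * w := by rw [huw]
        calc w * v = w * (u * c) := by rw [← h1]
          _ = (w * u) * c := by group
          _ = u * w * c := by rw [h2]
          _ = u * (c ^ m * c) := by rw [hw]; group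
          _ = u * c ^ (2 * (k + 1)) := by rw [← pow_succ, hk]; congr 2
      have hconj : (c ^ (k + 1))⁻¹ * u * ((c ^ (k + 1))⁻¹)⁻¹ = w * v := by
        rw [inv_inv, invol_conj_by_pow hu hcu (k + 1), hwv]
      have hconj2 : ((c ^ (k + 1))⁻¹ * g⁻¹) * v * ((c ^ (k + 1))⁻¹ * g⁻¹)⁻¹ = w * v := by
        rw [← hconj, hv', hu']; group
      have hcomm : Commute v (((c ^ (k + 1))⁻¹ * g⁻¹) * v * ((c ^ (k + 1))⁻¹ * g⁻¹)⁻¹) := by
        rw [hconj2]
        unfold Commute SemiconjBy
        calc v * (w * v) = v * w * v := by group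
          _ = w := hvw
          _ = w * (v * v) := by rw [hv, mul_one]
          _ = w * v * v := by group
      have := hvi.2 _ hcomm
      rw [hconj2] at this
      apply hw1
      calc w = (w * v) * v := by rw [mul_assoc, hv, mul_one]
        _ = v * v := by rw [this]
        _ = 1 := hv
  · exact hodd

/-- With `c = z * (g z g⁻¹)` of order `2j+1`, the element `(c^(j+1))⁻¹` conjugates `z` to `g z g⁻¹`. -/
theorem isolated_conj_by_pow [Finite G] (z : G) (hz : Cfsg.IsIsolatedInvolution z) (g : G) (j : ℕ)
    (hj : orderOf (z * (g * z * g⁻¹)) = 2 * j + 1) :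
    ((z * (g * z * g⁻¹)) ^ (j + 1))⁻¹ * z * (((z * (g * z * g⁻¹)) ^ (j + 1))⁻¹)⁻¹ = g * z * g⁻¹ := by
  have hvi : Cfsg.IsIsolatedInvolution (g * z * g⁻¹) := isolated_conj hz g
  have hu : z * z = 1 := isolated_sq hz
  have hv : (g * z * g⁻¹) * (g * z * g⁻¹) = 1 := isolated_sq hvi
  have hcu : z * (z * (g * z * g⁻¹)) * z = (z * (g * z * g⁻¹))⁻¹ := invol_conj_mul hu hv
  rw [inv_inv, invol_conj_by_pow hu hcu (j + 1)]
  have : 2 * (j + 1) = orderOf (z * (g * z * g⁻¹)) + 1 := by omega
  rw [this, pow_succ, pow_orderOf_eq_one, one_mul, ← mul_assoc, hu, one_mul]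

end Cfsg.Agent.Lib.Helper3
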