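import Mathlib
import Cfsg.Prelude.Def_TwoFusion
import Cfsg.Agent.Lib.Helper3.Isolated
import Cfsg.Agent.Lib.Helper3.Isolated2

set_option autoImplicit false

namespace Cfsg.Agent.Lib.Helper3

variable {G : Type*} [Group G]

/-- The centralizer of an isolated involution has odd index. -/
theorem isolated_index_odd [Finite G] (z : G) (hz : Cfsg.IsIsolatedInvolution z) :
    Nat.Coprime 2 (Subgroup.centralizer ({z} : Set G)).index := by
  set C := Subgroup.centralizer ({z} : Set G) with hC
  have hu : z * z = 1 := isolated_sq hz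
  have hzi : z⁻¹ = z := inv_of_sq hu
  have hp2 : Fact (Nat.Prime 2) := ⟨Nat.prime_two⟩
  have hZ : IsPGroup 2 (Subgroup.zpowers z) := by
    apply IsPGroup.of_card (n := 1)
    rw [Nat.card_zpowers, hz.1, pow_one]
  have hmod := hZ.card_modEq_card_fixedPoints (G ⧸ C)
  have hfix : MulAction.fixedPoints (Subgroup.zpowers z) (G ⧸ C) = {((1 : G) : G ⧸ C)} := by
    ext q
    rw [Set.mem_singleton_iff, MulAction.mem_fixedPoints]
    constructor
    · intro h
      induction q using QuotientGroup.induction_on with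
      | H g =>
        have h1 := h ⟨z, Subgroup.mem_zpowers z⟩
        have h2 : ((z * g : G) : G ⧸ C) = (g : G ⧸ C) := h1
        rw [QuotientGroup.eq] at h2
        -- (z g)⁻¹ g = g⁻¹ z⁻¹ g ∈ C
        have h3 : g⁻¹ * z * (g⁻¹)⁻¹ ∈ C := by
          have : (z * g)⁻¹ * g = g⁻¹ * z * (g⁻¹)⁻¹ := by rw [mul_inv_rev, hzi, inv_inv]
          rwa [this] at h2
        have h4 : Commute z (g⁻¹ * z * (g⁻¹)⁻¹) :=
          (Subgroup.mem_centralizer_iff.mp h3 z (Set.mem_singleton z))
        have h5 := hz.2 _ h4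
        rw [QuotientGroup.eq, mul_one, hC, Subgroup.mem_centralizer_iff]
        intro w hw
        rw [Set.mem_singleton_iff] at hw
        subst hw
        rw [inv_inv] at h5
        calc w * g⁻¹ = g⁻¹ * (g * w * g⁻¹) := by group
          _ = g⁻¹ * (g * (g⁻¹ * w * g) * g⁻¹) := by rw [h5]
          _ = g⁻¹ * w := by group
    · rintro rfl ⟨ζ, hζ⟩
      show ((ζ * 1 : G) : G ⧸ C) = ((1 : G) : G ⧸ C)
      rw [QuotientGroup.eq, mul_one, mul_one]
      apply C.inv_mem
      have hle : Subgroup.zpowers z ≤ C := by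
        rw [Subgroup.zpowers_le, hC, Subgroup.mem_centralizer_iff]
        intro w hw
        rw [Set.mem_singleton_iff] at hw
        subst hw
        rfl
      exact hle hζ
  rw [hfix] at hmod
  have h1 : Nat.card ({((1 : G) : G ⧸ C)} : Set (G ⧸ C)) = 1 := by
    simp
  rw [h1, ← Subgroup.index_eq_card] at hmod
  have h2 : C.index % 2 = 1 := hmod
  rw [Nat.coprime_two_left, Nat.odd_iff]
  exact h2

/-- The centralizer of an isolated involution controls fusion of its elements. -/
theorem isolated_centralizer_controls_fusion [Finite G] (z : G) (hz : Cfsg.IsIsolatedInvolution z)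
    (g : G) (hg : g ∈ Subgroup.centralizer ({z} : Set G)) (a : G)
    (ha : a * g * a⁻¹ ∈ Subgroup.centralizer ({z} : Set G)) :
    ∃ h ∈ Subgroup.centralizer ({z} : Set G), h * g * h⁻¹ = a * g * a⁻¹ := by
  have hgz : z * g = g * z := Subgroup.mem_centralizer_iff.mp hg z (Set.mem_singleton z)
  have haz : z * (a * g * a⁻¹) = (a * g * a⁻¹) * z :=
    Subgroup.mem_centralizer_iff.mp ha z (Set.mem_singleton z)
  set H' := Subgroup.centralizer ({a * g * a⁻¹} : Set G) with hH'
  have hzH' : z ∈ H' := by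
    rw [hH', Subgroup.mem_centralizer_iff]
    intro w hw
    rw [Set.mem_singleton_iff] at hw
    subst hw
    exact haz.symm
  have hazH' : a * z * a⁻¹ ∈ H' := by
    rw [hH', Subgroup.mem_centralizer_iff]
    intro w hw
    rw [Set.mem_singleton_iff] at hw
    subst hw
    calc a * g * a⁻¹ * (a * z * a⁻¹) = a * (g * z) * a⁻¹ := by group
      _ = a * (z * g) * a⁻¹ := by rw [hgz]
      _ = a * z * a⁻¹ * (a * g * a⁻¹) := by group
  obtain ⟨k, hkH', hk⟩ := isolated_conj_in_subgroup z hz H' hzH' a hazH'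
  have hkc : (a * g * a⁻¹) * k = k * (a * g * a⁻¹) :=
    Subgroup.mem_centralizer_iff.mp hkH' _ (Set.mem_singleton _)
  refine ⟨k⁻¹ * a, ?_, ?_⟩
  · rw [Subgroup.mem_centralizer_iff]
    intro w hw
    rw [Set.mem_singleton_iff] at hw
    subst hw
    calc w * (k⁻¹ * a) = k⁻¹ * (k * w * k⁻¹) * a := by group
      _ = k⁻¹ * (a * w * a⁻¹) * a := by rw [hk]
      _ = k⁻¹ * a * w := by group
  · calc k⁻¹ * a * g * (k⁻¹ * a)⁻¹ = k⁻¹ * ((a * g * a⁻¹) * k) := by group
      _ = k⁻¹ * (k * (a * g * a⁻¹)) := by rw [hkc]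
      _ = a * g * a⁻¹ := by group

end Cfsg.Agent.Lib.Helper3
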