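import Mathlib
import Cfsg.Agent.Lib.Helper3.Baer
import Cfsg.Agent.Lib.Helper3.FixAb
import Cfsg.Agent.Lib.Helper3.PQ
import Cfsg.Agent.Lib.Helper3.NormAux

set_option autoImplicit false
open scoped commutatorElement

namespace Cfsg.Agent.Lib.Helper3

variable {G : Type*} [Group G] [Finite G]

/-- the class-two case, via Baer's trick -/
theorem exists_fixed_not_fixed_class_two {p : ℕ} [Fact p.Prime] (hp : p ≠ 2)
    {W Q A : Subgroup G} (hW : IsPGroup p ↥W) (hQ : (Nat.card ↥Q).Coprime p) (hA : IsPGroup p ↥A)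
    (hQW : Q ≤ Subgroup.normalizer (W : Set G)) (hAW : A ≤ Subgroup.normalizer (W : Set G))
    (hAQ : A ≤ Subgroup.normalizer (Q : Set G))
    (hcl : ∀ x y z : ↥W, ⁅x, y⁆ * z = z * ⁅x, y⁆)
    (hne : ¬ Q ≤ Subgroup.centralizer (W : Set G)) :
    ∃ w ∈ W, orderOf w = p ∧ w ∈ Subgroup.centralizer (A : Set G) ∧
      w ∉ Subgroup.centralizer (Q : Set G) := by
  have hodd : Odd (Nat.card ↥W) := by
    obtain ⟨k, hk⟩ := IsPGroup.iff_card.mp hW
    rw [hk]
    exact ((Fact.out : p.Prime).odd_of_ne_two hp).pow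
  have hB : BaerClass ↥W := ⟨hodd, hcl⟩
  set N := Subgroup.normalizer (W : Set G) with hN
  let ρ : ↥N →* MulAut (Baer ↥W) := Baer.baerAutHom.comp W.normalizerMonoidHom
  have hρ : ∀ (n : ↥N) (w : ↥W), ((Baer.ofBaer (ρ n (Baer.toBaer w)) : ↥W) : G) =
      (n : G) * w * (n : G)⁻¹ := fun n w => rfl
  have hQ' : (Nat.card ↥(Q.subgroupOf N)).Coprime p := by
    rw [Nat.card_congr (Subgroup.subgroupOfEquivOfLe hQW).toEquiv]; exact hQ
  have hA' : IsPGroup p ↥(A.subgroupOf N) :=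
    hA.of_equiv (Subgroup.subgroupOfEquivOfLe hAW).symm
  have hAQ' : A.subgroupOf N ≤ Subgroup.normalizer ((Q.subgroupOf N : Subgroup ↥N) : Set ↥N) := by
    intro a ha
    have ha' : (a : G) ∈ Subgroup.normalizer (Q : Set G) := hAQ ha
    rw [Subgroup.mem_set_normalizer_iff]
    intro x
    exact Subgroup.mem_set_normalizer_iff.mp ha' (x : G)
  have hne' : ∃ g ∈ Q.subgroupOf N, ∃ v : Baer ↥W, ρ g v ≠ v := by
    by_contra hcon
    push Not at hcon
    apply hne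
    intro g hg
    rw [Subgroup.mem_centralizer_iff]
    intro w hw
    have h1 := hcon ⟨g, hQW hg⟩ hg (Baer.toBaer ⟨w, hw⟩)
    have h2 := hρ ⟨g, hQW hg⟩ ⟨w, hw⟩
    rw [h1] at h2
    have h3 : w = g * w * g⁻¹ := h2
    calc w * g = (g * w * g⁻¹) * g := by rw [← h3]
      _ = g * w := by group
  obtain ⟨v, hv1, hvp, hvA, g, hg, hgv⟩ :=
    exists_fixed_not_fixed ρ (Baer.isPGroup hW) (Q.subgroupOf N) (A.subgroupOf N) hQ' hA' hAQ' hne'
  set w : ↥W := Baer.ofBaer v with hw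
  have hwv : Baer.toBaer w = v := rfl
  refine ⟨(w : G), w.2, ?_, ?_, ?_⟩
  · have h1 : w ^ p = 1 := by
      have := Baer.toBaer_pow w p
      rw [hwv, hvp] at this
      exact this.symm
    have h2 : w ≠ 1 := fun h => hv1 (by rw [← hwv, h]; rfl)
    have h3 : orderOf w = p := orderOf_eq_prime h1 h2
    rw [← h3]
    exact (Subgroup.orderOf_coe w)
  · rw [Subgroup.mem_centralizer_iff]
    intro a ha
    have h1 := hvA ⟨a, hAW ha⟩ ha
    have h2 := hρ ⟨a, hAW ha⟩ w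
    rw [hwv, h1] at h2
    have h3 : (w : G) = a * w * a⁻¹ := h2
    calc a * (w : G) = (a * w * a⁻¹) * a := by group
      _ = w * a := by rw [← h3]
  · intro hcen
    apply hgv
    have h2 := hρ g w
    have h3 : (g : G) * w = w * g :=
      Subgroup.mem_centralizer_iff.mp hcen (g : G) hg
    have h4 : (g : G) * w * (g : G)⁻¹ = w := by rw [h3]; group
    rw [h4] at h2
    have h5 : Baer.ofBaer (ρ g (Baer.toBaer w)) = w := Subtype.ext h2
    rw [← hwv]
    exact h5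

omit [Finite G] in
/-- coprime stability: a `p'`-group centralizing `⁅W, Q⁆` centralizes the `p`-group `W`. -/
lemma le_centralizer_of_le_centralizer_commutator {p : ℕ} [Fact p.Prime] {W Q : Subgroup G}
    (hW : IsPGroup p ↥W) (hQ : (Nat.card ↥Q).Coprime p)
    (hQW : Q ≤ Subgroup.normalizer (W : Set G))
    (h : Q ≤ Subgroup.centralizer ((⁅W, Q⁆ : Subgroup G) : Set G)) :
    Q ≤ Subgroup.centralizer (W : Set G) := by
  intro y hy
  rw [Subgroup.mem_centralizer_iff]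
  intro u hu
  have hc : ⁅y, u⁆ ∈ ⁅W, Q⁆ := by
    rw [Subgroup.commutator_comm]; exact Subgroup.commutator_mem_commutator hy hu
  have hcW : ⁅y, u⁆ ∈ W := by
    have h1 : ⁅y, u⁆ = (y * u * y⁻¹) * u⁻¹ := by simp only [commutatorElement_def]
    rw [h1]
    exact Subgroup.mul_mem _ (conj_mem_of_mem_normalizer' (hQW hy) hu) (Subgroup.inv_mem _ hu)
  have hcomm : y * ⁅y, u⁆ = ⁅y, u⁆ * y :=
    (Subgroup.mem_centralizer_iff.mp (h hy) _ hc).symm
  have hyo : (orderOf y).Coprime p := by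
    have h1 : orderOf y ∣ Nat.card ↥Q := by
      have := orderOf_dvd_natCard (⟨y, hy⟩ : ↥Q)
      rwa [Subgroup.orderOf_mk] at this
    exact Nat.Coprime.coprime_dvd_left h1 hQ
  have hz : ∃ n : ℕ, ⁅y, u⁆ ^ (p ^ n) = 1 := by
    obtain ⟨n, hn⟩ := hW ⟨⁅y, u⁆, hcW⟩
    exact ⟨n, by simpa using congrArg Subtype.val hn⟩
  have h1 := commute_of_comm_commutator hyo hz hcomm
  rw [commutatorElement_eq_one_iff_mul_comm] at h1
  exact h1.symm

/-- **Odd fixed points**: for `p` odd, if a `p'`-group `Q` acts nontrivially on a `p`-group `R` and a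
`p`-group `A` normalizes both, then some element of order `p` of `R` is centralized by `A` but not
by `Q`. -/
theorem exists_fixed_not_fixed_odd {p : ℕ} [Fact p.Prime] (hp : p ≠ 2)
    {R Q A : Subgroup G} (hR : IsPGroup p ↥R) (hQ : (Nat.card ↥Q).Coprime p) (hA : IsPGroup p ↥A)
    (hQR : Q ≤ Subgroup.normalizer (R : Set G)) (hAR : A ≤ Subgroup.normalizer (R : Set G))
    (hAQ : A ≤ Subgroup.normalizer (Q : Set G))
    (hne : ¬ Q ≤ Subgroup.centralizer (R : Set G)) :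
    ∃ w ∈ R, orderOf w = p ∧ w ∈ Subgroup.centralizer (A : Set G) ∧
      w ∉ Subgroup.centralizer (Q : Set G) := by
  obtain ⟨W, hWmin⟩ := exists_minimal_of_wellFoundedLT
    (fun S : Subgroup G => S ≤ R ∧ Q ≤ Subgroup.normalizer (S : Set G) ∧
      A ≤ Subgroup.normalizer (S : Set G) ∧ ¬ Q ≤ Subgroup.centralizer (S : Set G))
    ⟨R, le_rfl, hQR, hAR, hne⟩
  obtain ⟨hWR, hQW, hAW, hneW⟩ := hWmin.prop
  have hWp : IsPGroup p ↥W := hR.to_le hWR
  have hNQ : A ≤ Subgroup.normalizer (Q : Set G) := hAQ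
  have hQQ : Q ≤ Subgroup.normalizer (Q : Set G) := Subgroup.le_normalizer
  -- W = ⁅W, Q⁆
  have hW1le : ⁅W, Q⁆ ≤ W := Subgroup.le_normalizer_iff_commutator_le_left.mp hQW
  have hW1 : W ≤ ⁅W, Q⁆ := by
    apply hWmin.le_of_le _ hW1le
    refine ⟨hW1le.trans hWR, ?_, ?_, ?_⟩
    · exact (le_inf hQW hQQ).trans (normalizer_inf_le_normalizer_commutator W Q)
    · exact (le_inf hAW hNQ).trans (normalizer_inf_le_normalizer_commutator W Q)
    · intro h
      exact hneW (le_centralizer_of_le_centralizer_commutator hWp hQ hQW h)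
  have hWeq : ⁅W, Q⁆ = W := le_antisymm hW1le hW1
  -- W' is centralized by Q
  have hWne : W ≠ ⊥ := by
    intro h
    apply hneW
    rw [h]
    intro y _
    rw [Subgroup.mem_centralizer_iff]
    intro u hu
    rw [Subgroup.mem_bot.mp hu]; simp
  have hW'lt : ⁅W, W⁆ < W := commutator_lt_of_pgroup hWp hWp Subgroup.le_normalizer hWne
  have hQW' : Q ≤ Subgroup.centralizer ((⁅W, W⁆ : Subgroup G) : Set G) := by
    by_contra hcon
    have : W ≤ ⁅W, W⁆ := by
      apply hWmin.le_of_le _ hW'lt.le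
      refine ⟨hW'lt.le.trans hWR, ?_, ?_, hcon⟩
      · exact (le_inf hQW hQW).trans (normalizer_inf_le_normalizer_commutator W W)
      · exact (le_inf hAW hAW).trans (normalizer_inf_le_normalizer_commutator W W)
    exact absurd (lt_of_lt_of_le hW'lt this) (lt_irrefl _)
  -- three subgroups
  have h1 : ⁅⁅W, ⁅W, W⁆⁆, Q⁆ = ⊥ := by
    have hle : ⁅W, ⁅W, W⁆⁆ ≤ ⁅W, W⁆ := Subgroup.commutator_mono le_rfl hW'lt.le
    rw [eq_bot_iff]
    calc ⁅⁅W, ⁅W, W⁆⁆, Q⁆ ≤ ⁅⁅W, W⁆, Q⁆ := Subgroup.commutator_mono hle le_rfl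
      _ = ⊥ := by
        rw [Subgroup.commutator_comm]
        exact Subgroup.commutator_eq_bot_iff_le_centralizer.mpr hQW'
  have h2 : ⁅⁅⁅W, W⁆, Q⁆, W⁆ = ⊥ := by
    have : ⁅⁅W, W⁆, Q⁆ = ⊥ := by
      rw [Subgroup.commutator_comm]
      exact Subgroup.commutator_eq_bot_iff_le_centralizer.mpr hQW'
    rw [this, Subgroup.commutator_bot_left]
  have h3 : ⁅⁅Q, W⁆, ⁅W, W⁆⁆ = ⊥ := Subgroup.commutator_commutator_eq_bot_of_rotate h1 h2
  rw [Subgroup.commutator_comm Q W, hWeq] at h3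
  have hcen : W ≤ Subgroup.centralizer ((⁅W, W⁆ : Subgroup G) : Set G) :=
    Subgroup.commutator_eq_bot_iff_le_centralizer.mp h3
  have hcl : ∀ x y z : ↥W, ⁅x, y⁆ * z = z * ⁅x, y⁆ := by
    intro x y z
    apply Subtype.ext
    have hc : ⁅(x : G), (y : G)⁆ ∈ ⁅W, W⁆ := Subgroup.commutator_mem_commutator x.2 y.2
    have := Subgroup.mem_centralizer_iff.mp (hcen z.2) _ hc
    exact this
  obtain ⟨w, hw, h⟩ := exists_fixed_not_fixed_class_two hp hWp hQ hA hQW hAW hAQ hcl hneW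
  exact ⟨w, hWR hw, h⟩

end Cfsg.Agent.Lib.Helper3
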