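import Mathlib
import Cfsg.Prelude.Def_LocalEven
import Cfsg.Agent.Lib.Helper3.ChiefEngel

set_option autoImplicit false
set_option linter.unusedSectionVars false
set_option linter.style.haveILetI false
open scoped commutatorElement
open scoped IsMulCommutative
open Cfsg Cfsg.Agent.Lib.Helper1 Cfsg.Agent.Lib.Helper4

/-! Groups with a normal series whose factors are a `p`-group, an abelian `p'`-group and a
`p`-group are `p`-stable in the normalizer form (for odd `p`). -/

namespace Cfsg.Agent.Lib.Helper3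

/-- groups with a normal series with factors a `p`-group, an abelian `p'`-group, a `p`-group -/
def PAP (p : ℕ) (M : Type*) [Group M] : Prop :=
  ∃ M₁ M₂ : Subgroup M, M₁.Normal ∧ M₂.Normal ∧ IsPGroup p M₁ ∧
    (∀ x ∈ M₂, ∀ y ∈ M₂, ⁅x, y⁆ ∈ M₁) ∧
    (∀ x ∈ M₂, ∃ m : ℕ, m.Coprime p ∧ x ^ m ∈ M₁) ∧
    (∀ x : M, ∃ k : ℕ, x ^ (p ^ k) ∈ M₂)

theorem PAP.subgroup {p : ℕ} {M : Type*} [Group M] (h : PAP p M) (H : Subgroup M) :
    PAP p ↥H := by
  obtain ⟨M₁, M₂, h1, h2, hp1, hc, hm, hk⟩ := h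
  refine ⟨M₁.subgroupOf H, M₂.subgroupOf H, h1.subgroupOf H, h2.subgroupOf H,
    hp1.comap_subtype, ?_, ?_, ?_⟩
  · intro x hx y hy
    rw [Subgroup.mem_subgroupOf] at hx hy ⊢
    have := hc _ hx _ hy
    simpa [commutatorElement_def] using this
  · intro x hx
    rw [Subgroup.mem_subgroupOf] at hx
    obtain ⟨m, hm1, hm2⟩ := hm _ hx
    refine ⟨m, hm1, ?_⟩
    rw [Subgroup.mem_subgroupOf, Subgroup.coe_pow]
    exact hm2
  · intro x
    obtain ⟨k, hk1⟩ := hk (x : M)
    refine ⟨k, ?_⟩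
    rw [Subgroup.mem_subgroupOf, Subgroup.coe_pow]
    exact hk1

theorem PAP.of_surjective {p : ℕ} {M N : Type*} [Group M] [Group N] (h : PAP p M) (f : M →* N)
    (hf : Function.Surjective f) : PAP p N := by
  obtain ⟨M₁, M₂, h1, h2, hp1, hc, hm, hk⟩ := h
  refine ⟨M₁.map f, M₂.map f, h1.map f hf, h2.map f hf, hp1.map f, ?_, ?_, ?_⟩
  · rintro _ ⟨x, hx, rfl⟩ _ ⟨y, hy, rfl⟩
    rw [← map_commutatorElement]
    exact Subgroup.mem_map_of_mem f (hc x hx y hy)
  · rintro _ ⟨x, hx, rfl⟩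
    obtain ⟨m, hm1, hm2⟩ := hm x hx
    refine ⟨m, hm1, ?_⟩
    rw [← map_pow]
    exact Subgroup.mem_map_of_mem f hm2
  · intro y
    obtain ⟨x, rfl⟩ := hf y
    obtain ⟨k, hk1⟩ := hk x
    refine ⟨k, ?_⟩
    rw [← map_pow]
    exact Subgroup.mem_map_of_mem f hk1

theorem PAP.section {p : ℕ} {M : Type*} [Group M] (h : PAP p M) (K R : Subgroup M)
    [(R.subgroupOf K).Normal] : PAP p (↥K ⧸ R.subgroupOf K) :=
  (h.subgroup K).of_surjective (QuotientGroup.mk' _) (QuotientGroup.mk'_surjective _)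

section stab
variable {M : Type*} [Group M] [Finite M] {p : ℕ} [Fact p.Prime]

lemma isPGroup_zpowers_of_pow_pap {g : M} (hgp : ∃ k : ℕ, g ^ (p ^ k) = 1) :
    IsPGroup p ↥(Subgroup.zpowers g) := by
  obtain ⟨k, hk⟩ := hgp
  rintro ⟨x, hx⟩
  obtain ⟨i, rfl⟩ := Subgroup.mem_zpowers_iff.mp hx
  refine ⟨k, Subtype.ext ?_⟩
  rw [Subgroup.coe_pow, Subgroup.coe_one]
  show (g ^ i) ^ (p ^ k) = 1
  rw [← zpow_natCast, ← zpow_mul, mul_comm, zpow_mul, zpow_natCast, hk, one_zpow]

/-- quadratic action is inherited by powers -/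
lemma quad_of_mem_zpowers {P : Subgroup M} {g z : M}
    (hq : ⁅⁅P, Subgroup.zpowers g⁆, Subgroup.zpowers g⁆ = ⊥) (hz : z ∈ Subgroup.zpowers g) :
    ∀ v ∈ P, z * (z * v * z⁻¹ * v⁻¹) * z⁻¹ = z * v * z⁻¹ * v⁻¹ := by
  intro v hv
  have h2 : ⁅z, v⁆ ∈ ⁅P, Subgroup.zpowers g⁆ := by
    rw [Subgroup.commutator_comm]
    exact Subgroup.commutator_mem_commutator hz hv
  have h3 : ⁅⁅z, v⁆, z⁆ ∈ ⁅⁅P, Subgroup.zpowers g⁆, Subgroup.zpowers g⁆ :=
    Subgroup.commutator_mem_commutator h2 hz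
  rw [hq, Subgroup.mem_bot] at h3
  have h4 : ⁅z, v⁆ * z = z * ⁅z, v⁆ := commutatorElement_eq_one_iff_mul_comm.mp h3
  rw [commutatorElement_def] at h4
  rw [← h4]; group

/-- the main induction: a quadratically acting `p`-element lies in a normal subgroup acting as a
`p`-group -/
theorem inOp_of_pap (hp2 : p ≠ 2) (hM : PAP p M) (P : Subgroup M) [hPn : P.Normal]
    (hPp : IsPGroup p P) (g : M) (hgp : ∃ k : ℕ, g ^ (p ^ k) = 1)
    (hq : ⁅⁅P, Subgroup.zpowers g⁆, Subgroup.zpowers g⁆ = ⊥) :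
    ∀ n : ℕ, ∀ V : Subgroup M, V.Normal → V ≤ P → Nat.card V = n →
      ∃ D : Subgroup M, D.Normal ∧ g ∈ D ∧
        ∀ d ∈ D, ∃ k : ℕ, ∀ v ∈ V, d ^ (p ^ k) * v = v * d ^ (p ^ k) := by
  have hpp : p.Prime := Fact.out
  obtain ⟨M₁, M₂, hM1n, hM2n, hM1p, hMc, hMm, hMk⟩ := hM
  haveI := hM1n
  haveI := hM2n
  intro n
  induction n using Nat.strong_induction_on with
  | _ n ih =>
  intro V hVn hVP hcard
  by_cases hV1 : V = ⊥
  · refine ⟨⊤, inferInstance, Subgroup.mem_top _, ?_⟩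
    intro d _
    refine ⟨0, ?_⟩
    intro v hv
    rw [hV1, Subgroup.mem_bot] at hv
    rw [hv, mul_one, one_mul]
  let 𝒮 : Set (Subgroup M) := {Y | Y.Normal ∧ Y < V}
  have hne : 𝒮.Nonempty := ⟨⊥, inferInstance, bot_lt_iff_ne_bot.mpr hV1⟩
  obtain ⟨W, ⟨hWn, hWlt⟩, hWmax⟩ :=
    Set.exists_max_image 𝒮 (fun Y => Nat.card ↥Y) (Set.toFinite _) hne
  haveI := hWn
  have hsurj : Function.Surjective (QuotientGroup.mk' W) := QuotientGroup.mk'_surjective W
  have hUhn : (V.map (QuotientGroup.mk' W)).Normal := hVn.map _ hsurj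
  have hQn : (M₁ ⊔ P).Normal := inferInstance
  have hQp : IsPGroup p ↥(M₁ ⊔ P) := IsPGroup.to_sup_of_normal_right hM1p hPp
  have hQhn : ((M₁ ⊔ P).map (QuotientGroup.mk' W)).Normal := hQn.map _ hsurj
  have hQhp : IsPGroup p ((M₁ ⊔ P).map (QuotientGroup.mk' W)) := hQp.map _
  have hUQ : V.map (QuotientGroup.mk' W) ≤ (M₁ ⊔ P).map (QuotientGroup.mk' W) :=
    Subgroup.map_mono (hVP.trans le_sup_right)
  have hmin : ∀ Y : Subgroup (M ⧸ W), Y.Normal → Y ≤ V.map (QuotientGroup.mk' W) →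
      Y = ⊥ ∨ Y = V.map (QuotientGroup.mk' W) := by
    intro Y hYn hYU
    have hY₀n : (Y.comap (QuotientGroup.mk' W)).Normal := hYn.comap _
    have hWY₀ : W ≤ Y.comap (QuotientGroup.mk' W) := by
      intro w hw
      show QuotientGroup.mk' W w ∈ Y
      have : QuotientGroup.mk' W w = 1 := (QuotientGroup.eq_one_iff w).mpr hw
      rw [this]; exact Y.one_mem
    have hY₀V : Y.comap (QuotientGroup.mk' W) ≤ V := by
      intro y hy
      have h1 : QuotientGroup.mk' W y ∈ V.map (QuotientGroup.mk' W) := hYU hy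
      obtain ⟨v, hv, hvy⟩ := Subgroup.mem_map.mp h1
      have h2 : v⁻¹ * y ∈ W := QuotientGroup.eq.mp hvy
      have : y = v * (v⁻¹ * y) := by group
      rw [this]; exact V.mul_mem hv (hWlt.le h2)
    have hmap : (Y.comap (QuotientGroup.mk' W)).map (QuotientGroup.mk' W) = Y :=
      Subgroup.map_comap_eq_self_of_surjective hsurj Y
    by_cases hYV : Y.comap (QuotientGroup.mk' W) = V
    · right; rw [← hmap, hYV]
    · left
      have hlt : Y.comap (QuotientGroup.mk' W) < V := lt_of_le_of_ne hY₀V hYV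
      have hc := hWmax _ ⟨hY₀n, hlt⟩
      have hYW : Y.comap (QuotientGroup.mk' W) = W := (Subgroup.eq_of_le_of_card_ge hWY₀ hc).symm
      rw [← hmap, hYW, eq_bot_iff]
      rintro _ ⟨w, hw, rfl⟩
      exact Subgroup.mem_bot.mpr ((QuotientGroup.eq_one_iff w).mpr hw)
  have hcent := minimal_normal_central _ _ hQhp hUQ hmin
  have hexp := minimal_normal_exponent _ _ hQhp hUQ hmin
  haveI : IsMulCommutative ↥(V.map (QuotientGroup.mk' W)) :=
    IsMulCommutative.of_comm (fun u w => Subtype.ext (hcent w.1 w.2 u.1 (hUQ u.2)))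
  let θM : M →* MulAut ↥(V.map (QuotientGroup.mk' W)) :=
    (MulAut.conjNormal (H := V.map (QuotientGroup.mk' W))).comp (QuotientGroup.mk' W)
  have hθM : ∀ (y : M) (u : ↥(V.map (QuotientGroup.mk' W))),
      ((θM y u : ↥(V.map (QuotientGroup.mk' W))) : M ⧸ W) =
        QuotientGroup.mk' W y * u * (QuotientGroup.mk' W y)⁻¹ := by
    intro y u
    exact MulAut.conjNormal_apply _ _
  have hker_iff : ∀ y : M, y ∈ θM.ker ↔ ∀ u ∈ V.map (QuotientGroup.mk' W),
      QuotientGroup.mk' W y * u * (QuotientGroup.mk' W y)⁻¹ = u := by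
    intro y
    rw [MonoidHom.mem_ker]
    constructor
    · intro h u hu
      have := hθM y ⟨u, hu⟩
      rw [h, MulAut.one_apply] at this
      exact this.symm
    · intro h
      ext u
      rw [hθM, MulAut.one_apply]
      exact h u.1 u.2
  have hM1ker : M₁ ≤ θM.ker := by
    intro y hy
    rw [hker_iff]
    intro u hu
    have h1 := hcent u hu (QuotientGroup.mk' W y)
      (Subgroup.mem_map_of_mem _ ((le_sup_left : M₁ ≤ M₁ ⊔ P) hy))
    rw [h1]; group
  have hUexp : ∀ u : ↥(V.map (QuotientGroup.mk' W)), u ^ p = 1 :=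
    fun u => Subtype.ext (by rw [Subgroup.coe_pow]; exact hexp u.1 u.2)
  -- the chief factor claim
  have hgker : g ∈ θM.ker := by
    by_contra hgk
    obtain ⟨g', hg'z, hg'k, hg'p⟩ := exists_pow_not_mem (p := p) (Q := θM.ker) hgp hgk
    obtain ⟨T, hT⟩ := IsPGroup.exists_le_sylow (isPGroup_zpowers_of_pow_pap hgp)
    have hg'T : g' ∈ (T : Subgroup M) := hT hg'z
    have hkn : (θM.ker).Normal := MonoidHom.normal_ker θM
    have hsurjk : Function.Surjective (QuotientGroup.mk' θM.ker) :=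
      QuotientGroup.mk'_surjective _
    let θ : M ⧸ θM.ker →* MulAut ↥(V.map (QuotientGroup.mk' W)) := QuotientGroup.kerLift θM
    have hθinj : Function.Injective θ := QuotientGroup.kerLift_injective θM
    have hθmk : ∀ y : M, θ (QuotientGroup.mk' θM.ker y) = θM y := fun y => rfl
    have hFn : (M₂.map (QuotientGroup.mk' θM.ker)).Normal := hM2n.map _ hsurjk
    have habF : ∀ x ∈ M₂.map (QuotientGroup.mk' θM.ker), ∀ y ∈ M₂.map (QuotientGroup.mk' θM.ker),
        x * y = y * x := by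
      rintro _ ⟨x, hx, rfl⟩ _ ⟨y, hy, rfl⟩
      have h1 : ⁅x, y⁆ ∈ θM.ker := hM1ker (hMc x hx y hy)
      have h2 : QuotientGroup.mk' θM.ker ⁅x, y⁆ = 1 := (QuotientGroup.eq_one_iff _).mpr h1
      rw [map_commutatorElement] at h2
      exact commutatorElement_eq_one_iff_mul_comm.mp h2
    have hFcop : (Nat.card ↥(M₂.map (QuotientGroup.mk' θM.ker))).Coprime p := by
      rw [Nat.coprime_comm, Nat.Prime.coprime_iff_not_dvd hpp]
      intro hdvd
      obtain ⟨⟨y, hy⟩, hyo⟩ := exists_prime_orderOf_dvd_card'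
        (G := ↥(M₂.map (QuotientGroup.mk' θM.ker))) p hdvd
      obtain ⟨x, hx, rfl⟩ := Subgroup.mem_map.mp hy
      obtain ⟨m, hm1, hm2⟩ := hMm x hx
      have h1 : (QuotientGroup.mk' θM.ker x) ^ m = 1 := by
        rw [← map_pow]; exact (QuotientGroup.eq_one_iff _).mpr (hM1ker hm2)
      have h2 : orderOf (QuotientGroup.mk' θM.ker x) = p := by
        rw [← hyo, Subgroup.orderOf_mk]
      have h3 : p ∣ m := by rw [← h2]; exact orderOf_dvd_of_pow_eq_one h1
      have h4 : p ∣ Nat.gcd m p := Nat.dvd_gcd h3 dvd_rfl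
      rw [hm1] at h4
      exact hpp.one_lt.ne' (Nat.dvd_one.mp h4)
    have hbF : ∀ k ∈ M₂.map (QuotientGroup.mk' θM.ker),
        QuotientGroup.mk' θM.ker g' * k * (QuotientGroup.mk' θM.ker g')⁻¹ ∈
          M₂.map (QuotientGroup.mk' θM.ker) := fun k hk => hFn.conj_mem k hk _
    have hbp1 : (QuotientGroup.mk' θM.ker g') ^ p = 1 := by
      rw [← map_pow]; exact (QuotientGroup.eq_one_iff _).mpr hg'p
    have hap : ∀ k ∈ M₂.map (QuotientGroup.mk' θM.ker),
        (QuotientGroup.mk' θM.ker g') ^ p * k * ((QuotientGroup.mk' θM.ker g') ^ p)⁻¹ = k := by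
      intro k _
      rw [hbp1, one_mul, inv_one, mul_one]
    have hcop' : (Nat.card ↥(commPart (M₂.map (QuotientGroup.mk' θM.ker))
        (QuotientGroup.mk' θM.ker g') habF hbF)).Coprime p :=
      Nat.Coprime.coprime_dvd_left (Subgroup.card_dvd_of_le commPart_le) hFcop
    have hquad' : ∀ u : ↥(V.map (QuotientGroup.mk' W)),
        θ (QuotientGroup.mk' θM.ker g') (θ (QuotientGroup.mk' θM.ker g') u * u⁻¹) =
          θ (QuotientGroup.mk' θM.ker g') u * u⁻¹ := by
      intro u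
      obtain ⟨v, hv, hvu⟩ := Subgroup.mem_map.mp u.2
      apply Subtype.ext
      rw [hθmk, hθM g', Subgroup.coe_mul, Subgroup.coe_inv, hθM g', ← hvu]
      have := congrArg (QuotientGroup.mk' W) (quad_of_mem_zpowers hq hg'z v (hVP hv))
      simpa only [map_mul, map_inv] using this
    have hfp := fp_lemma (H := M ⧸ θM.ker) (U := ↥(V.map (QuotientGroup.mk' W))) hp2 hUexp θ
      (commPart (M₂.map (QuotientGroup.mk' θM.ker)) (QuotientGroup.mk' θM.ker g') habF hbF)
      hcop' (QuotientGroup.mk' θM.ker g') commPart_conj (fun e he => hap e (commPart_le he))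
      (commPart_fpf hFcop hap) hquad'
    have hbot : commPart (M₂.map (QuotientGroup.mk' θM.ker)) (QuotientGroup.mk' θM.ker g')
        habF hbF = ⊥ := by
      rw [eq_bot_iff]
      intro e he
      rw [Subgroup.mem_bot]
      apply hθinj
      rw [map_one]
      ext u
      rw [hfp e he u, MulAut.one_apply]
    have hcentF := commPart_eq_bot_iff.mp hbot
    -- the normal `p`-subgroup containing the image of `g'`
    have hMM₂ : IsPGroup p (M ⧸ M₂) := by
      intro y
      induction y using QuotientGroup.induction_on with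
      | H x =>
        obtain ⟨k, hk⟩ := hMk x
        refine ⟨k, ?_⟩
        rw [← QuotientGroup.mk_pow, QuotientGroup.eq_one_iff]
        exact hk
    have hsup : M₂ ⊔ (T : Subgroup M) = ⊤ := sup_sylow_eq_top M₂ hMM₂ T
    have hsup' : M₂.map (QuotientGroup.mk' θM.ker) ⊔
        (T : Subgroup M).map (QuotientGroup.mk' θM.ker) = ⊤ := by
      rw [← Subgroup.map_sup, hsup, Subgroup.map_top_of_surjective _ hsurjk]
    have hTbp : IsPGroup p ↥((T : Subgroup M).map (QuotientGroup.mk' θM.ker)) := T.isPGroup'.map _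
    have hDn : ((T : Subgroup M).map (QuotientGroup.mk' θM.ker) ⊓
        Subgroup.centralizer ((M₂.map (QuotientGroup.mk' θM.ker) : Subgroup _) : Set _)).Normal := by
      rw [← Subgroup.normalizer_eq_top_iff, eq_top_iff, ← hsup']
      apply sup_le
      · refine le_trans ?_ (Subgroup.centralizer_le_normalizer _)
        rw [Subgroup.le_centralizer_iff]
        exact inf_le_right
      · refine le_trans ?_ (normalizer_inf_normalizer_le _ _)
        apply le_inf
        · exact Subgroup.le_normalizer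
        · exact le_normalizer_of_normal inferInstance _
    have hbD : QuotientGroup.mk' θM.ker g' ∈ (T : Subgroup M).map (QuotientGroup.mk' θM.ker) ⊓
        Subgroup.centralizer ((M₂.map (QuotientGroup.mk' θM.ker) : Subgroup _) : Set _) := by
      refine Subgroup.mem_inf.mpr ⟨Subgroup.mem_map_of_mem _ hg'T, ?_⟩
      rw [Subgroup.mem_centralizer_iff]
      intro k hk
      have := hcentF k hk
      exact (mul_inv_eq_iff_eq_mul.mp this).symm
    set N : Subgroup M := ((T : Subgroup M).map (QuotientGroup.mk' θM.ker) ⊓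
        Subgroup.centralizer ((M₂.map (QuotientGroup.mk' θM.ker) : Subgroup _) : Set _)).comap
          (QuotientGroup.mk' θM.ker) with hN
    have hNn : N.Normal := hDn.comap _
    have hg'N : g' ∈ N := hbD
    have hNbn : (N.map (QuotientGroup.mk' W)).Normal := hNn.map _ hsurj
    have hne' : V.map (QuotientGroup.mk' W) ≠ ⊥ := by
      intro h0
      apply hWlt.not_ge
      intro v hv
      have h1 : QuotientGroup.mk' W v ∈ V.map (QuotientGroup.mk' W) :=
        Subgroup.mem_map_of_mem _ hv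
      rw [h0, Subgroup.mem_bot] at h1
      exact (QuotientGroup.eq_one_iff v).mp h1
    have hTp : IsPGroup p ↥((T : Subgroup M).map (QuotientGroup.mk' W)) := T.isPGroup'.map _
    have hUp : IsPGroup p ↥(V.map (QuotientGroup.mk' W)) := hQhp.to_le hUQ
    have hlt : ⁅V.map (QuotientGroup.mk' W), (T : Subgroup M).map (QuotientGroup.mk' W)⁆ <
        V.map (QuotientGroup.mk' W) :=
      commutator_lt_of_pgroup hTp hUp (le_normalizer_of_normal inferInstance _) hne'
    have hle : ⁅V.map (QuotientGroup.mk' W), N.map (QuotientGroup.mk' W)⁆ ≤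
        ⁅V.map (QuotientGroup.mk' W), (T : Subgroup M).map (QuotientGroup.mk' W)⁆ := by
      rw [Subgroup.commutator_le]
      rintro u hu _ ⟨y, hy, rfl⟩
      have hy' : QuotientGroup.mk' θM.ker y ∈ (T : Subgroup M).map (QuotientGroup.mk' θM.ker) :=
        (Subgroup.mem_inf.mp hy).1
      obtain ⟨t, ht, hty⟩ := Subgroup.mem_map.mp hy'
      have hκ : t⁻¹ * y ∈ θM.ker := QuotientGroup.eq.mp hty
      have hκ' := (hker_iff _).mp hκ u⁻¹ (Subgroup.inv_mem _ hu)
      have hyt : y = t * (t⁻¹ * y) := by group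
      have h2 : ⁅u, QuotientGroup.mk' W y⁆ = ⁅u, QuotientGroup.mk' W t⁆ := by
        rw [hyt, commutatorElement_def, commutatorElement_def, map_mul]
        calc u * (QuotientGroup.mk' W t * QuotientGroup.mk' W (t⁻¹ * y)) * u⁻¹ *
              (QuotientGroup.mk' W t * QuotientGroup.mk' W (t⁻¹ * y))⁻¹
            = u * QuotientGroup.mk' W t * (QuotientGroup.mk' W (t⁻¹ * y) * u⁻¹ *
                (QuotientGroup.mk' W (t⁻¹ * y))⁻¹) * (QuotientGroup.mk' W t)⁻¹ := by group
          _ = u * QuotientGroup.mk' W t * u⁻¹ * (QuotientGroup.mk' W t)⁻¹ := by rw [hκ']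
      rw [h2]
      exact Subgroup.commutator_mem_commutator hu (Subgroup.mem_map_of_mem _ ht)
    have hCn : (⁅V.map (QuotientGroup.mk' W), N.map (QuotientGroup.mk' W)⁆).Normal := inferInstance
    have hCU : ⁅V.map (QuotientGroup.mk' W), N.map (QuotientGroup.mk' W)⁆ ≤
        V.map (QuotientGroup.mk' W) := Subgroup.commutator_le_left _ _
    have hC0 : ⁅V.map (QuotientGroup.mk' W), N.map (QuotientGroup.mk' W)⁆ = ⊥ := by
      rcases hmin _ hCn hCU with h1 | h1
      · exact h1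
      · exfalso
        rw [h1] at hle
        exact hlt.not_ge hle
    apply hg'k
    rw [hker_iff]
    intro u hu
    have h1 : ⁅u, QuotientGroup.mk' W g'⁆ ∈
        ⁅V.map (QuotientGroup.mk' W), N.map (QuotientGroup.mk' W)⁆ :=
      Subgroup.commutator_mem_commutator hu (Subgroup.mem_map_of_mem _ hg'N)
    rw [hC0, Subgroup.mem_bot] at h1
    have h2 : u * QuotientGroup.mk' W g' = QuotientGroup.mk' W g' * u :=
      commutatorElement_eq_one_iff_mul_comm.mp h1
    rw [← h2]; group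
  -- conclusion of the induction step
  have hWcard : Nat.card ↥W < n := by rw [← hcard]; exact card_lt_card_of_lt hWlt
  obtain ⟨D₀, hD₀n, hgD₀, hD₀⟩ := ih _ hWcard W hWn (hWlt.le.trans hVP) rfl
  haveI := hD₀n
  have hkn : (θM.ker).Normal := MonoidHom.normal_ker θM
  refine ⟨D₀ ⊓ θM.ker, inferInstance, Subgroup.mem_inf.mpr ⟨hgD₀, hgker⟩, ?_⟩
  intro d hd
  obtain ⟨hd0, hdk⟩ := Subgroup.mem_inf.mp hd
  obtain ⟨k₀, hk₀⟩ := hD₀ d hd0
  obtain ⟨e, he⟩ := IsPGroup.iff_card.mp (hPp.to_le (hWlt.le.trans hVP))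
  refine ⟨k₀ + e, ?_⟩
  intro v hv
  have hxk : d ^ (p ^ k₀) ∈ θM.ker := Subgroup.pow_mem _ hdk _
  have hcW : ⁅d ^ (p ^ k₀), v⁆ ∈ W := by
    have h1 := (hker_iff _).mp hxk (QuotientGroup.mk' W v) (Subgroup.mem_map_of_mem _ hv)
    apply (QuotientGroup.eq_one_iff _).mp
    show QuotientGroup.mk' W ⁅d ^ (p ^ k₀), v⁆ = 1
    rw [commutatorElement_def, map_mul, map_mul, map_mul, map_inv, map_inv, h1, mul_inv_cancel]
  have hcomm : d ^ (p ^ k₀) * ⁅d ^ (p ^ k₀), v⁆ = ⁅d ^ (p ^ k₀), v⁆ * d ^ (p ^ k₀) :=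
    hk₀ _ hcW
  have h1 := conj_pow_of_comm_commutator hcomm (p ^ e)
  have h2 : ⁅d ^ (p ^ k₀), v⁆ ^ (p ^ e) = 1 := by
    have := pow_card_eq_one' (G := ↥W) (x := ⟨_, hcW⟩)
    rw [he] at this
    exact congrArg Subtype.val this
  rw [h2, one_mul, ← pow_mul, ← pow_add] at h1
  exact mul_inv_eq_iff_eq_mul.mp h1

/-- in a group of type `p`, abelian `p'`, `p` a quadratically acting element acts as an element
of `O_p` of the automizer -/
theorem mem_pCore_of_pap (hp2 : p ≠ 2) (hM : PAP p M) (P : Subgroup M) [hPn : P.Normal]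
    (hPp : IsPGroup p P) (C : Subgroup M) [hCn : C.Normal]
    (hC : ∀ x : M, x ∈ C ↔ ∀ v ∈ P, x * v = v * x) (g : M)
    (hq : ⁅⁅P, Subgroup.zpowers g⁆, Subgroup.zpowers g⁆ = ⊥) :
    (QuotientGroup.mk g : M ⧸ C) ∈ Cfsg.pCore p (M ⧸ C) := by
  have hpp : p.Prime := Fact.out
  -- a `p`-power of `g` centralizes `P`
  obtain ⟨e, he⟩ := IsPGroup.iff_card.mp hPp
  have hgC : g ^ (p ^ e) ∈ C := by
    rw [hC]
    intro v hv
    have hquad := quad_of_mem_zpowers hq (Subgroup.mem_zpowers g) v hv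
    have hcomm : g * ⁅g, v⁆ = ⁅g, v⁆ * g := by
      rw [commutatorElement_def]
      calc g * (g * v * g⁻¹ * v⁻¹) = (g * (g * v * g⁻¹ * v⁻¹) * g⁻¹) * g := by group
        _ = g * v * g⁻¹ * v⁻¹ * g := by rw [hquad]
    have h1 := conj_pow_of_comm_commutator hcomm (p ^ e)
    have hcP : ⁅g, v⁆ ∈ P := by
      rw [commutatorElement_def]
      exact P.mul_mem (hPn.conj_mem v hv g) (P.inv_mem hv)
    have h2 : ⁅g, v⁆ ^ (p ^ e) = 1 := by
      have := pow_card_eq_one' (G := ↥P) (x := ⟨_, hcP⟩)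
      rw [he] at this
      exact congrArg Subtype.val this
    rw [h2, one_mul] at h1
    exact mul_inv_eq_iff_eq_mul.mp h1
  -- the `p`-part of `g`
  have ho : orderOf g ≠ 0 := (orderOf_pos g).ne'
  obtain ⟨s, t, hpt, hst⟩ := Nat.exists_eq_pow_mul_and_not_dvd ho p hpp.one_lt.ne'
  have hcop : Nat.Coprime (p ^ s) t :=
    Nat.Coprime.pow_left s ((Nat.Prime.coprime_iff_not_dvd hpp).mpr hpt)
  have hbez : ((p ^ s : ℕ) : ℤ) * Nat.gcdA (p ^ s) t + (t : ℤ) * Nat.gcdB (p ^ s) t = 1 := by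
    have := Nat.gcd_eq_gcd_ab (p ^ s) t
    rw [hcop] at this
    rw [← this]; rfl
  set gq : M := (g ^ (p ^ s)) ^ (Nat.gcdA (p ^ s) t) with hgq
  set gp : M := (g ^ t) ^ (Nat.gcdB (p ^ s) t) with hgp
  have hg_eq : g = gq * gp := by
    rw [hgq, hgp, ← zpow_natCast g (p ^ s), ← zpow_natCast g t, ← zpow_mul, ← zpow_mul,
      ← zpow_add, hbez, zpow_one]
  have hgp_pow : gp ^ (p ^ s) = 1 := by
    rw [hgp, ← zpow_natCast, ← zpow_mul, mul_comm, zpow_mul, zpow_natCast, ← pow_mul, mul_comm,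
      ← hst, pow_orderOf_eq_one, one_zpow]
  have hgq_pow : gq ^ t = 1 := by
    rw [hgq, ← zpow_natCast, ← zpow_mul, mul_comm, zpow_mul, zpow_natCast, ← pow_mul,
      ← hst, pow_orderOf_eq_one, one_zpow]
  have hgpz : gp ∈ Subgroup.zpowers g :=
    Subgroup.zpow_mem _ (Subgroup.pow_mem _ (Subgroup.mem_zpowers g) _) _
  have hgqz : gq ∈ Subgroup.zpowers g :=
    Subgroup.zpow_mem _ (Subgroup.pow_mem _ (Subgroup.mem_zpowers g) _) _
  have hgqC : gq ∈ C := by
    have h1 : (QuotientGroup.mk' C g) ^ (p ^ e) = 1 := by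
      rw [← map_pow]; exact (QuotientGroup.eq_one_iff _).mpr hgC
    have h2 : (QuotientGroup.mk' C gq) ^ (p ^ e) = 1 := by
      rw [hgq, map_zpow, map_pow, ← zpow_natCast, ← zpow_mul, mul_comm, zpow_mul, zpow_natCast,
        ← pow_mul, mul_comm, pow_mul, h1, one_pow, one_zpow]
    have h3 : (QuotientGroup.mk' C gq) ^ t = 1 := by
      rw [← map_pow, hgq_pow, map_one]
    have h4 : orderOf (QuotientGroup.mk' C gq) = 1 :=
      Nat.eq_one_of_dvd_coprimes (Nat.Coprime.pow_left e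
        ((Nat.Prime.coprime_iff_not_dvd hpp).mpr hpt))
        (orderOf_dvd_of_pow_eq_one h2) (orderOf_dvd_of_pow_eq_one h3)
    exact (QuotientGroup.eq_one_iff _).mp (orderOf_eq_one_iff.mp h4)
  have hqp : ⁅⁅P, Subgroup.zpowers gp⁆, Subgroup.zpowers gp⁆ = ⊥ := by
    have hzle : Subgroup.zpowers gp ≤ Subgroup.zpowers g := Subgroup.zpowers_le.mpr hgpz
    rw [eq_bot_iff, ← hq]
    exact Subgroup.commutator_mono (Subgroup.commutator_mono le_rfl hzle) hzle
  obtain ⟨D, hDn, hgD, hD⟩ := inOp_of_pap hp2 hM P hPp gp ⟨s, hgp_pow⟩ hqp _ P hPn le_rfl rfl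
  have hDbn : (D.map (QuotientGroup.mk' C)).Normal := hDn.map _ (QuotientGroup.mk'_surjective C)
  have hDbp : IsPGroup p ↥(D.map (QuotientGroup.mk' C)) := by
    rintro ⟨_, d, hd, rfl⟩
    obtain ⟨k, hk⟩ := hD d hd
    refine ⟨k, Subtype.ext ?_⟩
    rw [Subgroup.coe_pow, Subgroup.coe_one]
    show (QuotientGroup.mk' C d) ^ (p ^ k) = 1
    rw [← map_pow]
    apply (QuotientGroup.eq_one_iff _).mpr
    rw [hC]
    exact hk
  have hmem : QuotientGroup.mk' C gp ∈ Cfsg.pCore p (M ⧸ C) :=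
    le_pCore _ hDbn hDbp (Subgroup.mem_map_of_mem _ hgD)
  have hmk : (QuotientGroup.mk g : M ⧸ C) = QuotientGroup.mk' C gp := by
    show QuotientGroup.mk' C g = QuotientGroup.mk' C gp
    have h0 : QuotientGroup.mk' C gq = 1 := (QuotientGroup.eq_one_iff gq).mpr hgqC
    rw [hg_eq, map_mul, h0, one_mul]
  rw [hmk]
  exact hmem

end stab

/-- groups of type `p`, abelian `p'`, `p` are `p`-stable in the normalizer form -/
theorem normalizerPStable_of_pap {p : ℕ} [Fact p.Prime] (hp2 : p ≠ 2) {Z : Type*} [Group Z]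
    [Finite Z] (hZ : PAP p Z) : Cfsg.IsNormalizerPStable p Z := by
  intro P hP g hg hq
  have hMpap : PAP p ↥(Subgroup.normalizer (P : Set Z)) := hZ.subgroup _
  haveI hP'n : (P.subgroupOf (Subgroup.normalizer (P : Set Z))).Normal :=
    Subgroup.normal_in_normalizer
  have hP'p : IsPGroup p ↥(P.subgroupOf (Subgroup.normalizer (P : Set Z))) := hP.comap_subtype
  apply mem_pCore_of_pap hp2 hMpap (P.subgroupOf (Subgroup.normalizer (P : Set Z))) hP'p
  · intro x
    rw [Subgroup.mem_subgroupOf, Subgroup.mem_centralizer_iff]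
    constructor
    · intro h v hv
      apply Subtype.ext
      rw [Subgroup.coe_mul, Subgroup.coe_mul]
      exact (h (v : Z) (Subgroup.mem_subgroupOf.mp hv)).symm
    · intro h v hv
      have hvN : v ∈ Subgroup.normalizer (P : Set Z) := Subgroup.le_normalizer hv
      have := h ⟨v, hvN⟩ (Subgroup.mem_subgroupOf.mpr hv)
      have h2 := congrArg Subtype.val this
      rw [Subgroup.coe_mul, Subgroup.coe_mul] at h2
      exact h2.symm
  · rw [eq_bot_iff, Subgroup.commutator_le]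
    have hzmap : (Subgroup.zpowers (⟨g, hg⟩ : ↥(Subgroup.normalizer (P : Set Z)))).map
        (Subgroup.normalizer (P : Set Z)).subtype = Subgroup.zpowers g := by
      rw [MonoidHom.map_zpowers]; rfl
    have hPmap : (P.subgroupOf (Subgroup.normalizer (P : Set Z))).map
        (Subgroup.normalizer (P : Set Z)).subtype ≤ P := by
      rw [Subgroup.subgroupOf_map_subtype]; exact inf_le_left
    intro c hc z hz
    have hc' : (c : Z) ∈ ⁅P, Subgroup.zpowers g⁆ := by
      have h1 : (Subgroup.normalizer (P : Set Z)).subtype c ∈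
          (⁅P.subgroupOf (Subgroup.normalizer (P : Set Z)),
            Subgroup.zpowers (⟨g, hg⟩ : ↥(Subgroup.normalizer (P : Set Z)))⁆).map
            (Subgroup.normalizer (P : Set Z)).subtype := Subgroup.mem_map_of_mem _ hc
      rw [Subgroup.map_commutator, hzmap] at h1
      exact Subgroup.commutator_mono hPmap le_rfl h1
    have hz' : (z : Z) ∈ Subgroup.zpowers g := by
      rw [← hzmap]; exact Subgroup.mem_map_of_mem _ hz
    have h2 : ⁅(c : Z), (z : Z)⁆ ∈ ⁅⁅P, Subgroup.zpowers g⁆, Subgroup.zpowers g⁆ :=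
      Subgroup.commutator_mem_commutator hc' hz'
    rw [hq, Subgroup.mem_bot] at h2
    rw [Subgroup.mem_bot]
    apply Subtype.ext
    rw [Subgroup.coe_one, ← h2]
    simp [commutatorElement_def]

/-- the final configuration of the Glauberman--Thompson induction is of type `p`, abelian `p'`,
`p` -/
theorem pap_of_gtconf {p : ℕ} [Fact p.Prime] {Y : Type*} [Group Y] [Finite Y] {T : Sylow p Y}
    {K : Subgroup Y} (h : GTConf T K) : PAP p Y := by
  haveI := h.hKn
  refine ⟨Cfsg.pCore p Y, K, Cfsg.pCore_normal p Y, h.hKn, pCore_isPGroup, ?_, ?_, ?_⟩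
  · intro x hx y hy
    have h1 := h.kb_comm _ (Subgroup.mem_map_of_mem (opi p Y) hx) _
      (Subgroup.mem_map_of_mem (opi p Y) hy)
    have h2 : opi p Y ⁅x, y⁆ = 1 := by
      rw [map_commutatorElement]
      exact commutatorElement_eq_one_iff_mul_comm.mpr h1
    exact opi_eq_one_iff.mp h2
  · intro x hx
    refine ⟨Nat.card ↥(K.map (opi p Y)), h.hcop, ?_⟩
    have h1 := pow_card_eq_one' (G := ↥(K.map (opi p Y)))
      (x := ⟨opi p Y x, Subgroup.mem_map_of_mem _ hx⟩)
    have h2 := congrArg Subtype.val h1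
    rw [Subgroup.coe_pow, Subgroup.coe_one] at h2
    apply opi_eq_one_iff.mp
    rw [map_pow]
    exact h2
  · intro x
    have hx : x ∈ ((K ⊔ (T : Subgroup Y) : Subgroup Y) : Set Y) := by
      rw [h.hKP]; exact Set.mem_univ _
    rw [Subgroup.normal_mul] at hx
    obtain ⟨k, hk, t, ht, rfl⟩ := hx
    obtain ⟨j, hj⟩ := T.isPGroup' ⟨t, ht⟩
    have hj' : t ^ (p ^ j) = 1 := by
      have := congrArg Subtype.val hj
      simpa using this
    refine ⟨j, ?_⟩
    apply (QuotientGroup.eq_one_iff (N := K) _).mp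
    have h1 : ((k * t : Y) : Y ⧸ K) = ((t : Y) : Y ⧸ K) := by
      rw [QuotientGroup.mk_mul, (QuotientGroup.eq_one_iff k).mpr hk, one_mul]
    rw [QuotientGroup.mk_pow, h1, ← QuotientGroup.mk_pow, hj']
    rfl

end Cfsg.Agent.Lib.Helper3
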