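import Mathlib
import Cfsg.Agent.Lib.Helper3.PConstr2

set_option autoImplicit false
open scoped commutatorElement

universe u

namespace Cfsg.Agent.Lib.Helper3

open Cfsg.Agent.Lib.Helper1

/-- the quotient by `O_{p'}` is functorial for isomorphisms -/
noncomputable def pPrimeQuotientCongr {A B : Type*} [Group A] [Group B] (p : ℕ) (e : A ≃* B) :
    A ⧸ Cfsg.pPrimeCore p A ≃* B ⧸ Cfsg.pPrimeCore p B :=
  QuotientGroup.congr _ _ e (pPrimeCore_map_equiv p e)

/-- `p`-constraint is invariant under isomorphism. -/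
theorem isPConstrained_of_equiv {A B : Type u} [Group A] [Group B] [Finite A] [Finite B]
    {p : ℕ} [Fact p.Prime] (e : A ≃* B) (h : Cfsg.IsPConstrained p A) : Cfsg.IsPConstrained p B := by
  rw [isPConstrained_iff] at h ⊢
  exact charp_of_equiv p (pPrimeQuotientCongr p e) h

/-- a finite group of characteristic `p` has no component -/
lemma no_component_of_charp {A : Type*} [Group A] [Finite A] {p : ℕ} [Fact p.Prime]
    (h : Subgroup.centralizer (Cfsg.pCore p A : Set A) ≤ Cfsg.pCore p A) {L : Subgroup A}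
    (hL : Cfsg.IsComponent L) : False := by
  have hF : Cfsg.generalizedFittingSubgroup A = Cfsg.pCore p A :=
    genFitting_eq_pCore_of_centralizer_le p h
  have h1 : L ≤ Cfsg.pCore p A := by
    rw [← hF]; exact (component_le_layer hL).trans le_sup_left
  apply component_not_solvable hL
  have h2 : IsPGroup p ↥L := (pCore_isPGroup (p := p) (G := A)).to_le h1
  have h3 : Group.IsNilpotent ↥L := h2.isNilpotent
  infer_instance

variable {G : Type u} [Group G] [Finite G]

/-- relative form of `pconstrained_local` -/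
theorem pconstrained_relative {p : ℕ} [Fact p.Prime] {M T H : Subgroup G}
    (hM : Cfsg.IsPConstrained p ↥M) (hTM : T ≤ M) (hT : IsPGroup p ↥T) (hHM : H ≤ M)
    (hHN : H ≤ Subgroup.normalizer (T : Set G))
    (hCH : Subgroup.centralizer (T : Set G) ⊓ M ≤ H)
    (hcase : T ≤ H ∨ H ≤ Subgroup.centralizer (T : Set G)) : Cfsg.IsPConstrained p ↥H := by
  have hT' : IsPGroup p ↥(T.subgroupOf M) := hT.of_equiv (Subgroup.subgroupOfEquivOfLe hTM).symm
  have h1 : H.subgroupOf M ≤ Subgroup.normalizer ((T.subgroupOf M : Subgroup ↥M) : Set ↥M) := by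
    intro x hx
    have hx' : (x : G) ∈ Subgroup.normalizer (T : Set G) := hHN hx
    apply mem_normalizer_of_conj_mem
    · intro y hy
      exact conj_mem_of_mem_normalizer' hx' hy
    · intro y hy
      exact conj_inv_mem_of_mem_normalizer' hx' hy
  have h2 : Subgroup.centralizer ((T.subgroupOf M : Subgroup ↥M) : Set ↥M) ≤ H.subgroupOf M := by
    intro x hx
    apply hCH
    refine ⟨?_, x.2⟩
    show (x : G) ∈ Subgroup.centralizer (T : Set G)
    rw [Subgroup.mem_centralizer_iff]
    intro t ht
    have := Subgroup.mem_centralizer_iff.mp hx ⟨t, hTM ht⟩ ht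
    exact congrArg Subtype.val this
  have h3 : T.subgroupOf M ≤ H.subgroupOf M ∨
      H.subgroupOf M ≤ Subgroup.centralizer ((T.subgroupOf M : Subgroup ↥M) : Set ↥M) := by
    rcases hcase with h | h
    · left
      intro x hx
      exact h hx
    · right
      intro x hx
      rw [Subgroup.mem_centralizer_iff]
      intro t ht
      apply Subtype.ext
      exact Subgroup.mem_centralizer_iff.mp (h hx) (t : G) ht
  have h4 := (pconstrained_local hM hT' h1 h2 h3).1
  exact isPConstrained_of_equiv (Subgroup.subgroupOfEquivOfLe hHM) h4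

/-- If the centralizer of an element of a normal `p`-subgroup is `p`-constrained, so is the group. -/
theorem pconstrained_of_centralizer {X : Type u} [Group X] [Finite X] {p : ℕ} [Fact p.Prime]
    (T : Subgroup X) [hTn : T.Normal] (hT : IsPGroup p ↥T) (x : X) (hx : x ∈ T)
    (hY : Cfsg.IsPConstrained p ↥(Subgroup.centralizer ({x} : Set X))) : Cfsg.IsPConstrained p X := by
  rw [isPConstrained_iff]
  apply centralizer_pCore_quotient_le_of_pLayer
  rw [eq_bot_iff, pLayer_le_iff]
  intro K hK
  exfalso
  set Y := Subgroup.centralizer ({x} : Set X) with hYdef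
  set N := Cfsg.pPrimeCore p X with hN
  -- K centralizes T
  have hKT : ⁅K, T⁆ = ⊥ := by
    have h1 : ⁅K, T⁆ ≤ T := Subgroup.commutator_le_right _ _
    have h2 : ⁅K, T⁆ ≤ N := by
      have hTbn : (T.map (ppi p X)).Normal := hTn.map _ (ppi_surjective p)
      have hTbs : Group.IsSolvable ↥(T.map (ppi p X)) := by
        have h3 : IsPGroup p ↥(T.map (ppi p X)) := hT.map _
        have h4 : Group.IsNilpotent ↥(T.map (ppi p X)) := h3.isNilpotent
        infer_instance
      have h5 := (component_le_layer hK.2.1).trans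
        (layer_le_centralizer_of_solvable (T.map (ppi p X)) hTbs)
      have h6 : ⁅K.map (ppi p X), T.map (ppi p X)⁆ = ⊥ :=
        Subgroup.commutator_eq_bot_iff_le_centralizer.mpr h5
      rw [← Subgroup.map_commutator, Subgroup.map_eq_bot_iff, QuotientGroup.ker_mk'] at h6
      exact h6
    rw [eq_bot_iff]
    intro c hc
    rw [Subgroup.mem_bot]
    exact eq_one_of_mem_pgroup_of_mem_pprime hT (pPrimeCore_coprime p) (h1 hc) (h2 hc)
  have hKY : K ≤ Y := by
    intro k hk
    rw [hYdef, Subgroup.mem_centralizer_iff]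
    intro y hy
    rw [Set.mem_singleton_iff] at hy
    rw [hy]
    exact Subgroup.mem_centralizer_iff.mp
      (Subgroup.commutator_eq_bot_iff_le_centralizer.mp hKT hk) x hx
  set K' := K.subgroupOf Y with hK'
  have hK'sn : K'.IsSubnormal := hK.1.subgroupOf
  have e₀ : ↥K' ≃* ↥K := Subgroup.subgroupOfEquivOfLe hKY
  have hq1 : Cfsg.IsQuasisimple (↥K ⧸ Cfsg.pPrimeCore p ↥K) := pcomp_quotient_quasisimple hK
  have hq2 : Cfsg.IsQuasisimple (↥K' ⧸ Cfsg.pPrimeCore p ↥K') :=
    isQuasisimple_of_mulEquiv (pPrimeQuotientCongr p e₀).symm hq1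
  have hq3 : Cfsg.IsQuasisimple ↥(K'.map (ppi p ↥Y)) :=
    isQuasisimple_of_mulEquiv (subnormalQuotientEquiv hK'sn) hq2
  have hcomp : Cfsg.IsComponent (K'.map (ppi p ↥Y)) :=
    ⟨hK'sn.map (ppi_surjective p), hq3⟩
  exact no_component_of_charp ((isPConstrained_iff p).mp hY) hcomp

end Cfsg.Agent.Lib.Helper3
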