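import Mathlib
import Cfsg.Agent.Lib.Helper3.PConstr3

set_option autoImplicit false
open scoped commutatorElement

universe u

namespace Cfsg.Agent.Lib.Helper3

open Cfsg.Agent.Lib.Helper1

/-- a `p'`-subgroup of `H` normalized by `H` lies in `O_{p'}(H)` -/
lemma le_pPrimeCore_map {G : Type*} [Group G] {p : ℕ} {R H : Subgroup G} (hRH : R ≤ H)
    (hR : (Nat.card ↥R).Coprime p)
    (hn : H ≤ Subgroup.normalizer (R : Set G)) : R ≤ (Cfsg.pPrimeCore p ↥H).map H.subtype := by
  have h1 : (R.subgroupOf H).Normal := Subgroup.normal_subgroupOf_of_le_normalizer hn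
  have h2 : (Nat.card ↥(R.subgroupOf H)).Coprime p := by
    rw [Nat.card_congr (Subgroup.subgroupOfEquivOfLe hRH).toEquiv]
    exact hR
  have h3 : R.subgroupOf H ≤ Cfsg.pPrimeCore p ↥H := le_pPrimeCore _ h1 h2
  intro x hx
  exact ⟨⟨x, hRH hx⟩, h3 (show (⟨x, hRH hx⟩ : H) ∈ R.subgroupOf H from hx), rfl⟩

/-- a finite solvable group is `p`-constrained -/
theorem isPConstrained_of_solvable {X : Type u} [Group X] [Finite X] (p : ℕ) [Fact p.Prime]
    (hs : Group.IsSolvable X) : Cfsg.IsPConstrained p X := by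
  rw [isPConstrained_iff]
  apply centralizer_pCore_quotient_le_of_pLayer
  rw [eq_bot_iff, pLayer_le_iff]
  intro K hK
  exfalso
  apply component_not_solvable hK.2.1
  infer_instance

variable {G : Type u} [Group G] [Finite G]

/-- relative form of the second half of `pconstrained_local` -/
theorem pPrimeCore_relative {p : ℕ} [Fact p.Prime] {M T H : Subgroup G}
    (hM : Cfsg.IsPConstrained p ↥M) (hTM : T ≤ M) (hT : IsPGroup p ↥T) (hHM : H ≤ M)
    (hHN : H ≤ Subgroup.normalizer (T : Set G))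
    (hCH : Subgroup.centralizer (T : Set G) ⊓ M ≤ H)
    (hcase : T ≤ H ∨ H ≤ Subgroup.centralizer (T : Set G)) :
    (Cfsg.pPrimeCore p ↥H).map H.subtype ≤ (Cfsg.pPrimeCore p ↥M).map M.subtype := by
  have hT' : IsPGroup p ↥(T.subgroupOf M) := hT.of_equiv (Subgroup.subgroupOfEquivOfLe hTM).symm
  have h1 : H.subgroupOf M ≤ Subgroup.normalizer ((T.subgroupOf M : Subgroup ↥M) : Set ↥M) := by
    intro x hx
    have hx' : (x : G) ∈ Subgroup.normalizer (T : Set G) := hHN hx
    apply mem_normalizer_of_conj_mem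
    · intro y hy
      exact conj_mem_of_mem_normalizer' hx' hy
    · intro y hy
      exact conj_inv_mem_of_mem_normalizer' hx' hy
  have h2 : Subgroup.centralizer ((T.subgroupOf M : Subgroup ↥M) : Set ↥M) ≤ H.subgroupOf M := by
    intro x hx
    apply hCH
    refine ⟨?_, x.2⟩
    show (x : G) ∈ Subgroup.centralizer (T : Set G)
    rw [Subgroup.mem_centralizer_iff]
    intro t ht
    have := Subgroup.mem_centralizer_iff.mp hx ⟨t, hTM ht⟩ ht
    exact congrArg Subtype.val this
  have h3 : T.subgroupOf M ≤ H.subgroupOf M ∨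
      H.subgroupOf M ≤ Subgroup.centralizer ((T.subgroupOf M : Subgroup ↥M) : Set ↥M) := by
    rcases hcase with h | h
    · left
      intro x hx
      exact h hx
    · right
      intro x hx
      rw [Subgroup.mem_centralizer_iff]
      intro t ht
      apply Subtype.ext
      exact Subgroup.mem_centralizer_iff.mp (h hx) (t : G) ht
  have h4 := (pconstrained_local hM hT' h1 h2 h3).2
  set e : ↥(H.subgroupOf M) ≃* ↥H := Subgroup.subgroupOfEquivOfLe hHM with he
  have h5 : (Cfsg.pPrimeCore p ↥(H.subgroupOf M)).map e.toMonoidHom = Cfsg.pPrimeCore p ↥H :=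
    pPrimeCore_map_equiv p e
  rintro _ ⟨y, hy, rfl⟩
  rw [← h5] at hy
  obtain ⟨z, hz, rfl⟩ := hy
  rw [h4] at hz
  have hz' : (z : ↥M) ∈ Cfsg.pPrimeCore p ↥M := Subgroup.mem_subgroupOf.mp hz
  exact ⟨(z : ↥M), hz', rfl⟩

end Cfsg.Agent.Lib.Helper3
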