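import Mathlib
import Cfsg.Prelude.Def_CaseTheorems
import Cfsg.Prelude.Def_Local
import Cfsg.Prelude.Def_Solvable
import Cfsg.Prelude.Def_Transfer
import Cfsg.Agent.Lib.Helper1.Fitting
import Cfsg.Agent.Lib.Helper3.Layer
import Cfsg.Agent.Lib.Helper3.PRes
import Cfsg.Agent.Lib.Helper3.Transport

set_option autoImplicit false
open scoped commutatorElement

namespace Cfsg.Agent.Lib.Helper3

open Cfsg.Agent.Lib.Helper1

variable {M : Type*} [Group M] [Finite M]

/-- the preimage of `E(M / O_{p'}(M))` -/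
def pLayerPre (p : ℕ) (M : Type*) [Group M] : Subgroup M :=
  (Cfsg.layer (M ⧸ Cfsg.pPrimeCore p M)).comap (QuotientGroup.mk' (Cfsg.pPrimeCore p M))

instance pLayerPre_normal (p : ℕ) (M : Type*) [Group M] : (pLayerPre p M).Normal := by
  unfold pLayerPre
  infer_instance

omit [Finite M] in
lemma pPrimeCore_le_pLayerPre (p : ℕ) : Cfsg.pPrimeCore p M ≤ pLayerPre p M := by
  intro k hk
  show (QuotientGroup.mk' (Cfsg.pPrimeCore p M)) k ∈ Cfsg.layer (M ⧸ Cfsg.pPrimeCore p M)
  have : (QuotientGroup.mk' (Cfsg.pPrimeCore p M)) k = 1 := by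
    rw [← MonoidHom.mem_ker, QuotientGroup.ker_mk']; exact hk
  rw [this]; exact Subgroup.one_mem _

/-- The preimage of `E(M / O_{p'}(M))` centralizes `O_p(M)`. -/
theorem pLayerPre_comm_pCore (p : ℕ) [Fact p.Prime] :
    ⁅pLayerPre p M, Cfsg.pCore p M⁆ = ⊥ := by
  set K := Cfsg.pPrimeCore p M with hK
  set D := Cfsg.pCore p M with hD
  set mk := QuotientGroup.mk' K with hmk
  have hsurj : Function.Surjective mk := QuotientGroup.mk'_surjective K
  have hDn : D.Normal := pCore_normal' p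
  have hDp : IsPGroup p D := pCore_isPGroup
  have hDmn : (D.map mk).Normal := hDn.map mk hsurj
  have hDms : Group.IsSolvable ↥(D.map mk) := by
    have h1 : IsPGroup p ↥(D.map mk) := hDp.map mk
    have h2 : Group.IsNilpotent ↥(D.map mk) := h1.isNilpotent
    infer_instance
  have h1 : Cfsg.layer (M ⧸ K) ≤ Subgroup.centralizer ((D.map mk : Subgroup (M ⧸ K)) : Set (M ⧸ K)) :=
    layer_le_centralizer_of_solvable (D.map mk) hDms
  have h2 : ⁅Cfsg.layer (M ⧸ K), D.map mk⁆ = ⊥ :=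
    Subgroup.commutator_eq_bot_iff_le_centralizer.mpr h1
  have h3 : (⁅pLayerPre p M, D⁆).map mk = ⊥ := by
    rw [Subgroup.map_commutator, eq_bot_iff, ← h2]
    apply Subgroup.commutator_mono _ le_rfl
    exact Subgroup.map_comap_le _ _
  have h4 : ⁅pLayerPre p M, D⁆ ≤ K := by
    have := (Subgroup.map_eq_bot_iff _).mp h3
    rwa [hmk, QuotientGroup.ker_mk'] at this
  have h5 : ⁅pLayerPre p M, D⁆ ≤ D := Subgroup.commutator_le_right _ _
  have h6 : K ⊓ D = ⊥ := by
    apply Disjoint.eq_bot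
    apply Subgroup.disjoint_of_coprime_natCard
    obtain ⟨k, hk⟩ := IsPGroup.iff_card.mp hDp
    rw [hk]
    exact Nat.Coprime.pow_right k (pPrimeCore_coprime p)
  rw [eq_bot_iff, ← h6]
  exact le_inf h4 h5

/-- The preimage of `E(M / O_{p'}(M))` is generated by its `p'`-elements. -/
theorem pRes_pLayerPre_eq_top (p : ℕ) [Fact p.Prime] :
    Cfsg.pResidual p ↥(pLayerPre p M) = ⊤ := by
  set K := Cfsg.pPrimeCore p M with hK
  set Y := pLayerPre p M with hY
  set mk := QuotientGroup.mk' K with hmk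
  have hsurj : Function.Surjective mk := QuotientGroup.mk'_surjective K
  apply pRes_eq_top_of_sup_commutator
  rw [eq_top_iff]
  rintro ⟨g, hg⟩ -
  have hYm : Y.map mk = Cfsg.layer (M ⧸ K) :=
    Subgroup.map_comap_eq_self_of_surjective hsurj _
  have h1 : mk g ∈ (⁅Y, Y⁆).map mk := by
    rw [Subgroup.map_commutator, hYm, layer_perfect]
    exact hg
  obtain ⟨c, hc, hcg⟩ := h1
  have hYn : Y.Normal := pLayerPre_normal p M
  have hcY : c ∈ Y := Subgroup.commutator_le_left Y Y hc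
  have hk : c⁻¹ * g ∈ K := by
    have : mk (c⁻¹ * g) = 1 := by
      rw [map_mul, map_inv, hcg]; simp
    rwa [← MonoidHom.mem_ker, hmk, QuotientGroup.ker_mk'] at this
  have hkY : c⁻¹ * g ∈ Y := pPrimeCore_le_pLayerPre p hk
  have e : (⟨g, hg⟩ : Y) = ⟨c, hcY⟩ * ⟨c⁻¹ * g, hkY⟩ := by
    apply Subtype.ext
    simp
  rw [e]
  apply Subgroup.mul_mem
  · apply Subgroup.mem_sup_right
    -- c ∈ ⁅Y, Y⁆ = image of commutator ↥Y
    have h2 : (commutator ↥Y).map Y.subtype = ⁅Y, Y⁆ := by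
      rw [commutator_def, Subgroup.map_commutator, ← MonoidHom.range_eq_map, Subgroup.range_subtype]
    rw [← h2] at hc
    obtain ⟨c', hc', hcc⟩ := hc
    have : c' = ⟨c, hcY⟩ := Subtype.ext hcc
    rwa [← this]
  · apply Subgroup.mem_sup_left
    apply Subgroup.subset_closure
    show Nat.Coprime (orderOf (⟨c⁻¹ * g, hkY⟩ : Y)) p
    rw [Subgroup.orderOf_mk]
    have h3 : orderOf (c⁻¹ * g) ∣ Nat.card K := by
      have := orderOf_dvd_natCard (⟨c⁻¹ * g, hk⟩ : K)
      rwa [Subgroup.orderOf_mk] at this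
    exact Nat.Coprime.coprime_dvd_left h3 (pPrimeCore_coprime p)

end Cfsg.Agent.Lib.Helper3
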