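import Mathlib
import Cfsg.Prelude.Def_LocalEven
import Cfsg.Agent.S0023
import Cfsg.Agent.Lib.Helper9.Frattini
import Cfsg.Agent.Lib.Helper4.CoprimeAct
import Cfsg.Agent.Lib.Helper3.Bender7
import Cfsg.Agent.Lib.Helper3.NormAux

set_option autoImplicit false
set_option linter.style.haveILetI false
open scoped commutatorElement

universe u

namespace Cfsg.Agent.Lib.Helper3

open Cfsg.Agent.Lib.Helper1

section pmin
variable {P : Type u} [Group P] [Finite P]

/-- a subgroup normalizes the join of the conjugates of `V` by its own elements -/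
theorem le_normalizer_iSup_conj (T V : Subgroup P) :
    T ≤ Subgroup.normalizer
      ((⨆ s : ↥T, V.map (MulAut.conj (s : P)).toMonoidHom : Subgroup P) : Set P) := by
  intro t ht
  apply mem_normalizer_of_map_conj_le
  rw [Subgroup.map_iSup]
  apply iSup_le
  intro s
  rw [Subgroup.map_map]
  have e : (MulAut.conj t).toMonoidHom.comp (MulAut.conj (s : P)).toMonoidHom =
      (MulAut.conj ((⟨t, ht⟩ * s : ↥T) : P)).toMonoidHom := by
    ext x; simp [MulAut.conj_apply, mul_assoc]
  rw [e]
  exact le_iSup (fun s : ↥T => V.map (MulAut.conj (s : P)).toMonoidHom) (⟨t, ht⟩ * s)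

theorem le_iSup_conj (T V : Subgroup P) :
    V ≤ ⨆ s : ↥T, V.map (MulAut.conj (s : P)).toMonoidHom := by
  refine le_trans ?_ (le_iSup _ (1 : ↥T))
  intro k hk
  exact ⟨k, hk, by simp⟩

variable {p : ℕ} [Fact p.Prime]

/-- the overgroup property of a `p`-minimal group at a Sylow subgroup -/
def PMinAt (S : Sylow p P) (M : Subgroup P) : Prop :=
  ¬ (S : Subgroup P).Normal ∧ IsCoatom M ∧ (S : Subgroup P) ≤ M ∧
    ∀ U : Subgroup P, (S : Subgroup P) ≤ U → U = ⊤ ∨ U ≤ M

theorem pMinAt_of_isPMinimal (hP : Cfsg.IsPMinimal p P) (S : Sylow p P) :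
    ∃ M : Subgroup P, PMinAt S M := by
  obtain ⟨hSn, M, ⟨hMco, hSM⟩, hMuniq⟩ := hP S
  refine ⟨M, hSn, hMco, hSM, ?_⟩
  intro U hU
  rcases eq_top_or_exists_le_coatom U with h | ⟨M', hM', hUM'⟩
  · left; exact h
  · right
    have := hMuniq M' ⟨hM', hU.trans hUM'⟩
    rw [← this]; exact hUM'

theorem pMinAt_inf_le_pCore {S : Sylow p P} {M : Subgroup P} (h : PMinAt S M)
    (N : Subgroup P) [hN : N.Normal] (hNM : N ≤ M) :
    (S : Subgroup P) ⊓ N ≤ Cfsg.pCore p P := by
  obtain ⟨hSn, hMco, hSM, hover⟩ := h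
  have hSU : (S : Subgroup P) ≤
      Subgroup.normalizer (((S : Subgroup P) ⊓ N : Subgroup P) : Set P) := by
    refine le_trans ?_ (normalizer_inf_normalizer_le _ _)
    refine le_inf Subgroup.le_normalizer ?_
    rw [Subgroup.normalizer_eq_top_iff.mpr hN]; exact le_top
  rcases hover _ hSU with htop | hle
  · have hn : ((S : Subgroup P) ⊓ N).Normal := Subgroup.normalizer_eq_top_iff.mp htop
    exact le_pCore _ hn (S.2.to_le inf_le_left)
  · exfalso
    apply hMco.1
    rw [eq_top_iff]
    intro g _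
    obtain ⟨n, hn, h', hg, hconj⟩ := Cfsg.Agent.Lib.Helper9.frattini_inf p S N g
    have hh' : h' ∈ Subgroup.normalizer (((S : Subgroup P) ⊓ N : Subgroup P) : Set P) := by
      apply mem_normalizer_of_map_conj_le
      rintro _ ⟨x, hx, rfl⟩
      exact hconj x hx
    rw [hg]
    exact M.mul_mem (hle hh') (hNM hn)

theorem pMinAt_coprime {S : Sylow p P} {M : Subgroup P} (h : PMinAt S M)
    (hOp : Cfsg.pCore p P = ⊥) (N : Subgroup P) [hN : N.Normal] (hNM : N ≤ M) :
    (Nat.card ↥N).Coprime p := by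
  have hp := (Fact.out : p.Prime)
  have h1 : (S : Subgroup P) ⊓ N = ⊥ := by
    rw [eq_bot_iff, ← hOp]; exact pMinAt_inf_le_pCore h N hNM
  have h2 := Cfsg.Agent.Lib.Helper9.card_sylow_inf_normal p S N
  rw [h1, Subgroup.card_bot] at h2
  have h3 : (Nat.card ↥N).factorization p = 0 := by
    by_contra hne
    have : 1 < p ^ (Nat.card ↥N).factorization p := Nat.one_lt_pow hne hp.one_lt
    omega
  rcases (Nat.factorization_eq_zero_iff _ _).mp h3 with h4 | h4 | h4
  · exact absurd hp h4
  · exact ((Nat.Prime.coprime_iff_not_dvd hp).mpr h4).symm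
  · exact absurd h4 Nat.card_pos.ne'

theorem eq_of_sylows_le {Y D : Subgroup P} (hDY : D ≤ Y)
    (h : ∀ r : ℕ, r.Prime → r ^ (Nat.card ↥Y).factorization r ∣ Nat.card ↥D) : D = Y := by
  apply Subgroup.eq_of_le_of_card_ge hDY
  apply Nat.le_of_dvd Nat.card_pos
  rw [← Nat.factorization_prime_le_iff_dvd Nat.card_pos.ne' Nat.card_pos.ne']
  intro r hr
  exact (hr.pow_dvd_iff_le_factorization Nat.card_pos.ne').mp (h r hr)

theorem pMinAt_pprime_nilpotent {S : Sylow p P} {M : Subgroup P} (h : PMinAt S M)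
    (Y : Subgroup P) [hY : Y.Normal] (hYp : (Nat.card ↥Y).Coprime p) :
    Group.IsNilpotent ↥Y := by
  have hp := (Fact.out : p.Prime)
  obtain ⟨hSn, hMco, hSM, hover⟩ := h
  have hSY : (S : Subgroup P) ≤ Subgroup.normalizer (Y : Set P) := by
    rw [Subgroup.normalizer_eq_top_iff.mpr hY]; exact le_top
  have hcop : (Nat.card ↥(S : Subgroup P)).Coprime (Nat.card ↥Y) := by
    obtain ⟨k, hk⟩ := IsPGroup.iff_card.mp S.2
    rw [hk]
    exact Nat.Coprime.pow_left k hYp.symm
  have hSsolv : Group.IsSolvable ↥(S : Subgroup P) := by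
    haveI := S.2.isNilpotent
    infer_instance
  have hR : ∀ r : ℕ, [Fact r.Prime] → ∃ R : Sylow r ↥Y,
      (S : Subgroup P) ≤ Subgroup.normalizer ((R : Subgroup ↥Y).map Y.subtype : Set P) := by
    intro r _
    exact Cfsg.Agent.S0023.result (S : Subgroup P) Y hSY hcop (Or.inl hSsolv) r
  rcases hover (Y ⊔ (S : Subgroup P)) le_sup_right with htop | hle
  · by_cases hex : ∃ (r : ℕ) (_ : r.Prime) (R : Subgroup P), R ≤ Y ∧ IsPGroup r R ∧
        (S : Subgroup P) ≤ Subgroup.normalizer (R : Set P) ∧ R ⊔ (S : Subgroup P) = ⊤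
    · obtain ⟨r, hr, R, hRY, hRr, hSR, hRS⟩ := hex
      haveI : Fact r.Prime := ⟨hr⟩
      have hcopR : (Nat.card ↥(S : Subgroup P)).Coprime (Nat.card ↥R) :=
        Nat.Coprime.coprime_dvd_right (Subgroup.card_dvd_of_le hRY) hcop
      have c1 := Cfsg.Agent.Lib.Helper4.act_card_sup (S : Subgroup P) R hSR hcopR
      have c2 := Cfsg.Agent.Lib.Helper4.act_card_sup (S : Subgroup P) Y hSY hcop
      rw [hRS] at c1
      rw [htop] at c2
      have hcardeq : Nat.card ↥R = Nat.card ↥Y := by
        have hpos : 0 < Nat.card ↥(S : Subgroup P) := Nat.card_pos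
        have := c1.symm.trans c2
        exact Nat.eq_of_mul_eq_mul_right hpos this
      have hRYeq : R = Y := Subgroup.eq_of_le_of_card_ge hRY hcardeq.symm.le
      have : IsPGroup r ↥Y := by rw [← hRYeq]; exact hRr
      exact this.isNilpotent
    · exfalso
      push Not at hex
      apply hMco.1
      have hYM : Y ≤ M := by
        have hD : Y ⊓ M = Y := by
          apply eq_of_sylows_le inf_le_left
          intro r hr
          haveI : Fact r.Prime := ⟨hr⟩
          obtain ⟨R, hRS⟩ := hR r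
          have hRY : (R : Subgroup ↥Y).map Y.subtype ≤ Y := Subgroup.map_subtype_le _
          have hRr : IsPGroup r ↥((R : Subgroup ↥Y).map Y.subtype) := R.2.map _
          have hne := hex r hr _ hRY hRr hRS
          rcases hover _ (le_sup_right : (S : Subgroup P) ≤
              (R : Subgroup ↥Y).map Y.subtype ⊔ (S : Subgroup P)) with h1 | h1
          · exact absurd h1 hne
          · have hRM : (R : Subgroup ↥Y).map Y.subtype ≤ Y ⊓ M :=
              le_inf hRY (le_sup_left.trans h1)
            have hc : Nat.card ↥((R : Subgroup ↥Y).map Y.subtype) =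
                r ^ (Nat.card ↥Y).factorization r := by
              rw [Subgroup.card_map_of_injective Y.subtype_injective]
              exact R.card_eq_multiplicity
            rw [← hc]
            exact Subgroup.card_dvd_of_le hRM
        rw [← hD]; exact inf_le_right
      rw [eq_top_iff, ← htop]
      exact sup_le hYM hSM
  · have hYM : Y ≤ M := le_sup_left.trans hle
    have hnormal : ∀ (r : ℕ) [Fact r.Prime] (Q : Sylow r ↥Y), (Q : Subgroup ↥Y).Normal := by
      intro r _ Q
      obtain ⟨R, hRS⟩ := hR r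
      have hRn : ((R : Subgroup ↥Y).map Y.subtype).Normal := by
        rcases hover _ hRS with h1 | h1
        · exact Subgroup.normalizer_eq_top_iff.mp h1
        · exfalso
          apply hMco.1
          have hfr := Sylow.normalizer_sup_eq_top R
          rw [eq_top_iff, ← hfr]
          exact sup_le h1 hYM
      have hRnY : (R : Subgroup ↥Y).Normal := by
        have := hRn.comap Y.subtype
        rwa [Subgroup.comap_map_eq_self_of_injective Y.subtype_injective] at this
      haveI := hRnY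
      obtain ⟨g, hg⟩ := MulAction.exists_smul_eq ↥Y R Q
      rw [← hg, Sylow.smul_eq_of_normal]
      exact hRnY
    exact ((Group.isNilpotent_of_finite_tfae (G := ↥Y)).out 3 0).mp
      (fun r hr Q => @hnormal r hr Q)

theorem pRes_le_of_sup_sylow_eq_top (S : Sylow p P) (N : Subgroup P) [hN : N.Normal]
    (h : N ⊔ (S : Subgroup P) = ⊤) : Cfsg.pResidual p P ≤ N := by
  have hp := (Fact.out : p.Prime)
  unfold Cfsg.pResidual
  rw [Subgroup.closure_le]
  intro g hg
  have hg' : (orderOf g).Coprime p := hg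
  have hmem : g ∈ N ⊔ (S : Subgroup P) := by rw [h]; trivial
  obtain ⟨s, hs, n, hn, hgsn⟩ := Cfsg.Agent.Lib.Helper2.exists_mul_of_mem_sup_of_le_normalizer
    (K := (S : Subgroup P)) (X := N)
    (by rw [Subgroup.normalizer_eq_top_iff.mpr hN]; exact le_top)
    (by rw [sup_comm]; exact hmem)
  obtain ⟨k, hk⟩ := S.2 ⟨s, hs⟩
  have hk' : s ^ (p ^ k) = 1 := by simpa using congrArg Subtype.val hk
  have hq : QuotientGroup.mk' N g = QuotientGroup.mk' N s := by
    rw [hgsn, map_mul]
    have : QuotientGroup.mk' N n = 1 := (QuotientGroup.eq_one_iff n).mpr hn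
    rw [this, mul_one]
  have h1 : orderOf (QuotientGroup.mk' N g) ∣ orderOf g := orderOf_map_dvd _ g
  have h2 : orderOf (QuotientGroup.mk' N g) ∣ p ^ k := by
    apply orderOf_dvd_of_pow_eq_one
    rw [hq, ← map_pow, hk', map_one]
  have h3 : orderOf (QuotientGroup.mk' N g) = 1 :=
    Nat.eq_one_of_dvd_coprimes (Nat.Coprime.pow_right k hg') h1 h2
  have h4 := orderOf_eq_one_iff.mp h3
  exact (QuotientGroup.eq_one_iff g).mp h4

theorem pPrimeCore_le_pResidual : Cfsg.pPrimeCore p P ≤ Cfsg.pResidual p P := by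
  intro g hg
  apply Subgroup.subset_closure
  show (orderOf g).Coprime p
  have h1 : orderOf g ∣ Nat.card ↥(Cfsg.pPrimeCore p P) := by
    have := orderOf_dvd_natCard (⟨g, hg⟩ : ↥(Cfsg.pPrimeCore p P))
    rwa [Subgroup.orderOf_mk] at this
  exact Nat.Coprime.coprime_dvd_left h1 (pPrimeCore_coprime p)

theorem card_sylow_inf_normal2 (S : Sylow p P) (L K : Subgroup P) [hL : L.Normal] (hKL : K ≤ L)
    (hLK : L ≤ Subgroup.normalizer (K : Set P)) :
    Nat.card ↥((S : Subgroup P) ⊓ K) = p ^ (Nat.card ↥K).factorization p := by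
  have h1 := Cfsg.Agent.Lib.Helper9.card_sylow_inf_normal p S L
  have hc1 : Nat.card ↥(((S : Subgroup P) ⊓ L).subgroupOf L) =
      p ^ (Nat.card ↥L).factorization p := by
    rw [Cfsg.Agent.Lib.Helper4.card_subgroupOf_of_le inf_le_right]; exact h1
  haveI hKn : (K.subgroupOf L).Normal := Subgroup.normal_subgroupOf_of_le_normalizer hLK
  have h2 := Cfsg.Agent.Lib.Helper9.card_sylow_inf_normal p (Sylow.ofCard _ hc1) (K.subgroupOf L)
  rw [Sylow.coe_ofCard] at h2
  have e1 : ((S : Subgroup P) ⊓ L).subgroupOf L ⊓ K.subgroupOf L =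
      ((S : Subgroup P) ⊓ K).subgroupOf L := by
    ext x
    simp only [Subgroup.mem_inf, Subgroup.mem_subgroupOf]
    constructor
    · rintro ⟨⟨h, _⟩, h'⟩; exact ⟨h, h'⟩
    · rintro ⟨h, h'⟩; exact ⟨⟨h, x.2⟩, h'⟩
  rw [e1, Cfsg.Agent.Lib.Helper4.card_subgroupOf_of_le (inf_le_right.trans hKL),
    Cfsg.Agent.Lib.Helper4.card_subgroupOf_of_le hKL] at h2
  exact h2

end pmin

end Cfsg.Agent.Lib.Helper3
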