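import Mathlib
import Cfsg.Agent.Lib.Helper3.PMin1

set_option autoImplicit false
set_option linter.style.haveILetI false
open scoped commutatorElement
open scoped Pointwise

universe u

namespace Cfsg.Agent.Lib.Helper3

theorem isPMinimal_of_sylow {X : Type u} [Group X] [Finite X] {p : ℕ} [Fact p.Prime]
    (S0 : Sylow p X) (M0 : Subgroup X)
    (hn : ¬ (S0 : Subgroup X).Normal) (hM0 : M0 ≠ ⊤) (hS0M0 : (S0 : Subgroup X) ≤ M0)
    (hover : ∀ U : Subgroup X, (S0 : Subgroup X) ≤ U → U = ⊤ ∨ U ≤ M0) :
    Cfsg.IsPMinimal p X := by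
  intro S'
  obtain ⟨g, hg⟩ := MulAction.exists_smul_eq X S0 S'
  obtain ⟨f, hfdef⟩ : ∃ f : X →* X, f = (MulAut.conj g).toMonoidHom := ⟨_, rfl⟩
  have hfsurj : Function.Surjective f := by rw [hfdef]; exact (MulAut.conj g).surjective
  have hfinj : Function.Injective f := by rw [hfdef]; exact (MulAut.conj g).injective
  have hcoe : (S' : Subgroup X) = (S0 : Subgroup X).map f := by
    rw [← hg, Sylow.coe_subgroup_smul, hfdef]; rfl
  have hn' : ¬ (S' : Subgroup X).Normal := by
    intro hS'n
    apply hn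
    have h1 : ((S0 : Subgroup X).map f).Normal := by rw [← hcoe]; exact hS'n
    have h2 := h1.comap f
    rwa [Subgroup.comap_map_eq_self_of_injective hfinj] at h2
  have hM' : M0.map f ≠ ⊤ := by
    intro h
    apply hM0
    have := congrArg (Subgroup.comap f) h
    rwa [Subgroup.comap_map_eq_self_of_injective hfinj, Subgroup.comap_top] at this
  have hS'M' : (S' : Subgroup X) ≤ M0.map f := by rw [hcoe]; exact Subgroup.map_mono hS0M0
  have hover' : ∀ U : Subgroup X, (S' : Subgroup X) ≤ U → U = ⊤ ∨ U ≤ M0.map f := by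
    intro U hU
    have h1 : (S0 : Subgroup X) ≤ U.comap f := by
      rw [← Subgroup.map_le_iff_le_comap, ← hcoe]; exact hU
    have hU' : (U.comap f).map f = U := Subgroup.map_comap_eq_self_of_surjective hfsurj U
    rcases hover _ h1 with h2 | h2
    · left
      rw [← hU', h2, Subgroup.map_top_of_surjective f hfsurj]
    · right
      rw [← hU']; exact Subgroup.map_mono h2
  refine ⟨hn', M0.map f, ⟨⟨hM', ?_⟩, hS'M'⟩, ?_⟩
  · intro U hlt
    rcases hover' U (hS'M'.trans hlt.le) with h | h
    · exact h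
    · exact absurd h (not_le_of_gt hlt)
  · rintro M'' ⟨hM''co, hS'M''⟩
    rcases hover' M'' hS'M'' with h | h
    · exact absurd h hM''co.1
    · by_contra hne
      exact hM' (hM''co.2 _ (lt_of_le_of_ne h hne))

end Cfsg.Agent.Lib.Helper3
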