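import Mathlib
import Cfsg.Prelude.Def_Local
import Cfsg.Prelude.Def_LocalStructure
import Cfsg.Agent.Lib.Helper3.Comp
import Cfsg.Agent.Lib.Helper3.Layer
import Cfsg.Agent.Lib.Helper3.PRes
import Cfsg.Agent.Lib.Helper3.Conj
import Cfsg.Agent.Lib.Helper3.Frattini
import Cfsg.Agent.Lib.Helper1.Fitting
import Cfsg.Agent.Lib.Helper1.Fitting2

set_option autoImplicit false
set_option linter.style.haveILetI false
open scoped commutatorElement
open Cfsg

namespace Cfsg.Agent.Lib.Helper3

section presquasi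
variable {H : Type*} [Group H] [Finite H] {p : ℕ} [Fact p.Prime]

/-- a normal subgroup centralized by `K` (with `H/K` a `p`-group), when `O_p(H) = 1`, is a `p'`-group -/
lemma coprime_card_of_comm (K : Subgroup H) [hKn : K.Normal] (hPQ : IsPGroup p (H ⧸ K))
    (hO : Cfsg.pCore p H = ⊥) (C : Subgroup H) (hC : C.Normal) (hcomm : ⁅K, C⁆ = ⊥) :
    (Nat.card ↥C).Coprime p := by
  have hp : p.Prime := Fact.out
  have hle : K ≤ Subgroup.centralizer (C : Set H) :=
    Subgroup.commutator_eq_bot_iff_le_centralizer.mp hcomm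
  have hkc : ∀ k ∈ K, ∀ c ∈ C, c * k = k * c :=
    fun k hk c hc => Subgroup.mem_centralizer_iff.mp (hle hk) c hc
  let f : ↥C →* H ⧸ K := (QuotientGroup.mk' K).comp C.subtype
  have hker : f.ker ≤ Subgroup.center ↥C := by
    intro x hx
    rw [MonoidHom.mem_ker] at hx
    have hxK : (x : H) ∈ K := (QuotientGroup.eq_one_iff _).mp hx
    rw [Subgroup.mem_center_iff]
    intro y
    apply Subtype.ext
    simp only [Subgroup.coe_mul]
    exact hkc x hxK y y.2
  have hnil : Group.IsNilpotent ↥C := by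
    haveI : Group.IsNilpotent (H ⧸ K) := hPQ.isNilpotent
    exact Subgroup.isNilpotent_of_ker_le_center f hker
  haveI := hC
  rw [Nat.coprime_comm, hp.coprime_iff_not_dvd]
  intro hdvd
  obtain ⟨P⟩ : Nonempty (Sylow p ↥C) := inferInstance
  have htfae := (Group.isNilpotent_of_finite_tfae (G := ↥C)).out 0 3
  have hPn : (P : Subgroup ↥C).Normal := htfae.mp hnil p inferInstance P
  haveI hPc : (P : Subgroup ↥C).Characteristic := Sylow.characteristic_of_normal P hPn
  have hmapn : ((P : Subgroup ↥C).map C.subtype).Normal := inferInstance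
  have hmapp : IsPGroup p ↥((P : Subgroup ↥C).map C.subtype) := P.isPGroup'.map C.subtype
  have hle2 : (P : Subgroup ↥C).map C.subtype ≤ Cfsg.pCore p H :=
    Cfsg.Agent.Lib.Helper1.le_pCore _ hmapn hmapp
  rw [hO, le_bot_iff, Subgroup.map_eq_bot_iff_of_injective _ C.subtype_injective] at hle2
  have h1 : p ∣ Nat.card ↥(P : Subgroup ↥C) := P.dvd_card_of_dvd_card hdvd
  rw [hle2, Subgroup.card_bot] at h1
  exact hp.one_lt.ne' (Nat.dvd_one.mp h1)

theorem pres_quasi_core (K : Subgroup H) [hKn : K.Normal] (hPQ : IsPGroup p (H ⧸ K))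
    (hsub : ∀ g : H, Nat.Coprime (orderOf g) p → g ∈ K)
    (hperf : ∀ L : Subgroup H, ⁅L, L⁆ = L → L ≤ K)
    (hp : p ∣ Nat.card H) (hO : Cfsg.pCore p H = ⊥) (hq : Cfsg.IsQuasisimple ↥K) :
    K = Cfsg.generalizedFittingSubgroup H ∧
    (∀ Y : Subgroup H, IsPGroup p ↥Y → Y ≠ ⊥ → ⁅K, Y⁆ = K ∧
      K ≤ ⨆ k : ↥K, Y.map (MulAut.conj (k : H)).toMonoidHom) ∧
    (∀ C : Subgroup H, C.Normal → ¬ K ≤ C → (Nat.card ↥C).Coprime p) ∧
    (¬ Cfsg.IsPClosed p H ∧ ∀ N : Subgroup H, N.Normal → ¬ Cfsg.IsPClosed p ↥N → K ≤ N) := by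
  have hpp : p.Prime := Fact.out
  have hKcomp : Cfsg.IsComponent K := ⟨hKn.isSubnormal, hq⟩
  have hKperf : ⁅K, K⁆ = K := component_perfect hKcomp
  have hKnt : K ≠ ⊥ := (Subgroup.nontrivial_iff_ne_bot K).mp (component_nontrivial hKcomp)
  have hC' : ∀ C : Subgroup H, C.Normal → ¬ K ≤ C → (Nat.card ↥C).Coprime p := by
    intro C hC hnot
    have hnorm : K ≤ Subgroup.normalizer (C : Set H) := by
      rw [Subgroup.normalizer_eq_top_iff.mpr hC]; exact le_top
    rcases component_le_or_comm hKcomp hnorm with h | h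
    · exact absurd h hnot
    · exact coprime_card_of_comm K hPQ hO C hC h
  have hDn : (Subgroup.centralizer (K : Set H)).Normal := inferInstance
  have hDnot : ¬ K ≤ Subgroup.centralizer (K : Set H) := by
    intro h
    have h1 : ⁅K, K⁆ = ⊥ := Subgroup.commutator_eq_bot_iff_le_centralizer.mpr h
    rw [hKperf] at h1
    exact hKnt h1
  have hDcop : (Nat.card ↥(Subgroup.centralizer (K : Set H))).Coprime p := hC' _ hDn hDnot
  have hpow : ∀ n : ℕ, (p ^ n).Coprime p → p ^ n = 1 := by
    intro n hc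
    rcases Nat.eq_zero_or_pos n with h0 | hpos
    · rw [h0, pow_zero]
    · exfalso
      rw [Nat.coprime_pow_left_iff hpos, Nat.coprime_self] at hc
      exact hpp.one_lt.ne' hc
  have hYbot : ∀ Y : Subgroup H, IsPGroup p ↥Y → Y ≤ Subgroup.centralizer (K : Set H) →
      Y = ⊥ := by
    intro Y hY hle
    obtain ⟨n, hn⟩ := hY.exists_card_eq
    have hdvd : Nat.card ↥Y ∣ Nat.card ↥(Subgroup.centralizer (K : Set H)) :=
      Subgroup.card_dvd_of_le hle
    have hcop : (Nat.card ↥Y).Coprime p := Nat.Coprime.coprime_dvd_left hdvd hDcop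
    rw [hn] at hcop
    apply Subgroup.eq_bot_of_card_eq
    rw [hn]
    exact hpow n hcop
  have hnormKY : ∀ Y : Subgroup H,
      K ≤ Subgroup.normalizer ((⁅K, Y⁆ : Subgroup H) : Set H) := by
    intro Y k' hk'
    apply mem_normalizer_of_map_conj_le
    rw [Subgroup.map_le_iff_le_comap, Subgroup.commutator_le]
    intro k hk y hy
    rw [Subgroup.mem_comap]
    have heq : (MulAut.conj k').toMonoidHom ⁅k, y⁆ = ⁅k' * k, y⁆ * ⁅k', y⁆⁻¹ := by
      simp only [MulEquiv.coe_toMonoidHom, MulAut.conj_apply, commutatorElement_def]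
      group
    rw [heq]
    exact Subgroup.mul_mem _ (Subgroup.commutator_mem_commutator (K.mul_mem hk' hk) hy)
      (Subgroup.inv_mem _ (Subgroup.commutator_mem_commutator hk' hy))
  have hB : ∀ Y : Subgroup H, IsPGroup p ↥Y → Y ≠ ⊥ → ⁅K, Y⁆ = K ∧
      K ≤ ⨆ k : ↥K, Y.map (MulAut.conj (k : H)).toMonoidHom := by
    intro Y hY hYne
    have h1 : ⁅K, Y⁆ = K := by
      apply le_antisymm (Subgroup.commutator_le_left K Y)
      rcases component_le_or_comm hKcomp (hnormKY Y) with h | h
      · exact h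
      · exfalso
        have ha : ⁅⁅K, Y⁆, K⁆ = ⊥ := by rw [Subgroup.commutator_comm]; exact h
        have hb : ⁅⁅Y, K⁆, K⁆ = ⊥ := by rw [Subgroup.commutator_comm Y K]; exact ha
        have hc : ⁅⁅K, K⁆, Y⁆ = ⊥ := Subgroup.commutator_commutator_eq_bot_of_rotate ha hb
        rw [hKperf] at hc
        have hd : ⁅Y, K⁆ = ⊥ := by rw [Subgroup.commutator_comm]; exact hc
        exact hYne (hYbot Y hY (Subgroup.commutator_eq_bot_iff_le_centralizer.mp hd))
    refine ⟨h1, ?_⟩
    calc K = ⁅K, Y⁆ := h1.symm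
      _ ≤ ⨆ k : ↥K, Y.map (MulAut.conj (k : H)).toMonoidHom := by
        rw [Subgroup.commutator_le]
        intro k hk y hy
        have e1 : k * y * k⁻¹ ∈ ⨆ k : ↥K, Y.map (MulAut.conj (k : H)).toMonoidHom :=
          (le_iSup (fun k : ↥K => Y.map (MulAut.conj (k : H)).toMonoidHom) ⟨k, hk⟩)
            (conj_mem_map_conj hy)
        have e2 : y ∈ ⨆ k : ↥K, Y.map (MulAut.conj (k : H)).toMonoidHom := by
          have h3 : y ∈ Y.map (MulAut.conj ((1 : ↥K) : H)).toMonoidHom := by
            have := conj_mem_map_conj (g := ((1 : ↥K) : H)) hy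
            simpa using this
          exact (le_iSup (fun k : ↥K => Y.map (MulAut.conj (k : H)).toMonoidHom) (1 : ↥K)) h3
        rw [commutatorElement_def]
        exact Subgroup.mul_mem _ e1 (Subgroup.inv_mem _ e2)
  have hA : K = Cfsg.generalizedFittingSubgroup H := by
    unfold Cfsg.generalizedFittingSubgroup
    apply le_antisymm
    · exact (component_le_layer hKcomp).trans le_sup_left
    · apply sup_le
      · rw [layer_le_iff]
        intro L hL
        exact hperf L (component_perfect hL)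
      · rw [Cfsg.Agent.Lib.Helper1.fitting_eq_pCoreSup]
        unfold Cfsg.Agent.Lib.Helper1.pCoreSup
        apply iSup_le
        intro q
        by_cases hqp : (q : ℕ) = p
        · rw [hqp, hO]; exact bot_le
        · intro x hx
          haveI : Fact (q : ℕ).Prime := ⟨q.2⟩
          have hqg : IsPGroup (q : ℕ) ↥(Cfsg.pCore (q : ℕ) H) :=
            Cfsg.Agent.Lib.Helper1.pCore_isPGroup
          obtain ⟨k, hk⟩ := hqg ⟨x, hx⟩
          have hk' : x ^ ((q : ℕ) ^ k) = 1 := by
            have := congrArg Subtype.val hk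
            simpa using this
          apply hsub
          have hd : orderOf x ∣ (q : ℕ) ^ k := orderOf_dvd_of_pow_eq_one hk'
          apply Nat.Coprime.coprime_dvd_left hd
          apply Nat.Coprime.pow_left
          exact (Nat.coprime_primes q.2 hpp).mpr hqp
  have hD1 : ¬ Cfsg.IsPClosed p H := by
    intro hcl
    obtain ⟨P⟩ : Nonempty (Sylow p H) := inferInstance
    have hPn := hcl P
    have hle : (P : Subgroup H) ≤ Cfsg.pCore p H :=
      Cfsg.Agent.Lib.Helper1.le_pCore _ hPn P.isPGroup'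
    rw [hO, le_bot_iff] at hle
    have h1 : p ∣ Nat.card ↥(P : Subgroup H) := P.dvd_card_of_dvd_card hp
    rw [hle, Subgroup.card_bot] at h1
    exact hpp.one_lt.ne' (Nat.dvd_one.mp h1)
  have hD2 : ∀ N : Subgroup H, N.Normal → ¬ Cfsg.IsPClosed p ↥N → K ≤ N := by
    intro N hN hncl
    by_contra hKN
    apply hncl
    have hcop := hC' N hN hKN
    intro P
    have hPbot : (P : Subgroup ↥N) = ⊥ := by
      obtain ⟨n, hn⟩ := P.isPGroup'.exists_card_eq
      have hdvd : Nat.card ↥(P : Subgroup ↥N) ∣ Nat.card ↥N := Subgroup.card_subgroup_dvd_card _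
      have hc2 : (Nat.card ↥(P : Subgroup ↥N)).Coprime p :=
        Nat.Coprime.coprime_dvd_left hdvd hcop
      apply Subgroup.eq_bot_of_card_eq
      rw [hn] at hc2 ⊢
      exact hpow n hc2
    rw [hPbot]
    exact Subgroup.normal_bot
  exact ⟨hA, hB, hC', hD1, hD2⟩

end presquasi

end Cfsg.Agent.Lib.Helper3
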