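import Mathlib
import Cfsg.Agent.Lib.Helper3.RelComp
import Cfsg.Agent.Lib.Helper3.Conj

set_option autoImplicit false
open scoped commutatorElement

namespace Cfsg.Agent.Lib.Helper3

variable {G : Type*} [Group G]

/-- conjugating a relative subnormal pair -/
lemma SubnIn.conj {K H : Subgroup G} (h : SubnIn K H) (g : G) :
    SubnIn (K.map (MulAut.conj g).toMonoidHom) (H.map (MulAut.conj g).toMonoidHom) := by
  refine ⟨map_conj_mono h.1 g, ?_⟩
  set e : ↥H ≃* ↥(H.map (MulAut.conj g).toMonoidHom) :=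
    H.equivMapOfInjective _ (MulAut.conj g).injective with he
  have h1 := h.2.map (f := e.toMonoidHom) e.surjective
  have h2 : (K.subgroupOf H).map e.toMonoidHom =
      (K.map (MulAut.conj g).toMonoidHom).subgroupOf (H.map (MulAut.conj g).toMonoidHom) := by
    ext x
    constructor
    · rintro ⟨y, hy, rfl⟩
      have hy' : (y : G) ∈ K := hy
      rw [Subgroup.mem_subgroupOf]
      exact ⟨(y : G), hy', rfl⟩
    · intro hx
      rw [Subgroup.mem_subgroupOf] at hx
      obtain ⟨k, hk, hkx⟩ := hx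
      have hkH : k ∈ H := h.1 hk
      refine ⟨⟨k, hkH⟩, ?_, ?_⟩
      · show (⟨k, hkH⟩ : ↥H) ∈ K.subgroupOf H
        rw [Subgroup.mem_subgroupOf]; exact hk
      · apply Subtype.ext
        exact hkx
  rwa [h2] at h1

lemma CompIn.conj {K H : Subgroup G} (h : CompIn K H) (g : G) :
    CompIn (K.map (MulAut.conj g).toMonoidHom) (H.map (MulAut.conj g).toMonoidHom) :=
  ⟨h.1.conj g, isQuasisimple_of_mulEquiv (K.equivMapOfInjective _ (MulAut.conj g).injective) h.2⟩

/-- two components of `H` are equal or commute -/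
lemma CompIn.eq_or_commute {K₁ K₂ H : Subgroup G} (h₁ : CompIn K₁ H) (h₂ : CompIn K₂ H) :
    K₁ = K₂ ∨ ⁅K₁, K₂⁆ = ⊥ := by
  by_cases hne : K₁ = K₂
  · exact Or.inl hne
  · right
    have c₁ := (isComponent_subgroupOf_iff h₁.1.1).mpr h₁
    have c₂ := (isComponent_subgroupOf_iff h₂.1.1).mpr h₂
    have hne' : K₁.subgroupOf H ≠ K₂.subgroupOf H := by
      intro heq
      apply hne
      have := congrArg (Subgroup.map H.subtype) heq
      rwa [Subgroup.map_subgroupOf_eq_of_le h₁.1.1, Subgroup.map_subgroupOf_eq_of_le h₂.1.1] at this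
    have hc := components_commute c₁ c₂ hne'
    rw [Subgroup.commutator_eq_bot_iff_le_centralizer] at hc ⊢
    intro a ha
    rw [Subgroup.mem_centralizer_iff]
    intro b hb
    have h3 := hc (show (⟨a, h₁.1.1 ha⟩ : ↥H) ∈ K₁.subgroupOf H from ha)
    have h4 := Subgroup.mem_centralizer_iff.mp h3 ⟨b, h₂.1.1 hb⟩ hb
    exact congrArg Subtype.val h4

lemma centralizer_singleton_map_conj (y g : G) :
    (Subgroup.centralizer ({y} : Set G)).map (MulAut.conj g).toMonoidHom =
      Subgroup.centralizer ({g * y * g⁻¹} : Set G) := by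
  ext x
  rw [mem_map_conj, Subgroup.mem_centralizer_iff, Subgroup.mem_centralizer_iff]
  constructor
  · intro h z hz
    rw [Set.mem_singleton_iff] at hz
    have := h y rfl
    rw [hz]
    calc g * y * g⁻¹ * x = g * (y * (g⁻¹ * x * g)) * g⁻¹ := by group
      _ = g * ((g⁻¹ * x * g) * y) * g⁻¹ := by rw [this]
      _ = x * (g * y * g⁻¹) := by group
  · intro h z hz
    rw [Set.mem_singleton_iff] at hz
    have := h (g * y * g⁻¹) rfl
    rw [hz]
    calc y * (g⁻¹ * x * g) = g⁻¹ * ((g * y * g⁻¹) * x) * g := by group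
      _ = g⁻¹ * (x * (g * y * g⁻¹)) * g := by rw [this]
      _ = g⁻¹ * x * g * y := by group

end Cfsg.Agent.Lib.Helper3
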