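import Mathlib
import Cfsg.Agent.Lib.Helper3.S4Section
import Cfsg.Agent.Lib.Helper3.Real
import Cfsg.Agent.Lib.Helper3.MaxAb
import Cfsg.Agent.Lib.Helper1.PSL2Small

set_option autoImplicit false
set_option linter.unusedSectionVars false
set_option linter.style.haveILetI false
open scoped commutatorElement

/-! A subgroup `SL₂(2)` of the realization acting faithfully on a four-subgroup of the image of `V`
gives a section `S₄` of the group. -/

namespace Cfsg.Agent.Lib.Helper3

universe u

lemma card_sl2_two : Nat.card (Matrix.SpecialLinearGroup (Fin 2) (ZMod 2)) = 6 := by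
  have h := Cfsg.Agent.Lib.Helper1.card_SL2 (ZMod 2)
  rw [ZMod.card 2] at h
  norm_num at h
  rw [Nat.card_eq_fintype_card]
  exact h

theorem involves_s4_of_blk {X : Type u} [Group X] [Finite X] (V : Subgroup X) [hVn : V.Normal]
    (hVab : ∀ a ∈ V, ∀ b ∈ V, a * b = b * a)
    (E' U' : Subgroup (RX V)) (hE' : E' ≤ (⊤ : Subgroup X).map (rPsi V)) (hU' : U' ≤ rV V)
    (hN : E' ≤ Subgroup.normalizer (U' : Set (RX V))) (hcU : Nat.card ↥U' = 4)
    (hf : E' ⊓ Subgroup.centralizer (U' : Set (RX V)) = ⊥) (hcE : Nat.card ↥E' = 6) :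
    Cfsg.Involves (Equiv.Perm (Fin 4)) X := by
  obtain ⟨Y, hY⟩ : ∃ Y : Subgroup X, Y = E'.comap (rPsi V) := ⟨_, rfl⟩
  obtain ⟨U, hU⟩ : ∃ U : Subgroup X, U = (U'.comap (rI V)).map V.subtype := ⟨_, rfl⟩
  have hUV : U ≤ V := by rw [hU]; exact Subgroup.map_subtype_le _
  have hmemU : ∀ v : ↥V, (v : X) ∈ U ↔ rI V v ∈ U' := by
    intro v
    rw [hU]
    constructor
    · rintro ⟨w, hw, hwv⟩
      have : w = v := Subtype.ext hwv
      rw [← this]; exact hw
    · intro h
      exact ⟨v, h, rfl⟩
  have hkerY : Subgroup.centralizer (V : Set X) ≤ Y := by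
    intro c hc
    rw [hY, Subgroup.mem_comap, (rPsi_eq_one_iff V).mpr hc]
    exact Subgroup.one_mem _
  have hVC : V ≤ Subgroup.centralizer (V : Set X) := by
    intro a ha
    rw [Subgroup.mem_centralizer_iff]
    intro b hb
    exact hVab b hb a ha
  have hUY : U ≤ Y := hUV.trans (hVC.trans hkerY)
  have hmemY : ∀ y : ↥Y, rPsi V (y : X) ∈ E' := by
    intro y
    have h1 : ∀ x ∈ Y, rPsi V x ∈ E' := by
      intro x hx
      rw [hY] at hx
      exact hx
    exact h1 _ y.2
  let f : ↥Y →* RX V := (rPsi V).comp Y.subtype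
  have hfrange : f.range = E' := by
    apply le_antisymm
    · rintro _ ⟨y, rfl⟩
      exact hmemY y
    · intro e he
      obtain ⟨g, _, rfl⟩ := Subgroup.mem_map.mp (hE' he)
      exact ⟨⟨g, by rw [hY]; exact he⟩, rfl⟩
  haveI hUYn : (U.subgroupOf Y).Normal := by
    constructor
    intro u hu y
    rw [Subgroup.mem_subgroupOf] at hu ⊢
    have huV : (u : X) ∈ V := hUV hu
    have h1 : rI V ⟨u, huV⟩ ∈ U' := (hmemU ⟨u, huV⟩).mp hu
    have h2 := (Subgroup.mem_normalizer_iff.mp (hN (hmemY y)) _).mp h1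
    rw [rPsi_conj] at h2
    have := (hmemU _).mpr h2
    simpa using this
  have hcardU : Nat.card ↥(U.subgroupOf Y) = 4 := by
    rw [card_subgroupOf_of_le hUY, hU, Subgroup.card_map_of_injective V.subtype_injective]
    have h1 : (U'.comap (rI V)).map (rI V) = U' := by
      rw [Subgroup.map_comap_eq, inf_eq_right]
      exact hU'
    have h2 : Nat.card ↥((U'.comap (rI V)).map (rI V)) = Nat.card ↥(U'.comap (rI V)) :=
      Subgroup.card_map_of_injective (rI_injective V)
    rw [h1, hcU] at h2
    exact h2.symm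
  have hcent : Subgroup.centralizer ((U.subgroupOf Y : Subgroup ↥Y) : Set ↥Y) = f.ker := by
    ext y
    rw [MonoidHom.mem_ker, Subgroup.mem_centralizer_iff]
    constructor
    · intro h
      have : rPsi V (y : X) ∈ E' ⊓ Subgroup.centralizer (U' : Set (RX V)) := by
        refine Subgroup.mem_inf.mpr ⟨hmemY y, ?_⟩
        rw [Subgroup.mem_centralizer_iff]
        intro x hx
        obtain ⟨v, rfl⟩ := (mem_rV V).mp (hU' hx)
        have hvU : (v : X) ∈ U := (hmemU v).mpr hx
        have h1 := h ⟨(v : X), hUY hvU⟩ (by rw [SetLike.mem_coe, Subgroup.mem_subgroupOf]; exact hvU)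
        have h2 : (v : X) * (y : X) = (y : X) * v := congrArg Subtype.val h1
        exact (rPsi_comm_iff V y v).mpr h2
      rw [hf, Subgroup.mem_bot] at this
      exact this
    · intro h u hu
      have hyc : (y : X) ∈ Subgroup.centralizer (V : Set X) := (rPsi_eq_one_iff V).mp h
      rw [SetLike.mem_coe, Subgroup.mem_subgroupOf] at hu
      apply Subtype.ext
      exact Subgroup.mem_centralizer_iff.mp hyc _ (hUV hu)
  have hidx : (Subgroup.centralizer ((U.subgroupOf Y : Subgroup ↥Y) : Set ↥Y)).index = 6 := by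
    rw [hcent, Subgroup.index_ker, hfrange, hcE]
  have h4 := involves_s4_of_four (U.subgroupOf Y) hcardU hidx
  exact involves_trans h4 (involves_subgroup involves_self Y)

end Cfsg.Agent.Lib.Helper3
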