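import Mathlib
import Cfsg.Agent.Lib.Helper3.SecFusion2

set_option autoImplicit false
set_option linter.unusedSectionVars false
set_option linter.unusedVariables false
set_option linter.style.haveILetI false
open scoped commutatorElement
open Cfsg Cfsg.Agent.Lib.Helper1 Cfsg.Agent.Lib.Helper4

/-! Section conjugacy functors and control of strong fusion: the local lemmas. -/

namespace Cfsg.Agent.Lib.Helper3

universe u

section secfusion3
variable {p : ℕ} [Fact p.Prime] {𝓦 : Set (∀ (Q : Type u) [Group Q], Subgroup Q)}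

/-- the hypothesis on the sections of characteristic `p` -/
def SecHyp (p : ℕ) (𝓦 : Set (∀ (Q : Type u) [Group Q], Subgroup Q)) (X : Type u) [Group X] : Prop :=
  ∀ (Y : Type u) [Group Y] [Finite Y], Cfsg.Involves Y X →
    Subgroup.centralizer (Cfsg.pCore p Y : Set Y) ≤ Cfsg.pCore p Y → Ctl p 𝓦 Y

theorem sylow_inf_centralizer_not_le {X : Type u} [Group X] [Finite X]
    (hO : Cfsg.pPrimeCore p X = ⊥) (S : Sylow p X)
    (hnc : ¬ Subgroup.centralizer (Cfsg.pCore p X : Set X) ≤ Cfsg.pCore p X) :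
    ¬ (S : Subgroup X) ⊓ Subgroup.centralizer (Cfsg.pCore p X : Set X) ≤ Cfsg.pCore p X := by
  intro hle
  haveI hQn : (Cfsg.pCore p X).Normal := pCore_normal' p
  have hCn : (Subgroup.centralizer (Cfsg.pCore p X : Set X)).Normal := inferInstance
  apply hnc
  have hidx : ¬ p ∣ ((S : Subgroup X) ⊓ Subgroup.centralizer (Cfsg.pCore p X : Set X)).relIndex
      (Subgroup.centralizer (Cfsg.pCore p X : Set X)) :=
    not_dvd_relIndex_inf ⊤ _ (S : Subgroup X) le_top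
      (by rw [Subgroup.normalizer_eq_top_iff.mpr hCn]) S.2
      (by rw [Subgroup.relIndex_top_right]; exact S.not_dvd_index)
  have hcen : Subgroup.centralizer (Cfsg.pCore p X : Set X) ≤
      Subgroup.centralizer ((((S : Subgroup X) ⊓
        Subgroup.centralizer (Cfsg.pCore p X : Set X) : Subgroup X)) : Set X) :=
    Subgroup.centralizer_le hle
  have h1 := le_of_central_sylow hO (Subgroup.centralizer (Cfsg.pCore p X : Set X))
    ((S : Subgroup X) ⊓ Subgroup.centralizer (Cfsg.pCore p X : Set X)) inf_le_right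
    (S.2.to_le inf_le_left) hidx hcen
  exact h1.trans hle

theorem exists_local_factor {X : Type u} [Group X] [Finite X]
    (hO : Cfsg.pPrimeCore p X = ⊥) (S : Sylow p X)
    (hnc : ¬ Subgroup.centralizer (Cfsg.pCore p X : Set X) ≤ Cfsg.pCore p X) :
    ∃ M : Subgroup X, (S : Subgroup X) ≤ M ∧ M ≠ ⊤ ∧
      ∀ x : X, ∃ m ∈ M, ∃ c ∈ Subgroup.centralizer (Cfsg.pCore p X : Set X), x = m * c := by
  have hCS := sylow_inf_centralizer_not_le hO S hnc
  obtain ⟨Q, hQ⟩ : ∃ Q : Subgroup X, Q = Cfsg.pCore p X := ⟨_, rfl⟩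
  rw [← hQ] at hCS ⊢
  have hQn : Q.Normal := by rw [hQ]; exact pCore_normal' p
  haveI := hQn
  obtain ⟨C, hC⟩ : ∃ C : Subgroup X, C = Subgroup.centralizer (Q : Set X) := ⟨_, rfl⟩
  rw [← hC] at hCS ⊢
  have hCn : C.Normal := by rw [hC]; infer_instance
  haveI := hCn
  have hQS : Q ≤ (S : Subgroup X) := by rw [hQ]; exact pCore_le_sylow S
  have hSp : IsPGroup p (S : Subgroup X) := S.2
  obtain ⟨K, hK⟩ : ∃ K : Subgroup X, K = Q ⊔ C := ⟨_, rfl⟩
  have hKn : K.Normal := by rw [hK]; infer_instance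
  obtain ⟨R, hR⟩ : ∃ R : Subgroup X, R = (S : Subgroup X) ⊓ K := ⟨_, rfl⟩
  have hRS : R ≤ (S : Subgroup X) := by rw [hR]; exact inf_le_left
  have hRp : IsPGroup p R := hSp.to_le hRS
  have hQR : Q ≤ R := by rw [hR, hK]; exact le_inf hQS le_sup_left
  have hRidx : ¬ p ∣ R.relIndex K := by
    rw [hR]
    exact not_dvd_relIndex_inf ⊤ K (S : Subgroup X) le_top
      (by rw [Subgroup.normalizer_eq_top_iff.mpr hKn]) hSp
      (by rw [Subgroup.relIndex_top_right]; exact S.not_dvd_index)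
  refine ⟨Subgroup.normalizer (R : Set X), ?_, ?_, ?_⟩
  · intro s hs
    apply mem_normalizer_of_map_conj_le
    rintro _ ⟨x, hx, rfl⟩
    rw [hR] at hx ⊢
    refine Subgroup.mem_inf.mpr ⟨?_, hKn.conj_mem x (Subgroup.mem_inf.mp hx).2 s⟩
    exact Subgroup.mul_mem _ (Subgroup.mul_mem _ hs (Subgroup.mem_inf.mp hx).1)
      (Subgroup.inv_mem _ hs)
  · intro htop
    have hRn : R.Normal := Subgroup.normalizer_eq_top_iff.mp htop
    have hRQ : R ≤ Q := by rw [hQ]; exact le_pCore R hRn hRp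
    apply hCS
    refine le_trans ?_ hRQ
    rw [hR, hK]
    exact inf_le_inf_left _ le_sup_right
  · intro g
    have hcl : cj g R ≤ K := by
      rintro _ ⟨x, hx, rfl⟩
      have hxK : x ∈ K := by rw [hR] at hx; exact (Subgroup.mem_inf.mp hx).2
      exact hKn.conj_mem x hxK g
    obtain ⟨k, hkK, hk⟩ := exists_conj_le_of_relIndex p K R (cj g R) hRp hRidx hcl
      (cj_isPGroup p g hRp)
    have hkg : k * g ∈ Subgroup.normalizer (R : Set X) := by
      apply mem_normalizer_of_map_conj_le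
      rintro _ ⟨x, hx, rfl⟩
      have h1 : g * x * g⁻¹ ∈ cj g R := conj_mem_cj g R hx
      have h2 := hk _ h1
      have e : (MulAut.conj (k * g)).toMonoidHom x = k * (g * x * g⁻¹) * k⁻¹ := by
        simp only [MulEquiv.coe_toMonoidHom, MulAut.conj_apply]; group
      rw [e]; exact h2
    rw [hK] at hkK
    obtain ⟨q, hq, c', hc', hkqc⟩ := mem_mul_of_mem_sup_left_normal
      (show Q ≤ Subgroup.normalizer (C : Set X) by
        rw [Subgroup.normalizer_eq_top_iff.mpr hCn]; exact le_top) hkK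
    obtain ⟨m, hm⟩ : ∃ m : X, m = q⁻¹ * (k * g) := ⟨_, rfl⟩
    have hmM : m ∈ Subgroup.normalizer (R : Set X) := by
      rw [hm]
      exact Subgroup.mul_mem _ (Subgroup.inv_mem _ (Subgroup.le_normalizer (hQR hq))) hkg
    refine ⟨m, hmM, m⁻¹ * c'⁻¹ * m, ?_, ?_⟩
    · have := hCn.conj_mem _ (C.inv_mem hc') m⁻¹
      rwa [inv_inv] at this
    · have e : m * (m⁻¹ * c'⁻¹ * m) = c'⁻¹ * m := by group
      rw [e, hm, hkqc]; group

/-- control modulo `O_p(X)` -/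
theorem good_mod_pCore {X : Type u} [Group X] [Finite X]
    (h𝓦 : ∀ W ∈ 𝓦, Cfsg.IsCharPFunctor.{u} p W) (S : Sylow p X) (Q : Subgroup X) [hQn : Q.Normal]
    (hQ : Q = Cfsg.pCore p X) (hSQ : ¬ (S : Subgroup X) ≤ Q) (hquot : Ctl p 𝓦 (X ⧸ Q))
    (hsub : ∀ H : Subgroup X, H ≠ ⊤ → Cfsg.FamilyControlsStrongFusionIn p (indFam 𝓦 X) H)
    (B : Set X) (g : X) (hB : B ⊆ ((S : Subgroup X) : Set X))
    (hBg : lc g B ⊆ ((S : Subgroup X) : Set X)) :
    ∃ n : X, GoodPair (sset 𝓦 X ⊤ (S : Subgroup X)) ((S : Subgroup X) : Set X) B n ∧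
      ∀ b ∈ B, (n * b * n⁻¹)⁻¹ * (g * b * g⁻¹) ∈ Q := by
  obtain ⟨π, hπ⟩ : ∃ π : X →* X ⧸ Q, π = QuotientGroup.mk' Q := ⟨_, rfl⟩
  have hπs : Function.Surjective π := by rw [hπ]; exact QuotientGroup.mk'_surjective Q
  have hker : ∀ x, π x = 1 ↔ x ∈ Q := fun x => by rw [hπ]; exact QuotientGroup.eq_one_iff x
  obtain ⟨Sb, hSbc⟩ : ∃ Sb : Sylow p (X ⧸ Q), (Sb : Subgroup (X ⧸ Q)) = (S : Subgroup X).map π :=
    ⟨S.mapSurjective hπs, rfl⟩
  have hSp : IsPGroup p (S : Subgroup X) := S.2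
  have hQS : Q ≤ (S : Subgroup X) := by rw [hQ]; exact pCore_le_sylow S
  have hpre : ∀ x : X, π x ∈ (S : Subgroup X).map π → x ∈ (S : Subgroup X) := by
    rintro x ⟨s, hs, hsx⟩
    have h1 : s⁻¹ * x ∈ Q := by rw [← hker, map_mul, map_inv, hsx, inv_mul_cancel]
    have e : x = s * (s⁻¹ * x) := by group
    rw [e]; exact Subgroup.mul_mem _ hs (hQS h1)
  have hBb : π '' B ⊆ ((Sb : Subgroup (X ⧸ Q)) : Set (X ⧸ Q)) := by
    rintro _ ⟨a, ha, rfl⟩
    rw [hSbc]; exact ⟨a, hB ha, rfl⟩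
  have hBgb : lc (π g) (π '' B) ⊆ ((Sb : Subgroup (X ⧸ Q)) : Set (X ⧸ Q)) := by
    rintro _ ⟨_, ⟨a, ha, rfl⟩, rfl⟩
    rw [hSbc]
    exact ⟨g * a * g⁻¹, hBg ⟨a, ha, rfl⟩, by rw [map_mul, map_mul, map_inv]⟩
  obtain ⟨cb, hcb, hcbh⟩ := good_of_ctl h𝓦 hquot Sb (π '' B) (π g) hBb hBgb
  have hstep : ∀ (B' : Set X) (eb : X ⧸ Q), B' ⊆ ((S : Subgroup X) : Set X) →
      eb ∈ sset 𝓦 (X ⧸ Q) ⊤ (Sb : Subgroup (X ⧸ Q)) →
      lc eb (π '' B') ⊆ ((Sb : Subgroup (X ⧸ Q)) : Set (X ⧸ Q)) →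
      ∃ e : X, π e = eb ∧
        GoodPair (sset 𝓦 X ⊤ (S : Subgroup X)) ((S : Subgroup X) : Set X) B' e := by
    rintro B' eb hB' ⟨_, ⟨W, hW, rfl⟩, heb⟩ hB'e
    have heb2 := (Subgroup.mem_inf.mp heb).2
    obtain ⟨e, he⟩ := hπs eb
    refine ⟨e, he, ?_⟩
    obtain ⟨Zb, hZb⟩ : ∃ Zb : Subgroup (X ⧸ Q),
        Zb = Cfsg.inducedFunctor W (Sb : Subgroup (X ⧸ Q)) := ⟨_, rfl⟩
    have heb3 : eb ∈ Subgroup.normalizer (Zb : Set (X ⧸ Q)) := by rw [hZb]; exact heb2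
    obtain ⟨D, hD⟩ : ∃ D : Subgroup X, D = Zb.comap π := ⟨_, rfl⟩
    have hZbS : Zb ≤ (Sb : Subgroup (X ⧸ Q)) := by rw [hZb]; exact wf_le _
    have hDS : D ≤ (S : Subgroup X) := by
      intro x hx
      rw [hD] at hx
      apply hpre
      rw [← hSbc]; exact hZbS hx
    have hDp : IsPGroup p D := hSp.to_le hDS
    have hZb1 : Zb ≠ ⊥ := by
      rw [hZb]
      apply wf_ne_bot (h𝓦 W hW) Sb.2
      intro hbot
      apply hSQ
      intro s hs
      have h1 : π s ∈ (Sb : Subgroup (X ⧸ Q)) := by rw [hSbc]; exact ⟨s, hs, rfl⟩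
      rw [hbot, Subgroup.mem_bot] at h1
      exact (hker s).mp h1
    obtain ⟨Y, hY⟩ : ∃ Y : Subgroup X, Y = Subgroup.normalizer (D : Set X) := ⟨_, rfl⟩
    have hNY : ∀ x : X, π x ∈ Subgroup.normalizer (Zb : Set (X ⧸ Q)) → x ∈ Y := by
      intro x hx
      rw [hY, hD]
      exact Subgroup.le_normalizer_comap π hx
    have heY : e ∈ Y := hNY e (by rw [he]; exact heb3)
    have hSY : (S : Subgroup X) ≤ Y := by
      intro s hs
      apply hNY
      have h1 : π s ∈ (Sb : Subgroup (X ⧸ Q)) := by rw [hSbc]; exact ⟨s, hs, rfl⟩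
      have h2 : (Sb : Subgroup (X ⧸ Q)) ≤ Subgroup.normalizer (Zb : Set (X ⧸ Q)) := by
        rw [hZb]
        exact (Subgroup.le_normalizer).trans (normalizer_le_normalizer_wf (h𝓦 W hW) Sb.2)
      exact h2 h1
    have hYtop : Y ≠ ⊤ := by
      intro htop
      rw [hY] at htop
      have hDn : D.Normal := Subgroup.normalizer_eq_top_iff.mp htop
      have hDQ : D ≤ Q := by rw [hQ]; exact le_pCore D hDn hDp
      apply hZb1
      rw [eq_bot_iff]
      intro z hz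
      obtain ⟨x, rfl⟩ := hπs z
      have hxD : x ∈ D := by rw [hD]; exact hz
      rw [Subgroup.mem_bot]
      exact (hker x).mpr (hDQ hxD)
    have hidx : ¬ p ∣ (S : Subgroup X).relIndex Y := fun hdv =>
      S.not_dvd_index (hdv.trans (Subgroup.relIndex_dvd_index_of_le hSY))
    have hB'e' : lc e B' ⊆ ((S : Subgroup X) : Set X) := by
      rintro _ ⟨b, hb, rfl⟩
      apply hpre
      have := hB'e ⟨π b, ⟨b, hb, rfl⟩, rfl⟩
      rw [hSbc] at this
      rw [map_mul, map_mul, map_inv, he]; exact this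
    have hg := Cfsg.Agent.S1959.localGood (indFam 𝓦 X) (indFam_conj h𝓦) Y (S : Subgroup X) hSY hSp
      hidx (hsub Y hYtop) B' e heY hB' hB'e'
    exact hg.mono_NT (sset_mono le_top) le_rfl
  obtain ⟨n, hnπ, hgn⟩ := lift_reach π hstep B hB cb hcb
  refine ⟨n, hgn, ?_⟩
  intro b hb
  rw [← hker, map_mul, map_inv, map_mul, map_mul, map_inv, map_mul, map_mul, map_inv, hnπ,
    hcbh (π b) ⟨b, hb, rfl⟩, inv_mul_cancel]

end secfusion3

end Cfsg.Agent.Lib.Helper3
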