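import Mathlib
import Cfsg.Agent.Lib.Helper3.SecFusion3

set_option autoImplicit false
set_option linter.unusedSectionVars false
set_option linter.unusedVariables false
set_option linter.style.haveILetI false
open scoped commutatorElement
open Cfsg Cfsg.Agent.Lib.Helper1 Cfsg.Agent.Lib.Helper4

/-! Section conjugacy functors and control of strong fusion: the main induction. -/

namespace Cfsg.Agent.Lib.Helper3

universe u

section secfusion4
variable {p : ℕ} [Fact p.Prime] {𝓦 : Set (∀ (Q : Type u) [Group Q], Subgroup Q)}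

/-- when `X = S C_X(Q)`, elements of `N_X(T)` acting trivially on `T / Q` act on `T` like
elements of `N_S(T)` -/
theorem stab_le {X : Type u} [Group X] [Finite X] (S : Sylow p X) (Q : Subgroup X)
    [hQn : Q.Normal] (hQp : IsPGroup p Q)
    (hSC : (S : Subgroup X) ⊔ Subgroup.centralizer (Q : Set X) = ⊤)
    (T : Subgroup X) (hQT : Q ≤ T) (hTS : T ≤ (S : Subgroup X))
    (hTidx : ¬ p ∣ ((S : Subgroup X) ⊓ Subgroup.normalizer (T : Set X)).relIndex
      (Subgroup.normalizer (T : Set X)))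
    (y : X) (hyT : y ∈ Subgroup.normalizer (T : Set X))
    (hy : ∀ t ∈ T, y * t * y⁻¹ * t⁻¹ ∈ Q) :
    ∃ s ∈ (S : Subgroup X) ⊓ Subgroup.normalizer (T : Set X),
      ∃ k ∈ Subgroup.centralizer (T : Set X), y = s * k := by
  classical
  have hpp : p.Prime := Fact.out
  have hSp : IsPGroup p (S : Subgroup X) := S.2
  obtain ⟨H, hH⟩ : ∃ H : Subgroup X, H = Subgroup.normalizer (T : Set X) := ⟨_, rfl⟩
  rw [← hH] at hTidx hyT ⊢
  have hHmem : ∀ h ∈ H, ∀ t ∈ T, h * t * h⁻¹ ∈ T := fun h hh t ht => by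
    rw [hH] at hh; exact (Subgroup.mem_set_normalizer_iff.mp hh t).mp ht
  have hHmem' : ∀ h ∈ H, ∀ t ∈ T, h⁻¹ * t * h ∈ T := fun h hh t ht => by
    have := hHmem h⁻¹ (H.inv_mem hh) t ht; rwa [inv_inv] at this
  let Y₀ : Subgroup X :=
    { carrier := {z | z ∈ H ∧ ∀ t ∈ T, z * t * z⁻¹ * t⁻¹ ∈ Q}
      one_mem' := ⟨H.one_mem, fun t _ => by simp⟩
      mul_mem' := by
        rintro z₁ z₂ ⟨h1, h1'⟩ ⟨h2, h2'⟩
        refine ⟨H.mul_mem h1 h2, fun t ht => ?_⟩
        have e : z₁ * z₂ * t * (z₁ * z₂)⁻¹ * t⁻¹ =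
            z₁ * (z₂ * t * z₂⁻¹ * t⁻¹) * z₁⁻¹ * (z₁ * t * z₁⁻¹ * t⁻¹) := by group
        rw [e]
        exact Q.mul_mem (hQn.conj_mem _ (h2' t ht) z₁) (h1' t ht)
      inv_mem' := by
        rintro z ⟨h1, h1'⟩
        refine ⟨H.inv_mem h1, fun t ht => ?_⟩
        have ht' : z⁻¹ * t * z ∈ T := hHmem' z h1 t ht
        have h2 := h1' _ ht'
        have e : z⁻¹ * t * z⁻¹⁻¹ * t⁻¹ =
            (z * (z⁻¹ * t * z) * z⁻¹ * (z⁻¹ * t * z)⁻¹)⁻¹ := by group
        rw [e]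
        exact Q.inv_mem h2 }
  have hY₀mem : ∀ z, z ∈ Y₀ ↔ z ∈ H ∧ ∀ t ∈ T, z * t * z⁻¹ * t⁻¹ ∈ Q := fun z => Iff.rfl
  have hY₀H : Y₀ ≤ H := fun z hz => ((hY₀mem z).mp hz).1
  have hyY₀ : y ∈ Y₀ := (hY₀mem y).mpr ⟨hyT, hy⟩
  obtain ⟨K₀, hK₀⟩ : ∃ K₀ : Subgroup X, K₀ = H ⊓ Subgroup.centralizer (T : Set X) := ⟨_, rfl⟩
  have hK₀Y₀ : K₀ ≤ Y₀ := by
    intro k hk
    rw [hK₀] at hk
    refine (hY₀mem k).mpr ⟨(Subgroup.mem_inf.mp hk).1, fun t ht => ?_⟩
    have := Subgroup.mem_centralizer_iff.mp (Subgroup.mem_inf.mp hk).2 t ht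
    have e : k * t * k⁻¹ * t⁻¹ = 1 := by rw [← this]; group
    rw [e]; exact Q.one_mem
  have hHY₀ : H ≤ Subgroup.normalizer (Y₀ : Set X) := by
    intro h hh
    apply mem_normalizer_of_map_conj_le
    rintro _ ⟨z, hz, rfl⟩
    have hz' := (hY₀mem z).mp hz
    refine (hY₀mem _).mpr ⟨?_, fun t ht => ?_⟩
    · show h * z * h⁻¹ ∈ H
      exact H.mul_mem (H.mul_mem hh hz'.1) (H.inv_mem hh)
    · have ht' : h⁻¹ * t * h ∈ T := hHmem' h hh t ht
      have h2 := hz'.2 _ ht'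
      have e : (MulAut.conj h).toMonoidHom z * t * ((MulAut.conj h).toMonoidHom z)⁻¹ * t⁻¹ =
          h * (z * (h⁻¹ * t * h) * z⁻¹ * (h⁻¹ * t * h)⁻¹) * h⁻¹ := by
        simp only [MulEquiv.coe_toMonoidHom, MulAut.conj_apply]; group
      rw [e]
      exact hQn.conj_mem _ h2 h
  have hHK₀ : H ≤ Subgroup.normalizer (K₀ : Set X) := by
    intro h hh
    apply mem_normalizer_of_map_conj_le
    rintro _ ⟨k, hk, rfl⟩
    rw [hK₀] at hk ⊢
    refine Subgroup.mem_inf.mpr ⟨?_, ?_⟩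
    · show h * k * h⁻¹ ∈ H
      exact H.mul_mem (H.mul_mem hh (Subgroup.mem_inf.mp hk).1) (H.inv_mem hh)
    · rw [Subgroup.mem_centralizer_iff]
      intro t ht
      have ht' : h⁻¹ * t * h ∈ T := hHmem' h hh t ht
      have := Subgroup.mem_centralizer_iff.mp (Subgroup.mem_inf.mp hk).2 _ ht'
      show t * (h * k * h⁻¹) = h * k * h⁻¹ * t
      have e1 : t * (h * k * h⁻¹) = h * ((h⁻¹ * t * h) * k) * h⁻¹ := by group
      have e2 : h * k * h⁻¹ * t = h * (k * (h⁻¹ * t * h)) * h⁻¹ := by group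
      rw [e1, e2, this]
  obtain ⟨C, hC⟩ : ∃ C : Subgroup X, C = Subgroup.centralizer (Q : Set X) := ⟨_, rfl⟩
  have hCn : C.Normal := by rw [hC]; infer_instance
  haveI := hCn
  rw [← hC] at hSC
  have hpprime : ∀ (z : X) (m' : ℕ), z ∈ Y₀ → m'.Coprime p → z ^ m' = 1 →
      z ∈ Subgroup.centralizer (T : Set X) := by
    intro z m' hz hm' hzm
    have hz' := (hY₀mem z).mp hz
    have hzC : z ∈ C := by
      have hz1 : z ∈ (S : Subgroup X) ⊔ C := by rw [hSC]; exact Subgroup.mem_top z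
      obtain ⟨s, hs, c, hc, hzsc⟩ := mem_mul_of_mem_sup_left_normal
        (show (S : Subgroup X) ≤ Subgroup.normalizer (C : Set X) by
          rw [Subgroup.normalizer_eq_top_iff.mpr hCn]; exact le_top) hz1
      have h1 : (QuotientGroup.mk' C z) = QuotientGroup.mk' C s := by
        rw [hzsc, map_mul]
        have : QuotientGroup.mk' C c = 1 := (QuotientGroup.eq_one_iff c).mpr hc
        rw [this, mul_one]
      obtain ⟨k, hk⟩ := hSp ⟨s, hs⟩
      have hk' : s ^ (p ^ k) = 1 := by simpa using congrArg Subtype.val hk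
      have h2 : (QuotientGroup.mk' C z) ^ (p ^ k) = 1 := by
        rw [h1, ← map_pow, hk', map_one]
      have h3 : (QuotientGroup.mk' C z) ^ m' = 1 := by rw [← map_pow, hzm, map_one]
      have h4 : orderOf (QuotientGroup.mk' C z) = 1 :=
        Nat.eq_one_of_dvd_coprimes (Nat.Coprime.pow_right k hm')
          (orderOf_dvd_of_pow_eq_one h3) (orderOf_dvd_of_pow_eq_one h2)
      have h5 := orderOf_eq_one_iff.mp h4
      exact (QuotientGroup.eq_one_iff z).mp h5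
    rw [Subgroup.mem_centralizer_iff]
    intro t ht
    obtain ⟨q', hq'⟩ : ∃ q' : X, q' = z * t * z⁻¹ * t⁻¹ := ⟨_, rfl⟩
    have hq'Q : q' ∈ Q := by rw [hq']; exact hz'.2 t ht
    have hcomm : Commute z q' := by
      rw [hC] at hzC
      have := Subgroup.mem_centralizer_iff.mp hzC q' hq'Q
      exact this.symm
    have hzt : z * t * z⁻¹ = q' * t := by rw [hq']; group
    have hpow : ∀ j : ℕ, z ^ j * t * (z ^ j)⁻¹ = q' ^ j * t := by
      intro j
      induction j with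
      | zero => simp
      | succ j ih =>
        have e : z ^ (j + 1) * t * (z ^ (j + 1))⁻¹ = z * (z ^ j * t * (z ^ j)⁻¹) * z⁻¹ := by
          rw [pow_succ']; group
        rw [e, ih]
        have e2 : z * (q' ^ j * t) * z⁻¹ = (z * q' ^ j * z⁻¹) * (z * t * z⁻¹) := by group
        rw [e2, hzt]
        have e3 : z * q' ^ j * z⁻¹ = q' ^ j := by
          have := (hcomm.pow_right j).eq
          rw [this]; group
        rw [e3, pow_succ, mul_assoc]
    have h6 := hpow m'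
    rw [hzm, one_mul, inv_one, mul_one] at h6
    have h7 : q' ^ m' = 1 := by
      have : q' ^ m' * t = 1 * t := by rw [one_mul]; exact h6.symm
      exact mul_right_cancel this
    have h8 : q' = 1 := by
      obtain ⟨j, hj⟩ := hQp ⟨q', hq'Q⟩
      have hj' : q' ^ (p ^ j) = 1 := by simpa using congrArg Subtype.val hj
      have h4 : orderOf q' = 1 :=
        Nat.eq_one_of_dvd_coprimes (Nat.Coprime.pow_right j hm')
          (orderOf_dvd_of_pow_eq_one h7) (orderOf_dvd_of_pow_eq_one hj')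
      exact orderOf_eq_one_iff.mp h4
    rw [h8, one_mul] at hzt
    have e : z * t = (z * t * z⁻¹) * z := by group
    rw [e, hzt]
  obtain ⟨a, m', hcard, hm'⟩ : ∃ a m' : ℕ, Nat.card X = p ^ a * m' ∧ m'.Coprime p := by
    refine ⟨(Nat.card X).factorization p, Nat.card X / p ^ (Nat.card X).factorization p,
      (Nat.ordProj_mul_ordCompl_eq_self _ p).symm, ?_⟩
    exact (Nat.coprime_ordCompl hpp Nat.card_pos.ne').symm
  have hpowK : ∀ z ∈ Y₀, z ^ (p ^ a) ∈ K₀ := by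
    intro z hz
    have hw : z ^ (p ^ a) ∈ Y₀ := Y₀.pow_mem hz _
    rw [hK₀]
    refine Subgroup.mem_inf.mpr ⟨hY₀H hw, hpprime _ m' hw hm' ?_⟩
    rw [← pow_mul, ← hcard]
    exact pow_card_eq_one'
  have hn : (K₀.subgroupOf Y₀).Normal :=
    (Subgroup.normal_subgroupOf_iff_le_normalizer hK₀Y₀).mpr (hY₀H.trans hHK₀)
  haveI := hn
  have hpg : IsPGroup p (↥Y₀ ⧸ K₀.subgroupOf Y₀) := by
    intro g
    induction g using QuotientGroup.induction_on with
    | H z =>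
      refine ⟨a, ?_⟩
      rw [← QuotientGroup.mk_pow, QuotientGroup.eq_one_iff, Subgroup.mem_subgroupOf]
      have := hpowK z z.2
      simpa using this
  obtain ⟨j, hj⟩ := IsPGroup.iff_card.mp hpg
  have hKidx : K₀.relIndex Y₀ = p ^ j := by
    rw [← hj]; exact Subgroup.index_eq_card _
  obtain ⟨P_E, hP_E⟩ : ∃ P_E : Subgroup X, P_E = ((S : Subgroup X) ⊓ H) ⊓ Y₀ := ⟨_, rfl⟩
  have hPidx : ¬ p ∣ P_E.relIndex Y₀ := by
    rw [hP_E]
    exact not_dvd_relIndex_inf H Y₀ ((S : Subgroup X) ⊓ H) hY₀H hHY₀ (hSp.to_le inf_le_left) hTidx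
  obtain ⟨F, hF⟩ : ∃ F : Subgroup X, F = P_E ⊔ K₀ := ⟨_, rfl⟩
  have hFidx : F.relIndex Y₀ = 1 := by
    have h1 : F.relIndex Y₀ ∣ P_E.relIndex Y₀ :=
      Subgroup.relIndex_dvd_of_le_left Y₀ (by rw [hF]; exact le_sup_left)
    have h2 : F.relIndex Y₀ ∣ p ^ j := by
      rw [← hKidx]; exact Subgroup.relIndex_dvd_of_le_left Y₀ (by rw [hF]; exact le_sup_right)
    obtain ⟨i, -, hi⟩ := (Nat.dvd_prime_pow hpp).mp h2
    cases i with
    | zero => rw [hi, pow_zero]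
    | succ i =>
      exfalso
      apply hPidx
      refine Dvd.dvd.trans ?_ h1
      rw [hi]; exact dvd_pow_self p (Nat.succ_ne_zero i)
  have hY₀F : Y₀ ≤ F := Subgroup.relIndex_eq_one.mp hFidx
  have hyF := hY₀F hyY₀
  rw [hF] at hyF
  have hPH : P_E ≤ H := by rw [hP_E]; exact inf_le_left.trans inf_le_right
  obtain ⟨s, hs, k, hk, hysk⟩ := mem_mul_of_mem_sup_left_normal (hPH.trans hHK₀) hyF
  refine ⟨s, ?_, k, ?_, hysk⟩
  · rw [hP_E] at hs; exact (Subgroup.mem_inf.mp hs).1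
  · rw [hK₀] at hk; exact (Subgroup.mem_inf.mp hk).2

end secfusion4

end Cfsg.Agent.Lib.Helper3
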