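import Mathlib
import Cfsg.Agent.Lib.Helper3.SecFusion4

set_option autoImplicit false
set_option linter.unusedSectionVars false
set_option linter.unusedVariables false
set_option linter.style.haveILetI false
open scoped commutatorElement
open Cfsg Cfsg.Agent.Lib.Helper1 Cfsg.Agent.Lib.Helper4

/-! Section conjugacy functors and control of strong fusion: the main theorem. -/

namespace Cfsg.Agent.Lib.Helper3

universe u

section secfusion5
variable {p : ℕ} [Fact p.Prime] {𝓦 : Set (∀ (Q : Type u) [Group Q], Subgroup Q)}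

/-- if the family controls strong fusion in every section of characteristic `p`, then it controls
strong fusion -/
theorem sec_main (h𝓦 : ∀ W ∈ 𝓦, Cfsg.IsCharPFunctor.{u} p W) :
    ∀ (n : ℕ) (X : Type u) [Group X] [Finite X], Nat.card X = n → SecHyp p 𝓦 X → Ctl p 𝓦 X := by
  intro n
  induction n using Nat.strong_induction_on with
  | _ n IH =>
  intro X _ _ hn hyp
  have hpp : p.Prime := Fact.out
  have ihY : ∀ (Y : Type u) [Group Y] [Finite Y], Cfsg.Involves Y X →
      Nat.card Y < Nat.card X → Ctl p 𝓦 Y := by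
    intro Y _ _ hYX hlt
    exact IH (Nat.card Y) (by omega) Y rfl
      (fun Z _ _ hZY hZ => hyp Z (involves_trans hZY hYX) hZ)
  by_cases hO : Cfsg.pPrimeCore p X = ⊥
  swap
  · haveI hOn : (Cfsg.pPrimeCore p X).Normal := pPrimeCore_normal' p
    have hlt : Nat.card (X ⧸ Cfsg.pPrimeCore p X) < Nat.card X := card_quotient_lt _ hO
    exact ctl_of_ctl_quotient h𝓦 _ (pPrimeCore_coprime p)
      (ihY _ (involves_quotient involves_self _) hlt)
  by_cases hchar : Subgroup.centralizer (Cfsg.pCore p X : Set X) ≤ Cfsg.pCore p X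
  · exact hyp X involves_self hchar
  obtain ⟨S⟩ : Nonempty (Sylow p X) := inferInstance
  have hSp : IsPGroup p (S : Subgroup X) := S.2
  have hCS := sylow_inf_centralizer_not_le hO S hchar
  obtain ⟨M, hSM, hMtop, hfac⟩ := exists_local_factor hO S hchar
  obtain ⟨Q, hQ⟩ : ∃ Q : Subgroup X, Q = Cfsg.pCore p X := ⟨_, rfl⟩
  rw [← hQ] at hCS hfac
  have hQn : Q.Normal := by rw [hQ]; exact pCore_normal' p
  haveI := hQn
  have hQp : IsPGroup p Q := by rw [hQ]; exact pCore_isPGroup
  have hQS : Q ≤ (S : Subgroup X) := by rw [hQ]; exact pCore_le_sylow S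
  obtain ⟨C, hC⟩ : ∃ C : Subgroup X, C = Subgroup.centralizer (Q : Set X) := ⟨_, rfl⟩
  rw [← hC] at hCS hfac
  -- control in proper subgroups
  have hsub : ∀ H : Subgroup X, H ≠ ⊤ →
      Cfsg.FamilyControlsStrongFusionIn p (indFam 𝓦 X) H := by
    intro H hH
    apply ctlIn_of_ctl_subgroup h𝓦 H
    apply ihY ↥H (involves_subgroup involves_self H)
    have := card_lt_card_of_lt (lt_top_iff_ne_top.mpr hH)
    rwa [Subgroup.card_top] at this
  have hgoodsub : ∀ H : Subgroup X, H ≠ ⊤ → (S : Subgroup X) ≤ H → ∀ (A : Set X) (x : X),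
      x ∈ H → A ⊆ ((S : Subgroup X) : Set X) → lc x A ⊆ ((S : Subgroup X) : Set X) →
      GoodPair (sset 𝓦 X ⊤ (S : Subgroup X)) ((S : Subgroup X) : Set X) A x := by
    intro H hH hSH A x hx hA hAx
    have hidx : ¬ p ∣ (S : Subgroup X).relIndex H := fun hdv =>
      S.not_dvd_index (hdv.trans (Subgroup.relIndex_dvd_index_of_le hSH))
    exact (Cfsg.Agent.S1959.localGood (indFam 𝓦 X) (indFam_conj h𝓦) H (S : Subgroup X) hSH hSp
      hidx (hsub H hH) A x hx hA hAx).mono_NT (sset_mono le_top) le_rfl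
  -- elements of `S`
  have hgoodS : ∀ (A : Set X) (s : X), s ∈ (S : Subgroup X) → A ⊆ ((S : Subgroup X) : Set X) →
      GoodPair (sset 𝓦 X ⊤ (S : Subgroup X)) ((S : Subgroup X) : Set X) A s := by
    intro A s hs hA
    have hcS : Ctl p 𝓦 ↥(S : Subgroup X) := by
      apply hyp ↥(S : Subgroup X) (involves_subgroup involves_self _)
      have htop : Cfsg.pCore p ↥(S : Subgroup X) = ⊤ := by
        rw [eq_top_iff]
        exact le_pCore ⊤ inferInstance (hSp.to_subgroup _)
      rw [htop]; exact le_top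
    have hrel := ctlIn_of_ctl_subgroup h𝓦 (S : Subgroup X) hcS
    have hidx : ¬ p ∣ (S : Subgroup X).relIndex (S : Subgroup X) := by
      rw [Subgroup.relIndex_self]; exact hpp.not_dvd_one
    have hAs : lc s A ⊆ ((S : Subgroup X) : Set X) := by
      rintro _ ⟨a, ha, rfl⟩
      exact Subgroup.mul_mem _ (Subgroup.mul_mem _ hs (hA ha)) (Subgroup.inv_mem _ hs)
    exact (Cfsg.Agent.S1959.localGood (indFam 𝓦 X) (indFam_conj h𝓦) (S : Subgroup X)
      (S : Subgroup X) le_rfl hSp hidx hrel A s hs hA hAs).mono_NT (sset_mono le_top) le_rfl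
  apply ctl_of_good S
  by_cases hSC : (S : Subgroup X) ⊔ C = ⊤
  swap
  · -- the factorization case
    intro A x hA hAx
    obtain ⟨m, hm, c, hc, rfl⟩ := hfac x
    exact good_of_factorization S _ M ((S : Subgroup X) ⊔ C) hSM le_sup_left
      (hgoodsub M hMtop hSM) (hgoodsub _ hSC le_sup_left) A m c hm
      (Subgroup.mem_sup_right hc) hA hAx
  by_cases hQ1 : Q = ⊥
  · have hres := Cfsg.Agent.S1959.result S (indFam 𝓦 X) (indFam_conj h𝓦)
      (fun T hTS hT1 _ => hsub _ (by
        intro htop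
        have hTn : T.Normal := Subgroup.normalizer_eq_top_iff.mp htop
        have h1 := le_pCore T hTn (hSp.to_le hTS)
        rw [← hQ, hQ1] at h1
        exact hT1 (le_bot_iff.mp h1)))
    intro A x hA hAx
    exact good_of_ctl h𝓦 hres S A x hA hAx
  have hSQ : ¬ (S : Subgroup X) ≤ Q := by
    intro hle
    apply hCS
    exact inf_le_left.trans hle
  have hquot : Ctl p 𝓦 (X ⧸ Q) :=
    ihY _ (involves_quotient involves_self Q) (card_quotient_lt Q hQ1)
  have hD : ∀ T ∈ Cfsg.Agent.S1960.sylFam p (S : Subgroup X), Q ≤ T → ∀ (A' : Set X) (x : X),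
      x ∈ Subgroup.normalizer (T : Set X) → A' ⊆ (T : Set X) →
      GoodPair (sset 𝓦 X ⊤ (S : Subgroup X)) ((S : Subgroup X) : Set X) A' x := by
    intro T hT hQT A' x hx hA'
    have hTS : T ≤ (S : Subgroup X) := hT.1
    have hxT : lc x (T : Set X) ⊆ ((S : Subgroup X) : Set X) := by
      rintro _ ⟨t, ht, rfl⟩
      exact hTS ((Subgroup.mem_set_normalizer_iff.mp hx t).mp ht)
    obtain ⟨n, hgn, hnq⟩ := good_mod_pCore h𝓦 S Q hQ hSQ hquot hsub (T : Set X) x
      (fun t ht => hTS ht) hxT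
    have hyq : ∀ t ∈ T, (n⁻¹ * x) * t * (n⁻¹ * x)⁻¹ * t⁻¹ ∈ Q := by
      intro t ht
      have h1 := hnq t ht
      have e : (n⁻¹ * x) * t * (n⁻¹ * x)⁻¹ * t⁻¹ =
          t * (n⁻¹ * ((n * t * n⁻¹)⁻¹ * (x * t * x⁻¹)) * n⁻¹⁻¹) * t⁻¹ := by group
      rw [e]
      exact hQn.conj_mem _ (hQn.conj_mem _ h1 n⁻¹) t
    have hyT : n⁻¹ * x ∈ Subgroup.normalizer (T : Set X) := by
      apply mem_normalizer_of_map_conj_le
      rintro _ ⟨t, ht, rfl⟩
      have h1 := hyq t ht
      have e : (MulAut.conj (n⁻¹ * x)).toMonoidHom t =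
          ((n⁻¹ * x) * t * (n⁻¹ * x)⁻¹ * t⁻¹) * t := by
        simp only [MulEquiv.coe_toMonoidHom, MulAut.conj_apply]; group
      rw [e]
      exact T.mul_mem (hQT h1) ht
    obtain ⟨s, hs, k, hk, hysk⟩ := stab_le S Q hQp (by rw [← hC]; exact hSC) T hQT hTS hT.2
      (n⁻¹ * x) hyT hyq
    have hxe : x = n * (s * k) := by rw [← hysk]; group
    have hkT : lc k (T : Set X) = (T : Set X) := by
      ext z; constructor
      · rintro ⟨t, ht, rfl⟩
        have := Subgroup.mem_centralizer_iff.mp hk t ht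
        show k * t * k⁻¹ ∈ T
        rw [← this, mul_inv_cancel_right]; exact ht
      · intro hz
        refine ⟨z, hz, ?_⟩
        have := Subgroup.mem_centralizer_iff.mp hk z hz
        show k * z * k⁻¹ = z
        rw [← this, mul_inv_cancel_right]
    have hg1 : GoodPair (sset 𝓦 X ⊤ (S : Subgroup X)) ((S : Subgroup X) : Set X)
        (T : Set X) k := by
      refine (GoodPair.one (fun t ht => hTS ht)).congr ?_
      intro t ht
      have := Subgroup.mem_centralizer_iff.mp hk t ht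
      rw [one_mul, inv_one, mul_one, ← this, mul_inv_cancel_right]
    have hg2 : GoodPair (sset 𝓦 X ⊤ (S : Subgroup X)) ((S : Subgroup X) : Set X)
        (lc k (T : Set X)) s := by
      rw [hkT]; exact hgoodS _ s (Subgroup.mem_inf.mp hs).1 (fun t ht => hTS ht)
    have hg12 := hg1.trans hg2
    have hskT : lc (s * k) (T : Set X) = (T : Set X) := by
      rw [lc_mul, hkT]
      have hsN := (Subgroup.mem_inf.mp hs).2
      ext z; constructor
      · rintro ⟨t, ht, rfl⟩
        exact (Subgroup.mem_set_normalizer_iff.mp hsN t).mp ht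
      · intro hz
        have h1 := (Subgroup.mem_set_normalizer_iff.mp (Subgroup.inv_mem _ hsN) z).mp hz
        rw [inv_inv] at h1
        exact ⟨s⁻¹ * z * s, h1, by show s * (s⁻¹ * z * s) * s⁻¹ = z; group⟩
    have hg3 : GoodPair (sset 𝓦 X ⊤ (S : Subgroup X)) ((S : Subgroup X) : Set X)
        (lc (s * k) (T : Set X)) n := by rw [hskT]; exact hgn
    have hall := hg12.trans hg3
    rw [← hxe] at hall
    exact hall.mono hA'
  intro A x hA hAx
  obtain ⟨B, hB⟩ : ∃ B : Subgroup X, B = Subgroup.closure (A ∪ (Q : Set X)) := ⟨_, rfl⟩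
  have hBS : B ≤ (S : Subgroup X) := by
    rw [hB]; exact (Subgroup.closure_le _).mpr (Set.union_subset hA hQS)
  have hBg : cj (x⁻¹)⁻¹ B ≤ (S : Subgroup X) := by
    rw [inv_inv, hB, cj_def, MonoidHom.map_closure, Subgroup.closure_le]
    rintro _ ⟨a, ha, rfl⟩
    rcases ha with ha | ha
    · exact hAx ⟨a, ha, rfl⟩
    · exact hQS (hQn.conj_mem a ha x)
  have hF := fuses_of_family S _ (Cfsg.Agent.S1960.sylFam_hyp S) B hBS x⁻¹ hBg
  have hg := fuses_good_core (Cfsg.Agent.S1960.sylFam p (S : Subgroup X))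
    (sset 𝓦 X ⊤ (S : Subgroup X)) (S : Subgroup X) Q hQn (fun U hU => hU.1) _ x⁻¹ hF hBS
    (by rw [hB]; exact fun q hq => Subgroup.subset_closure (Or.inr hq)) hD
  rw [inv_inv] at hg
  exact hg.mono (by rw [hB]; exact fun a ha => Subgroup.subset_closure (Or.inl ha))

end secfusion5

end Cfsg.Agent.Lib.Helper3
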