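import Mathlib
import Cfsg.Agent.Lib.Helper3.SecFusion5

set_option autoImplicit false
set_option linter.unusedSectionVars false
set_option linter.unusedVariables false
set_option linter.style.haveILetI false
open scoped commutatorElement
open Cfsg Cfsg.Agent.Lib.Helper1 Cfsg.Agent.Lib.Helper4

/-! Section conjugacy functors and control of strong fusion: wrappers. -/

namespace Cfsg.Agent.Lib.Helper3

universe u

section secfusion6
variable {p : ℕ} [Fact p.Prime]

lemma charp_congr_equiv {X Y : Type u} [Group X] [Group Y] (e : X ≃* Y)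
    (h : Subgroup.centralizer (Cfsg.pCore p X : Set X) ≤ Cfsg.pCore p X) :
    Subgroup.centralizer (Cfsg.pCore p Y : Set Y) ≤ Cfsg.pCore p Y := by
  have hpc : (Cfsg.pCore p X).map e.toMonoidHom = Cfsg.pCore p Y := pCore_map_equiv p e
  intro y hy
  have hx : e.symm y ∈ Subgroup.centralizer (Cfsg.pCore p X : Set X) := by
    rw [Subgroup.mem_centralizer_iff]
    intro z hz
    have hz' : e z ∈ Cfsg.pCore p Y := by rw [← hpc]; exact Subgroup.mem_map_of_mem _ hz
    have := Subgroup.mem_centralizer_iff.mp hy (e z) hz'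
    apply e.injective
    rw [map_mul, map_mul, e.apply_symm_apply]; exact this
  have h1 := h hx
  rw [← hpc]
  exact ⟨e.symm y, h1, e.apply_symm_apply y⟩

lemma reach_mem_normalizer {X : Type u} [Group X] {W : ∀ (Q : Type u) [Group Q], Subgroup Q}
    {T : Subgroup X} {S' A : Set X} {c : X}
    (h : LReach (sset {W} X ⊤ T) S' A c) :
    c ∈ Subgroup.normalizer ((Cfsg.inducedFunctor W T : Subgroup X) : Set X) := by
  induction h with
  | base _ => exact Subgroup.one_mem _
  | step c e _ he _ ih =>
    obtain ⟨_, ⟨W', hW', rfl⟩, hee⟩ := he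
    rw [Set.mem_singleton_iff] at hW'
    subst hW'
    exact Subgroup.mul_mem _ (Subgroup.mem_inf.mp hee).2 ih

/-- a functor whose value at the Sylow subgroup is normal controls strong fusion -/
theorem ctl_of_normal {Z : Type u} [Group Z] [Finite Z] {W : ∀ (Q : Type u) [Group Q], Subgroup Q}
    (T : Sylow p Z) (hTn : (Cfsg.inducedFunctor W (T : Subgroup Z)).Normal) : Ctl p {W} Z := by
  apply ctl_of_good T
  intro A h hA hAh
  refine ⟨h, LReach.single hA ?_ hAh, fun _ _ => rfl⟩
  refine sset_intro (Set.mem_singleton W) (Subgroup.mem_top _) ?_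
  rw [Subgroup.normalizer_eq_top_iff.mpr hTn]; exact Subgroup.mem_top _

/-- a pair of functors with a factorization controls strong fusion -/
theorem ctl_pair_of_factorization {Z : Type u} [Group Z] [Finite Z]
    {W₁ W₂ : ∀ (Q : Type u) [Group Q], Subgroup Q} (hW₁ : Cfsg.IsCharPFunctor.{u} p W₁)
    (hW₂ : Cfsg.IsCharPFunctor.{u} p W₂) (T : Sylow p Z)
    (hfac : ∀ x : Z,
      ∃ a ∈ Subgroup.normalizer ((Cfsg.inducedFunctor W₁ (T : Subgroup Z) : Subgroup Z) : Set Z),
      ∃ b ∈ Subgroup.normalizer ((Cfsg.inducedFunctor W₂ (T : Subgroup Z) : Subgroup Z) : Set Z),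
        x = a * b) : Ctl p {W₁, W₂} Z := by
  apply ctl_of_good T
  intro A x hA hAx
  obtain ⟨a, ha, b, hb, rfl⟩ := hfac x
  refine good_of_factorization T _ _ _ ?_ ?_ ?_ ?_ A a b ha hb hA hAx
  · exact (Subgroup.le_normalizer).trans (normalizer_le_normalizer_wf hW₁ T.2)
  · exact (Subgroup.le_normalizer).trans (normalizer_le_normalizer_wf hW₂ T.2)
  · intro A' y hy hA' hA'y
    exact ⟨y, LReach.single hA' (sset_intro (Set.mem_insert _ _) (Subgroup.mem_top _) hy) hA'y,
      fun _ _ => rfl⟩
  · intro A' y hy hA' hA'y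
    exact ⟨y, LReach.single hA'
      (sset_intro (Set.mem_insert_of_mem _ (Set.mem_singleton _)) (Subgroup.mem_top _) hy) hA'y,
      fun _ _ => rfl⟩

end secfusion6

end Cfsg.Agent.Lib.Helper3
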