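import Mathlib
import Cfsg.Agent.S1280
import Cfsg.Agent.S1282
import Cfsg.Agent.S0024
import Cfsg.Agent.S0025
import Cfsg.Agent.Lib.Helper3.Conj
import Cfsg.Agent.Lib.Helper3.NormAux

set_option autoImplicit false
open scoped Pointwise

namespace Cfsg.Agent.Lib.Helper3

section basic

variable {G : Type*} [Group G] {p : ℕ} {A : Subgroup G} {θ : G → Subgroup G}

/-- `U` is invariant under conjugation by `A` (in the form used by the signalizer predicates) -/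
def AInv (A U : Subgroup G) : Prop := ∀ b ∈ A, ∀ u ∈ U, b * u * b⁻¹ ∈ U

lemma AInv.le_normalizer {U : Subgroup G} (h : AInv A U) : A ≤ Subgroup.normalizer (U : Set G) := by
  intro b hb
  apply mem_normalizer_of_conj_mem
  · intro y hy; exact h b hb y hy
  · intro y hy
    have := h b⁻¹ (A.inv_mem hb) y hy
    simpa using this

lemma AInv.of_le_normalizer {U : Subgroup G} (h : A ≤ Subgroup.normalizer (U : Set G)) :
    AInv A U := fun _ hb _ hu => conj_mem_of_mem_normalizer' (h hb) hu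

lemma AInv.inf {U V : Subgroup G} (hU : AInv A U) (hV : AInv A V) : AInv A (U ⊓ V) :=
  fun b hb u hu => ⟨hU b hb u hu.1, hV b hb u hu.2⟩

lemma AInv.sup {U V : Subgroup G} (hU : AInv A U) (hV : AInv A V) : AInv A (U ⊔ V) := by
  apply AInv.of_le_normalizer
  intro b hb
  have hbU := hU.le_normalizer hb
  have hbV := hV.le_normalizer hb
  apply mem_normalizer_of_conj_mem
  · intro u hu
    have h1 : U ⊔ V ≤ (U ⊔ V).comap (MulAut.conj b).toMonoidHom := by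
      apply sup_le
      · intro x hx
        rw [Subgroup.mem_comap]
        apply Subgroup.mem_sup_left
        simpa using conj_mem_of_mem_normalizer' hbU hx
      · intro x hx
        rw [Subgroup.mem_comap]
        apply Subgroup.mem_sup_right
        simpa using conj_mem_of_mem_normalizer' hbV hx
    have h2 := h1 hu
    rw [Subgroup.mem_comap] at h2
    simpa using h2
  · intro u hu
    have h1 : U ⊔ V ≤ (U ⊔ V).comap (MulAut.conj b⁻¹).toMonoidHom := by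
      apply sup_le
      · intro x hx
        rw [Subgroup.mem_comap]
        apply Subgroup.mem_sup_left
        simpa using conj_inv_mem_of_mem_normalizer' hbU hx
      · intro x hx
        rw [Subgroup.mem_comap]
        apply Subgroup.mem_sup_right
        simpa using conj_inv_mem_of_mem_normalizer' hbV hx
    have h2 := h1 hu
    rw [Subgroup.mem_comap] at h2
    simpa using h2

lemma AInv.normalizer {U : Subgroup G} (hU : AInv A U) :
    AInv A (Subgroup.normalizer (U : Set G)) :=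
  AInv.of_le_normalizer (hU.le_normalizer.trans Subgroup.le_normalizer)

lemma AInv.centralizer_singleton (hcomm : ∀ a ∈ A, ∀ b ∈ A, a * b = b * a) {a : G} (ha : a ∈ A) :
    AInv A (Subgroup.centralizer ({a} : Set G)) := by
  intro b hb u hu
  rw [Subgroup.mem_centralizer_iff] at hu ⊢
  intro z hz
  rw [Set.mem_singleton_iff] at hz
  have h1 := hu a rfl
  have h2 := hcomm a ha b hb
  rw [hz]
  have h3 : a * b⁻¹ = b⁻¹ * a := by
    have : b⁻¹ * (a * b) * b⁻¹ = b⁻¹ * (b * a) * b⁻¹ := by rw [h2]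
    simpa [mul_assoc] using this.symm
  calc a * (b * u * b⁻¹) = (a * b) * u * b⁻¹ := by group
    _ = b * (a * u) * b⁻¹ := by rw [h2]; group
    _ = b * (u * a) * b⁻¹ := by rw [h1]
    _ = b * u * (a * b⁻¹) := by group
    _ = b * u * (b⁻¹ * a) := by rw [h3]
    _ = b * u * b⁻¹ * a := by group

lemma family_of_le {U V : Subgroup G} (hV : V ∈ Cfsg.signalizerFamily p A θ) (hUV : U ≤ V)
    (hUA : AInv A U) : U ∈ Cfsg.signalizerFamily p A θ := by
  obtain ⟨h1, h2, -, h4⟩ := hV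
  refine ⟨?_, ?_, hUA, ?_⟩
  · exact Group.isSolvable_of_isSolvable_injective (Subgroup.inclusion_injective hUV)
  · intro h
    exact h2 (h.trans (Subgroup.card_dvd_of_le hUV))
  · intro a ha ha1
    exact (inf_le_inf_right _ hUV).trans (h4 a ha ha1)

lemma family_ainv {U : Subgroup G} (hU : U ∈ Cfsg.signalizerFamily p A θ) : AInv A U := hU.2.2.1

lemma theta_mem_family (hθ : Cfsg.IsSolvableSignalizerFunctor p A θ) {a : G} (ha : a ∈ A)
    (ha1 : a ≠ 1) : θ a ∈ Cfsg.signalizerFamily p A θ :=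
  ⟨hθ.2 a ha ha1, hθ.1.2.1 a ha ha1, hθ.1.2.2.1 a ha ha1,
    fun b hb hb1 => hθ.1.2.2.2 a ha ha1 b hb hb1⟩

lemma mem_signalizerInf_iff {c : G} :
    c ∈ Cfsg.signalizerInf A θ ↔ ∀ a ∈ A, a ≠ 1 → c ∈ θ a := by
  unfold Cfsg.signalizerInf
  rw [Subgroup.mem_iInf]
  constructor
  · intro h a ha ha1
    exact h ⟨a, ha, ha1⟩
  · intro h a
    exact h a.1 a.2.1 a.2.2

lemma family_inf_centralizer_le {K : Subgroup G} (hK : K ∈ Cfsg.signalizerFamily p A θ) :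
    K ⊓ Subgroup.centralizer (A : Set G) ≤ Cfsg.signalizerInf A θ := by
  rintro x ⟨hxK, hxA⟩
  have hxA' : x ∈ Subgroup.centralizer (A : Set G) := hxA
  rw [mem_signalizerInf_iff]
  intro a ha ha1
  apply hK.2.2.2 a ha ha1
  refine ⟨hxK, ?_⟩
  show x ∈ Subgroup.centralizer ({a} : Set G)
  rw [Subgroup.mem_centralizer_iff]
  intro z hz
  rw [Set.mem_singleton_iff] at hz
  rw [hz]
  exact Subgroup.mem_centralizer_iff.mp hxA' a ha

lemma signalizerInf_le_centralizer (hθ : Cfsg.IsSolvableSignalizerFunctor p A θ) :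
    Cfsg.signalizerInf A θ ≤ Subgroup.centralizer (A : Set G) := by
  intro c hc
  rw [mem_signalizerInf_iff] at hc
  rw [Subgroup.mem_centralizer_iff]
  intro a ha
  by_cases ha1 : a = 1
  · rw [ha1]; simp
  · have := hθ.1.1 a ha ha1 (hc a ha ha1)
    exact Subgroup.mem_centralizer_iff.mp this a rfl

lemma family_conj (hθ : Cfsg.IsSolvableSignalizerFunctor p A θ) {c : G}
    (hc : c ∈ Cfsg.signalizerInf A θ) {U : Subgroup G} (hU : U ∈ Cfsg.signalizerFamily p A θ) :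
    U.map (MulAut.conj c).toMonoidHom ∈ Cfsg.signalizerFamily p A θ := by
  have hcA := signalizerInf_le_centralizer hθ hc
  obtain ⟨h1, h2, h3, h4⟩ := hU
  refine ⟨?_, ?_, ?_, ?_⟩
  · have e : ↥U ≃* ↥(U.map (MulAut.conj c).toMonoidHom) :=
      U.equivMapOfInjective _ (MulAut.conj c).injective
    exact Group.isSolvable_of_isSolvable_injective (f := e.symm.toMonoidHom) e.symm.injective
  · rw [card_map_conj]; exact h2
  · rintro b hb _ ⟨u, hu, rfl⟩
    have hcb : b * c = c * b := (Subgroup.mem_centralizer_iff.mp hcA b hb)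
    refine ⟨b * u * b⁻¹, h3 b hb u hu, ?_⟩
    simp only [MulEquiv.coe_toMonoidHom, MulAut.conj_apply]
    have hcb' : c⁻¹ * b⁻¹ = b⁻¹ * c⁻¹ := by
      rw [← mul_inv_rev, ← mul_inv_rev, hcb]
    calc c * (b * u * b⁻¹) * c⁻¹ = (c * b) * u * (b⁻¹ * c⁻¹) := by group
      _ = (b * c) * u * (c⁻¹ * b⁻¹) := by rw [hcb, hcb']
      _ = b * (c * u * c⁻¹) * b⁻¹ := by group
  · intro a ha ha1
    rintro _ ⟨⟨u, hu, rfl⟩, hx⟩
    have hca : c ∈ θ a := (mem_signalizerInf_iff.mp hc) a ha ha1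
    have hcC : c ∈ Subgroup.centralizer ({a} : Set G) := hθ.1.1 a ha ha1 hca
    have huC : u ∈ Subgroup.centralizer ({a} : Set G) := by
      have : u = c⁻¹ * (c * u * c⁻¹) * c := by group
      rw [this]
      exact Subgroup.mul_mem _ (Subgroup.mul_mem _ (Subgroup.inv_mem _ hcC) hx) hcC
    have hua : u ∈ θ a := h4 a ha ha1 ⟨hu, huC⟩
    simp only [MulEquiv.coe_toMonoidHom, MulAut.conj_apply]
    exact (θ a).mul_mem ((θ a).mul_mem hca hua) ((θ a).inv_mem hca)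

end basic

section maxq

variable {G : Type*} [Group G] {p : ℕ} {A : Subgroup G} {θ : G → Subgroup G}

/-- `Q` is maximal among the `q`-subgroups in the family of `θ` -/
def IsMaxQ (p : ℕ) (A : Subgroup G) (θ : G → Subgroup G) (q : ℕ) (Q : Subgroup G) : Prop :=
  Q ∈ Cfsg.signalizerFamily p A θ ∧ IsPGroup q ↥Q ∧
    ∀ R ∈ Cfsg.signalizerFamily p A θ, IsPGroup q ↥R → Q ≤ R → R = Q

lemma exists_isMaxQ_ge [Finite G] {q : ℕ} {R : Subgroup G} (hR : R ∈ Cfsg.signalizerFamily p A θ)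
    (hRq : IsPGroup q ↥R) : ∃ T, IsMaxQ p A θ q T ∧ R ≤ T := by
  obtain ⟨T, hT⟩ := exists_maximal_of_wellFoundedGT
    (fun T : Subgroup G => T ∈ Cfsg.signalizerFamily p A θ ∧ IsPGroup q ↥T ∧ R ≤ T)
    ⟨R, hR, hRq, le_rfl⟩
  refine ⟨T, ⟨hT.prop.1, hT.prop.2.1, ?_⟩, hT.prop.2.2⟩
  intro S hS hSq hTS
  exact le_antisymm (hT.le_of_ge ⟨hS, hSq, hT.prop.2.2.trans hTS⟩ hTS) hTS

lemma IsMaxQ.conj (hθ : Cfsg.IsSolvableSignalizerFunctor p A θ) {q : ℕ} {Q : Subgroup G}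
    (hQ : IsMaxQ p A θ q Q) {c : G} (hc : c ∈ Cfsg.signalizerInf A θ) :
    IsMaxQ p A θ q (Q.map (MulAut.conj c).toMonoidHom) := by
  refine ⟨family_conj hθ hc hQ.1, hQ.2.1.map _, ?_⟩
  intro R hR hRq hle
  have h1 : Q ≤ R.map (MulAut.conj c⁻¹).toMonoidHom := map_conj_le_iff.mp hle
  have h2 := hQ.2.2 _ (family_conj hθ ((Cfsg.signalizerInf A θ).inv_mem hc) hR) (hRq.map _) h1
  rw [← h2, map_conj_map_conj_inv]

end maxq

section trans

variable {G : Type*} [Group G]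

lemma sylow_conj_smul_map {q : ℕ} (K : Subgroup G) (c : ↥K) (P : Sylow q ↥K) :
    ((MulAut.conj c • P : Sylow q ↥K) : Subgroup ↥K).map K.subtype =
      ((P : Subgroup ↥K).map K.subtype).map (MulAut.conj (c : G)).toMonoidHom := by
  ext x
  constructor
  · rintro ⟨y, hy, rfl⟩
    rw [Sylow.pointwise_smul_def] at hy
    have hy' : y ∈ MulAut.conj c • (P : Subgroup ↥K) := hy
    rw [Subgroup.mem_pointwise_smul_iff_inv_smul_mem] at hy'
    refine ⟨(c : G)⁻¹ * y * c, ⟨_, hy', ?_⟩, ?_⟩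
    · simp [MulAut.smul_def, mul_assoc]
    · simp [mul_assoc]
  · rintro ⟨_, ⟨z, hz, rfl⟩, rfl⟩
    refine ⟨c * z * c⁻¹, ?_, by simp⟩
    rw [Sylow.pointwise_smul_def]
    show c * z * c⁻¹ ∈ MulAut.conj c • (P : Subgroup ↥K)
    rw [Subgroup.mem_pointwise_smul_iff_inv_smul_mem]
    have hz' : z ∈ (P : Subgroup ↥K) := hz
    simpa [MulAut.smul_def, mul_assoc] using hz'

lemma card_lt_card_of_lt_sig [Finite G] {D R : Subgroup G} (h : D < R) : Nat.card ↥D < Nat.card ↥R := by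
  have h1 : Nat.card ↥D ≤ Nat.card ↥R := Nat.le_of_dvd Nat.card_pos (Subgroup.card_dvd_of_le h.le)
  rcases h1.lt_or_eq with h2 | h2
  · exact h2
  · exact absurd (Subgroup.eq_of_le_of_card_ge h.le h2.ge) h.ne

variable [Finite G] {p : ℕ} [Fact p.Prime] {A : Subgroup G} {θ : G → Subgroup G}

lemma IsMaxQ.eq_bot_of_eq {q : ℕ} (hqp : q = p) {Q : Subgroup G} (hQ : IsMaxQ p A θ q Q) :
    Q = ⊥ := by
  subst hqp
  obtain ⟨k, hk⟩ := IsPGroup.iff_card.mp hQ.2.1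
  have h1 := hQ.1.2.1
  rcases Nat.eq_zero_or_pos k with h0 | hpos
  · rw [h0, pow_zero] at hk
    exact Subgroup.card_eq_one.mp hk
  · exfalso
    apply h1
    rw [hk]
    exact dvd_pow_self q hpos.ne'

/-- **Transitivity theorem** for solvable signalizer functors. -/
theorem transitivity_aux (hA : Cfsg.IsElementaryAbelian p A) (hA3 : p ^ 3 ≤ Nat.card ↥A)
    (hθ : Cfsg.IsSolvableSignalizerFunctor p A θ) (q : ℕ) [Fact q.Prime] :
    ∀ n : ℕ, ∀ Q₁ Q₂ : Subgroup G, IsMaxQ p A θ q Q₁ → IsMaxQ p A θ q Q₂ →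
      Nat.card G - Nat.card ↥(Q₁ ⊓ Q₂ : Subgroup G) = n →
      ∃ c ∈ Cfsg.signalizerInf A θ, Q₁.map (MulAut.conj c).toMonoidHom = Q₂ := by
  have hpp : p.Prime := Fact.out
  intro n
  induction n using Nat.strong_induction_on with
  | _ n ih =>
  intro Q₁ Q₂ hQ₁ hQ₂ hn
  by_cases hqp : q = p
  · refine ⟨1, Subgroup.one_mem _, ?_⟩
    rw [hQ₁.eq_bot_of_eq hqp, hQ₂.eq_bot_of_eq hqp, Subgroup.map_bot]
  set D := Q₁ ⊓ Q₂ with hD
  by_cases hD₁ : D = Q₁
  · have h1 : Q₁ ≤ Q₂ := by rw [← hD₁]; exact inf_le_right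
    have h2 := hQ₁.2.2 Q₂ hQ₂.1 hQ₂.2.1 h1
    exact ⟨1, Subgroup.one_mem _, by rw [map_conj_one, h2]⟩
  by_cases hD₂ : D = Q₂
  · have h1 : Q₂ ≤ Q₁ := by rw [← hD₂]; exact inf_le_left
    have h2 := hQ₂.2.2 Q₁ hQ₁.1 hQ₁.2.1 h1
    exact ⟨1, Subgroup.one_mem _, by rw [map_conj_one, h2]⟩
  have hcomm : ∀ a ∈ A, ∀ b ∈ A, a * b = b * a := by
    intro a ha b hb
    have hc := hA.1
    have h := hc.is_comm.comm (⟨a, ha⟩ : A) ⟨b, hb⟩
    exact congrArg Subtype.val h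
  have hA2 : p ^ 2 ≤ Nat.card ↥A :=
    (Nat.pow_le_pow_right hpp.pos (by norm_num)).trans hA3
  obtain ⟨a, ha, ha1, hn1, hn2⟩ := Cfsg.Agent.S1282.result p A hA hA3 q hqp Q₁ Q₂ hQ₁.2.1 hQ₂.2.1
    (family_ainv hQ₁.1).le_normalizer (family_ainv hQ₂.1).le_normalizer hD₁ hD₂
  -- the IH in usable form
  have step : ∀ T T' R : Subgroup G, IsMaxQ p A θ q T → IsMaxQ p A θ q T' → D < R → R ≤ T →
      R ≤ T' → ∃ c ∈ Cfsg.signalizerInf A θ, T.map (MulAut.conj c).toMonoidHom = T' := by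
    intro T T' R hT hT' hDR hRT hRT'
    have h1 : Nat.card ↥D < Nat.card ↥R := card_lt_card_of_lt_sig hDR
    have h2 : Nat.card ↥R ≤ Nat.card ↥(T ⊓ T' : Subgroup G) :=
      Nat.le_of_dvd Nat.card_pos (Subgroup.card_dvd_of_le (le_inf hRT hRT'))
    have h3 : Nat.card ↥(T ⊓ T' : Subgroup G) ≤ Nat.card G := Subgroup.card_le_card_group _
    exact ih (Nat.card G - Nat.card ↥(T ⊓ T' : Subgroup G)) (by omega) T T' hT hT' rfl
  have hDA : AInv A D := (family_ainv hQ₁.1).inf (family_ainv hQ₂.1)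
  have hDfam : D ∈ Cfsg.signalizerFamily p A θ := family_of_le hQ₁.1 inf_le_left hDA
  set H := θ a ⊓ Subgroup.normalizer (D : Set G) with hH
  have hθa := theta_mem_family hθ ha ha1
  have hHA : AInv A H := (family_ainv hθa).inf hDA.normalizer
  have hHfam : H ∈ Cfsg.signalizerFamily p A θ := family_of_le hθa inf_le_left hHA
  set K := D ⊔ H with hK
  have hKfam : K ∈ Cfsg.signalizerFamily p A θ :=
    Cfsg.Agent.S1280.result p A hA hA2 θ hθ D H hDfam hHfam inf_le_right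
  have hKA : AInv A K := family_ainv hKfam
  have hCa : AInv A (Subgroup.centralizer ({a} : Set G)) := AInv.centralizer_singleton hcomm ha
  have hcop : (Nat.card ↥A).Coprime (Nat.card ↥K) := by
    have hAp : IsPGroup p ↥A := by
      intro c
      refine ⟨1, ?_⟩
      apply Subtype.ext
      simp only [pow_one, Subgroup.coe_pow, Subgroup.coe_one]
      exact hA.2 _ c.2
    obtain ⟨k, hk⟩ := IsPGroup.iff_card.mp hAp
    rw [hk]
    apply Nat.Coprime.pow_left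
    exact (Nat.Prime.coprime_iff_not_dvd hpp).mpr hKfam.2.1
  -- data for each side
  have side : ∀ Q : Subgroup G, IsMaxQ p A θ q Q → D ≤ Q →
      ¬ (Subgroup.normalizer (D : Set G) ⊓ Q ⊓ Subgroup.centralizer {a} ≤ D) →
      ∃ R : Subgroup G, D < R ∧ R ≤ Q ∧ ∃ P : Sylow q ↥K,
        R ≤ (P : Subgroup ↥K).map K.subtype ∧
        A ≤ Subgroup.normalizer (((P : Subgroup ↥K).map K.subtype : Subgroup G) : Set G) := by
    intro Q hQ hDQ hnle
    set M := Subgroup.normalizer (D : Set G) ⊓ Q ⊓ Subgroup.centralizer {a} with hM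
    have hMA : AInv A M := (hDA.normalizer.inf (family_ainv hQ.1)).inf hCa
    have hRA : AInv A (D ⊔ M) := hDA.sup hMA
    have hRQ : D ⊔ M ≤ Q := sup_le hDQ (inf_le_left.trans inf_le_right)
    have hRq : IsPGroup q ↥(D ⊔ M : Subgroup G) := hQ.2.1.to_le hRQ
    have hMH : M ≤ H := by
      rintro x ⟨⟨hxN, hxQ⟩, hxC⟩
      exact ⟨hQ.1.2.2.2 a ha ha1 ⟨hxQ, hxC⟩, hxN⟩
    have hRK : D ⊔ M ≤ K := sup_le le_sup_left (hMH.trans le_sup_right)
    have hDR : D < D ⊔ M := by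
      refine lt_of_le_of_ne le_sup_left ?_
      intro h
      apply hnle
      rw [h]
      exact le_sup_right
    obtain ⟨P, hP1, hP2⟩ := Cfsg.Agent.S0025.result A K hKA.le_normalizer hcop (Or.inr hKfam.1) q
      (D ⊔ M) hRK hRq hRA.le_normalizer
    exact ⟨D ⊔ M, hDR, hRQ, P, hP1, hP2⟩
  obtain ⟨R₁, hDR₁, hR₁Q, P₁, hRP₁, hAP₁⟩ := side Q₁ hQ₁ inf_le_left hn1
  obtain ⟨R₂, hDR₂, hR₂Q, P₂, hRP₂, hAP₂⟩ := side Q₂ hQ₂ inf_le_right hn2
  obtain ⟨c, hcA, hcP⟩ := Cfsg.Agent.S0024.result A K hKA.le_normalizer hcop (Or.inr hKfam.1) q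
    P₁ P₂ hAP₁ hAP₂
  set S₁ := (P₁ : Subgroup ↥K).map K.subtype with hS₁
  set S₂ := (P₂ : Subgroup ↥K).map K.subtype with hS₂
  have hS₂eq : S₂ = S₁.map (MulAut.conj (c : G)).toMonoidHom := by
    rw [hS₂, ← hcP, sylow_conj_smul_map]
  have hcInf : (c : G) ∈ Cfsg.signalizerInf A θ := family_inf_centralizer_le hKfam ⟨c.2, hcA⟩
  have hS₁fam : S₁ ∈ Cfsg.signalizerFamily p A θ :=
    family_of_le hKfam (Subgroup.map_subtype_le _) (AInv.of_le_normalizer hAP₁)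
  have hS₂fam : S₂ ∈ Cfsg.signalizerFamily p A θ :=
    family_of_le hKfam (Subgroup.map_subtype_le _) (AInv.of_le_normalizer hAP₂)
  have hS₁q : IsPGroup q ↥S₁ := P₁.isPGroup'.map _
  have hS₂q : IsPGroup q ↥S₂ := P₂.isPGroup'.map _
  obtain ⟨T₁, hT₁, hST₁⟩ := exists_isMaxQ_ge hS₁fam hS₁q
  obtain ⟨T₂, hT₂, hST₂⟩ := exists_isMaxQ_ge hS₂fam hS₂q
  obtain ⟨c₁, hc₁, e₁⟩ := step Q₁ T₁ R₁ hQ₁ hT₁ hDR₁ hR₁Q (hRP₁.trans hST₁)
  obtain ⟨c₂, hc₂, e₂⟩ := step Q₂ T₂ R₂ hQ₂ hT₂ hDR₂ hR₂Q (hRP₂.trans hST₂)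
  have hT₁c : IsMaxQ p A θ q (T₁.map (MulAut.conj (c : G)).toMonoidHom) := hT₁.conj hθ hcInf
  have hR₂T₁c : R₂ ≤ T₁.map (MulAut.conj (c : G)).toMonoidHom := by
    refine hRP₂.trans ?_
    rw [hS₂eq]
    exact map_conj_mono hST₁ _
  obtain ⟨c₃, hc₃, e₃⟩ := step _ T₂ R₂ hT₁c hT₂ hDR₂ hR₂T₁c (hRP₂.trans hST₂)
  refine ⟨c₂⁻¹ * c₃ * c * c₁, ?_, ?_⟩
  · exact Subgroup.mul_mem _ (Subgroup.mul_mem _ (Subgroup.mul_mem _ (Subgroup.inv_mem _ hc₂) hc₃)
      hcInf) hc₁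
  · rw [← map_conj_map_conj, e₁, ← map_conj_map_conj, ← map_conj_map_conj, e₃, ← e₂,
      map_conj_inv_map_conj]

theorem transitivity (hA : Cfsg.IsElementaryAbelian p A) (hA3 : p ^ 3 ≤ Nat.card ↥A)
    (hθ : Cfsg.IsSolvableSignalizerFunctor p A θ) (q : ℕ) [Fact q.Prime] {Q₁ Q₂ : Subgroup G}
    (h₁ : IsMaxQ p A θ q Q₁) (h₂ : IsMaxQ p A θ q Q₂) :
    ∃ c ∈ Cfsg.signalizerInf A θ, Q₁.map (MulAut.conj c).toMonoidHom = Q₂ :=
  transitivity_aux hA hA3 hθ q _ Q₁ Q₂ h₁ h₂ rfl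

end trans

end Cfsg.Agent.Lib.Helper3
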