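import Mathlib
import Cfsg.Agent.Lib.Helper3.Signalizer
import Cfsg.Agent.S0023

set_option autoImplicit false
open scoped Pointwise

namespace Cfsg.Agent.Lib.Helper3

variable {G : Type*} [Group G] [Finite G] {p : ℕ} [Fact p.Prime] {A : Subgroup G}
  {θ : G → Subgroup G}

lemma isPGroup_of_elementaryAbelian (hA : Cfsg.IsElementaryAbelian p A) : IsPGroup p ↥A := by
  intro c
  refine ⟨1, ?_⟩
  apply Subtype.ext
  simp only [pow_one, Subgroup.coe_pow, Subgroup.coe_one]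
  exact hA.2 _ c.2

lemma coprime_card_of_family (hA : Cfsg.IsElementaryAbelian p A) {K : Subgroup G}
    (hK : K ∈ Cfsg.signalizerFamily p A θ) : (Nat.card ↥A).Coprime (Nat.card ↥K) := by
  obtain ⟨k, hk⟩ := IsPGroup.iff_card.mp (isPGroup_of_elementaryAbelian hA)
  rw [hk]
  apply Nat.Coprime.pow_left
  exact (Nat.Prime.coprime_iff_not_dvd Fact.out).mpr hK.2.1

/-- Part (a): a conjugate of a maximal `q`-member meets every member in a Sylow `q`-subgroup. -/
theorem exists_sylow_eq_conj_inf (hA : Cfsg.IsElementaryAbelian p A) (hA3 : p ^ 3 ≤ Nat.card ↥A)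
    (hθ : Cfsg.IsSolvableSignalizerFunctor p A θ) (q : ℕ) [Fact q.Prime] {Q : Subgroup G}
    (hQ : IsMaxQ p A θ q Q) {H : Subgroup G} (hH : H ∈ Cfsg.signalizerFamily p A θ) :
    ∃ c ∈ Cfsg.signalizerInf A θ, ∃ S : Sylow q ↥H,
      (S : Subgroup ↥H).map H.subtype = Q.map (MulAut.conj c).toMonoidHom ⊓ H := by
  have hcop := coprime_card_of_family hA hH
  obtain ⟨P, hP⟩ := Cfsg.Agent.S0023.result A H (family_ainv hH).le_normalizer hcop (Or.inr hH.1) q
  set S := (P : Subgroup ↥H).map H.subtype with hS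
  have hSH : S ≤ H := Subgroup.map_subtype_le _
  have hSfam : S ∈ Cfsg.signalizerFamily p A θ := family_of_le hH hSH (AInv.of_le_normalizer hP)
  have hSq : IsPGroup q ↥S := P.isPGroup'.map _
  obtain ⟨T, hT, hST⟩ := exists_isMaxQ_ge hSfam hSq
  obtain ⟨c, hc, hcQ⟩ := transitivity hA hA3 hθ q hQ hT
  refine ⟨c, hc, P, ?_⟩
  rw [hcQ]
  apply le_antisymm (le_inf hST hSH)
  -- `T ⊓ H` is a `q`-subgroup of `H` containing the Sylow subgroup `S`
  have h1 : IsPGroup q ↥((T ⊓ H).subgroupOf H) :=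
    (hT.2.1.to_le inf_le_left).of_equiv (Subgroup.subgroupOfEquivOfLe inf_le_right).symm
  have h2 : (P : Subgroup ↥H) ≤ (T ⊓ H).subgroupOf H := by
    intro x hx
    rw [Subgroup.mem_subgroupOf]
    exact ⟨hST ⟨x, hx, rfl⟩, x.2⟩
  have h3 := P.is_maximal' h1 h2
  intro x hx
  have hx' : (⟨x, hx.2⟩ : ↥H) ∈ (T ⊓ H).subgroupOf H := by
    rw [Subgroup.mem_subgroupOf]; exact hx
  rw [h3] at hx'
  exact ⟨⟨x, hx.2⟩, hx', rfl⟩

end Cfsg.Agent.Lib.Helper3
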