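import Mathlib
import Cfsg.Prelude.Def_Local
import Cfsg.Agent.Lib.Helper3.Frattini

set_option autoImplicit false
set_option linter.unusedSectionVars false
set_option linter.style.haveILetI false
open scoped commutatorElement

/-! Solvable groups are `p`-solvable; `SL₂(3)` is not a section of a group with abelian Sylow
`2`-subgroups. -/

namespace Cfsg.Agent.Lib.Helper3

universe u

section ext
variable {G : Type*} [Group G]

/-- `p`-solvability lifts through a normal subgroup that is a `p`-group or a `p'`-group -/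
theorem isPSolvable_of_quotient {p : ℕ} (N : Subgroup G) [hN : N.Normal]
    (hNc : (∃ m : ℕ, Nat.card N = p ^ m) ∨ (Nat.card N).Coprime p)
    (h : Cfsg.IsPSolvable p (G ⧸ N)) : Cfsg.IsPSolvable p G := by
  obtain ⟨n, H, h0, hlast, hmono, hnorm, hidx⟩ := h
  have hsurj : Function.Surjective (QuotientGroup.mk' N) := QuotientGroup.mk'_surjective N
  refine ⟨n + 1, (Fin.cons (⊥ : Subgroup G) (fun i => (H i).comap (QuotientGroup.mk' N)) :
    Fin (n + 1 + 1) → Subgroup G), ?_, ?_, ?_, ?_, ?_⟩
  · rfl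
  · have : (Fin.last (n + 1)) = Fin.succ (Fin.last n) := rfl
    rw [this, Fin.cons_succ, hlast]
    rfl
  · rw [Fin.monotone_iff_le_succ]
    intro i
    refine Fin.cases ?_ (fun j => ?_) i
    · show (⊥ : Subgroup G) ≤ _
      exact bot_le
    · have e1 : (Fin.succ j).castSucc = (Fin.castSucc j).succ := (Fin.succ_castSucc j).symm
      rw [e1, Fin.cons_succ, Fin.cons_succ]
      exact Subgroup.comap_mono (hmono (Fin.castSucc_lt_succ (i := j)).le)
  · intro i
    refine Fin.cases ?_ (fun j => ?_) i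
    · show (⊥ : Subgroup G).Normal
      exact Subgroup.normal_bot
    · rw [Fin.cons_succ]
      exact (hnorm j).comap _
  · intro i
    refine Fin.cases ?_ (fun j => ?_) i
    · have e0 : (Fin.castSucc (0 : Fin (n + 1))) = (0 : Fin (n + 1 + 1)) := rfl
      rw [e0, Fin.cons_zero, Fin.cons_succ, h0, MonoidHom.comap_bot, QuotientGroup.ker_mk',
        Subgroup.relIndex_bot_left]
      exact hNc
    · have e1 : (Fin.succ j).castSucc = (Fin.castSucc j).succ := (Fin.succ_castSucc j).symm
      rw [e1, Fin.cons_succ, Fin.cons_succ, Subgroup.relIndex_comap,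
        Subgroup.map_comap_eq_self_of_surjective hsurj]
      exact hidx j

end ext

/-- a finite solvable group is `p`-solvable -/
theorem isPSolvable_of_isSolvable (p : ℕ) [hp : Fact p.Prime] :
    ∀ (n : ℕ) (G : Type u) [Group G] [Finite G], Nat.card G = n → Group.IsSolvable G →
      Cfsg.IsPSolvable p G := by
  intro n
  induction n using Nat.strong_induction_on with
  | _ n IH =>
  intro G _ _ hn hs
  by_cases htriv : Subsingleton G
  · refine ⟨0, fun _ => ⊥, rfl, ?_, ?_, ?_, ?_⟩
    · exact Subsingleton.elim _ _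
    · intro a b _; exact le_rfl
    · intro i; exact Subgroup.normal_bot
    · intro i; exact i.elim0
  haveI : Nontrivial G := not_subsingleton_iff_nontrivial.mp htriv
  classical
  have hex : ∃ k, derivedSeries G k = ⊥ := hs.solvable
  set k := Nat.find hex with hk
  have hkbot : derivedSeries G k = ⊥ := Nat.find_spec hex
  have hk0 : k ≠ 0 := by
    intro h0
    rw [h0, derivedSeries_zero] at hkbot
    exact top_ne_bot hkbot
  obtain ⟨j, hj⟩ : ∃ j, k = j + 1 := Nat.exists_eq_succ_of_ne_zero hk0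
  set A := derivedSeries G j with hA
  have hAne : A ≠ ⊥ := by
    intro h
    have := Nat.find_min' hex h
    omega
  have hAA : ⁅A, A⁆ = ⊥ := by
    rw [hj, derivedSeries_succ] at hkbot
    exact hkbot
  haveI hAn : A.Normal := derivedSeries_normal G j
  have hcomm : ∀ x ∈ A, ∀ y ∈ A, x * y = y * x := by
    intro x hx y hy
    have h1 : ⁅x, y⁆ ∈ ⁅A, A⁆ := Subgroup.commutator_mem_commutator hx hy
    rw [hAA, Subgroup.mem_bot] at h1
    exact (commutatorElement_eq_one_iff_mul_comm.mp h1)
  -- a prime dividing `|A|`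
  have hAcard : Nat.card A ≠ 1 := by
    intro h
    exact hAne ((Subgroup.card_eq_one).mp h)
  obtain ⟨r, hr, hrd⟩ := Nat.exists_prime_and_dvd hAcard
  haveI : Fact r.Prime := ⟨hr⟩
  obtain ⟨a, ha⟩ := exists_prime_orderOf_dvd_card' r hrd
  -- the subgroup of elements of `A` killed by `r`
  let N : Subgroup G :=
    { carrier := {x | x ∈ A ∧ x ^ r = 1}
      one_mem' := ⟨A.one_mem, one_pow r⟩
      mul_mem' := by
        rintro x y ⟨hx, hxr⟩ ⟨hy, hyr⟩
        refine ⟨A.mul_mem hx hy, ?_⟩
        have hc : Commute x y := hcomm x hx y hy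
        rw [hc.mul_pow, hxr, hyr, one_mul]
      inv_mem' := by
        rintro x ⟨hx, hxr⟩
        exact ⟨A.inv_mem hx, by rw [inv_pow, hxr, inv_one]⟩ }
  have hNmem : ∀ x, x ∈ N ↔ x ∈ A ∧ x ^ r = 1 := fun x => Iff.rfl
  haveI hNn : N.Normal := by
    constructor
    intro x hx g
    obtain ⟨hxA, hxr⟩ := (hNmem x).mp hx
    refine (hNmem _).mpr ⟨hAn.conj_mem x hxA g, ?_⟩
    rw [conj_pow, hxr, mul_one, mul_inv_cancel]
  have hNne : N ≠ ⊥ := by
    intro h
    have haN : (a : G) ∈ N := by
      refine (hNmem _).mpr ⟨a.2, ?_⟩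
      have : a ^ r = 1 := by rw [← ha]; exact pow_orderOf_eq_one a
      have h2 := congrArg (Subtype.val) this
      simpa using h2
    rw [h, Subgroup.mem_bot] at haN
    have : a = 1 := Subtype.ext haN
    rw [this, orderOf_one] at ha
    exact hr.one_lt.ne ha
  have hNr : IsPGroup r N := by
    intro x
    refine ⟨1, ?_⟩
    apply Subtype.ext
    rw [pow_one, Subgroup.coe_pow]
    exact ((hNmem _).mp x.2).2
  obtain ⟨m, hm⟩ := IsPGroup.iff_card.mp hNr
  have hNc : (∃ m : ℕ, Nat.card N = p ^ m) ∨ (Nat.card N).Coprime p := by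
    by_cases hrp : r = p
    · left; exact ⟨m, by rw [hm, hrp]⟩
    · right
      rw [hm]
      exact Nat.Coprime.pow_left m ((Nat.coprime_primes hr hp.out).mpr hrp)
  have hNcard : 1 < Nat.card N := by
    rcases Nat.lt_or_ge 1 (Nat.card N) with h | h
    · exact h
    · exfalso
      have : Nat.card N = 1 := le_antisymm h Nat.card_pos
      exact hNne ((Subgroup.card_eq_one).mp this)
  have hlt : Nat.card (G ⧸ N) < n := by
    have h1 : Nat.card (G ⧸ N) * Nat.card N = Nat.card G := by
      rw [← Subgroup.index_eq_card, Subgroup.index_mul_card]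
    have hpos : 0 < Nat.card (G ⧸ N) := Nat.card_pos
    rw [← hn, ← h1]
    nlinarith
  have hq : Cfsg.IsPSolvable p (G ⧸ N) :=
    haveI := hs
    IH _ hlt (G ⧸ N) rfl inferInstance
  exact isPSolvable_of_quotient N hNc hq

/-- every `p`-subgroup of the image of a surjection is the image of a `p`-subgroup -/
theorem exists_pgroup_map_eq {H M : Type*} [Group H] [Group M] [Finite H] {p : ℕ} [Fact p.Prime]
    (f : H →* M) (hf : Function.Surjective f) (U : Subgroup M) (hU : IsPGroup p U) :
    ∃ T : Subgroup H, IsPGroup p T ∧ T.map f = U := by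
  let D : Subgroup H := U.comap f
  let g : ↥D →* ↥U := f.subgroupComap U
  have hg : Function.Surjective g := f.subgroupComap_surjective_of_surjective U hf
  obtain ⟨P⟩ : Nonempty (Sylow p ↥D) := inferInstance
  let P' : Sylow p ↥U := P.mapSurjective hg
  have htop : (P' : Subgroup ↥U) = ⊤ := by
    have h1 : IsPGroup p (⊤ : Subgroup ↥U) := hU.to_subgroup ⊤
    exact (P'.is_maximal' h1 le_top).symm
  refine ⟨(P : Subgroup ↥D).map D.subtype, P.isPGroup'.map _, ?_⟩
  have h2 : (P' : Subgroup ↥U) = (P : Subgroup ↥D).map g := Sylow.coe_mapSurjective hg P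
  rw [Subgroup.map_map]
  have h3 : f.comp D.subtype = U.subtype.comp g := by
    ext x; rfl
  rw [h3, ← Subgroup.map_map, ← h2, htop, ← MonoidHom.range_eq_map, Subgroup.range_subtype]

/-- two non-commuting elements of `SL₂(3)` generating a `2`-group -/
def sl23a : Matrix.SpecialLinearGroup (Fin 2) (ZMod 3) :=
  ⟨!![0, -1; 1, 0], by simp [Matrix.det_fin_two_of]⟩

def sl23b : Matrix.SpecialLinearGroup (Fin 2) (ZMod 3) :=
  ⟨!![1, 1; 1, -1], by simp [Matrix.det_fin_two_of]; decide⟩

lemma sl23a_pow : sl23a ^ 4 = 1 := by decide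
lemma sl23b_pow : sl23b ^ 4 = 1 := by decide
lemma sl23_conj : sl23b * sl23a * sl23b⁻¹ = sl23a⁻¹ := by decide
lemma sl23_ne : sl23a * sl23b ≠ sl23b * sl23a := by decide

/-- a group with abelian Sylow `2`-subgroups has no section isomorphic to `SL₂(3)` -/
theorem false_of_sl23_section {G : Type*} [Group G] [Finite G]
    (hab : ∀ T : Sylow 2 G, IsMulCommutative T) (E N : Subgroup G)
    [hn : (N.subgroupOf E).Normal]
    (e : (↥E ⧸ N.subgroupOf E) ≃* Matrix.SpecialLinearGroup (Fin 2) (ZMod 3)) : False := by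
  haveI : Fact (Nat.Prime 2) := ⟨Nat.prime_two⟩
  set x := e.symm sl23a with hx
  set y := e.symm sl23b with hy
  have hx4 : x ^ 4 = 1 := by rw [hx, ← map_pow, sl23a_pow, map_one]
  have hy4 : y ^ 4 = 1 := by rw [hy, ← map_pow, sl23b_pow, map_one]
  have hconj : y * x * y⁻¹ = x⁻¹ := by
    rw [hx, hy, ← map_inv, ← map_mul, ← map_mul, sl23_conj, map_inv]
  have hne : x * y ≠ y * x := by
    intro h
    apply sl23_ne
    have := congrArg e h
    rw [map_mul, map_mul, hx, hy, e.apply_symm_apply, e.apply_symm_apply] at this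
    exact this
  have hzp : ∀ z : ↥E ⧸ N.subgroupOf E, z ^ 4 = 1 → IsPGroup 2 (Subgroup.zpowers z) := by
    intro z hz w
    refine ⟨2, ?_⟩
    obtain ⟨k, hk⟩ := Subgroup.mem_zpowers_iff.mp w.2
    apply Subtype.ext
    rw [Subgroup.coe_pow, ← hk, Subgroup.coe_one, ← zpow_natCast, ← zpow_mul, mul_comm, zpow_mul,
      zpow_natCast]
    norm_num
    rw [hz, one_zpow]
  haveI : Finite (↥E ⧸ N.subgroupOf E) := inferInstance
  have hnorm : Subgroup.zpowers y ≤ Subgroup.normalizer (Subgroup.zpowers x : Set _) := by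
    rw [Subgroup.zpowers_le]
    apply mem_normalizer_of_map_conj_le
    rw [Subgroup.map_le_iff_le_comap, Subgroup.zpowers_le, Subgroup.mem_comap]
    show y * x * y⁻¹ ∈ Subgroup.zpowers x
    rw [hconj]
    exact Subgroup.inv_mem _ (Subgroup.mem_zpowers x)
  have hU : IsPGroup 2 (Subgroup.zpowers y ⊔ Subgroup.zpowers x : Subgroup _) :=
    IsPGroup.to_sup_of_normal_right' (hzp y hy4) (hzp x hx4) hnorm
  obtain ⟨T, hT, hTU⟩ := exists_pgroup_map_eq (QuotientGroup.mk' (N.subgroupOf E))
    (QuotientGroup.mk'_surjective _) _ hU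
  have hxU : x ∈ T.map (QuotientGroup.mk' (N.subgroupOf E)) := by
    rw [hTU]; exact (le_sup_right : Subgroup.zpowers x ≤ _) (Subgroup.mem_zpowers x)
  have hyU : y ∈ T.map (QuotientGroup.mk' (N.subgroupOf E)) := by
    rw [hTU]; exact (le_sup_left : Subgroup.zpowers y ≤ _) (Subgroup.mem_zpowers y)
  obtain ⟨s, hs, hsx⟩ := Subgroup.mem_map.mp hxU
  obtain ⟨t, ht, hty⟩ := Subgroup.mem_map.mp hyU
  -- `T` sits in an abelian Sylow subgroup of `G`
  have hT' : IsPGroup 2 (T.map E.subtype) := hT.map _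
  obtain ⟨Q, hQ⟩ := hT'.exists_le_sylow
  have hsQ : (s : G) ∈ (Q : Subgroup G) := hQ (Subgroup.mem_map_of_mem E.subtype hs)
  have htQ : (t : G) ∈ (Q : Subgroup G) := hQ (Subgroup.mem_map_of_mem E.subtype ht)
  have hc := (hab Q).is_comm.comm ⟨(s : G), hsQ⟩ ⟨(t : G), htQ⟩
  have hst : s * t = t * s := by
    apply Subtype.ext
    have := congrArg Subtype.val hc
    simpa using this
  apply hne
  rw [← hsx, ← hty, ← map_mul, ← map_mul, hst]

end Cfsg.Agent.Lib.Helper3
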