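import Mathlib
import Cfsg.Prelude.Def_PLocal
import Cfsg.Agent.Lib.Helper3.Conj
import Cfsg.Agent.Lib.Helper3.Frattini
import Cfsg.Agent.Lib.Lead.ThompsonJ
import Cfsg.Agent.S0604
import Cfsg.Agent.S0542

set_option autoImplicit false
set_option linter.unusedSectionVars false
set_option linter.style.haveILetI false
open scoped commutatorElement

/-! Thompson factorization (Kurzweil--Stellmacher 9.2.12). -/

namespace Cfsg.Agent.Lib.Helper3

open Cfsg.Agent.Lib.Lead.ThompsonJ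

section tf
variable {G : Type*} [Group G] {p : ℕ}

/-- `Ω₁(Z(S))` -/
def omZ (p : ℕ) (S : Subgroup G) : Subgroup G :=
  Cfsg.omegaOne p (S ⊓ Subgroup.centralizer (S : Set G))

lemma mem_omZ {S : Subgroup G} {x : G} (hxS : x ∈ S) (hxc : ∀ s ∈ S, s * x = x * s)
    (hxp : x ^ p = 1) : x ∈ omZ p S := by
  unfold omZ Cfsg.omegaOne
  apply Subgroup.subset_closure
  exact ⟨Subgroup.mem_inf.mpr ⟨hxS, Subgroup.mem_centralizer_iff.mpr hxc⟩, hxp⟩

lemma omZ_le (S : Subgroup G) : omZ p S ≤ S ⊓ Subgroup.centralizer (S : Set G) := by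
  unfold omZ Cfsg.omegaOne
  rw [Subgroup.closure_le]
  intro x hx
  exact hx.1

/-- conjugation transports `Ω₁(Z(S))` -/
lemma omZ_map_conj (S : Subgroup G) (g : G) :
    (omZ p S).map (MulAut.conj g).toMonoidHom ≤ omZ p (S.map (MulAut.conj g).toMonoidHom) := by
  unfold omZ Cfsg.omegaOne
  rw [MonoidHom.map_closure, Subgroup.closure_le]
  rintro _ ⟨x, ⟨hx, hxp⟩, rfl⟩
  apply Subgroup.subset_closure
  obtain ⟨hx1, hx2⟩ := Subgroup.mem_inf.mp hx
  refine ⟨Subgroup.mem_inf.mpr ⟨Subgroup.mem_map_of_mem _ hx1, ?_⟩, ?_⟩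
  · rw [Subgroup.mem_centralizer_iff]
    rintro _ ⟨s, hs, rfl⟩
    have := Subgroup.mem_centralizer_iff.mp hx2 s hs
    simp only [MulEquiv.coe_toMonoidHom, MulAut.conj_apply]
    calc g * s * g⁻¹ * (g * x * g⁻¹) = g * (s * x) * g⁻¹ := by group
      _ = g * (x * s) * g⁻¹ := by rw [this]
      _ = g * x * g⁻¹ * (g * s * g⁻¹) := by group
  · simp only [MulEquiv.coe_toMonoidHom, MulAut.conj_apply]
    rw [conj_pow, hxp]; group

variable [Finite G] [hp : Fact p.Prime]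

/-- the subgroup generated by all `Ω₁(Z(S))` is normal -/
theorem iSup_omZ_normal : (⨆ S : Sylow p G, omZ p (S : Subgroup G)).Normal := by
  rw [← Subgroup.normalizer_eq_top_iff, eq_top_iff]
  intro g _
  apply mem_normalizer_of_map_conj_le
  rw [Subgroup.map_iSup]
  apply iSup_le
  intro S
  refine (omZ_map_conj (S : Subgroup G) g).trans ?_
  rw [← sylow_smul_coe]
  exact le_iSup (fun S : Sylow p G => omZ p (S : Subgroup G)) (g • S)

/-- KS 9.2.12, first half: a Thompson factorizable group with trivial `p'`-core has `J(G)`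
centralizing all `Ω₁(Z(S))` -/
theorem thompson_le_centralizer_of_factorizable (hO : Cfsg.pPrimeCore p G = ⊥)
    (hfac : Cfsg.IsThompsonFactorizable p G) :
    Cfsg.thompsonSubgroup p G ≤
      Subgroup.centralizer ((⨆ S : Sylow p G, omZ p (S : Subgroup G) : Subgroup G) : Set G) := by
  rw [Cfsg.Agent.S0604.result (p := p) (G := G)]
  apply iSup_le
  intro S
  rw [Subgroup.le_centralizer_iff]
  apply iSup_le
  intro S'
  unfold omZ Cfsg.omegaOne
  rw [Subgroup.closure_le]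
  rintro x ⟨hx, hxp⟩
  obtain ⟨hx1, hx2⟩ := Subgroup.mem_inf.mp hx
  obtain ⟨g, hg⟩ := MulAction.exists_smul_eq G S S'
  have hS' : (S' : Subgroup G) = (S : Subgroup G).map (MulAut.conj g).toMonoidHom := by
    rw [← hg, sylow_smul_coe]
  -- `z = g⁻¹ x g ∈ Ω₁(Z(S))`
  have hz : g⁻¹ * x * g ∈ omZ p (S : Subgroup G) := by
    apply mem_omZ
    · rw [hS', mem_map_conj] at hx1; exact hx1
    · intro s hs
      have hs' : g * s * g⁻¹ ∈ (S' : Subgroup G) := by
        rw [hS', mem_map_conj]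
        have e : g⁻¹ * (g * s * g⁻¹) * g = s := by group
        rw [e]; exact hs
      have := Subgroup.mem_centralizer_iff.mp hx2 _ hs'
      calc s * (g⁻¹ * x * g) = g⁻¹ * (g * s * g⁻¹ * x) * g := by group
        _ = g⁻¹ * (x * (g * s * g⁻¹)) * g := by rw [this]
        _ = g⁻¹ * x * g * s := by group
    · have e : g⁻¹ * x * g = g⁻¹ * x * (g⁻¹)⁻¹ := by rw [inv_inv]
      rw [e, conj_pow, hxp]; group
  obtain ⟨x₀, hx₀, c, hc, n, hn, hfac'⟩ := hfac S g⁻¹
  rw [hO, Subgroup.mem_bot] at hx₀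
  rw [hx₀, one_mul] at hfac'
  have hcz : c * (g⁻¹ * x * g) = (g⁻¹ * x * g) * c :=
    (Subgroup.mem_centralizer_iff.mp hc _ hz).symm
  -- `x = n⁻¹ z n`
  have hxz : x = n⁻¹ * (g⁻¹ * x * g) * n := by
    have hg' : g = n⁻¹ * c⁻¹ := by
      have : g = (g⁻¹)⁻¹ := (inv_inv g).symm
      rw [this, hfac']; group
    have h1 : c⁻¹ * (g⁻¹ * x * g) * c = g⁻¹ * x * g := by
      calc c⁻¹ * (g⁻¹ * x * g) * c = c⁻¹ * ((g⁻¹ * x * g) * c) := by group
        _ = c⁻¹ * (c * (g⁻¹ * x * g)) := by rw [hcz]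
        _ = g⁻¹ * x * g := by group
    calc x = g * (g⁻¹ * x * g) * g⁻¹ := by group
      _ = n⁻¹ * (c⁻¹ * (g⁻¹ * x * g) * c) * n := by rw [hg']; group
      _ = n⁻¹ * (g⁻¹ * x * g) * n := by rw [h1]
  rw [SetLike.mem_coe, Subgroup.mem_centralizer_iff]
  intro j hj
  have hj' : n * j * n⁻¹ ∈ Cfsg.thompsonSubgroupOf p (S : Subgroup G) :=
    conj_mem_of_mem_normalizer' hn hj
  have hjS : n * j * n⁻¹ ∈ (S : Subgroup G) := by
    rw [thompsonSubgroupOf_eq_Jr] at hj'
    exact Jr_le p _ hj'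
  have hzc := (Subgroup.mem_inf.mp (omZ_le _ hz)).2
  have h2 : (n * j * n⁻¹) * (g⁻¹ * x * g) = (g⁻¹ * x * g) * (n * j * n⁻¹) :=
    Subgroup.mem_centralizer_iff.mp hzc _ hjS
  rw [hxz]
  generalize g⁻¹ * x * g = z at h2
  calc j * (n⁻¹ * z * n) = n⁻¹ * ((n * j * n⁻¹) * z) * n := by group
    _ = n⁻¹ * (z * (n * j * n⁻¹)) * n := by rw [h2]
    _ = n⁻¹ * z * n * j := by group

/-- KS 9.2.12, second half -/
theorem factorizable_of_thompson_le_centralizer
    (hJ : Cfsg.thompsonSubgroup p G ≤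
      Subgroup.centralizer ((⨆ S : Sylow p G, omZ p (S : Subgroup G) : Subgroup G) : Set G)) :
    Cfsg.IsThompsonFactorizable p G := by
  intro S g
  haveI hVn : (⨆ S : Sylow p G, omZ p (S : Subgroup G)).Normal := iSup_omZ_normal
  have hCn : (Subgroup.centralizer
      ((⨆ S : Sylow p G, omZ p (S : Subgroup G) : Subgroup G) : Set G)).Normal := inferInstance
  obtain ⟨C, hC⟩ : ∃ C : Subgroup G, C = Subgroup.centralizer
      ((⨆ S : Sylow p G, omZ p (S : Subgroup G) : Subgroup G) : Set G) := ⟨_, rfl⟩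
  rw [← hC] at hJ hCn
  haveI := hCn
  obtain ⟨Q, hQ⟩ := Cfsg.Agent.S0542.result p C hCn.isSubnormal S
  have hfr := Sylow.normalizer_sup_eq_top Q
  rw [hQ, Subgroup.subgroupOf_map_subtype] at hfr
  have hg : g ∈ ((C ⊔ Subgroup.normalizer (((S : Subgroup G) ⊓ C : Subgroup G) : Set G) :
      Subgroup G) : Set G) := by
    rw [sup_comm, hfr]; exact Subgroup.mem_top g
  rw [Subgroup.normal_mul] at hg
  obtain ⟨c, hc, n, hn, rfl⟩ := Set.mem_mul.mp hg
  have hJS : Cfsg.thompsonSubgroupOf p (S : Subgroup G) ≤ (S : Subgroup G) ⊓ C := by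
    apply le_inf
    · rw [thompsonSubgroupOf_eq_Jr]; exact Jr_le p _
    · refine le_trans ?_ hJ
      rw [Cfsg.Agent.S0604.result (p := p) (G := G)]
      exact le_iSup (fun S : Sylow p G => Cfsg.thompsonSubgroupOf p (S : Subgroup G)) S
  refine ⟨1, Subgroup.one_mem _, c, ?_, n, ?_, by rw [one_mul]⟩
  · rw [hC] at hc
    exact Subgroup.centralizer_le
      (le_iSup (fun S : Sylow p G => omZ p (S : Subgroup G)) S) hc
  · rw [thompsonSubgroupOf_eq_Jr] at hJS ⊢
    rw [← Jr_eq_of_le hJS inf_le_left]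
    exact normalizer_le_normalizer_Jr p _ hn

end tf

end Cfsg.Agent.Lib.Helper3
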