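import Mathlib
import Cfsg.Agent.Lib.Helper3.TF
import Cfsg.Agent.Lib.Helper3.PComp

set_option autoImplicit false
set_option linter.unusedSectionVars false
set_option linter.style.haveILetI false
open scoped commutatorElement

/-! Thompson factorization and the quotient by the `p'`-core (Kurzweil--Stellmacher 9.2.13). -/

namespace Cfsg.Agent.Lib.Helper3

open Cfsg.Agent.Lib.Lead.ThompsonJ Cfsg.Agent.Lib.Helper1

section tf2
variable {G : Type*} [Group G] {p : ℕ}

/-- `Ω₁(Z(S))` under a homomorphism injective on `S` -/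
theorem omZ_map {G' : Type*} [Group G'] (S : Subgroup G) (f : G →* G')
    (h : ∀ x ∈ S, f x = 1 → x = 1) : omZ p (S.map f) = (omZ p S).map f := by
  apply le_antisymm
  · unfold omZ Cfsg.omegaOne
    rw [Subgroup.closure_le]
    rintro y ⟨hy, hyp⟩
    obtain ⟨hy1, hy2⟩ := Subgroup.mem_inf.mp hy
    obtain ⟨x, hxS, rfl⟩ := Subgroup.mem_map.mp hy1
    refine Subgroup.mem_map_of_mem f (Subgroup.subset_closure ⟨Subgroup.mem_inf.mpr ⟨hxS, ?_⟩, ?_⟩)
    · rw [Subgroup.mem_centralizer_iff]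
      intro z hz
      have h1 : f z * f x = f x * f z :=
        Subgroup.mem_centralizer_iff.mp hy2 (f z) (Subgroup.mem_map_of_mem f hz)
      have h2 : f (z * x * (x * z)⁻¹) = 1 := by
        rw [map_mul, map_inv, map_mul, map_mul, h1, mul_inv_cancel]
      have h3 := h _ (S.mul_mem (S.mul_mem hz hxS) (S.inv_mem (S.mul_mem hxS hz))) h2
      exact mul_inv_eq_one.1 h3
    · apply h _ (S.pow_mem hxS p)
      rw [map_pow]; exact hyp
  · unfold omZ Cfsg.omegaOne
    rw [MonoidHom.map_closure, Subgroup.closure_le]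
    rintro _ ⟨x, ⟨hx, hxp⟩, rfl⟩
    obtain ⟨hx1, hx2⟩ := Subgroup.mem_inf.mp hx
    apply Subgroup.subset_closure
    refine ⟨Subgroup.mem_inf.mpr ⟨Subgroup.mem_map_of_mem f hx1, ?_⟩, ?_⟩
    · rw [Subgroup.mem_centralizer_iff]
      rintro _ ⟨s, hs, rfl⟩
      have := Subgroup.mem_centralizer_iff.mp hx2 s hs
      rw [← map_mul, ← map_mul, this]
    · rw [← map_pow, hxp, map_one]

variable [Finite G] [hp : Fact p.Prime]

/-- a Sylow `p`-subgroup meets the `p'`-core trivially -/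
lemma sylow_inj_mk (S : Sylow p G) :
    ∀ x ∈ (S : Subgroup G), QuotientGroup.mk' (Cfsg.pPrimeCore p G) x = 1 → x = 1 := by
  intro x hx h1
  have h2 : x ∈ Cfsg.pPrimeCore p G := (QuotientGroup.eq_one_iff x).mp h1
  exact eq_one_of_mem_pgroup_of_mem_pprime S.2 (pPrimeCore_coprime p) hx h2

/-- KS 9.2.13 -/
theorem factorizable_iff_quotient :
    Cfsg.IsThompsonFactorizable p G ↔
      Cfsg.IsThompsonFactorizable p (G ⧸ Cfsg.pPrimeCore p G) := by
  haveI hNn : (Cfsg.pPrimeCore p G).Normal := pPrimeCore_normal p G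
  have hNc : (Nat.card ↥(Cfsg.pPrimeCore p G)).Coprime p := pPrimeCore_coprime p
  have hπs : Function.Surjective (QuotientGroup.mk' (Cfsg.pPrimeCore p G)) :=
    QuotientGroup.mk'_surjective _
  -- transport of the two functors
  have hom : ∀ S : Sylow p G, omZ p ((S.mapSurjective hπs : Sylow p (G ⧸ Cfsg.pPrimeCore p G)) :
      Subgroup (G ⧸ Cfsg.pPrimeCore p G)) =
      (omZ p (S : Subgroup G)).map (QuotientGroup.mk' (Cfsg.pPrimeCore p G)) := by
    intro S
    rw [Sylow.coe_mapSurjective]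
    exact omZ_map _ _ (sylow_inj_mk S)
  have hJ : ∀ S : Sylow p G, Cfsg.thompsonSubgroupOf p
      ((S.mapSurjective hπs : Sylow p (G ⧸ Cfsg.pPrimeCore p G)) :
        Subgroup (G ⧸ Cfsg.pPrimeCore p G)) =
      (Cfsg.thompsonSubgroupOf p (S : Subgroup G)).map
        (QuotientGroup.mk' (Cfsg.pPrimeCore p G)) := by
    intro S
    rw [Sylow.coe_mapSurjective, thompsonSubgroupOf_eq_Jr, thompsonSubgroupOf_eq_Jr]
    exact Jr_map _ (sylow_inj_mk S)
  constructor
  · intro hfac S' g'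
    obtain ⟨S, rfl⟩ := Sylow.mapSurjective_surjective hπs p S'
    obtain ⟨g, rfl⟩ := hπs g'
    obtain ⟨x, hx, c, hc, n, hn, rfl⟩ := hfac S g
    refine ⟨1, Subgroup.one_mem _, QuotientGroup.mk' _ c, ?_, QuotientGroup.mk' _ n, ?_, ?_⟩
    · have h1 := hom S
      unfold omZ at h1
      rw [h1, Subgroup.mem_centralizer_iff]
      rintro _ ⟨z, hz, rfl⟩
      have := Subgroup.mem_centralizer_iff.mp hc z hz
      rw [← map_mul, ← map_mul, this]
    · rw [hJ S]
      apply mem_normalizer_of_map_conj_le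
      rintro _ ⟨_, ⟨j, hj, rfl⟩, rfl⟩
      refine ⟨n * j * n⁻¹, conj_mem_of_mem_normalizer' hn hj, ?_⟩
      simp [MulAut.conj_apply]
    · have : QuotientGroup.mk' (Cfsg.pPrimeCore p G) x = 1 := (QuotientGroup.eq_one_iff x).mpr hx
      rw [one_mul, map_mul, map_mul, this, one_mul]
  · intro hfac S g
    obtain ⟨x', hx', c', hc', n', hn', hg'⟩ := hfac (S.mapSurjective hπs)
      (QuotientGroup.mk' (Cfsg.pPrimeCore p G) g)
    rw [pPrimeCore_quotient_eq_bot, Subgroup.mem_bot] at hx'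
    rw [hx', one_mul] at hg'
    obtain ⟨c₀, rfl⟩ := hπs c'
    obtain ⟨n₀, rfl⟩ := hπs n'
    -- lift the centralizing element
    have hc₀ : ∀ z ∈ omZ p (S : Subgroup G), ⁅c₀, z⁆ ∈ Cfsg.pPrimeCore p G := by
      intro z hz
      rw [← QuotientGroup.eq_one_iff, ← QuotientGroup.mk'_apply, map_commutatorElement]
      rw [commutatorElement_eq_one_iff_mul_comm]
      have h1 := hom S
      unfold omZ at h1
      rw [h1] at hc'
      exact (Subgroup.mem_centralizer_iff.mp hc' _ (Subgroup.mem_map_of_mem _ hz)).symm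
    have hZp : IsPGroup p ↥(omZ p (S : Subgroup G)) :=
      S.2.to_le ((omZ_le _).trans inf_le_left)
    obtain ⟨m₁, hm₁, hm₁c⟩ := exists_mul_mem_centralizer hNn hNc hZp c₀ hc₀
    -- lift the normalizing element
    have hn₀ : ∀ j ∈ Cfsg.thompsonSubgroupOf p (S : Subgroup G),
        n₀ * j * n₀⁻¹ ∈ Cfsg.thompsonSubgroupOf p (S : Subgroup G) ⊔ Cfsg.pPrimeCore p G := by
      intro j hj
      rw [hJ S] at hn'
      have h1 := conj_mem_of_mem_normalizer' hn' (Subgroup.mem_map_of_mem _ hj)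
      obtain ⟨j', hj', hjj'⟩ := Subgroup.mem_map.mp h1
      have h2 : QuotientGroup.mk' (Cfsg.pPrimeCore p G) (j'⁻¹ * (n₀ * j * n₀⁻¹)) = 1 := by
        rw [map_mul, map_inv, hjj', map_mul, map_mul, map_inv]
        group
      have h3 : j'⁻¹ * (n₀ * j * n₀⁻¹) ∈ Cfsg.pPrimeCore p G := (QuotientGroup.eq_one_iff _).mp h2
      have e : n₀ * j * n₀⁻¹ = j' * (j'⁻¹ * (n₀ * j * n₀⁻¹)) := by group
      rw [e]
      exact Subgroup.mul_mem _ (Subgroup.mem_sup_left hj') (Subgroup.mem_sup_right h3)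
    have hJp : IsPGroup p ↥(Cfsg.thompsonSubgroupOf p (S : Subgroup G)) := by
      apply S.2.to_le
      rw [thompsonSubgroupOf_eq_Jr]; exact Jr_le p _
    obtain ⟨m₂, hm₂, hm₂n⟩ := exists_mul_mem_normalizer hNn hNc hJp n₀ hn₀
    -- assemble
    have hy : g * (c₀ * n₀)⁻¹ ∈ Cfsg.pPrimeCore p G := by
      rw [← QuotientGroup.eq_one_iff, ← QuotientGroup.mk'_apply, map_mul, map_inv, map_mul, hg']
      simp
    refine ⟨g * (c₀ * n₀)⁻¹ * m₁⁻¹ * ((m₁ * c₀) * m₂⁻¹ * (m₁ * c₀)⁻¹), ?_, m₁ * c₀, ?_,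
      m₂ * n₀, hm₂n, by group⟩
    · exact Subgroup.mul_mem _ (Subgroup.mul_mem _ hy (Subgroup.inv_mem _ hm₁))
        (hNn.conj_mem _ (Subgroup.inv_mem _ hm₂) _)
    · unfold omZ at hm₁c
      exact hm₁c

end tf2

end Cfsg.Agent.Lib.Helper3
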