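import Mathlib
import Cfsg.Agent.Lib.Helper3.TF3
import Cfsg.Agent.Lib.Helper3.TF
import Cfsg.Agent.Lib.Helper3.GTMain
import Cfsg.Agent.S0601

set_option autoImplicit false
set_option linter.unusedSectionVars false
set_option linter.style.haveILetI false
set_option linter.unusedSimpArgs false
open scoped commutatorElement

/-! Kurzweil--Stellmacher 9.3.8: failure of Thompson factorization in `p`-separable groups. -/

namespace Cfsg.Agent.Lib.Helper3

open Cfsg.Agent.Lib.Helper1 Cfsg.Agent.Lib.Helper2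

section tf4
variable {G : Type*} [Group G] [Finite G] {p : ℕ} [hp : Fact p.Prime]

/-- `O_p(G / C) = 1` from the index criterion -/
lemma pCore_quotient_eq_bot_of_index (C : Subgroup G) [C.Normal]
    (h : ∀ D : Subgroup G, D.Normal → C ≤ D → (∃ k : ℕ, C.relIndex D = p ^ k) → D = C) :
    Cfsg.pCore p (G ⧸ C) = ⊥ := by
  have hn : (Cfsg.pCore p (G ⧸ C)).Normal := pCore_normal p (G ⧸ C)
  have hpg : IsPGroup p ↥(Cfsg.pCore p (G ⧸ C)) := pCore_isPGroup
  have hker : C = (⊥ : Subgroup (G ⧸ C)).comap (QuotientGroup.mk' C) := by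
    ext x
    rw [Subgroup.mem_comap, Subgroup.mem_bot, QuotientGroup.mk'_apply, QuotientGroup.eq_one_iff]
  obtain ⟨D, hDdef⟩ : ∃ D : Subgroup G, D = (Cfsg.pCore p (G ⧸ C)).comap (QuotientGroup.mk' C) :=
    ⟨_, rfl⟩
  have hDn : D.Normal := by rw [hDdef]; exact hn.comap _
  have hCD : C ≤ D := by
    intro c hc
    rw [hDdef, Subgroup.mem_comap, QuotientGroup.mk'_apply, (QuotientGroup.eq_one_iff c).mpr hc]
    exact Subgroup.one_mem _
  have hrel : ∃ k : ℕ, C.relIndex D = p ^ k := by
    obtain ⟨k, hk⟩ := (IsPGroup.iff_card).mp hpg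
    refine ⟨k, ?_⟩
    calc C.relIndex D = ((⊥ : Subgroup (G ⧸ C)).comap (QuotientGroup.mk' C)).relIndex D :=
          congrArg (fun X : Subgroup G => X.relIndex D) hker
      _ = (⊥ : Subgroup (G ⧸ C)).relIndex (D.map (QuotientGroup.mk' C)) :=
          Subgroup.relIndex_comap _ _ _
      _ = p ^ k := by
          rw [hDdef, Subgroup.map_comap_eq_self_of_surjective (QuotientGroup.mk'_surjective C),
            Subgroup.relIndex_bot_left, hk]
  have hD := h D hDn hCD hrel
  rw [hDdef] at hD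
  have h1 : ((Cfsg.pCore p (G ⧸ C)).comap (QuotientGroup.mk' C)).map (QuotientGroup.mk' C) =
      Cfsg.pCore p (G ⧸ C) :=
    Subgroup.map_comap_eq_self_of_surjective (QuotientGroup.mk'_surjective C) _
  rw [hD] at h1
  rw [← h1, Subgroup.map_eq_bot_iff, QuotientGroup.ker_mk']

/-- KS 9.3.8 -/
theorem ks_9_3_8 (hsep : Cfsg.IsPSolvable p G) (hO : Cfsg.pPrimeCore p G = ⊥)
    (hnf : ¬ Cfsg.IsThompsonFactorizable p G) :
    (p = 2 ∨ p = 3) ∧ ∃ E : Subgroup G,
      Subgroup.centralizer ((⨆ S : Sylow p G, omZ p (S : Subgroup G) : Subgroup G) : Set G) ≤ E ∧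
      E ≤ Cfsg.thompsonSubgroup p G ⊔
        Subgroup.centralizer ((⨆ S : Sylow p G, omZ p (S : Subgroup G) : Subgroup G) : Set G) ∧
      Cfsg.thompsonSubgroup p G ⊔
        Subgroup.centralizer ((⨆ S : Sylow p G, omZ p (S : Subgroup G) : Subgroup G) : Set G) ≤
          Subgroup.normalizer (E : Set G) ∧
      ∃ hn : ((Subgroup.centralizer
        ((⨆ S : Sylow p G, omZ p (S : Subgroup G) : Subgroup G) : Set G)).subgroupOf E).Normal,
        Nonempty ((↥E ⧸ (Subgroup.centralizer
          ((⨆ S : Sylow p G, omZ p (S : Subgroup G) : Subgroup G) : Set G)).subgroupOf E) ≃*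
            Matrix.SpecialLinearGroup (Fin 2) (ZMod p)) := by
  have hJC : ¬ Cfsg.thompsonSubgroup p G ≤
      Subgroup.centralizer ((⨆ S : Sylow p G, omZ p (S : Subgroup G) : Subgroup G) : Set G) :=
    fun h => hnf (factorizable_of_thompson_le_centralizer h)
  have hc := centralizer_pCore_le_of_psolvable hsep hO
  obtain ⟨hVn', hV', hidx'⟩ := Cfsg.Agent.S0601.result (p := p) hc
  obtain ⟨V, hVdef⟩ : ∃ V : Subgroup G, V = ⨆ S : Sylow p G, omZ p (S : Subgroup G) := ⟨_, rfl⟩
  have hVn : V.Normal := by rw [hVdef]; exact hVn'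
  have hV : Cfsg.IsElementaryAbelian p V := by rw [hVdef]; exact hV'
  have hidx : ∀ D : Subgroup G, D.Normal → Subgroup.centralizer (V : Set G) ≤ D →
      (∃ k : ℕ, (Subgroup.centralizer (V : Set G)).relIndex D = p ^ k) →
      D = Subgroup.centralizer (V : Set G) := by rw [hVdef]; exact hidx'
  rw [← hVdef] at hJC ⊢
  haveI := hVn
  have hO' : Cfsg.pCore p (G ⧸ Subgroup.centralizer (V : Set G)) = ⊥ :=
    pCore_quotient_eq_bot_of_index _ hidx
  haveI hJc : (Cfsg.thompsonSubgroup p G).Characteristic := (Cfsg.Agent.S0602.result (p := p)).1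
  haveI hJn : (Cfsg.thompsonSubgroup p G).Normal := inferInstance
  have s := ffsetup_real V hV (Cfsg.thompsonSubgroup p G) hsep hO'
  -- `H'` is generated by best offenders
  have hS3 : (Cfsg.thompsonSubgroup p G).map (rPsi V) =
      ⨆ A : {A : Subgroup (RX V) // A ≤ (Cfsg.thompsonSubgroup p G).map (rPsi V) ∧
        Cfsg.IsBestOffenderOn p (rV V) A}, (A : Subgroup (RX V)) := by
    apply le_antisymm
    · rw [Subgroup.map_le_iff_le_comap]
      unfold Cfsg.thompsonSubgroup
      apply sSup_le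
      intro A hA
      rw [← Subgroup.map_le_iff_le_comap]
      have hbo : Cfsg.IsBestOffenderOn p V A := Cfsg.Agent.S0606.result V hV A hA
      exact le_iSup (fun A : {A : Subgroup (RX V) //
          A ≤ (Cfsg.thompsonSubgroup p G).map (rPsi V) ∧
          Cfsg.IsBestOffenderOn p (rV V) A} => (A : Subgroup (RX V)))
        ⟨A.map (rPsi V), Subgroup.map_mono (le_sSup hA), bestOffender_map V hbo⟩
    · apply iSup_le
      rintro ⟨A, hA, -⟩
      exact hA
  have hH1 : (Cfsg.thompsonSubgroup p G).map (rPsi V) ≠ ⊥ := by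
    intro h
    apply hJC
    rw [← rPsi_ker V]
    exact (Subgroup.map_eq_bot_iff _).mp h
  -- a block
  have hex : ∃ B, MinBO p (rV V) ((Cfsg.thompsonSubgroup p G).map (rPsi V)) B := by
    by_contra hcon
    push Not at hcon
    apply hH1
    rw [eq_bot_iff]
    exact le_of_minbo_le s hS3 (fun B mB => absurd mB (hcon B))
  obtain ⟨B, mB⟩ := hex
  have hblk := mB.isBlk s
  obtain ⟨E', hE'⟩ : ∃ E' : Subgroup (RX V),
      E' = ⁅qp p ((Cfsg.thompsonSubgroup p G).map (rPsi V)), B⁆ ⊔ B := ⟨_, rfl⟩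
  rw [← hE'] at hblk
  obtain ⟨φ⟩ := hblk.iso s
  have hE'H := hblk.le_H
  have hE'N := hblk.H_norm s hS3
  refine ⟨hblk.prime s, E'.comap (rPsi V), ?_, ?_, ?_, ?_⟩
  · intro c hc
    rw [Subgroup.mem_comap, (rPsi_eq_one_iff V).mpr hc]
    exact Subgroup.one_mem _
  · intro x hx
    obtain ⟨j, hj, hjx⟩ := Subgroup.mem_map.mp (hE'H (Subgroup.mem_comap.mp hx))
    have h1 : j⁻¹ * x ∈ Subgroup.centralizer (V : Set G) := by
      rw [← rPsi_eq_one_iff V, map_mul, map_inv, hjx]; group
    have e : x = j * (j⁻¹ * x) := by group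
    rw [e]
    exact Subgroup.mul_mem _ (Subgroup.mem_sup_left hj) (Subgroup.mem_sup_right h1)
  · refine le_trans ?_ (Subgroup.le_normalizer_comap (rPsi V))
    apply sup_le
    · intro j hj
      exact hE'N (Subgroup.mem_map_of_mem _ hj)
    · intro c hc
      rw [Subgroup.mem_comap, (rPsi_eq_one_iff V).mpr hc]
      exact Subgroup.one_mem _
  · have hCn : (Subgroup.centralizer (V : Set G)).Normal := inferInstance
    have hn : ((Subgroup.centralizer (V : Set G)).subgroupOf (E'.comap (rPsi V))).Normal :=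
      inferInstance
    refine ⟨hn, ⟨?_⟩⟩
    -- the surjection `E → E'`
    let f : ↥(E'.comap (rPsi V)) →* ↥E' :=
      ((rPsi V).comp (E'.comap (rPsi V)).subtype).codRestrict E' (fun x => x.2)
    have hfs : Function.Surjective f := by
      rintro ⟨y, hy⟩
      obtain ⟨j, hj, hjy⟩ := Subgroup.mem_map.mp (hE'H hy)
      refine ⟨⟨j, by rw [Subgroup.mem_comap, hjy]; exact hy⟩, ?_⟩
      apply Subtype.ext
      exact hjy
    have hfk : f.ker = (Subgroup.centralizer (V : Set G)).subgroupOf (E'.comap (rPsi V)) := by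
      ext x
      rw [MonoidHom.mem_ker, Subgroup.mem_subgroupOf, ← rPsi_eq_one_iff V]
      constructor
      · intro h
        exact congrArg Subtype.val h
      · intro h
        exact Subtype.ext h
    exact ((QuotientGroup.quotientMulEquivOfEq hfk.symm).trans
      (QuotientGroup.quotientKerEquivOfSurjective f hfs)).trans φ

end tf4

end Cfsg.Agent.Lib.Helper3
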