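import Mathlib
import Cfsg.Agent.Lib.Helper3.FunctorNPC

set_option autoImplicit false
set_option linter.unusedSectionVars false
set_option linter.style.haveILetI false
open scoped commutatorElement
open Cfsg Cfsg.Agent.Lib.Helper1 Cfsg.Agent.Lib.Helper4

/-! The Thompson induction with two isomorphism-invariant functors `W₁`, `W₂`: if `C_G(W₁(S))` and
`N_G(W₂(S))` have normal `p`-complements, then `G` has one, provided this holds in the
"final configuration" in every section of `G`. -/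

namespace Cfsg.Agent.Lib.Helper3

universe u

section two
variable {p : ℕ} [Fact p.Prime] {W₁ W₂ : ∀ (Q : Type u) [Group Q], Subgroup Q}

/-- the two hypotheses of Thompson's theorem -/
def Hyp2 (p : ℕ) (W₁ W₂ : ∀ (Q : Type u) [Group Q], Subgroup Q) (X : Type u) [Group X]
    (P : Subgroup X) : Prop :=
  HasNormalPComplement p
    ↥(Subgroup.centralizer ((Cfsg.inducedFunctor W₁ P : Subgroup X) : Set X)) ∧
  HasNormalPComplement p
    ↥(Subgroup.normalizer ((Cfsg.inducedFunctor W₂ P : Subgroup X) : Set X))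

lemma hyp2_of_normalizers {X : Type u} [Group X] [Finite X] {P : Subgroup X}
    (h1 : HasNormalPComplement p
      ↥(Subgroup.normalizer ((Cfsg.inducedFunctor W₁ P : Subgroup X) : Set X)))
    (h2 : HasNormalPComplement p
      ↥(Subgroup.normalizer ((Cfsg.inducedFunctor W₂ P : Subgroup X) : Set X))) :
    Hyp2 p W₁ W₂ X P :=
  ⟨npc_of_le (Subgroup.centralizer_le_normalizer _) h1, h2⟩

lemma centralizer_map_conj_th1 {X : Type*} [Group X] (Z : Subgroup X) (g : X) :
    Subgroup.centralizer ((Z.map (MulAut.conj g).toMonoidHom : Subgroup X) : Set X) =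
      (Subgroup.centralizer (Z : Set X)).map (MulAut.conj g).toMonoidHom := by
  ext x
  constructor
  · intro hx
    refine Subgroup.mem_map.mpr ⟨g⁻¹ * x * g, ?_, ?_⟩
    · rw [Subgroup.mem_centralizer_iff]
      intro z hz
      have h1 : g * z * g⁻¹ ∈ Z.map (MulAut.conj g).toMonoidHom :=
        Subgroup.mem_map.mpr ⟨z, hz, by simp [MulAut.conj_apply]⟩
      have h2 := Subgroup.mem_centralizer_iff.mp hx _ h1
      have e1 : z * (g⁻¹ * x * g) = g⁻¹ * ((g * z * g⁻¹) * x) * g := by group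
      have e2 : g⁻¹ * x * g * z = g⁻¹ * (x * (g * z * g⁻¹)) * g := by group
      rw [e1, e2, h2]
    · simp [MulAut.conj_apply]; group
  · rintro ⟨c, hc, rfl⟩
    rw [Subgroup.mem_centralizer_iff]
    rintro _ ⟨z, hz, rfl⟩
    have h2 := Subgroup.mem_centralizer_iff.mp hc z hz
    show (MulAut.conj g) z * (MulAut.conj g) c = (MulAut.conj g) c * (MulAut.conj g) z
    rw [← map_mul, ← map_mul, h2]

lemma npc_centralizer_conj {X : Type u} [Group X] [Finite X] (g : X) (Z : Subgroup X)
    (h : HasNormalPComplement p ↥(Subgroup.centralizer (Z : Set X))) :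
    HasNormalPComplement p
      ↥(Subgroup.centralizer ((Z.map (MulAut.conj g).toMonoidHom : Subgroup X) : Set X)) :=
  npc_of_eq (centralizer_map_conj_th1 Z g).symm (npc_map_conj g _ h)

lemma hyp2_conj (hW₁ : Cfsg.IsCharPFunctor.{u} p W₁) (hW₂ : Cfsg.IsCharPFunctor.{u} p W₂)
    {X : Type u} [Group X] [Finite X] {P : Subgroup X} (hP : IsPGroup p P) (g : X)
    (h : Hyp2 p W₁ W₂ X P) : Hyp2 p W₁ W₂ X (P.map (MulAut.conj g).toMonoidHom) := by
  unfold Hyp2
  rw [wf_map_conj hW₁ hP g, wf_map_conj hW₂ hP g]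
  exact ⟨npc_centralizer_conj g _ h.1, npc_normalizer_conj g _ h.2⟩

lemma centralizer_subgroupOf {X : Type*} [Group X] (L : Subgroup X) (Z' : Subgroup ↥L) :
    (Subgroup.centralizer ((Z'.map L.subtype : Subgroup X) : Set X)).subgroupOf L =
      Subgroup.centralizer (Z' : Set ↥L) := by
  ext x
  rw [Subgroup.mem_subgroupOf, Subgroup.mem_centralizer_iff, Subgroup.mem_centralizer_iff]
  constructor
  · intro h z hz
    have := h (z : X) (Subgroup.mem_map_of_mem L.subtype hz)
    exact Subtype.ext this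
  · rintro h _ ⟨z, hz, rfl⟩
    have := h z hz
    exact congrArg Subtype.val this

lemma hyp2_restrict (hW₁ : Cfsg.IsCharPFunctor.{u} p W₁) (hW₂ : Cfsg.IsCharPFunctor.{u} p W₂)
    {X : Type u} [Group X] [Finite X] (L : Subgroup X) {P' : Subgroup ↥L} (hP' : IsPGroup p P')
    (h : Hyp2 p W₁ W₂ X (P'.map L.subtype)) : Hyp2 p W₁ W₂ ↥L P' := by
  have hinj : InjOnSub L.subtype P' :=
    fun x _ hx => Subtype.ext (by simpa using hx)
  obtain ⟨h1, h2⟩ := h
  rw [wf_map_injOn hW₁ L.subtype hP' hinj] at h1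
  rw [wf_map_injOn hW₂ L.subtype hP' hinj] at h2
  constructor
  · exact npc_of_eq (centralizer_subgroupOf L _) (npc_subgroupOf L h1)
  · have hle : (Cfsg.inducedFunctor W₂ P').map L.subtype ≤ L := Subgroup.map_subtype_le _
    have e1 := Subgroup.subgroupOf_normalizer_eq hle
    have e2 : ((Cfsg.inducedFunctor W₂ P').map L.subtype).subgroupOf L =
        Cfsg.inducedFunctor W₂ P' :=
      Subgroup.comap_map_eq_self_of_injective (Subgroup.subtype_injective L) _
    rw [e2] at e1
    exact npc_of_eq e1 (npc_subgroupOf L h2)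

lemma hyp2_pprime_quot (hW₁ : Cfsg.IsCharPFunctor.{u} p W₁) (hW₂ : Cfsg.IsCharPFunctor.{u} p W₂)
    {X : Type u} [Group X] [Finite X] (D : Subgroup X) [hDn : D.Normal]
    (hDc : (Nat.card D).Coprime p) {P : Subgroup X} (hP : IsPGroup p P)
    (h : Hyp2 p W₁ W₂ X P) : Hyp2 p W₁ W₂ (X ⧸ D) (P.map (QuotientGroup.mk' D)) := by
  have hsurj : Function.Surjective (QuotientGroup.mk' D) := QuotientGroup.mk'_surjective D
  have hinj : InjOnSub (QuotientGroup.mk' D) P := by
    intro x hx h1
    have hxK : x ∈ D := (QuotientGroup.eq_one_iff x).mp h1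
    exact eq_one_of_mem_pgroup_of_mem_pprime hP hDc hx hxK
  unfold Hyp2
  rw [wf_map_injOn hW₁ _ hP hinj, wf_map_injOn hW₂ _ hP hinj]
  obtain ⟨h1, h2⟩ := h
  constructor
  · have hZp : IsPGroup p ↥(Cfsg.inducedFunctor W₁ P) := hP.to_le (wf_le _)
    refine npc_of_le ?_ (npc_map (QuotientGroup.mk' D) _ h1)
    intro y hy
    obtain ⟨x, rfl⟩ := hsurj y
    have hd : ∀ z ∈ Cfsg.inducedFunctor W₁ P, ⁅x, z⁆ ∈ D := by
      intro z hz
      have hc := Subgroup.mem_centralizer_iff.mp hy (QuotientGroup.mk' D z)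
        (Subgroup.mem_map_of_mem _ hz)
      rw [← QuotientGroup.eq_one_iff]
      have e : ((⁅x, z⁆ : X) : X ⧸ D) =
          ⁅(QuotientGroup.mk' D x), (QuotientGroup.mk' D z)⁆ := by
        simp [commutatorElement_def]
      rw [e, commutatorElement_eq_one_iff_mul_comm]
      exact hc.symm
    obtain ⟨n, hnD, hn⟩ := exists_mul_mem_centralizer hDn hDc hZp x hd
    refine Subgroup.mem_map.mpr ⟨n * x, hn, ?_⟩
    have : QuotientGroup.mk' D n = 1 := (QuotientGroup.eq_one_iff n).mpr hnD
    rw [map_mul, this, one_mul]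
  · have hZp : IsPGroup p ↥(Cfsg.inducedFunctor W₂ P) := hP.to_le (wf_le _)
    refine npc_of_le ?_ (npc_map (QuotientGroup.mk' D) _ h2)
    intro y hy
    obtain ⟨x, rfl⟩ := hsurj y
    have hx : x ∈ (Subgroup.normalizer
        (((Cfsg.inducedFunctor W₂ P).map (QuotientGroup.mk' D) : Subgroup _) : Set _)).comap
          (QuotientGroup.mk' D) := hy
    rw [Subgroup.comap_normalizer_eq_of_surjective _ hsurj,
      Subgroup.comap_map_eq, QuotientGroup.ker_mk'] at hx
    obtain ⟨n, hnD, hn⟩ := exists_mul_mem_normalizer hDn hDc hZp x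
      (fun z hz => conj_mem_of_mem_normalizer' hx (Subgroup.mem_sup_left hz))
    refine Subgroup.mem_map.mpr ⟨n * x, hn, ?_⟩
    have : QuotientGroup.mk' D n = 1 := (QuotientGroup.eq_one_iff n).mpr hnD
    rw [map_mul, this, one_mul]

variable (G₀ : Type u) [Group G₀]

/-- induction hypothesis -/
def FHyp2 (p : ℕ) (W₁ W₂ : ∀ (Q : Type u) [Group Q], Subgroup Q) (G₀ : Type u) [Group G₀]
    (X : Type u) [Group X] : Prop :=
  ∀ (H : Type u) [Group H] [Finite H], Cfsg.Involves H G₀ → Nat.card H < Nat.card X →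
    ∀ P : Sylow p H, Hyp2 p W₁ W₂ H (P : Subgroup H) → HasNormalPComplement p H

variable {G₀} {X : Type u} [Group X] [Finite X]

/-- the induction hypothesis applied to a proper subgroup -/
theorem f2_npc_subgroup_of_ih (hW₁ : Cfsg.IsCharPFunctor.{u} p W₁)
    (hW₂ : Cfsg.IsCharPFunctor.{u} p W₂) (hX : Cfsg.Involves X G₀)
    (ih : FHyp2 p W₁ W₂ G₀ X) (L : Subgroup X) (hL : L ≠ ⊤) (P' : Sylow p ↥L)
    (h : Hyp2 p W₁ W₂ X ((P' : Subgroup ↥L).map L.subtype)) :
    HasNormalPComplement p ↥L := by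
  have hcard : Nat.card ↥L < Nat.card X := by
    have := card_lt_card_of_lt (lt_top_iff_ne_top.mpr hL)
    rwa [Subgroup.card_top] at this
  exact ih ↥L (involves_subgroup hX L) hcard P' (hyp2_restrict hW₁ hW₂ L P'.isPGroup' h)

/-- the induction hypothesis applied to a proper subgroup containing the Sylow subgroup -/
theorem f2_npc_of_sylow_le (hW₁ : Cfsg.IsCharPFunctor.{u} p W₁)
    (hW₂ : Cfsg.IsCharPFunctor.{u} p W₂) (hX : Cfsg.Involves X G₀)
    (ih : FHyp2 p W₁ W₂ G₀ X) (P : Sylow p X) (hH : Hyp2 p W₁ W₂ X (P : Subgroup X))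
    (L : Subgroup X) (hL : L ≠ ⊤) (hPL : (P : Subgroup X) ≤ L) :
    HasNormalPComplement p ↥L := by
  apply f2_npc_subgroup_of_ih hW₁ hW₂ hX ih L hL (P.subtype hPL)
  rw [Sylow.coe_subtype, Subgroup.subgroupOf_map_subtype, inf_eq_left.mpr hPL]
  exact hH

/-- when `O_p(X) = 1`, all `p`-local subgroups have normal `p`-complements -/
theorem f2_npc_normalizer_of_pCore_eq_bot (hW₁ : Cfsg.IsCharPFunctor.{u} p W₁)
    (hW₂ : Cfsg.IsCharPFunctor.{u} p W₂) (hX : Cfsg.Involves X G₀)
    (ih : FHyp2 p W₁ W₂ G₀ X) (P : Sylow p X) (hH : Hyp2 p W₁ W₂ X (P : Subgroup X))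
    (hQ : Cfsg.pCore p X = ⊥) :
    ∀ k : ℕ, ∀ H : Subgroup X, IsPGroup p H → H ≠ ⊥ →
      Nat.card (P : Subgroup X) -
        p ^ ((Nat.card ↥(Subgroup.normalizer (H : Set X))).factorization p) = k →
      HasNormalPComplement p ↥(Subgroup.normalizer (H : Set X)) := by
  intro k
  induction k using Nat.strong_induction_on with
  | _ k ihk =>
  intro H hHp hH1 hk
  have hpp : p.Prime := Fact.out
  have hNtop : Subgroup.normalizer (H : Set X) ≠ ⊤ := by
    intro htop
    have hn : H.Normal := Subgroup.normalizer_eq_top_iff.mp htop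
    have := le_pCore H hn hHp
    rw [hQ] at this
    exact hH1 (le_bot_iff.mp this)
  obtain ⟨P'⟩ : Nonempty (Sylow p ↥(Subgroup.normalizer (H : Set X))) := inferInstance
  apply f2_npc_subgroup_of_ih hW₁ hW₂ hX ih _ hNtop P'
  have hRsp : IsPGroup p ↥((P' : Subgroup ↥(Subgroup.normalizer (H : Set X))).map
      (Subgroup.normalizer (H : Set X)).subtype) := P'.isPGroup'.map _
  have hRscard : Nat.card ↥((P' : Subgroup ↥(Subgroup.normalizer (H : Set X))).map
      (Subgroup.normalizer (H : Set X)).subtype) =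
      p ^ ((Nat.card ↥(Subgroup.normalizer (H : Set X))).factorization p) := by
    rw [Subgroup.card_map_of_injective (Subgroup.subtype_injective _)]
    exact P'.card_eq_multiplicity
  have hHRs : H ≤ (P' : Subgroup ↥(Subgroup.normalizer (H : Set X))).map
      (Subgroup.normalizer (H : Set X)).subtype := by
    have hn : (H.subgroupOf (Subgroup.normalizer (H : Set X))).Normal :=
      Subgroup.normal_in_normalizer
    have hp' : IsPGroup p ↥(H.subgroupOf (Subgroup.normalizer (H : Set X))) := hHp.comap_subtype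
    have h1 : H.subgroupOf (Subgroup.normalizer (H : Set X)) ≤
        (P' : Subgroup ↥(Subgroup.normalizer (H : Set X))) := hp'.le_sylow_of_normal P'
    intro x hx
    exact Subgroup.mem_map.mpr
      ⟨⟨x, Subgroup.le_normalizer hx⟩, h1 (by simpa [Subgroup.mem_subgroupOf] using hx), rfl⟩
  generalize hRs : (P' : Subgroup ↥(Subgroup.normalizer (H : Set X))).map
      (Subgroup.normalizer (H : Set X)).subtype = Rs at hRsp hRscard hHRs ⊢
  have hRs1 : Rs ≠ ⊥ := by
    intro h
    rw [h] at hHRs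
    exact hH1 (le_bot_iff.mp hHRs)
  have hPcard := P.card_eq_multiplicity
  have hfle : ∀ M : Subgroup X, (Nat.card ↥M).factorization p ≤ (Nat.card X).factorization p := by
    intro M
    exact (Nat.factorization_le_iff_dvd Nat.card_pos.ne' Nat.card_pos.ne').mpr
      (Subgroup.card_subgroup_dvd_card M) p
  by_cases hcs : (Nat.card ↥(Subgroup.normalizer (H : Set X))).factorization p =
      (Nat.card X).factorization p
  · let S : Sylow p X := Sylow.ofCard Rs (by rw [hRscard, hcs])
    have hS : (S : Subgroup X) = Rs := Sylow.coe_ofCard _ _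
    obtain ⟨g, hg⟩ := MulAction.exists_smul_eq X P S
    have h1 : Rs = (P : Subgroup X).map (MulAut.conj g).toMonoidHom := by
      rw [← hS, ← hg, sylow_smul_coe]
    rw [h1]
    exact hyp2_conj hW₁ hW₂ P.isPGroup' g hH
  · have hlt : (Nat.card ↥(Subgroup.normalizer (H : Set X))).factorization p <
        (Nat.card X).factorization p := lt_of_le_of_ne (hfle _) hcs
    obtain ⟨S, hS⟩ := hRsp.exists_le_sylow
    have hne : Rs ≠ (S : Subgroup X) := by
      intro h
      have := S.card_eq_multiplicity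
      rw [← h, hRscard] at this
      exact hcs (Nat.pow_right_injective hpp.two_le this)
    obtain ⟨t, htS, htR, htN⟩ := exists_mem_normalizer_not_mem Rs (S : Subgroup X) S.isPGroup' hS hne
    have hT : Rs < (S : Subgroup X) ⊓ Subgroup.normalizer (Rs : Set X) := by
      refine lt_of_le_of_ne (le_inf hS Subgroup.le_normalizer) ?_
      intro h
      apply htR
      rw [h]
      exact Subgroup.mem_inf.mpr ⟨htS, htN⟩
    have hTp : IsPGroup p ↥((S : Subgroup X) ⊓ Subgroup.normalizer (Rs : Set X) : Subgroup X) :=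
      S.isPGroup'.to_le inf_le_left
    have key : ∀ W : ∀ (Q : Type u) [Group Q], Subgroup Q, Cfsg.IsCharPFunctor.{u} p W →
        HasNormalPComplement p
          ↥(Subgroup.normalizer ((Cfsg.inducedFunctor W Rs : Subgroup X) : Set X)) := by
      intro W hW
      have hZ1 : Cfsg.inducedFunctor W Rs ≠ ⊥ := wf_ne_bot hW hRsp hRs1
      have hZRs : Cfsg.inducedFunctor W Rs ≤ Rs := wf_le Rs
      have hZp : IsPGroup p ↥(Cfsg.inducedFunctor W Rs) := hRsp.to_le hZRs
      have hTle : (S : Subgroup X) ⊓ Subgroup.normalizer (Rs : Set X) ≤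
          Subgroup.normalizer ((Cfsg.inducedFunctor W Rs : Subgroup X) : Set X) :=
        inf_le_right.trans (normalizer_le_normalizer_wf hW hRsp)
      obtain ⟨j, hj⟩ := IsPGroup.iff_card.mp hTp
      have hjd : p ^ j ∣ Nat.card ↥(Subgroup.normalizer
          ((Cfsg.inducedFunctor W Rs : Subgroup X) : Set X)) := by
        rw [← hj]; exact Subgroup.card_dvd_of_le hTle
      have hjle : j ≤ (Nat.card ↥(Subgroup.normalizer
          ((Cfsg.inducedFunctor W Rs : Subgroup X) : Set X))).factorization p :=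
        (hpp.pow_dvd_iff_le_factorization Nat.card_pos.ne').mp hjd
      have hlt2 : (Nat.card ↥(Subgroup.normalizer (H : Set X))).factorization p < j := by
        have := card_lt_card_of_lt hT
        rw [hRscard, hj] at this
        exact (Nat.pow_lt_pow_iff_right hpp.one_lt).mp this
      refine ihk _ ?_ (Cfsg.inducedFunctor W Rs) hZp hZ1 rfl
      have h1 : p ^ ((Nat.card ↥(Subgroup.normalizer (H : Set X))).factorization p) <
          p ^ ((Nat.card ↥(Subgroup.normalizer
            ((Cfsg.inducedFunctor W Rs : Subgroup X) : Set X))).factorization p) :=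
        Nat.pow_lt_pow_right hpp.one_lt (lt_of_lt_of_le hlt2 hjle)
      have h2 : p ^ ((Nat.card ↥(Subgroup.normalizer
            ((Cfsg.inducedFunctor W Rs : Subgroup X) : Set X))).factorization p) ≤
          Nat.card (P : Subgroup X) := by
        rw [hPcard]
        exact Nat.pow_le_pow_right hpp.pos (hfle _)
      omega
    exact hyp2_of_normalizers (key W₁ hW₁) (key W₂ hW₂)

/-- reduction to `O_{p'}(X) = 1` -/
theorem f2_npc_of_pPrimeCore_ne_bot (hW₁ : Cfsg.IsCharPFunctor.{u} p W₁)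
    (hW₂ : Cfsg.IsCharPFunctor.{u} p W₂) (hX : Cfsg.Involves X G₀)
    (ih : FHyp2 p W₁ W₂ G₀ X) (P : Sylow p X) (hH : Hyp2 p W₁ W₂ X (P : Subgroup X))
    (hD : Cfsg.pPrimeCore p X ≠ ⊥) : HasNormalPComplement p X := by
  haveI hDn : (Cfsg.pPrimeCore p X).Normal := Cfsg.pPrimeCore_normal p X
  have hDc : (Nat.card (Cfsg.pPrimeCore p X)).Coprime p := pPrimeCore_coprime p
  apply npc_of_pprime_quotient (Cfsg.pPrimeCore p X) hDc
  have hcard : Nat.card (X ⧸ Cfsg.pPrimeCore p X) < Nat.card X := card_quotient_lt _ hD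
  let P' : Sylow p (X ⧸ Cfsg.pPrimeCore p X) := P.mapSurjective (ppi_surjective (X := X) p)
  have hP' : (P' : Subgroup (X ⧸ Cfsg.pPrimeCore p X)) = (P : Subgroup X).map (ppi p X) := rfl
  apply ih _ (involves_quotient hX _) hcard P'
  rw [hP']
  exact hyp2_pprime_quot hW₁ hW₂ (Cfsg.pPrimeCore p X) hDc P.isPGroup' hH

/-- `X / O_p(X)` has a normal `p`-complement -/
theorem f2_npc_quot_pCore (hW₁ : Cfsg.IsCharPFunctor.{u} p W₁)
    (hW₂ : Cfsg.IsCharPFunctor.{u} p W₂) (hX : Cfsg.Involves X G₀)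
    (ih : FHyp2 p W₁ W₂ G₀ X) (P : Sylow p X) (hH : Hyp2 p W₁ W₂ X (P : Subgroup X))
    (hQ : Cfsg.pCore p X ≠ ⊥) (hPQ : ¬ (P : Subgroup X) ≤ Cfsg.pCore p X) :
    HasNormalPComplement p (X ⧸ Cfsg.pCore p X) := by
  have hcard : Nat.card (X ⧸ Cfsg.pCore p X) < Nat.card X := card_quotient_lt _ hQ
  have hsurj : Function.Surjective (opi p X) := opi_surjective
  let P' : Sylow p (X ⧸ Cfsg.pCore p X) := P.mapSurjective hsurj
  have hP' : (P' : Subgroup (X ⧸ Cfsg.pCore p X)) = (P : Subgroup X).map (opi p X) := rfl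
  apply ih _ (involves_quotient hX _) hcard P'
  rw [hP']
  have hPb1 : (P : Subgroup X).map (opi p X) ≠ ⊥ := by
    intro h
    apply hPQ
    intro x hx
    have : opi p X x ∈ (P : Subgroup X).map (opi p X) := Subgroup.mem_map_of_mem _ hx
    rw [h, Subgroup.mem_bot] at this
    exact opi_eq_one_iff.mp this
  have hPbp : IsPGroup p ↥((P : Subgroup X).map (opi p X)) := P.isPGroup'.map _
  have key : ∀ W : ∀ (Q : Type u) [Group Q], Subgroup Q, Cfsg.IsCharPFunctor.{u} p W →
      HasNormalPComplement p ↥(Subgroup.normalizer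
        ((Cfsg.inducedFunctor W ((P : Subgroup X).map (opi p X)) :
          Subgroup (X ⧸ Cfsg.pCore p X)) : Set (X ⧸ Cfsg.pCore p X))) := by
    intro W hW
    have hZb1 : Cfsg.inducedFunctor W ((P : Subgroup X).map (opi p X)) ≠ ⊥ :=
      wf_ne_bot hW hPbp hPb1
    have hZbP : Cfsg.inducedFunctor W ((P : Subgroup X).map (opi p X)) ≤
        (P : Subgroup X).map (opi p X) := wf_le _
    have hYtop : Subgroup.normalizer
        (((Cfsg.inducedFunctor W ((P : Subgroup X).map (opi p X))).comap (opi p X) : Subgroup X) :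
          Set X) ≠ ⊤ := by
      intro htop
      have hn : ((Cfsg.inducedFunctor W ((P : Subgroup X).map (opi p X))).comap (opi p X)).Normal :=
        Subgroup.normalizer_eq_top_iff.mp htop
      have hn' : (Cfsg.inducedFunctor W ((P : Subgroup X).map (opi p X))).Normal := by
        have := hn.map (opi p X) hsurj
        rwa [Subgroup.map_comap_eq_self_of_surjective hsurj] at this
      exact hZb1 (normal_pgroup_quot_pCore_eq_bot _ hn' (hPbp.to_le hZbP))
    have hcomapN : (Subgroup.normalizer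
        ((Cfsg.inducedFunctor W ((P : Subgroup X).map (opi p X)) : Subgroup _) : Set _)).comap
          (opi p X) =
        Subgroup.normalizer
          (((Cfsg.inducedFunctor W ((P : Subgroup X).map (opi p X))).comap (opi p X) : Subgroup X) :
            Set X) :=
      Subgroup.comap_normalizer_eq_of_surjective _ hsurj
    have hPY : (P : Subgroup X) ≤ Subgroup.normalizer
        (((Cfsg.inducedFunctor W ((P : Subgroup X).map (opi p X))).comap (opi p X) : Subgroup X) :
          Set X) := by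
      have h1 : (P : Subgroup X).map (opi p X) ≤ Subgroup.normalizer
          ((Cfsg.inducedFunctor W ((P : Subgroup X).map (opi p X)) : Subgroup _) : Set _) :=
        Subgroup.le_normalizer.trans (normalizer_le_normalizer_wf hW hPbp)
      rw [← hcomapN]
      intro x hx
      exact h1 (Subgroup.mem_map_of_mem _ hx)
    have hNY : HasNormalPComplement p ↥(Subgroup.normalizer
        (((Cfsg.inducedFunctor W ((P : Subgroup X).map (opi p X))).comap (opi p X) : Subgroup X) :
          Set X)) := f2_npc_of_sylow_le hW₁ hW₂ hX ih P hH _ hYtop hPY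
    have h2 : (Subgroup.normalizer
        (((Cfsg.inducedFunctor W ((P : Subgroup X).map (opi p X))).comap (opi p X) : Subgroup X) :
          Set X)).map (opi p X) =
        Subgroup.normalizer
          ((Cfsg.inducedFunctor W ((P : Subgroup X).map (opi p X)) : Subgroup _) : Set _) := by
      rw [← hcomapN, Subgroup.map_comap_eq_self_of_surjective hsurj]
    exact npc_of_eq h2 (npc_map _ _ hNY)
  exact hyp2_of_normalizers (key W₁ hW₁) (key W₂ hW₂)

/-- a Sylow `p`-subgroup is a maximal subgroup in a minimal counterexample -/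
theorem f2_sylow_maximal_of_ih (hW₁ : Cfsg.IsCharPFunctor.{u} p W₁)
    (hW₂ : Cfsg.IsCharPFunctor.{u} p W₂) (hX : Cfsg.Involves X G₀)
    (ih : FHyp2 p W₁ W₂ G₀ X) (P : Sylow p X) (hH : Hyp2 p W₁ W₂ X (P : Subgroup X))
    (hc : Subgroup.centralizer (Cfsg.pCore p X : Set X) ≤ Cfsg.pCore p X) :
    ∀ G₁ : Subgroup X, (P : Subgroup X) ≤ G₁ → G₁ = (P : Subgroup X) ∨ G₁ = ⊤ := by
  intro G₁ hPG
  by_cases htop : G₁ = ⊤
  · right; exact htop
  left
  have h1 : HasNormalPComplement p ↥G₁ := f2_npc_of_sylow_le hW₁ hW₂ hX ih P hH _ htop hPG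
  obtain ⟨K₁, hK₁G, hGN, hK₁c, hpow⟩ := npc_internal h1
  have hQp : IsPGroup p ↥(Cfsg.pCore p X) := pCore_isPGroup
  have hQG : Cfsg.pCore p X ≤ G₁ := (pCore_le_sylow P).trans hPG
  have hK₁Q : K₁ ≤ Subgroup.centralizer (Cfsg.pCore p X : Set X) := by
    intro k hk
    rw [Subgroup.mem_centralizer_iff]
    intro x hx
    have h2 : x * k * x⁻¹ * k⁻¹ ∈ K₁ :=
      K₁.mul_mem (conj_mem_of_mem_normalizer' (hGN (hQG hx)) hk) (K₁.inv_mem hk)
    have h3 : x * k * x⁻¹ * k⁻¹ ∈ Cfsg.pCore p X := by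
      have : x * k * x⁻¹ * k⁻¹ = x * (k * x⁻¹ * k⁻¹) := by group
      rw [this]
      exact (Cfsg.pCore p X).mul_mem hx
        ((Cfsg.pCore_normal p X).conj_mem _ ((Cfsg.pCore p X).inv_mem hx) k)
    have h4 : x * k * x⁻¹ * k⁻¹ = 1 := eq_one_of_mem_pgroup_of_mem_pprime hQp hK₁c h3 h2
    have e : x * k = (x * k * x⁻¹ * k⁻¹) * (k * x) := by group
    rw [e, h4, one_mul]
  have hK₁bot : K₁ = ⊥ := by
    rw [eq_bot_iff]
    intro k hk
    exact Subgroup.mem_bot.mpr (eq_one_of_mem_pgroup_of_mem_pprime hQp hK₁c (hc (hK₁Q hk)) hk)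
  have hG₁p : IsPGroup p ↥G₁ := by
    intro a
    obtain ⟨n, hn⟩ := hpow a a.2
    rw [hK₁bot, Subgroup.mem_bot] at hn
    exact ⟨n, Subtype.ext (by simpa using hn)⟩
  exact P.is_maximal' hG₁p hPG

/-- the final configuration of a minimal counterexample -/
structure FinalConf (p : ℕ) (X : Type u) [Group X] (P : Sylow p X) : Prop where
  hD : Cfsg.pPrimeCore p X = ⊥
  hQ : Cfsg.pCore p X ≠ ⊥
  hPQ : ¬ (P : Subgroup X) ≤ Cfsg.pCore p X
  hK : HasNormalPComplement p (X ⧸ Cfsg.pCore p X)
  hsol : Cfsg.IsPSolvable p X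
  hc : Subgroup.centralizer (Cfsg.pCore p X : Set X) ≤ Cfsg.pCore p X
  hco : IsCoatom (P : Subgroup X)

theorem f2_final_config (hW₁ : Cfsg.IsCharPFunctor.{u} p W₁)
    (hW₂ : Cfsg.IsCharPFunctor.{u} p W₂) (hX : Cfsg.Involves X G₀)
    (ih : FHyp2 p W₁ W₂ G₀ X) (P : Sylow p X) (hH : Hyp2 p W₁ W₂ X (P : Subgroup X))
    (hD : Cfsg.pPrimeCore p X = ⊥) (hQ : Cfsg.pCore p X ≠ ⊥)
    (hPQ : ¬ (P : Subgroup X) ≤ Cfsg.pCore p X)
    (hK : HasNormalPComplement p (X ⧸ Cfsg.pCore p X)) : FinalConf p X P := by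
  obtain ⟨Kb, hKbn, hKbc, hKbq⟩ := exists_normal_hall_of_hasNormalPComplement p hK
  have hsurj : Function.Surjective (opi p X) := opi_surjective
  haveI hKn : (Kb.comap (opi p X)).Normal := hKbn.comap _
  have hQK : Cfsg.pCore p X ≤ Kb.comap (opi p X) := by
    intro x hx
    rw [Subgroup.mem_comap, opi_eq_one_iff.mpr hx]
    exact Subgroup.one_mem _
  have hmapK : (Kb.comap (opi p X)).map (opi p X) = Kb :=
    Subgroup.map_comap_eq_self_of_surjective hsurj _
  have hGK : IsPGroup p (X ⧸ Kb.comap (opi p X)) := by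
    intro y
    induction y using QuotientGroup.induction_on with
    | H x =>
      obtain ⟨n, hn⟩ := hKbq ((opi p X x : X ⧸ Cfsg.pCore p X) : (X ⧸ Cfsg.pCore p X) ⧸ Kb)
      refine ⟨n, ?_⟩
      rw [← QuotientGroup.mk_pow, QuotientGroup.eq_one_iff]
      rw [← QuotientGroup.mk_pow, QuotientGroup.eq_one_iff, ← map_pow] at hn
      exact hn
  have hcop : (Nat.card ↥((Kb.comap (opi p X)).map (opi p X))).Coprime p := by
    rw [hmapK]; exact hKbc
  have hsol : Cfsg.IsPSolvable p X := isPSolvable_of_series _ hQK hcop hGK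
  have hc := centralizer_pCore_le_of_psolvable hsol hD
  have hmax := f2_sylow_maximal_of_ih hW₁ hW₂ hX ih P hH hc
  refine ⟨hD, hQ, hPQ, hK, hsol, hc, ?_⟩
  constructor
  · intro htop
    apply hPQ
    have hPn : (P : Subgroup X).Normal := htop ▸ Subgroup.normal_top
    exact le_pCore _ hPn P.isPGroup'
  · intro M hM
    rcases hmax M hM.le with h1 | h1
    · exact absurd h1.symm hM.ne
    · exact h1

end two

/-- the Thompson induction for two functors -/
theorem npc_of_two_functors {p : ℕ} [Fact p.Prime] {W₁ W₂ : ∀ (Q : Type u) [Group Q], Subgroup Q}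
    (hW₁ : Cfsg.IsCharPFunctor.{u} p W₁) (hW₂ : Cfsg.IsCharPFunctor.{u} p W₂)
    {G₀ : Type u} [Group G₀]
    (hfinal : ∀ (X : Type u) [Group X] [Finite X], Cfsg.Involves X G₀ → ∀ T : Sylow p X,
      FinalConf p X T → Hyp2 p W₁ W₂ X (T : Subgroup X) → HasNormalPComplement p X) :
    ∀ (n : ℕ) (X : Type u) [Group X] [Finite X], Cfsg.Involves X G₀ → Nat.card X = n →
      ∀ P : Sylow p X, Hyp2 p W₁ W₂ X (P : Subgroup X) → HasNormalPComplement p X := by
  intro n
  induction n using Nat.strong_induction_on with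
  | _ n IH =>
  intro X _ _ hX hn P hH
  have ih : FHyp2 p W₁ W₂ G₀ X := by
    intro H _ _ hHi hlt P' h'
    exact IH (Nat.card H) (hn ▸ hlt) H hHi rfl P' h'
  by_cases hD : Cfsg.pPrimeCore p X = ⊥
  swap
  · exact f2_npc_of_pPrimeCore_ne_bot hW₁ hW₂ hX ih P hH hD
  by_cases hQ : Cfsg.pCore p X = ⊥
  · apply hasNormalPComplement_of_local p
    intro H hHp hH1
    exact f2_npc_normalizer_of_pCore_eq_bot hW₁ hW₂ hX ih P hH hQ _ H hHp hH1 rfl
  by_cases hPQ : (P : Subgroup X) ≤ Cfsg.pCore p X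
  · have hPeq : (P : Subgroup X) = Cfsg.pCore p X := le_antisymm hPQ (pCore_le_sylow P)
    have hPn : (P : Subgroup X).Normal := hPeq ▸ Cfsg.pCore_normal p X
    have h1 : Subgroup.normalizer ((P : Subgroup X) : Set X) = ⊤ :=
      Subgroup.normalizer_eq_top_iff.mpr hPn
    have h2 : Subgroup.normalizer
        ((Cfsg.inducedFunctor W₂ (P : Subgroup X) : Subgroup X) : Set X) = ⊤ := by
      rw [eq_top_iff, ← h1]
      exact normalizer_le_normalizer_wf hW₂ P.isPGroup'
    exact npc_of_top (npc_of_eq h2 hH.2)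
  · have hK := f2_npc_quot_pCore hW₁ hW₂ hX ih P hH hQ hPQ
    exact hfinal X hX P (f2_final_config hW₁ hW₂ hX ih P hH hD hQ hPQ hK) hH

end Cfsg.Agent.Lib.Helper3
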