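import Mathlib
import Cfsg.Agent.Lib.Helper3.MaxAb

set_option autoImplicit false
set_option linter.unusedSectionVars false
set_option linter.style.haveILetI false
open scoped commutatorElement

/-! A weak form of Thompson's replacement theorem for an elementary abelian normal subgroup `B`:
there is a largest abelian subgroup `A` not contained in `Q ≥ C(B)` all of whose `p`-th powers lie
in `Q`. -/

namespace Cfsg.Agent.Lib.Helper3

section wrep
variable {S : Type*} [Group S]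

namespace RepHyp
variable {A B : Subgroup S} {b : S} (h : RepHyp A B b)
include h

/-- `rphi b (a^k) ∈ (rphi b a)^k D` -/
lemma rphi_pow {a : S} (ha : a ∈ A) (k : ℕ) :
    ∃ c ∈ rD A b, rphi b (a ^ k) = rphi b a ^ k * c := by
  induction k with
  | zero => exact ⟨1, one_mem _, by rw [pow_zero, pow_zero, rphi_one, one_mul]⟩
  | succ k ih =>
    obtain ⟨c, hc, e⟩ := ih
    obtain ⟨c', hc', e'⟩ := h.rphi_mul (A.pow_mem ha k) ha
    refine ⟨c * c', mul_mem hc hc', ?_⟩
    have hcomm := h.rD_comm_rphi hc ha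
    rw [pow_succ, e', e, pow_succ]
    calc rphi b a ^ k * c * rphi b a * c' = rphi b a ^ k * (c * rphi b a) * c' := by group
      _ = rphi b a ^ k * (rphi b a * c) * c' := by rw [hcomm]
      _ = rphi b a ^ k * rphi b a * (c * c') := by group

lemma pow_mem_rD {p : ℕ} (hB : ∀ x ∈ B, x ^ p = 1) {a : S} (ha : a ∈ A) : a ^ p ∈ rD A b := by
  obtain ⟨c, hc, e⟩ := h.rphi_pow ha p
  rw [hB _ h.rphi_mem_B, one_mul] at e
  exact (h.rphi_mem_rD_iff (A.pow_mem ha p)).mp (e ▸ hc)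

end RepHyp

/-- if the abelian group `B` of exponent `p` normalizes the abelian group `A`, then `p`-th powers
of elements of `A` centralize `B` -/
lemma pow_mem_centralizer_of_normalizes {p : ℕ} {A B : Subgroup S} (hA : IsAb A)
    (hBn : B.Normal) (hBexp : ∀ x ∈ B, x ^ p = 1)
    (hBA : B ≤ Subgroup.normalizer (A : Set S)) {a : S} (ha : a ∈ A) :
    a ^ p ∈ Subgroup.centralizer (B : Set S) := by
  rw [Subgroup.mem_centralizer_iff]
  intro v hv
  have hvA : v * a * v⁻¹ ∈ A := (Subgroup.mem_normalizer_iff.mp (hBA hv) a).mp ha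
  have hcA : a⁻¹ * (v * a * v⁻¹) ∈ A := A.mul_mem (A.inv_mem ha) hvA
  have hcB : a⁻¹ * (v * a * v⁻¹) ∈ B := by
    have e : a⁻¹ * (v * a * v⁻¹) = (a⁻¹ * v * a⁻¹⁻¹) * v⁻¹ := by group
    rw [e]
    exact B.mul_mem (hBn.conj_mem v hv a⁻¹) (B.inv_mem hv)
  have hcomm : Commute a (a⁻¹ * (v * a * v⁻¹)) := hA a ha _ hcA
  have e1 : v * a * v⁻¹ = a * (a⁻¹ * (v * a * v⁻¹)) := by group
  have e2 : v * a ^ p * v⁻¹ = (v * a * v⁻¹) ^ p := (conj_pow).symm
  have e3 : v * a ^ p * v⁻¹ = a ^ p := by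
    rw [e2, e1, hcomm.mul_pow, hBexp _ hcB, mul_one]
  calc v * a ^ p = (v * a ^ p * v⁻¹) * v := by group
    _ = a ^ p * v := by rw [e3]

theorem weak_replacement [Finite S] {p : ℕ} [Fact p.Prime] (hS : IsPGroup p S)
    (B : Subgroup S) [hBn : B.Normal] (hBab : IsAb B) (hBexp : ∀ x ∈ B, x ^ p = 1)
    (Q : Subgroup S) (hQ : Subgroup.centralizer (B : Set S) ≤ Q)
    (U : Subgroup S) (hU : U ∈ maxFam (QE 0) (⊤ : Subgroup S)) (hUQ : ¬ U ≤ Q) :
    ∃ A ∈ maxFam (QE 0) (⊤ : Subgroup S), ¬ A ≤ Q ∧ ∀ a ∈ A, a ^ p ∈ Q := by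
  classical
  let 𝒮 : Set (Subgroup S) := {A | A ∈ maxFam (QE 0) (⊤ : Subgroup S) ∧ ¬ A ≤ Q}
  have h𝒮ne : 𝒮.Nonempty := ⟨U, hU, hUQ⟩
  obtain ⟨A, hA𝒮, hAmax⟩ :=
    Set.exists_max_image 𝒮 (fun A => Nat.card ↥(A ⊓ B)) (Set.toFinite _) h𝒮ne
  obtain ⟨hAfam, hAQ⟩ := hA𝒮
  refine ⟨A, hAfam, hAQ, ?_⟩
  have hAab : IsAb A := hAfam.2.1.1
  by_cases hnot : B ≤ Subgroup.normalizer (A : Set S)
  · intro a ha
    exact hQ (pow_mem_centralizer_of_normalizes hAab hBn hBexp hnot ha)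
  · have hAcomm : IsMulCommutative ↥A := (isAb_iff A).mp hAab
    have hBcomm : IsMulCommutative ↥B := (isAb_iff B).mp hBab
    have hder : ⁅B, B⁆ ≤ A := by
      have : ⁅B, B⁆ = ⊥ := by
        rw [Subgroup.commutator_eq_bot_iff_le_centralizer]
        exact (isAb_iff_le_centralizer B).mp hBab
      rw [this]; exact bot_le
    obtain ⟨b, hb, hbN, hbA⟩ :=
      Cfsg.Agent.S0649.result hS B (fun _ => hBcomm) A hAcomm hder hnot
    have h : RepHyp A B b :=
      { comm := hAab, normal := inferInstance, der := hder, hb := hb, hbN := hbN }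
    have hXab : ∀ u ∈ rX A b, ∀ v ∈ rX A b, u * v = v * u :=
      fun u hu v hv => hBab u (h.rX_le hu) v (h.rX_le hv)
    have hstarFam : rStar A b ∈ maxFam (QE 0) (⊤ : Subgroup S) :=
      ⟨le_top, ⟨h.rStar_comm hXab, fun a _ => pow_zero a⟩, fun V hV hQV => by
        rw [h.card_rStar]; exact hAfam.2.2 V hV hQV⟩
    have hlt := h.inf_lt hbA
    have hstarQ : rStar A b ≤ Q := by
      by_contra hcon
      have hle := hAmax _ ⟨hstarFam, hcon⟩
      have heq : A ⊓ B = rStar A b ⊓ B := Subgroup.eq_of_le_of_card_ge hlt.le hle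
      exact (ne_of_lt hlt) heq
    intro a ha
    exact hstarQ (rD_le_rStar A b (h.pow_mem_rD hBexp ha))

end wrep

/-- the weak replacement theorem inside a `p`-subgroup `P` of a finite group -/
theorem weak_replacement_in_subgroup {G : Type*} [Group G] [Finite G] {p : ℕ} [Fact p.Prime]
    (P : Subgroup G) (hP : IsPGroup p P) (V : Subgroup G) (hVP : V ≤ P)
    (hVn : P ≤ Subgroup.normalizer (V : Set G)) (hVab : IsAb V) (hVexp : ∀ x ∈ V, x ^ p = 1)
    (Q : Subgroup G) (hQ : P ⊓ Subgroup.centralizer (V : Set G) ≤ Q)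
    (U : Subgroup G) (hU : U ∈ maxFam (QE 0) P) (hUQ : ¬ U ≤ Q) :
    ∃ A ∈ maxFam (QE 0) P, ¬ A ≤ Q ∧ ∀ a ∈ A, a ^ p ∈ Q := by
  have hU' : U.subgroupOf P ∈ maxFam (QE 0) (⊤ : Subgroup ↥P) := by
    refine ⟨le_top, ?_, fun V' _ hV' => ?_⟩
    · rw [qe_map_subtype, Subgroup.map_subgroupOf_eq_of_le hU.1]; exact hU.2.1
    · have := hU.2.2 (V'.map P.subtype) (Subgroup.map_subtype_le V')
        ((qe_map_subtype 0 P V').mp hV')
      rw [card_map_subtype] at this
      rw [card_subgroupOf_of_le hU.1]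
      exact this
  haveI hBn : (V.subgroupOf P).Normal :=
    (Subgroup.normal_subgroupOf_iff_le_normalizer hVP).mpr hVn
  have hBab : IsAb (V.subgroupOf P) := by
    intro x hx y hy
    rw [Subgroup.mem_subgroupOf] at hx hy
    exact Subtype.ext (hVab x hx y hy)
  have hBexp : ∀ x ∈ V.subgroupOf P, x ^ p = 1 := by
    intro x hx
    rw [Subgroup.mem_subgroupOf] at hx
    apply Subtype.ext
    have := hVexp x hx
    simpa using this
  have hQ' : Subgroup.centralizer ((V.subgroupOf P : Subgroup ↥P) : Set ↥P) ≤ Q.subgroupOf P := by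
    intro x hx
    rw [Subgroup.mem_subgroupOf]
    apply hQ
    refine Subgroup.mem_inf.mpr ⟨x.2, ?_⟩
    rw [Subgroup.mem_centralizer_iff]
    intro v hv
    have hv' : (⟨v, hVP hv⟩ : ↥P) ∈ V.subgroupOf P := by
      rw [Subgroup.mem_subgroupOf]; exact hv
    have := Subgroup.mem_centralizer_iff.mp hx _ hv'
    exact congrArg Subtype.val this
  have hUQ' : ¬ U.subgroupOf P ≤ Q.subgroupOf P := by
    intro hle
    apply hUQ
    intro x hx
    have : (⟨x, hU.1 hx⟩ : ↥P) ∈ Q.subgroupOf P := hle (by rw [Subgroup.mem_subgroupOf]; exact hx)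
    rw [Subgroup.mem_subgroupOf] at this
    exact this
  obtain ⟨A', hA', hA'Q, hpow⟩ :=
    weak_replacement (S := ↥P) hP (V.subgroupOf P) hBab hBexp (Q.subgroupOf P) hQ'
      (U.subgroupOf P) hU' hUQ'
  refine ⟨A'.map P.subtype, ?_, ?_, ?_⟩
  · refine ⟨Subgroup.map_subtype_le A', (qe_map_subtype 0 P A').mp hA'.2.1, fun W hW hQW => ?_⟩
    have hW' : (W.subgroupOf P).map P.subtype = W := Subgroup.map_subgroupOf_eq_of_le hW
    have := hA'.2.2 (W.subgroupOf P) le_top ((qe_map_subtype 0 P _).mpr (by rw [hW']; exact hQW))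
    rw [card_subgroupOf_of_le hW] at this
    rw [card_map_subtype]
    exact this
  · intro hle
    apply hA'Q
    intro x hx
    rw [Subgroup.mem_subgroupOf]
    exact hle (Subgroup.mem_map_of_mem P.subtype hx)
  · rintro _ ⟨a, ha, rfl⟩
    have := hpow a ha
    rw [Subgroup.mem_subgroupOf] at this
    simpa using this

end Cfsg.Agent.Lib.Helper3
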