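import Mathlib
import Cfsg.Agent.Lib.Helper3.Thompson1
import Cfsg.Agent.Lib.Helper3.ZJ3

set_option autoImplicit false
set_option linter.unusedSectionVars false
set_option linter.style.haveILetI false
open scoped commutatorElement
open Cfsg Cfsg.Agent.Lib.Helper1 Cfsg.Agent.Lib.Helper4

/-! Preparations for Thompson's normal `p`-complement theorem: the functors `Z` and `J`, and
general facts about the final configuration. -/

namespace Cfsg.Agent.Lib.Helper3

universe u

/-- the centre, as a functor -/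
def Wz : ∀ (Q : Type u) [Group Q], Subgroup Q := fun Q _ => Subgroup.center Q
/-- the Thompson subgroup (abelian version), as a functor -/
def Wj : ∀ (Q : Type u) [Group Q], Subgroup Q := fun Q _ => Cfsg.thompsonSubgroupA Q

section functors
variable {p : ℕ} [Fact p.Prime]

lemma wz_char : Cfsg.IsCharPFunctor.{u} p Wz := by
  constructor
  · intro Q _ _ hQ hnt
    have := hQ.center_nontrivial
    exact (Subgroup.nontrivial_iff_ne_bot _).mp this
  · intro Q R _ _ _ _ φ
    ext x
    unfold Wz
    constructor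
    · rintro ⟨z, hz, rfl⟩
      rw [Subgroup.mem_center_iff]
      intro g
      obtain ⟨g', rfl⟩ := φ.surjective g
      have := Subgroup.mem_center_iff.mp hz g'
      show φ g' * φ z = φ z * φ g'
      rw [← map_mul, ← map_mul, this]
    · intro hx
      refine ⟨φ.symm x, ?_, φ.apply_symm_apply x⟩
      rw [SetLike.mem_coe, Subgroup.mem_center_iff]
      intro g
      have := Subgroup.mem_center_iff.mp hx (φ g)
      apply φ.injective
      rw [map_mul, map_mul, φ.apply_symm_apply]
      exact this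

lemma maxAb_map_equiv {Q R : Type*} [Group Q] [Group R] (φ : Q ≃* R) {A : Subgroup Q}
    (hA : A ∈ Cfsg.maxAbelianSubgroups Q) : A.map φ.toMonoidHom ∈ Cfsg.maxAbelianSubgroups R := by
  obtain ⟨hc, hmax⟩ := hA
  haveI := hc
  refine ⟨inferInstance, ?_⟩
  intro B hB
  haveI := hB
  have h1 : IsMulCommutative ↥(B.map φ.symm.toMonoidHom) := inferInstance
  have h2 := hmax _ h1
  rw [Subgroup.card_map_of_injective φ.symm.injective] at h2
  rw [Subgroup.card_map_of_injective φ.injective]
  exact h2

lemma exists_maxAb (Q : Type*) [Group Q] [Finite Q] :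
    ∃ A : Subgroup Q, A ∈ Cfsg.maxAbelianSubgroups Q := by
  classical
  let 𝒮 : Set (Subgroup Q) := {A | IsMulCommutative ↥A}
  have hne : 𝒮.Nonempty := ⟨⊥, by
    show IsMulCommutative ↥(⊥ : Subgroup Q)
    infer_instance⟩
  obtain ⟨A, hA, hmax⟩ := Set.exists_max_image 𝒮 (fun A => Nat.card ↥A) (Set.toFinite _) hne
  exact ⟨A, hA, fun B hB => hmax B hB⟩

lemma wj_char : Cfsg.IsCharPFunctor.{u} p Wj := by
  constructor
  · intro Q _ _ hQ hnt
    obtain ⟨A, hA⟩ := exists_maxAb Q
    obtain ⟨x, hx⟩ := exists_ne (1 : Q)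
    have h1 : IsMulCommutative ↥(Subgroup.zpowers x) := inferInstance
    have h2 := hA.2 _ h1
    have h3 : 1 < Nat.card ↥(Subgroup.zpowers x) := by
      rw [Subgroup.one_lt_card_iff_ne_bot]
      intro h
      exact hx (Subgroup.zpowers_eq_bot.mp h)
    have h4 : A ≠ ⊥ := by
      rw [← Subgroup.one_lt_card_iff_ne_bot]
      omega
    intro hbot
    apply h4
    rw [eq_bot_iff, ← hbot]
    exact le_sSup hA
  · intro Q R _ _ _ _ φ
    unfold Wj Cfsg.thompsonSubgroupA
    exact map_sSup_equiv φ _ _ (fun K hK => maxAb_map_equiv φ hK)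
      (fun K hK => maxAb_map_equiv φ.symm hK)

lemma induced_wz {X : Type u} [Group X] (P : Subgroup X) :
    Cfsg.inducedFunctor Wz P = P ⊓ Subgroup.centralizer (P : Set X) := by
  unfold Cfsg.inducedFunctor Wz
  ext x
  constructor
  · rintro ⟨z, hz, rfl⟩
    refine Subgroup.mem_inf.mpr ⟨z.2, ?_⟩
    rw [Subgroup.mem_centralizer_iff]
    intro g hg
    have := Subgroup.mem_center_iff.mp hz ⟨g, hg⟩
    exact congrArg Subtype.val this
  · intro hx
    obtain ⟨hxP, hxC⟩ := Subgroup.mem_inf.mp hx
    refine ⟨⟨x, hxP⟩, ?_, rfl⟩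
    rw [SetLike.mem_coe, Subgroup.mem_center_iff]
    intro g
    apply Subtype.ext
    exact Subgroup.mem_centralizer_iff.mp hxC g g.2

lemma induced_wj {X : Type u} [Group X] (P : Subgroup X) :
    Cfsg.inducedFunctor Wj P = jq 0 P := thompsonSubgroupAOf_eq P

end functors

section general
variable {X : Type*} [Group X] [Finite X] {p : ℕ} [hp : Fact p.Prime]

/-- a normal subgroup with a normal `p`-complement is a `p`-group when `O_{p'}(X) = 1` -/
theorem isPGroup_of_npc_of_normal (N : Subgroup X) [hNn : N.Normal]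
    (h : HasNormalPComplement p ↥N) (hD : Cfsg.pPrimeCore p X = ⊥) : IsPGroup p ↥N := by
  obtain ⟨K, hKN, hNK, hKc, hpow⟩ := npc_internal h
  have hKn : K.Normal := by
    constructor
    intro k hk g
    have h1 : g * k * g⁻¹ ∈ N := hNn.conj_mem k (hKN hk) g
    obtain ⟨n, hn⟩ := hpow _ h1
    have hord : (orderOf (g * k * g⁻¹)).Coprime p := by
      have e : orderOf (g * k * g⁻¹) = orderOf k := by
        have := orderOf_injective (MulAut.conj g).toMonoidHom (MulAut.conj g).injective k
        simpa [MulAut.conj_apply] using this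
      rw [e]
      have h2 : orderOf k ∣ Nat.card ↥K := by
        have := orderOf_dvd_natCard (⟨k, hk⟩ : ↥K)
        rwa [Subgroup.orderOf_mk] at this
      exact Nat.Coprime.coprime_dvd_left h2 hKc
    obtain ⟨m, hm⟩ := exists_pow_eq_self_of_coprime (Nat.Coprime.pow_left n hord.symm)
    rw [← hm]
    exact K.pow_mem hn m
  have hKbot : K = ⊥ := by
    rw [eq_bot_iff, ← hD]
    exact le_pPrimeCore K hKn hKc
  intro a
  obtain ⟨n, hn⟩ := hpow a a.2
  rw [hKbot, Subgroup.mem_bot] at hn
  exact ⟨n, Subtype.ext (by simpa using hn)⟩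

/-- a `p'`-element normalizing the abelian `p`-group `Z` and centralizing `Ω₁(Z)`
centralizes `Z` -/
theorem commute_of_commute_omega {Z : Subgroup X} (hZab : IsAb Z) (hZp : IsPGroup p Z) {y : X}
    (hy : (orderOf y).Coprime p) (hyZ : y ∈ Subgroup.normalizer (Z : Set X))
    (hc : ∀ z ∈ Z, z ^ p = 1 → y * z = z * y) : ∀ z ∈ Z, y * z = z * y := by
  have hpp : p.Prime := hp.out
  have key : ∀ n : ℕ, ∀ z ∈ Z, z ^ (p ^ n) = 1 → y * z = z * y := by
    intro n
    induction n with
    | zero =>
      intro z _ hz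
      rw [pow_zero, pow_one] at hz
      rw [hz, mul_one, one_mul]
    | succ n ih =>
      intro z hz hzn
      have hzp : y * z ^ p = z ^ p * y := by
        apply ih _ (Z.pow_mem hz p)
        rw [← pow_mul, ← pow_succ']
        exact hzn
      have hyz : y * z * y⁻¹ ∈ Z := (Subgroup.mem_normalizer_iff.mp hyZ z).mp hz
      obtain ⟨c, hcdef⟩ : ∃ c, c = y * z * y⁻¹ * z⁻¹ := ⟨_, rfl⟩
      have hcZ : c ∈ Z := by rw [hcdef]; exact Z.mul_mem hyz (Z.inv_mem hz)
      have hcp : c ^ p = 1 := by
        have hcomm : Commute (y * z * y⁻¹) z⁻¹ := hZab _ hyz _ (Z.inv_mem hz)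
        rw [hcdef, hcomm.mul_pow, conj_pow, inv_pow]
        have : y * z ^ p * y⁻¹ = z ^ p := by rw [hzp]; group
        rw [this, mul_inv_cancel]
      have hyc : y * c = c * y := hc c hcZ hcp
      have hconj : ∀ k : ℕ, y ^ k * z * (y ^ k)⁻¹ = c ^ k * z := by
        intro k
        induction k with
        | zero => simp
        | succ k ihk =>
          have hyck : y * c ^ k = c ^ k * y := (Commute.pow_right hyc k)
          calc y ^ (k + 1) * z * (y ^ (k + 1))⁻¹
              = y * (y ^ k * z * (y ^ k)⁻¹) * y⁻¹ := by rw [pow_succ']; group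
            _ = y * (c ^ k * z) * y⁻¹ := by rw [ihk]
            _ = (y * c ^ k) * (z * y⁻¹) := by group
            _ = (c ^ k * y) * (z * y⁻¹) := by rw [hyck]
            _ = c ^ k * (y * z * y⁻¹ * z⁻¹) * z := by group
            _ = c ^ k * c * z := by rw [← hcdef]
            _ = c ^ (k + 1) * z := by rw [pow_succ]
      have h1 := hconj (orderOf y)
      rw [pow_orderOf_eq_one, one_mul, inv_one, mul_one] at h1
      have hcm : c ^ orderOf y = 1 := by
        have : c ^ orderOf y * z = 1 * z := by rw [one_mul]; exact h1.symm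
        exact mul_right_cancel this
      have hc1 : c = 1 := by
        have h2 : orderOf c ∣ orderOf y := orderOf_dvd_of_pow_eq_one hcm
        have h3 : orderOf c ∣ p := orderOf_dvd_of_pow_eq_one hcp
        have h4 : orderOf c ∣ Nat.gcd (orderOf y) p := Nat.dvd_gcd h2 h3
        rw [hy] at h4
        exact orderOf_eq_one_iff.mp (Nat.dvd_one.mp h4)
      rw [hcdef] at hc1
      calc y * z = (y * z * y⁻¹ * z⁻¹) * (z * y) := by group
        _ = z * y := by rw [hc1, one_mul]
  intro z hz
  obtain ⟨n, hn⟩ := hZp ⟨z, hz⟩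
  have hn' : z ^ (p ^ n) = 1 := by
    have := congrArg Subtype.val hn
    simpa using this
  exact key n z hz hn'

/-- `J(R) = J(P)` when `J(P) ≤ R ≤ P` -/
lemma jq_eq_of_le {G : Type*} [Group G] [Finite G] {e : ℕ} {R P : Subgroup G} (hRP : R ≤ P)
    (hJ : jq e P ≤ R) : jq e R = jq e P := by
  obtain ⟨A, hA⟩ := maxFam_nonempty e P
  have hAR : A ≤ R := (le_jq hA).trans hJ
  unfold jq
  congr 1
  apply Set.Subset.antisymm
  · exact maxFam_subset_of_le hRP hA hAR
  · intro A' hA'
    exact maxFam_of_le hRP hA' ((le_jq hA').trans hJ)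

/-- `J` of a normal subgroup is normal -/
lemma jq_normal {G : Type*} [Group G] (e : ℕ) (P : Subgroup G) [hP : P.Normal] :
    (jq e P).Normal := by
  rw [← Subgroup.normalizer_eq_top_iff, eq_top_iff]
  intro g _
  rw [Subgroup.mem_normalizer_iff_map_conj_eq]
  have h1 := jq_map_equiv (MulAut.conj g) e P
  have h2 : P.map (MulAut.conj g).toMonoidHom = P := by
    have : g ∈ Subgroup.normalizer (P : Set G) := by
      rw [Subgroup.normalizer_eq_top_iff.mpr hP]; exact Subgroup.mem_top g
    exact (Subgroup.mem_normalizer_iff_map_conj_eq).mp this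
  rw [h2] at h1
  exact h1

/-- the centre of `P` lies in `Z(J(P))` -/
lemma center_le_zq {G : Type*} [Group G] [Finite G] (P : Subgroup G) :
    P ⊓ Subgroup.centralizer (P : Set G) ≤ zq 0 P := by
  have hZ : QE 0 (P ⊓ Subgroup.centralizer (P : Set G)) := by
    refine ⟨?_, fun a _ => pow_zero a⟩
    intro x hx y hy
    exact Subgroup.mem_centralizer_iff.mp (Subgroup.mem_inf.mp hy).2 x (Subgroup.mem_inf.mp hx).1
  obtain ⟨A, hA⟩ := maxFam_nonempty 0 P
  intro x hx
  refine mem_zq ?_ ?_ (pow_zero x)
  · have h1 : P ⊓ Subgroup.centralizer (P : Set G) ≤ A :=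
      le_of_mem_maxFam_of_qe hA inf_le_left hZ (by
        intro a ha
        rw [Subgroup.mem_centralizer_iff]
        intro z hz
        exact (Subgroup.mem_centralizer_iff.mp (Subgroup.mem_inf.mp hz).2 a (hA.1 ha)).symm)
    exact le_jq hA (h1 hx)
  · exact Subgroup.centralizer_le (jq_le 0 P) (Subgroup.mem_inf.mp hx).2

end general

end Cfsg.Agent.Lib.Helper3
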