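import Mathlib
import Cfsg.Agent.Lib.Helper3.Thompson2
import Cfsg.Agent.Lib.Helper3.Thompson3
import Cfsg.Agent.Lib.Helper3.S4Real
import Cfsg.Agent.Lib.Helper3.FF10
import Cfsg.Agent.Lib.Helper3.Real2
import Cfsg.Agent.Lib.Helper3.TF4

set_option autoImplicit false
set_option linter.unusedSectionVars false
set_option linter.style.haveILetI false
open scoped commutatorElement
open Cfsg Cfsg.Agent.Lib.Helper1 Cfsg.Agent.Lib.Helper4

/-! Thompson's normal `p`-complement theorem: the final configurations. -/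

namespace Cfsg.Agent.Lib.Helper3

universe u

section final
variable {p : ℕ} [hp : Fact p.Prime] {X : Type u} [Group X] [Finite X]

/-- if `J(T) ≤ O_p(X)` then `J(T)` is normal -/
lemma npc_of_jq_le_pCore (T : Sylow p X) (hH : Hyp2 p Wz Wj X (T : Subgroup X))
    (hJ : jq 0 (T : Subgroup X) ≤ Cfsg.pCore p X) : HasNormalPComplement p X := by
  have hQT : Cfsg.pCore p X ≤ (T : Subgroup X) := pCore_le_sylow T
  have h1 : jq 0 (Cfsg.pCore p X) = jq 0 (T : Subgroup X) := jq_eq_of_le hQT hJ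
  haveI : (Cfsg.pCore p X).Normal := Cfsg.pCore_normal p X
  have h2 : (jq 0 (T : Subgroup X)).Normal := h1 ▸ jq_normal 0 (Cfsg.pCore p X)
  have h3 := hH.2
  rw [induced_wj] at h3
  have h4 : Subgroup.normalizer ((jq 0 (T : Subgroup X) : Subgroup X) : Set X) = ⊤ :=
    Subgroup.normalizer_eq_top_iff.mpr h2
  exact npc_of_top (npc_of_eq h4 h3)

theorem final_odd (hp2 : p ≠ 2) (T : Sylow p X) (hF : FinalConf p X T)
    (hH : Hyp2 p Wz Wj X (T : Subgroup X)) : HasNormalPComplement p X := by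
  have hTN : (T : Subgroup X) ≤
      Subgroup.normalizer ((zq 0 (T : Subgroup X) : Subgroup X) : Set X) :=
    Subgroup.le_normalizer.trans (normalizer_le_normalizer_zq 0 _)
  by_cases hN : Subgroup.normalizer ((zq 0 (T : Subgroup X) : Subgroup X) : Set X) = ⊤
  · haveI hZn : (zq 0 (T : Subgroup X)).Normal := Subgroup.normalizer_eq_top_iff.mp hN
    have hC1 : Subgroup.centralizer ((zq 0 (T : Subgroup X) : Subgroup X) : Set X) ≤
        Subgroup.centralizer
          (((T : Subgroup X) ⊓ Subgroup.centralizer ((T : Subgroup X) : Set X) : Subgroup X) :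
            Set X) :=
      Subgroup.centralizer_le (center_le_zq (T : Subgroup X))
    have h1 := hH.1
    rw [induced_wz] at h1
    have hCnpc := npc_of_le hC1 h1
    have hCp := isPGroup_of_npc_of_normal
      (Subgroup.centralizer ((zq 0 (T : Subgroup X) : Subgroup X) : Set X)) hCnpc hF.hD
    have hCQ : Subgroup.centralizer ((zq 0 (T : Subgroup X) : Subgroup X) : Set X) ≤
        Cfsg.pCore p X := le_pCore _ inferInstance hCp
    apply npc_of_jq_le_pCore T hH
    exact (le_centralizer_symm' (zq_le_centralizer 0 (T : Subgroup X))).trans hCQ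
  · have hNT : Subgroup.normalizer ((zq 0 (T : Subgroup X) : Subgroup X) : Set X) =
        (T : Subgroup X) := by
      by_contra hne
      exact hN (hF.hco.2 _ (lt_of_le_of_ne hTN (Ne.symm hne)))
    apply gt_main hp2 (Nat.card X) X rfl T
    exact npc_of_eq hNT.symm (npc_of_isPGroup T.isPGroup')

end final

section even
variable {X : Type u} [Group X] [Finite X]

lemma map_conj_eq_of_normal (Q : Subgroup X) [hQ : Q.Normal] (g : X) :
    Q.map (MulAut.conj g).toMonoidHom = Q := by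
  have : g ∈ Subgroup.normalizer (Q : Set X) := by
    rw [Subgroup.normalizer_eq_top_iff.mpr hQ]; exact Subgroup.mem_top g
  exact (Subgroup.mem_normalizer_iff_map_conj_eq).mp this

lemma omZ_normal_of_normal {p : ℕ} (Q : Subgroup X) [hQ : Q.Normal] : (omZ p Q).Normal := by
  rw [← Subgroup.normalizer_eq_top_iff, eq_top_iff]
  intro g _
  apply mem_normalizer_of_map_conj_le
  have h1 := omZ_map_conj (p := p) Q g
  rw [map_conj_eq_of_normal Q g] at h1
  exact h1

theorem final_even [hp2 : Fact (Nat.Prime 2)] (T : Sylow 2 X) (hF : FinalConf 2 X T)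
    (hH : Hyp2 2 Wz Wj X (T : Subgroup X))
    (hS4 : ¬ Cfsg.Involves (Equiv.Perm (Fin 4)) X) : HasNormalPComplement 2 X := by
  by_cases hJ : jq 0 (T : Subgroup X) ≤ Cfsg.pCore 2 X
  · exact npc_of_jq_le_pCore T hH hJ
  exfalso
  apply hS4
  obtain ⟨Q, hQdef⟩ : ∃ Q : Subgroup X, Q = Cfsg.pCore 2 X := ⟨_, rfl⟩
  haveI hQn : Q.Normal := by rw [hQdef]; exact Cfsg.pCore_normal 2 X
  have hQp : IsPGroup 2 ↥Q := by rw [hQdef]; exact pCore_isPGroup
  have hQT : Q ≤ (T : Subgroup X) := by rw [hQdef]; exact pCore_le_sylow T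
  have hcQ : Subgroup.centralizer (Q : Set X) ≤ Q := by rw [hQdef]; exact hF.hc
  rw [← hQdef] at hJ
  obtain ⟨A₀, hA₀, hA₀Q⟩ : ∃ A₀ ∈ maxFam (QE 0) (T : Subgroup X), ¬ A₀ ≤ Q := by
    by_contra hcon
    push Not at hcon
    exact hJ (sSup_le (fun A hA => hcon A hA))
  -- `Z(Q)`
  obtain ⟨Zq, hZq⟩ : ∃ Zq : Subgroup X, Zq = Q ⊓ Subgroup.centralizer (Q : Set X) := ⟨_, rfl⟩
  haveI hZqn : Zq.Normal := by rw [hZq]; infer_instance
  have hZqQ : Zq ≤ Q := by rw [hZq]; exact inf_le_left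
  have hZqC : Zq ≤ Subgroup.centralizer (Q : Set X) := by rw [hZq]; exact inf_le_right
  have hZqab : IsAb Zq := by
    intro x hx y hy
    exact Subgroup.mem_centralizer_iff.mp (hZqC hy) x (hZqQ hx)
  have hZqp : IsPGroup 2 ↥Zq := hQp.to_le hZqQ
  have hZT : (T : Subgroup X) ⊓ Subgroup.centralizer ((T : Subgroup X) : Set X) ≤ Zq := by
    intro x hx
    obtain ⟨hx1, hx2⟩ := Subgroup.mem_inf.mp hx
    have hx3 : x ∈ Subgroup.centralizer (Q : Set X) := Subgroup.centralizer_le hQT hx2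
    rw [hZq]
    exact Subgroup.mem_inf.mpr ⟨hcQ hx3, hx3⟩
  have hCZ : Subgroup.centralizer (Zq : Set X) ≤ Q := by
    have h1 := hH.1
    rw [induced_wz] at h1
    have h2 := npc_of_le (Subgroup.centralizer_le hZT) h1
    have h3 := isPGroup_of_npc_of_normal (Subgroup.centralizer (Zq : Set X)) h2 hF.hD
    rw [hQdef]
    exact le_pCore _ inferInstance h3
  -- `V = Ω₁(Z(Q))`
  obtain ⟨V, hVdef⟩ : ∃ V : Subgroup X, V = omZ 2 Q := ⟨_, rfl⟩
  haveI hVn : V.Normal := by rw [hVdef]; exact omZ_normal_of_normal Q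
  have hVZ : V ≤ Zq := by rw [hVdef, hZq]; exact omZ_le Q
  have hVea : Cfsg.IsElementaryAbelian 2 V := by
    rw [hVdef]
    unfold omZ
    exact (omegaOne_of_comm (p := 2) (by rw [← hZq]; exact hZqab)).1
  have hVab : ∀ a ∈ V, ∀ b ∈ V, a * b = b * a := fun a ha b hb => hZqab a (hVZ ha) b (hVZ hb)
  have hVexp : ∀ x ∈ V, x ^ 2 = 1 := hVea.2
  have hVQ : V ≤ Q := hVZ.trans hZqQ
  have hQCV : Q ≤ Subgroup.centralizer (V : Set X) :=
    le_centralizer_symm' (hVZ.trans hZqC)
  have hCVQ : Subgroup.centralizer (V : Set X) ≤ Q := by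
    have hCp : IsPGroup 2 ↥(Subgroup.centralizer (V : Set X)) := by
      rintro ⟨x, hx⟩
      obtain ⟨k, m, hm, hkm⟩ := Nat.exists_eq_two_pow_mul_odd (orderOf_pos x).ne'
      refine ⟨k, ?_⟩
      apply Subtype.ext
      show x ^ (2 ^ k) = 1
      have hyord : orderOf (x ^ (2 ^ k)) = m := by
        rw [orderOf_pow_of_dvd (pow_ne_zero k (by norm_num)) (by rw [hkm]; exact dvd_mul_right _ _),
          hkm, Nat.mul_div_cancel_left _ (pow_pos (by norm_num) k)]
      have hycop : (orderOf (x ^ (2 ^ k))).Coprime 2 := by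
        rw [hyord]; exact Nat.coprime_two_right.mpr hm
      have hyV : x ^ (2 ^ k) ∈ Subgroup.centralizer (V : Set X) := Subgroup.pow_mem _ hx _
      have hyN : x ^ (2 ^ k) ∈ Subgroup.normalizer (Zq : Set X) := by
        rw [Subgroup.normalizer_eq_top_iff.mpr hZqn]; exact Subgroup.mem_top _
      have hc : ∀ z ∈ Zq, z ^ 2 = 1 → x ^ (2 ^ k) * z = z * x ^ (2 ^ k) := by
        intro z hz hz2
        have hzV : z ∈ V := by
          rw [hVdef]
          exact mem_omZ (hZqQ hz) (fun s hs => Subgroup.mem_centralizer_iff.mp (hZqC hz) s hs) hz2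
        exact (Subgroup.mem_centralizer_iff.mp hyV z hzV).symm
      have hyZ := commute_of_commute_omega hZqab hZqp hycop hyN hc
      have hyQ : x ^ (2 ^ k) ∈ Q := by
        apply hCZ
        rw [Subgroup.mem_centralizer_iff]
        intro z hz
        exact (hyZ z hz).symm
      obtain ⟨j, hj⟩ := hQp ⟨x ^ (2 ^ k), hyQ⟩
      have hj' : (x ^ (2 ^ k)) ^ (2 ^ j) = 1 := by
        have := congrArg Subtype.val hj
        simpa using this
      have h1 : orderOf (x ^ (2 ^ k)) ∣ 2 ^ j := orderOf_dvd_of_pow_eq_one hj'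
      have h2 : orderOf (x ^ (2 ^ k)) = 1 :=
        Nat.Coprime.eq_one_of_dvd (Nat.Coprime.pow_right j hycop) h1
      exact orderOf_eq_one_iff.mp h2
    rw [hQdef]
    exact le_pCore _ inferInstance hCp
  have hCV : Subgroup.centralizer (V : Set X) = Q := le_antisymm hCVQ hQCV
  have hO' : Cfsg.pCore 2 (X ⧸ Subgroup.centralizer (V : Set X)) = ⊥ := by
    apply pCore_quotient_eq_bot_of_index
    rintro D hDn hCD ⟨k, hk⟩
    apply le_antisymm _ hCD
    have hDp : IsPGroup 2 ↥D := by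
      have h1 := card_eq_card_mul_relIndex hCD
      rw [hk] at h1
      have hCp : IsPGroup 2 ↥(Subgroup.centralizer (V : Set X)) := by rw [hCV]; exact hQp
      obtain ⟨j, hj⟩ := IsPGroup.iff_card.mp hCp
      exact IsPGroup.of_card (n := j + k) (by rw [h1, hj, pow_add])
    rw [hCV, hQdef]
    exact le_pCore D hDn hDp
  have s := ffsetup_real V hVea ⊤ hF.hsol hO'
  -- the replacement
  have hTV : V ≤ (T : Subgroup X) := hVQ.trans hQT
  have hTn : (T : Subgroup X) ≤ Subgroup.normalizer (V : Set X) := by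
    intro t _
    rw [Subgroup.normalizer_eq_top_iff.mpr hVn]; exact Subgroup.mem_top t
  obtain ⟨A, hA, hAQ, hApow⟩ := weak_replacement_in_subgroup (T : Subgroup X) T.isPGroup' V hTV hTn
    hVab hVexp Q (by rw [hCV]; exact inf_le_right) A₀ hA₀ hA₀Q
  obtain ⟨Ab, hAb⟩ : ∃ Ab : Subgroup (RX V), Ab = A.map (rPsi V) := ⟨_, rfl⟩
  have hAbM : Ab ≤ (⊤ : Subgroup X).map (rPsi V) := by rw [hAb]; exact Subgroup.map_mono le_top
  have hAab : IsAb A := hA.2.1.1
  have hAbea : Cfsg.IsElementaryAbelian 2 Ab := by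
    rw [hAb]
    refine ⟨⟨⟨?_⟩⟩, ?_⟩
    · rintro ⟨_, ⟨a, ha, rfl⟩⟩ ⟨_, ⟨b, hb, rfl⟩⟩
      apply Subtype.ext
      show rPsi V a * rPsi V b = rPsi V b * rPsi V a
      rw [← map_mul, ← map_mul, hAab a ha b hb]
    · rintro _ ⟨a, ha, rfl⟩
      rw [← map_pow, rPsi_eq_one_iff, hCV]
      exact hApow a ha
  -- the offender inequality
  have hsmall : (rV V ⊓ Subgroup.centralizer (Ab : Set (RX V))).relIndex (rV V) <
      Nat.card ↥Ab ^ 2 := by
    have e1 : Nat.card ↥Ab * Nat.card ↥(A ⊓ Subgroup.centralizer (V : Set X)) = Nat.card ↥A := by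
      rw [hAb]; exact card_map_rPsi V A
    have e2 := card_eq_card_mul_relIndex
      (inf_le_left : rV V ⊓ Subgroup.centralizer (Ab : Set (RX V)) ≤ rV V)
    have e3 : Nat.card ↥(rV V ⊓ Subgroup.centralizer (Ab : Set (RX V))) =
        Nat.card ↥(V ⊓ Subgroup.centralizer (A : Set X)) := by
      rw [hAb]; exact card_rV_inf_centralizer V A
    rw [card_rV, e3] at e2
    have e4 := card_sup_mul_card_inf (A ⊓ Subgroup.centralizer (V : Set X)) V
    have e5 : A ⊓ Subgroup.centralizer (V : Set X) ⊓ V = A ⊓ V := by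
      apply le_antisymm
      · exact le_inf (inf_le_left.trans inf_le_left) inf_le_right
      · refine le_inf (le_inf inf_le_left ?_) inf_le_right
        intro x hx
        rw [Subgroup.mem_centralizer_iff]
        intro b hb
        exact hVab b hb x (Subgroup.mem_inf.mp hx).2
    rw [e5] at e4
    have hBT : A ⊓ Subgroup.centralizer (V : Set X) ⊔ V ≤ (T : Subgroup X) :=
      sup_le (inf_le_left.trans hA.1) hTV
    have hBQE : QE 0 (A ⊓ Subgroup.centralizer (V : Set X) ⊔ V) :=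
      qe_sup (hA.2.1.mono inf_le_left) ⟨hVab, fun a _ => pow_zero a⟩ inf_le_right
    have e6 := hA.2.2 _ hBT hBQE
    have e7 : Nat.card ↥(A ⊓ V) ≤ Nat.card ↥(V ⊓ Subgroup.centralizer (A : Set X)) := by
      apply Subgroup.card_le_of_le
      intro x hx
      obtain ⟨hxA, hxV⟩ := Subgroup.mem_inf.mp hx
      refine Subgroup.mem_inf.mpr ⟨hxV, ?_⟩
      rw [Subgroup.mem_centralizer_iff]
      intro a ha
      exact hAab a ha x hxA
    have e8 : 1 < Nat.card ↥Ab := by
      rw [Subgroup.one_lt_card_iff_ne_bot]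
      intro hbot
      apply hAQ
      intro a ha
      have : rPsi V a ∈ Ab := by rw [hAb]; exact Subgroup.mem_map_of_mem _ ha
      rw [hbot, Subgroup.mem_bot, rPsi_eq_one_iff, hCV] at this
      exact this
    have hc0 : 0 < Nat.card ↥(A ⊓ Subgroup.centralizer (V : Set X)) := Nat.card_pos
    have hf0 : 0 < Nat.card ↥(V ⊓ Subgroup.centralizer (A : Set X)) := Nat.card_pos
    -- c v = |B| w ≤ a w = ab c w
    have h1 : Nat.card ↥(A ⊓ Subgroup.centralizer (V : Set X)) * Nat.card ↥V ≤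
        Nat.card ↥(A ⊓ Subgroup.centralizer (V : Set X)) *
          (Nat.card ↥Ab * Nat.card ↥(A ⊓ V)) := by
      calc Nat.card ↥(A ⊓ Subgroup.centralizer (V : Set X)) * Nat.card ↥V
          = Nat.card ↥(A ⊓ Subgroup.centralizer (V : Set X) ⊔ V) * Nat.card ↥(A ⊓ V) := e4.symm
        _ ≤ Nat.card ↥A * Nat.card ↥(A ⊓ V) := Nat.mul_le_mul_right _ e6
        _ = Nat.card ↥(A ⊓ Subgroup.centralizer (V : Set X)) *
            (Nat.card ↥Ab * Nat.card ↥(A ⊓ V)) := by rw [← e1]; ring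
    have h2 : Nat.card ↥V ≤ Nat.card ↥Ab * Nat.card ↥(A ⊓ V) := Nat.le_of_mul_le_mul_left h1 hc0
    have h3 : Nat.card ↥V ≤ Nat.card ↥Ab * Nat.card ↥(V ⊓ Subgroup.centralizer (A : Set X)) :=
      h2.trans (Nat.mul_le_mul_left _ e7)
    rw [e2] at h3
    have h4 : (rV V ⊓ Subgroup.centralizer (Ab : Set (RX V))).relIndex (rV V) ≤ Nat.card ↥Ab := by
      have h5 : Nat.card ↥(V ⊓ Subgroup.centralizer (A : Set X)) *
          (rV V ⊓ Subgroup.centralizer (Ab : Set (RX V))).relIndex (rV V) ≤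
          Nat.card ↥(V ⊓ Subgroup.centralizer (A : Set X)) * Nat.card ↥Ab := by
        rw [mul_comm _ (Nat.card ↥Ab)]; exact h3
      exact Nat.le_of_mul_le_mul_left h5 hf0
    calc (rV V ⊓ Subgroup.centralizer (Ab : Set (RX V))).relIndex (rV V) ≤ Nat.card ↥Ab := h4
      _ < Nat.card ↥Ab ^ 2 := by nlinarith
  obtain ⟨E', U', hE'M, hU'V, hE'N, hcU', hfaith, ⟨φ⟩⟩ :=
    small_offender_blk s (Nat.card ↥Ab) Ab rfl hAbM hAbea hsmall
  have hcE : Nat.card ↥E' = 6 := by
    rw [Nat.card_congr φ.toEquiv]; exact card_sl2_two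
  exact involves_s4_of_blk V hVab E' U' hE'M hU'V hE'N hcU' hfaith hcE

end even

/-- **Thompson's normal `p`-complement theorem** (abelian version of `J`), for `p` odd or for
`S₄`-free groups -/
theorem thompson_npc {p : ℕ} [hp : Fact p.Prime] {G : Type u} [Group G] [Finite G] (S : Sylow p G)
    (h : p ≠ 2 ∨ ¬ Cfsg.Involves (Equiv.Perm (Fin 4)) G)
    (hC : HasNormalPComplement p ↥(Subgroup.centralizer
      (((S : Subgroup G) ⊓ Subgroup.centralizer ((S : Subgroup G) : Set G) : Subgroup G) : Set G)))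
    (hN : HasNormalPComplement p ↥(Subgroup.normalizer
      ((Cfsg.thompsonSubgroupAOf (S : Subgroup G)) : Set G))) :
    HasNormalPComplement p G := by
  have hfinal : ∀ (X : Type u) [Group X] [Finite X], Cfsg.Involves X G → ∀ T : Sylow p X,
      FinalConf p X T → Hyp2 p Wz Wj X (T : Subgroup X) → HasNormalPComplement p X := by
    intro X _ _ hX T hF hH
    by_cases hp2 : p = 2
    · subst hp2
      rcases h with h | h
      · exact absurd rfl h
      · exact final_even T hF hH (fun hinv => h (involves_trans hinv hX))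
    · exact final_odd hp2 T hF hH
  refine npc_of_two_functors wz_char wj_char hfinal (Nat.card G) G involves_self rfl S ⟨?_, ?_⟩
  · rw [induced_wz]; exact hC
  · exact hN

end Cfsg.Agent.Lib.Helper3
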