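import Mathlib
import Cfsg.Agent.Lib.Helper3.Fpf
import Cfsg.Agent.Lib.Helper3.GTMain

set_option autoImplicit false
set_option linter.unusedSectionVars false
set_option linter.style.haveILetI false
open scoped commutatorElement
open Cfsg Cfsg.Agent.Lib.Helper1 Cfsg.Agent.Lib.Helper4

/-! Thompson's theorem: a finite group admitting a fixed-point-free automorphism of prime order
is nilpotent. -/

namespace Cfsg.Agent.Lib.Helper3

universe u

section thompson
variable {G : Type u} [Group G] [Finite G]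

/-- a nilpotent group has a normal `q`-complement -/
theorem npc_of_nilpotent (hn : Group.IsNilpotent G) (q : ℕ) [Fact q.Prime] :
    HasNormalPComplement q G := by
  have hqp : q.Prime := Fact.out
  haveI := hn
  refine hasNormalPComplement_of_normal_hall q (Cfsg.pPrimeCore q G) (pPrimeCore_coprime q) ?_
  have h0 : Cfsg.pPrimeCore q (G ⧸ Cfsg.pPrimeCore q G) = ⊥ := pPrimeCore_quotient_eq_bot q
  have hcard : Nat.card (G ⧸ Cfsg.pPrimeCore q G) =
      q ^ (Nat.card (G ⧸ Cfsg.pPrimeCore q G)).primeFactorsList.length := by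
    apply Nat.eq_prime_pow_of_unique_prime_dvd Nat.card_pos.ne'
    intro d hd hdvd
    by_contra hne
    haveI : Fact d.Prime := ⟨hd⟩
    obtain ⟨S⟩ : Nonempty (Sylow d (G ⧸ Cfsg.pPrimeCore q G)) := inferInstance
    have hS1 : (S : Subgroup (G ⧸ Cfsg.pPrimeCore q G)) ≠ ⊥ := S.ne_bot_of_dvd_card hdvd
    have hSn : (S : Subgroup (G ⧸ Cfsg.pPrimeCore q G)).Normal := inferInstance
    have hSc : (Nat.card ↥(S : Subgroup (G ⧸ Cfsg.pPrimeCore q G))).Coprime q := by
      obtain ⟨k, hk⟩ := IsPGroup.iff_card.mp S.isPGroup'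
      rw [hk]
      exact Nat.Coprime.pow_left k ((Nat.coprime_primes hd hqp).mpr hne)
    have := le_pPrimeCore _ hSn hSc
    rw [h0] at this
    exact hS1 (le_bot_iff.mp this)
  exact IsPGroup.of_card hcard

/-- induction hypothesis of Thompson's theorem -/
def ThHyp (r : ℕ) (G : Type u) [Group G] : Prop :=
  ∀ (H : Type u) [Group H] [Finite H], Nat.card H < Nat.card G → ∀ ψ : H ≃* H, Fpf ψ r →
    Group.IsNilpotent H

variable {r : ℕ} {φ : G ≃* G}

lemma nilpotent_sub (ih : ThHyp r G) (hf : Fpf φ r) (L : Subgroup G) (hL : AutInv φ L)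
    (hne : L ≠ ⊤) : Group.IsNilpotent ↥L := by
  have hcard : Nat.card ↥L < Nat.card G := by
    have := card_lt_card_of_lt (lt_top_iff_ne_top.mpr hne)
    rwa [Subgroup.card_top] at this
  exact ih ↥L hcard (resAut φ L hL) (hf.res hL)

lemma nilpotent_quot (ih : ThHyp r G) (hf : Fpf φ r) (N : Subgroup G) [N.Normal]
    (hN : AutInv φ N) (hne : N ≠ ⊥) : Group.IsNilpotent (G ⧸ N) :=
  ih _ (card_quotient_lt N hne) (quotAut φ N hN) (hf.quot hN)

lemma eq_one_of_pow_card_of_pgroups {p q : ℕ} [Fact p.Prime] [Fact q.Prime] (hpq : p ≠ q)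
    {P H : Subgroup G} (hP : IsPGroup p P) (hH : IsPGroup q H) {h : G} (hh : h ∈ H)
    (hpow : h ^ Nat.card ↥P = 1) : h = 1 := by
  obtain ⟨k, hk⟩ := IsPGroup.iff_card.mp hP
  obtain ⟨m, hm⟩ := hH ⟨h, hh⟩
  have hm' : h ^ (q ^ m) = 1 := by simpa using congrArg Subtype.val hm
  have h1 : orderOf h ∣ p ^ k := by rw [← hk]; exact orderOf_dvd_of_pow_eq_one hpow
  have h2 : orderOf h ∣ q ^ m := orderOf_dvd_of_pow_eq_one hm'
  have hcop : Nat.Coprime (p ^ k) (q ^ m) :=
    Nat.Coprime.pow k m ((Nat.coprime_primes Fact.out Fact.out).mpr hpq)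
  exact orderOf_eq_one_iff.mp (Nat.eq_one_of_dvd_coprimes hcop h1 h2)

lemma prod_pow_fixed {U : Type*} [CommGroup U] (ψ : MulAut U) (s : ℕ) (hψ : ψ ^ (s + 1) = 1)
    (u : U) : ψ (∏ i ∈ Finset.range (s + 1), (ψ ^ i) u) = ∏ i ∈ Finset.range (s + 1), (ψ ^ i) u := by
  rw [map_prod]
  have h1 : ∀ i, ψ ((ψ ^ i) u) = (ψ ^ (i + 1)) u := fun i => by
    rw [pow_succ', MulAut.mul_apply]
  simp_rw [h1]
  rw [Finset.prod_range_succ, hψ, MulAut.one_apply, Finset.prod_range_succ' (fun i => (ψ ^ i) u),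
    pow_zero, MulAut.one_apply]

/-- the key contradiction: `G = P H` with `H` an abelian normal `q`-group and `C_H(P) = 1` -/
theorem frobenius_contra (hr : r.Prime) (hf : Fpf φ r) {p q : ℕ} [Fact p.Prime] [Fact q.Prime]
    (hpq : p ≠ q) (P H : Subgroup G) [hHn : H.Normal] (hP : IsPGroup p P) (hH : IsPGroup q H)
    (hPinv : AutInv φ P) (hHinv : AutInv φ H)
    (hab : ∀ x ∈ H, ∀ y ∈ H, x * y = y * x)
    (hC : H ⊓ Subgroup.centralizer (P : Set G) = ⊥) : H = ⊥ := by
  classical
  haveI : IsMulCommutative ↥H := ⟨⟨fun a b => Subtype.ext (hab a a.2 b b.2)⟩⟩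
  haveI : Fintype ↥P := Fintype.ofFinite _
  obtain ⟨s, hs⟩ : ∃ s, r = s + 1 := Nat.exists_eq_succ_of_ne_zero hr.ne_zero
  have hfH : Fpf (resAut φ H hHinv) r := hf.res hHinv
  have hfP : Fpf (resAut φ P hPinv) r := hf.res hPinv
  have key := frob_partition (U := ↥H) (Z := ↥P)
    ((MulAut.conjNormal (H := H)).comp P.subtype) (resAut φ H hHinv) (resAut φ P hPinv) s
    (by
      intro z u
      apply Subtype.ext
      show φ ((z : G) * (u : G) * (z : G)⁻¹) = φ (z : G) * φ (u : G) * (φ (z : G))⁻¹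
      rw [map_mul, map_mul, map_inv])
    (by
      intro u
      open scoped IsMulCommutative in
      exact hfH.fix _ (prod_pow_fixed (resAut φ H hHinv) s (hs ▸ hfH.pow) u))
    (by
      intro u hu
      have h1 : (u : G) ∈ H ⊓ Subgroup.centralizer (P : Set G) := by
        refine Subgroup.mem_inf.mpr ⟨u.2, ?_⟩
        rw [Subgroup.mem_centralizer_iff]
        intro z hz
        have h2 := congrArg Subtype.val (hu ⟨z, hz⟩)
        have h3 : z * (u : G) * z⁻¹ = (u : G) := h2
        exact mul_inv_eq_iff_eq_mul.mp h3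
      rw [hC, Subgroup.mem_bot] at h1
      exact Subtype.ext h1)
    (by
      intro i hi
      exact hfP.bij hr (Nat.succ_pos i) (by omega))
  rw [eq_bot_iff]
  intro h hh
  have h1 := congrArg Subtype.val (key ⟨h, hh⟩)
  have h2 : h ^ Fintype.card ↥P = 1 := by simpa using h1
  rw [← Nat.card_eq_fintype_card] at h2
  exact Subgroup.mem_bot.mpr (eq_one_of_pow_card_of_pgroups hpq hP hH hh h2)

/-- a minimal invariant normal subgroup -/
theorem exists_min_inv_normal [Nontrivial G] (φ : G ≃* G) :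
    ∃ H : Subgroup G, H.Normal ∧ AutInv φ H ∧ H ≠ ⊥ ∧
      ∀ M : Subgroup G, M ≤ H → M.Normal → AutInv φ M → M = ⊥ ∨ M = H := by
  have hne : ({H : Subgroup G | H.Normal ∧ AutInv φ H ∧ H ≠ ⊥}).Nonempty :=
    ⟨⊤, inferInstance, autInv_top φ, top_ne_bot⟩
  obtain ⟨H, ⟨hHn, hHi, hH1⟩, hmin⟩ := Set.exists_min_image _
    (fun H : Subgroup G => Nat.card H) (Set.toFinite _) hne
  refine ⟨H, hHn, hHi, hH1, ?_⟩
  intro M hMH hMn hMi
  by_cases hM : M = ⊥
  · left; exact hM
  · right
    exact Subgroup.eq_of_le_of_card_ge hMH (hmin M ⟨hMn, hMi, hM⟩)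

/-- the solvable case of Thompson's theorem -/
theorem nilpotent_of_solvable (hr : r.Prime) (ih : ThHyp r G) (hf : Fpf φ r)
    (hsol : Group.IsSolvable G) : Group.IsNilpotent G := by
  rcases subsingleton_or_nontrivial G with hsub | hnt
  · infer_instance
  obtain ⟨H, hHn, hHi, hH1, hmin⟩ := exists_min_inv_normal φ
  haveI := hHn
  -- `H` is abelian
  have hab : ∀ x ∈ H, ∀ y ∈ H, x * y = y * x := by
    have hlt : ⁅H, H⁆ < H := Group.IsSolvable.commutator_lt_of_ne_bot hH1
    have hci : AutInv φ ⁅H, H⁆ := by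
      intro x hx
      have h1 : φ.toMonoidHom x ∈ (⁅H, H⁆).map φ.toMonoidHom := Subgroup.mem_map_of_mem _ hx
      rw [Subgroup.map_commutator, hHi.map_eq] at h1
      exact h1
    rcases hmin ⁅H, H⁆ hlt.le inferInstance hci with h1 | h1
    · intro x hx y hy
      have h2 : ⁅x, y⁆ ∈ ⁅H, H⁆ := Subgroup.commutator_mem_commutator hx hy
      rw [h1, Subgroup.mem_bot] at h2
      exact commutatorElement_eq_one_iff_mul_comm.mp h2
    · exact absurd h1 hlt.ne
  -- `H` is a `q`-group
  obtain ⟨q, hq, hHq⟩ : ∃ q : ℕ, q.Prime ∧ IsPGroup q ↥H := by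
    have hcard : Nat.card ↥H ≠ 1 := fun h => hH1 (Subgroup.card_eq_one.mp h)
    obtain ⟨q, hq, hqd⟩ := Nat.exists_prime_and_dvd hcard
    refine ⟨q, hq, ?_⟩
    haveI : Fact q.Prime := ⟨hq⟩
    let Ω : Subgroup G :=
      { carrier := {h | h ∈ H ∧ h ^ q = 1}
        mul_mem' := by
          rintro a b ⟨ha, ha'⟩ ⟨hb, hb'⟩
          refine ⟨H.mul_mem ha hb, ?_⟩
          rw [(show Commute a b from hab a ha b hb).mul_pow, ha', hb', one_mul]
        one_mem' := ⟨H.one_mem, one_pow _⟩
        inv_mem' := by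
          rintro a ⟨ha, ha'⟩
          exact ⟨H.inv_mem ha, by rw [inv_pow, ha', inv_one]⟩ }
    have hΩmem : ∀ x, x ∈ Ω ↔ x ∈ H ∧ x ^ q = 1 := fun x => Iff.rfl
    have hΩH : Ω ≤ H := fun x hx => hx.1
    have hΩn : Ω.Normal := by
      refine ⟨fun n hn g => ?_⟩
      rw [hΩmem] at hn ⊢
      refine ⟨hHn.conj_mem n hn.1 g, ?_⟩
      rw [conj_pow, hn.2]; group
    have hΩi : AutInv φ Ω := by
      intro x hx
      rw [hΩmem] at hx ⊢
      exact ⟨hHi x hx.1, by rw [← map_pow, hx.2, map_one]⟩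
    have hΩ1 : Ω ≠ ⊥ := by
      obtain ⟨x, hx⟩ := exists_prime_orderOf_dvd_card' (G := ↥H) q hqd
      intro hbot
      have hxΩ : (x : G) ∈ Ω := by
        rw [hΩmem]
        refine ⟨x.2, ?_⟩
        have h1 : x ^ q = 1 := by rw [← hx]; exact pow_orderOf_eq_one x
        have h2 := congrArg Subtype.val h1
        simpa using h2
      rw [hbot, Subgroup.mem_bot] at hxΩ
      have h3 : x = 1 := Subtype.ext hxΩ
      rw [h3, orderOf_one] at hx
      exact hq.one_lt.ne hx
    rcases hmin Ω hΩH hΩn hΩi with h1 | h1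
    · exact absurd h1 hΩ1
    · intro h
      refine ⟨1, ?_⟩
      have h2 : (h : G) ∈ Ω := by rw [h1]; exact h.2
      apply Subtype.ext
      rw [pow_one]
      simpa using h2.2
  haveI : Fact q.Prime := ⟨hq⟩
  have hGq : Group.IsNilpotent (G ⧸ H) := nilpotent_quot ih hf H hHi hH1
  -- all Sylow subgroups are normal
  apply ((Group.isNilpotent_of_finite_tfae (G := G)).out 0 3 rfl rfl).mpr
  intro p hp P'
  haveI := hp
  obtain ⟨P, hPi⟩ := hf.exists_sylow p
  suffices hPn : (P : Subgroup G).Normal by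
    obtain ⟨g, hg⟩ := MulAction.exists_smul_eq G P P'
    rw [← hg, Sylow.smul_eq_of_normal]
    exact hPn
  -- `P H` is normal
  have hLn : ((P : Subgroup G) ⊔ H).Normal := by
    haveI := hGq
    let Pb : Sylow p (G ⧸ H) := P.mapSurjective (QuotientGroup.mk'_surjective H)
    have hPb : (Pb : Subgroup (G ⧸ H)) = (P : Subgroup G).map (QuotientGroup.mk' H) := rfl
    have hPbn : (Pb : Subgroup (G ⧸ H)).Normal := inferInstance
    have h1 : ((Pb : Subgroup (G ⧸ H)).comap (QuotientGroup.mk' H)).Normal := hPbn.comap _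
    rw [hPb, Subgroup.comap_map_eq, QuotientGroup.ker_mk'] at h1
    exact h1
  by_cases hpq : p = q
  · subst hpq
    have hHP : H ≤ (P : Subgroup G) := hHq.le_sylow_of_normal P
    rw [sup_eq_left.mpr hHP] at hLn
    exact hLn
  by_cases hLtop : (P : Subgroup G) ⊔ H = ⊤
  · -- `C_H(P)`
    have hCn : (H ⊓ Subgroup.centralizer ((P : Subgroup G) : Set G)).Normal := by
      rw [← Subgroup.normalizer_eq_top_iff, eq_top_iff, ← hLtop]
      apply sup_le
      · refine le_trans ?_ (normalizer_inf_normalizer_le _ _)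
        apply le_inf
        · exact le_normalizer_of_normal hHn _
        · exact Subgroup.le_normalizer.trans (normalizer_le_normalizer_centralizer _)
      · refine le_trans ?_ (Subgroup.centralizer_le_normalizer _)
        intro h hh
        rw [Subgroup.mem_centralizer_iff]
        intro c hc
        exact hab c (Subgroup.mem_inf.mp hc).1 h hh
    have hCi : AutInv φ (H ⊓ Subgroup.centralizer ((P : Subgroup G) : Set G)) := by
      intro x hx
      obtain ⟨hxH, hxC⟩ := Subgroup.mem_inf.mp hx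
      refine Subgroup.mem_inf.mpr ⟨hHi x hxH, ?_⟩
      rw [Subgroup.mem_centralizer_iff] at hxC ⊢
      intro y hy
      have h1 := hxC (φ.symm y) (hPi.symm_mem hy)
      have h2 := congrArg φ h1
      rw [map_mul, map_mul, φ.apply_symm_apply] at h2
      exact h2
    rcases hmin _ inf_le_left hCn hCi with h1 | h1
    · exfalso
      exact hH1 (frobenius_contra hr hf hpq (P : Subgroup G) H P.isPGroup' hHq hPi hHi hab h1)
    · have hHC : H ≤ Subgroup.centralizer ((P : Subgroup G) : Set G) := by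
        rw [← h1]; exact inf_le_right
      rw [← Subgroup.normalizer_eq_top_iff, eq_top_iff, ← hLtop]
      exact sup_le Subgroup.le_normalizer (hHC.trans (Subgroup.centralizer_le_normalizer _))
  · -- `P H` is nilpotent
    have hLnil : Group.IsNilpotent ↥((P : Subgroup G) ⊔ H) :=
      nilpotent_sub ih hf _ (hPi.sup hHi) hLtop
    haveI := hLnil
    haveI := hLn
    have hPL : (P : Subgroup G) ≤ (P : Subgroup G) ⊔ H := le_sup_left
    have hP'n : ((P.subtype hPL : Sylow p ↥((P : Subgroup G) ⊔ H)) :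
        Subgroup ↥((P : Subgroup G) ⊔ H)).Normal := inferInstance
    have hfr := Sylow.normalizer_sup_eq_top (P.subtype hPL)
    rw [Sylow.coe_subtype] at hP'n hfr
    rw [Subgroup.subgroupOf_map_subtype, inf_eq_left.mpr hPL] at hfr
    have hLN : (P : Subgroup G) ⊔ H ≤ Subgroup.normalizer ((P : Subgroup G) : Set G) :=
      (Subgroup.normal_subgroupOf_iff_le_normalizer hPL).mp hP'n
    rw [sup_eq_left.mpr hLN] at hfr
    exact Subgroup.normalizer_eq_top_iff.mp hfr

/-- a minimal counterexample to Thompson's theorem is solvable -/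
theorem solvable_of_ih (ih : ThHyp r G) (hf : Fpf φ r) : Group.IsSolvable G := by
  by_cases h2 : IsPGroup 2 G
  · haveI : Fact (Nat.Prime 2) := ⟨Nat.prime_two⟩
    haveI := h2.isNilpotent
    infer_instance
  obtain ⟨q, hq, hqd, hq2⟩ : ∃ q : ℕ, q.Prime ∧ q ∣ Nat.card G ∧ q ≠ 2 := by
    by_contra hcon
    push Not at hcon
    apply h2
    have : Nat.card G = 2 ^ (Nat.card G).primeFactorsList.length :=
      Nat.eq_prime_pow_of_unique_prime_dvd Nat.card_pos.ne' (fun {d} hd hdvd => hcon d hd hdvd)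
    exact IsPGroup.of_card this
  haveI : Fact q.Prime := ⟨hq⟩
  obtain ⟨P, hPi⟩ := hf.exists_sylow q
  have hP1 : (P : Subgroup G) ≠ ⊥ := P.ne_bot_of_dvd_card hqd
  have hZ1 : zq 0 (P : Subgroup G) ≠ ⊥ := Cfsg.Agent.S0658.zq_ne_bot P.isPGroup' hP1
  have hZmap : (zq 0 (P : Subgroup G)).map φ.toMonoidHom = zq 0 (P : Subgroup G) := by
    rw [zq_map_equiv φ 0 (P : Subgroup G), hPi.map_eq]
  have hZi : AutInv φ (zq 0 (P : Subgroup G)) := by
    intro x hx
    have h1 : φ.toMonoidHom x ∈ (zq 0 (P : Subgroup G)).map φ.toMonoidHom :=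
      Subgroup.mem_map_of_mem _ hx
    rw [hZmap] at h1
    exact h1
  have hZp : IsPGroup q ↥(zq 0 (P : Subgroup G)) :=
    P.isPGroup'.to_le ((zq_le_jq 0 _).trans (jq_le 0 _))
  have hNi : AutInv φ (Subgroup.normalizer ((zq 0 (P : Subgroup G) : Subgroup G) : Set G)) := by
    intro x hx
    have h1 : φ.toMonoidHom x ∈ (Subgroup.normalizer
        ((zq 0 (P : Subgroup G) : Subgroup G) : Set G)).map φ.toMonoidHom :=
      Subgroup.mem_map_of_mem _ hx
    rw [Subgroup.map_equiv_normalizer_eq, hZmap] at h1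
    exact h1
  by_cases hNtop : Subgroup.normalizer ((zq 0 (P : Subgroup G) : Subgroup G) : Set G) = ⊤
  · haveI hZn : (zq 0 (P : Subgroup G)).Normal := Subgroup.normalizer_eq_top_iff.mp hNtop
    haveI : Group.IsNilpotent (G ⧸ zq 0 (P : Subgroup G)) := nilpotent_quot ih hf _ hZi hZ1
    haveI : Group.IsNilpotent ↥(zq 0 (P : Subgroup G)) := hZp.isNilpotent
    exact (Group.isSolvable_iff_subgroup_quotient (zq 0 (P : Subgroup G))).mpr
      ⟨inferInstance, inferInstance⟩
  · have hNnil := nilpotent_sub ih hf _ hNi hNtop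
    have hNnpc := npc_of_nilpotent hNnil q
    have hG := gt_main hq2 _ G rfl P hNnpc
    obtain ⟨K, hKn, hKc, hKq⟩ := exists_normal_hall_of_hasNormalPComplement q hG
    haveI := hKn
    have hmem := mem_iff_coprime_of_normal_hall q K hKc hKq
    have hKi : AutInv φ K := by
      intro x hx
      rw [hmem] at hx ⊢
      rw [MulEquiv.orderOf_eq]
      exact hx
    have hKtop : K ≠ ⊤ := by
      intro h
      rw [h, Subgroup.card_top] at hKc
      exact (Nat.Prime.coprime_iff_not_dvd hq).mp hKc.symm hqd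
    haveI : Group.IsNilpotent ↥K := nilpotent_sub ih hf K hKi hKtop
    haveI : Group.IsNilpotent (G ⧸ K) := hKq.isNilpotent
    exact (Group.isSolvable_iff_subgroup_quotient K).mpr ⟨inferInstance, inferInstance⟩

end thompson

/-- **Thompson**: a finite group with a fixed-point-free automorphism whose `r`-th power is
trivial, `r` prime, is nilpotent -/
theorem thompson_fpf {r : ℕ} (hr : r.Prime) :
    ∀ (n : ℕ) (G : Type u) [Group G] [Finite G], Nat.card G = n → ∀ φ : G ≃* G, Fpf φ r →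
      Group.IsNilpotent G := by
  intro n
  induction n using Nat.strong_induction_on with
  | _ n IH =>
  intro G _ _ hn φ hf
  have ih : ThHyp r G := by
    intro H _ _ hlt ψ hψ
    exact IH (Nat.card H) (hn ▸ hlt) H rfl ψ hψ
  exact nilpotent_of_solvable hr ih hf (solvable_of_ih ih hf)

end Cfsg.Agent.Lib.Helper3
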