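import Mathlib
import Cfsg.Agent.Lib.Helper3.Frattini
import Cfsg.Agent.Lib.Helper3.Conj
import Cfsg.Agent.Lib.Helper3.Transport
import Cfsg.Agent.Lib.Helper1.Fitting
import Cfsg.Agent.Lib.Helper4.SylowRel

set_option autoImplicit false
set_option linter.unusedSectionVars false
set_option linter.unusedVariables false
set_option linter.style.haveILetI false
open Cfsg

/-! The trace map for an action on a finite abelian group of order prime to the index of a subgroup,
and the weakly closed elements of the centre of a Sylow subgroup. -/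

namespace Cfsg.Agent.Lib.Helper3

section tracefactor

theorem trace_core {H B : Type*} [Group H] [Finite H] [CommGroup B] (φ : H →* MulAut B)
    (P : Subgroup H) :
    ∃ τ : B →* B, (∀ b : B, (∀ h : H, φ h b = b) → τ b = b ^ P.index) ∧
      (∀ b : B, (∀ u ∈ P, φ u b = b) → ∀ h : H, φ h (τ b) = τ b) := by
  classical
  haveI : Fintype (H ⧸ P) := Fintype.ofFinite _
  refine ⟨∏ c : H ⧸ P, (φ (Quotient.out c)).toMonoidHom, ?_, ?_⟩
  · intro b hb
    rw [MonoidHom.finsetProd_apply]
    have h1 : ∀ c ∈ (Finset.univ : Finset (H ⧸ P)), (φ (Quotient.out c)).toMonoidHom b = b :=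
      fun c _ => hb _
    rw [Finset.prod_congr rfl h1, Finset.prod_const, Finset.card_univ, Subgroup.index_eq_card,
      Nat.card_eq_fintype_card]
  · intro b hb h
    rw [MonoidHom.finsetProd_apply, map_prod]
    have key : ∀ g : H, φ g b = φ (Quotient.out (g : H ⧸ P)) b := by
      intro g
      obtain ⟨u, hu⟩ := QuotientGroup.mk_out_eq_mul P g
      rw [hu, map_mul, MulAut.mul_apply, hb u u.2]
    have h1 : ∀ c : H ⧸ P, c ∈ (Finset.univ : Finset (H ⧸ P)) →
        φ h ((φ (Quotient.out c)).toMonoidHom b) =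
          (φ (Quotient.out ((MulAction.toPerm h : Equiv.Perm (H ⧸ P)) c))).toMonoidHom b := by
      intro c _
      show φ h (φ (Quotient.out c) b) = φ (Quotient.out (h • c)) b
      rw [← MulAut.mul_apply, ← map_mul, key (h * Quotient.out c)]
      have h2 : ((h * Quotient.out c : H) : H ⧸ P) = h • c := by
        rw [← smul_eq_mul, ← MulAction.Quotient.smul_mk, QuotientGroup.out_eq']
      rw [h2]
    rw [Finset.prod_congr rfl h1]
    exact Equiv.prod_comp (MulAction.toPerm h : Equiv.Perm (H ⧸ P))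
      (fun c => (φ (Quotient.out c)).toMonoidHom b)

theorem trace_factor {H B : Type*} [Group H] [Finite H] [CommGroup B] [Finite B]
    (φ : H →* MulAut B) (P : Subgroup H) (hcop : (Nat.card B).Coprime P.index) :
    ∃ K : Subgroup B, (∀ k ∈ K, ∀ u ∈ P, φ u k = k) ∧
      (∀ k ∈ K, (∀ h : H, φ h k = k) → k = 1) ∧
      (∀ b : B, (∀ u ∈ P, φ u b = b) →
        ∃ w : B, (∀ h : H, φ h w = w) ∧ ∃ k ∈ K, b = w * k) := by
  obtain ⟨τ, hτ1, hτ2⟩ := trace_core φ P
  let FP : Subgroup B :=
    { carrier := {b | ∀ u ∈ P, φ u b = b}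
      mul_mem' := by
        intro a b ha hb u hu
        rw [map_mul, ha u hu, hb u hu]
      one_mem' := by
        intro u hu
        exact map_one _
      inv_mem' := by
        intro a ha u hu
        rw [map_inv, ha u hu] }
  let FH : Subgroup B :=
    { carrier := {b | ∀ h : H, φ h b = b}
      mul_mem' := by
        intro a b ha hb h
        rw [map_mul, ha h, hb h]
      one_mem' := by
        intro h
        exact map_one _
      inv_mem' := by
        intro a ha h
        rw [map_inv, ha h] }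
  refine ⟨τ.ker ⊓ FP, fun k hk => hk.2, ?_, ?_⟩
  · intro k hk hfix
    have h1 : τ k = 1 := hk.1
    rw [hτ1 k hfix] at h1
    apply (powCoprime hcop).injective
    rw [powCoprime_apply, powCoprime_apply, h1, one_pow]
  · intro b hb
    have ht : τ b ∈ FH := hτ2 b hb
    have hcop' : (Nat.card ↥FH).Coprime P.index :=
      Nat.Coprime.coprime_dvd_left (Subgroup.card_subgroup_dvd_card FH) hcop
    obtain ⟨w', hw'⟩ : ∃ w' : ↥FH, w' ^ P.index = ⟨τ b, ht⟩ :=
      ⟨(powCoprime hcop').symm ⟨τ b, ht⟩, by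
        rw [← powCoprime_apply hcop', Equiv.apply_symm_apply]⟩
    have hw : (w' : B) ^ P.index = τ b := by
      have := congrArg Subtype.val hw'
      simpa using this
    have hwfix : ∀ h : H, φ h (w' : B) = w' := w'.2
    refine ⟨w', hwfix, (w' : B)⁻¹ * b, ⟨?_, ?_⟩, ?_⟩
    · show τ ((w' : B)⁻¹ * b) = 1
      rw [map_mul, map_inv, hτ1 _ hwfix, hw, inv_mul_cancel]
    · intro u hu
      rw [map_mul, map_inv, hwfix u, hb u hu]
    · rw [mul_inv_cancel_left]

open Cfsg.Agent.Lib.Helper4 in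
theorem weakly_closed_factor {G Gb : Type*} [Group G] [Finite G] [Group Gb] [Finite Gb] {p : ℕ}
    [Fact p.Prime] (π : G →* Gb) (hπ : Function.Surjective π) (hker : (Nat.card π.ker).Coprime p)
    (S : Sylow p G)
    (hZ : ∀ z ∈ (S : Subgroup G) ⊓ Subgroup.centralizer ((S : Subgroup G) : Set G),
      π z ∈ Cfsg.pCore p Gb) :
    ∃ W K : Subgroup G, (∀ x : G, x ∈ W ↔ (x ∈ (S : Subgroup G) ∧
        ∀ g : G, g * x * g⁻¹ ∈ (S : Subgroup G) → g * x * g⁻¹ = x)) ∧
      K ≤ ((S : Subgroup G) ⊓ Subgroup.centralizer ((S : Subgroup G) : Set G)) ∧ W ⊓ K = ⊥ ∧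
      W ⊔ K = ((S : Subgroup G) ⊓ Subgroup.centralizer ((S : Subgroup G) : Set G)) := by
  classical
  have hp := (Fact.out : p.Prime)
  have hinj : ∀ x ∈ (S : Subgroup G), ∀ y ∈ (S : Subgroup G), π x = π y → x = y := by
    intro x hx y hy hxy
    have h1 : x * y⁻¹ ∈ π.ker := by
      rw [MonoidHom.mem_ker, map_mul, map_inv, hxy, mul_inv_cancel]
    have h2 := eq_one_of_mem_pgroup_of_mem_pprime S.2 hker
      ((S : Subgroup G).mul_mem hx ((S : Subgroup G).inv_mem hy)) h1
    exact mul_inv_eq_one.mp h2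
  have hSidx : ¬ p ∣ ((S : Subgroup G).map π).index :=
    fun h => S.not_dvd_index (h.trans (Subgroup.index_map_dvd _ hπ))
  obtain ⟨Sb, hSb⟩ : ∃ Sb : Sylow p Gb, (Sb : Subgroup Gb) = (S : Subgroup G).map π :=
    ⟨(S.2.map π).toSylow hSidx, rfl⟩
  obtain ⟨Q, hQ⟩ : ∃ Q : Subgroup Gb, Q = Cfsg.pCore p Gb := ⟨_, rfl⟩
  haveI hQn : Q.Normal := by rw [hQ]; exact pCore_normal' p
  have hQS : Q ≤ (S : Subgroup G).map π := by
    rw [hQ, ← hSb]; exact Cfsg.Agent.Lib.Helper1.pCore_le_sylow Sb
  have hQp : IsPGroup p Q := by rw [hQ]; exact Cfsg.Agent.Lib.Helper1.pCore_isPGroup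
  obtain ⟨A, hA⟩ : ∃ A : Subgroup Gb, A = Q ⊓ Subgroup.centralizer (Q : Set Gb) := ⟨_, rfl⟩
  haveI hAn : A.Normal := by rw [hA]; infer_instance
  have hAQ : A ≤ Q := by rw [hA]; exact inf_le_left
  have hAc : ∀ a ∈ A, ∀ b ∈ A, a * b = b * a := by
    intro a ha b hb
    rw [hA] at ha hb
    exact Subgroup.mem_centralizer_iff.mp hb.2 a ha.1
  have hAp : IsPGroup p A := hQp.to_le hAQ
  letI commA : CommGroup ↥A :=
    { (inferInstance : Group ↥A) with mul_comm := fun a b => Subtype.ext (hAc a a.2 b b.2) }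
  have hcop : (Nat.card ↥A).Coprime ((S : Subgroup G).map π).index := by
    obtain ⟨k, hk⟩ := hAp.exists_card_eq
    rw [hk]
    exact (hp.coprime_iff_not_dvd.mpr hSidx).pow_left k
  obtain ⟨K, hK1, hK2, hK3⟩ :=
    trace_factor (B := ↥A) (MulAut.conjNormal (H := A)) ((S : Subgroup G).map π) hcop
  -- central elements of S commute with the image of S
  have hZcomm : ∀ z ∈ (S : Subgroup G) ⊓ Subgroup.centralizer ((S : Subgroup G) : Set G),
      ∀ u ∈ (S : Subgroup G).map π, u * π z = π z * u := by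
    rintro z hz _ ⟨s, hs, rfl⟩
    rw [← map_mul, ← map_mul, Subgroup.mem_centralizer_iff.mp hz.2 s hs]
  -- an element of S whose image commutes with the image of S is central in S
  have hZof : ∀ k ∈ (S : Subgroup G), (∀ s ∈ (S : Subgroup G), π s * π k * (π s)⁻¹ = π k) →
      k ∈ (S : Subgroup G) ⊓ Subgroup.centralizer ((S : Subgroup G) : Set G) := by
    intro k hkS hk
    refine Subgroup.mem_inf.mpr ⟨hkS, ?_⟩
    rw [Subgroup.mem_centralizer_iff]
    intro s hs
    have h3 : s * k * s⁻¹ = k :=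
      hinj _ ((S : Subgroup G).mul_mem ((S : Subgroup G).mul_mem hs hkS)
        ((S : Subgroup G).inv_mem hs)) _ hkS (by rw [map_mul, map_mul, map_inv]; exact hk s hs)
    calc s * k = s * k * s⁻¹ * s := by group
      _ = k * s := by rw [h3]
  -- weakly closed elements are central in S
  have hwcZ : ∀ x ∈ (S : Subgroup G),
      (∀ g : G, g * x * g⁻¹ ∈ (S : Subgroup G) → g * x * g⁻¹ = x) →
      x ∈ (S : Subgroup G) ⊓ Subgroup.centralizer ((S : Subgroup G) : Set G) := by
    intro x hxS hwc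
    refine Subgroup.mem_inf.mpr ⟨hxS, ?_⟩
    rw [Subgroup.mem_centralizer_iff]
    intro s hs
    have h3 := hwc s ((S : Subgroup G).mul_mem ((S : Subgroup G).mul_mem hs hxS)
        ((S : Subgroup G).inv_mem hs))
    calc s * x = s * x * s⁻¹ * s := by group
      _ = x * s := by rw [h3]
  have hWchar : ∀ x : G, x ∈ (S : Subgroup G) ⊓ (Subgroup.center Gb).comap π ↔
      (x ∈ (S : Subgroup G) ∧ ∀ g : G, g * x * g⁻¹ ∈ (S : Subgroup G) → g * x * g⁻¹ = x) := by
    intro x
    constructor
    · rintro ⟨hxS, hxc⟩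
      have hxc' : π x ∈ Subgroup.center Gb := hxc
      refine ⟨hxS, fun g hg => ?_⟩
      apply hinj _ hg _ hxS
      rw [map_mul, map_mul, map_inv, Subgroup.mem_center_iff.mp hxc' (π g), mul_assoc,
        mul_inv_cancel, mul_one]
    · rintro ⟨hxS, hwc⟩
      have hxZ := hwcZ x hxS hwc
      have hxQ : π x ∈ Q := by rw [hQ]; exact hZ x hxZ
      refine ⟨hxS, ?_⟩
      show π x ∈ Subgroup.center Gb
      rw [Subgroup.mem_center_iff]
      intro gb
      obtain ⟨g, rfl⟩ := hπ gb
      have h1 : π (g * x * g⁻¹) ∈ (S : Subgroup G).map π := hQS (by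
        rw [map_mul, map_mul, map_inv]; exact hQn.conj_mem _ hxQ _)
      obtain ⟨s, hs, hsπ⟩ := h1
      have hy : g * x * g⁻¹ ∈ (S : Subgroup G) ⊔ π.ker := by
        have h2 : s⁻¹ * (g * x * g⁻¹) ∈ π.ker := by
          rw [MonoidHom.mem_ker, map_mul, map_inv, hsπ, inv_mul_cancel]
        have h3 : g * x * g⁻¹ = s * (s⁻¹ * (g * x * g⁻¹)) := by group
        rw [h3]; exact Subgroup.mul_mem_sup hs h2
      have hidx : ¬ p ∣ (S : Subgroup G).relIndex ((S : Subgroup G) ⊔ π.ker) := by
        intro h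
        apply S.not_dvd_index
        rw [← Subgroup.relIndex_mul_index (le_sup_left : (S : Subgroup G) ≤ _)]
        exact Dvd.dvd.mul_right h _
      have hYp : IsPGroup p (Subgroup.zpowers (g * x * g⁻¹)) := by
        have h4 : Subgroup.zpowers (g * x * g⁻¹) =
            (Subgroup.zpowers x).map (MulAut.conj g).toMonoidHom := by
          rw [MonoidHom.map_zpowers]; rfl
        rw [h4]
        exact (S.2.to_le (Subgroup.zpowers_le.mpr hxS)).map _
      obtain ⟨n, hn, hnq⟩ := exists_conj_le_of_relIndex p _ (S : Subgroup G) _ S.2 hidx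
        (Subgroup.zpowers_le.mpr hy) hYp
      have h4 := hnq _ (Subgroup.mem_zpowers _)
      have h5 : n * g * x * (n * g)⁻¹ = x := hwc (n * g) (by
        have e : n * g * x * (n * g)⁻¹ = n * (g * x * g⁻¹) * n⁻¹ := by group
        rw [e]; exact h4)
      have hπn : π n * π x = π x * π n := by
        have h6 : π n ∈ (S : Subgroup G).map π := by
          have h7 := Subgroup.mem_map_of_mem π hn
          rw [Subgroup.map_sup, (Subgroup.map_eq_bot_iff _).mpr (le_refl π.ker), sup_bot_eq] at h7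
          exact h7
        exact hZcomm x hxZ _ h6
      have h6 : π (n * g * x * (n * g)⁻¹) = π x := congrArg π h5
      rw [map_mul, map_mul, map_inv, map_mul] at h6
      calc π g * π x = (π n)⁻¹ * (π n * π g * π x * (π n * π g)⁻¹) * π n * π g := by group
        _ = (π n)⁻¹ * π x * π n * π g := by rw [h6]
        _ = (π n)⁻¹ * (π x * π n) * π g := by group
        _ = (π n)⁻¹ * (π n * π x) * π g := by rw [hπn]
        _ = π x * π g := by group
  have hKZ : (S : Subgroup G) ⊓ (K.map A.subtype).comap π ≤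
      (S : Subgroup G) ⊓ Subgroup.centralizer ((S : Subgroup G) : Set G) := by
    rintro k ⟨hkS, hkK⟩
    obtain ⟨a, haK, hak⟩ : ∃ a ∈ K, A.subtype a = π k := hkK
    have hak' : (a : Gb) = π k := hak
    apply hZof k hkS
    intro s hs
    have h1 := hK1 a haK (π s) (Subgroup.mem_map_of_mem π hs)
    have h2 := congrArg Subtype.val h1
    rw [MulAut.conjNormal_apply, hak'] at h2
    exact h2
  have hWZ : (S : Subgroup G) ⊓ (Subgroup.center Gb).comap π ≤
      (S : Subgroup G) ⊓ Subgroup.centralizer ((S : Subgroup G) : Set G) := by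
    intro x hx
    obtain ⟨hxS, hwc⟩ := (hWchar x).mp hx
    exact hwcZ x hxS hwc
  refine ⟨(S : Subgroup G) ⊓ (Subgroup.center Gb).comap π,
    (S : Subgroup G) ⊓ (K.map A.subtype).comap π, hWchar, hKZ, ?_, ?_⟩
  · rw [eq_bot_iff]
    rintro x ⟨⟨hxS, hxc⟩, ⟨-, hxK⟩⟩
    have hxc' : π x ∈ Subgroup.center Gb := hxc
    obtain ⟨a, haK, hak⟩ : ∃ a ∈ K, A.subtype a = π x := hxK
    have hak' : (a : Gb) = π x := hak
    have h1 : a = 1 := by
      apply hK2 a haK
      intro h
      apply Subtype.ext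
      rw [MulAut.conjNormal_apply, hak', Subgroup.mem_center_iff.mp hxc' h, mul_assoc,
        mul_inv_cancel, mul_one]
    have h2 : π x = 1 := by rw [← hak', h1]; rfl
    rw [Subgroup.mem_bot]
    exact hinj x hxS 1 (Subgroup.one_mem _) (by rw [h2, map_one])
  · apply le_antisymm (sup_le hWZ hKZ)
    intro z hz
    have hzQ : π z ∈ Q := by rw [hQ]; exact hZ z hz
    have hzA : π z ∈ A := by
      rw [hA]
      refine Subgroup.mem_inf.mpr ⟨hzQ, ?_⟩
      rw [Subgroup.mem_centralizer_iff]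
      intro q hq
      exact hZcomm z hz q (hQS hq)
    have hfix : ∀ u ∈ (S : Subgroup G).map π,
        (MulAut.conjNormal (H := A) u) (⟨π z, hzA⟩ : ↥A) = ⟨π z, hzA⟩ := by
      intro u hu
      apply Subtype.ext
      rw [MulAut.conjNormal_apply]
      show u * π z * u⁻¹ = π z
      rw [hZcomm z hz u hu, mul_assoc, mul_inv_cancel, mul_one]
    obtain ⟨w, hwfix, k, hkK, hbwk⟩ := hK3 ⟨π z, hzA⟩ hfix
    have hwc : (w : Gb) ∈ Subgroup.center Gb := by
      rw [Subgroup.mem_center_iff]
      intro h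
      have h1 := congrArg Subtype.val (hwfix h)
      rw [MulAut.conjNormal_apply] at h1
      calc h * (w : Gb) = h * (w : Gb) * h⁻¹ * h := by group
        _ = (w : Gb) * h := by rw [h1]
    obtain ⟨sw, hsw, hswπ⟩ := hQS (hAQ w.2)
    obtain ⟨sk, hsk, hskπ⟩ := hQS (hAQ k.2)
    have hswW : sw ∈ (S : Subgroup G) ⊓ (Subgroup.center Gb).comap π := by
      refine ⟨hsw, ?_⟩
      show π sw ∈ Subgroup.center Gb
      rw [hswπ]; exact hwc
    have hskK : sk ∈ (S : Subgroup G) ⊓ (K.map A.subtype).comap π := by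
      refine ⟨hsk, ?_⟩
      show π sk ∈ K.map A.subtype
      exact ⟨k, hkK, hskπ.symm⟩
    have h1 : π z = (w : Gb) * (k : Gb) := by
      have := congrArg Subtype.val hbwk
      exact this
    have h2 : z = sw * sk := by
      apply hinj z hz.1 _ ((S : Subgroup G).mul_mem hsw hsk)
      rw [map_mul, hswπ, hskπ, h1]
    rw [h2]
    exact Subgroup.mul_mem_sup hswW hskK

end tracefactor

end Cfsg.Agent.Lib.Helper3
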