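import Mathlib
import Cfsg.Prelude.Def_ConjugacyFunctors
import Cfsg.Agent.Lib.Helper3.FunctorNPC
import Cfsg.Agent.Lib.Helper3.S4Section
import Cfsg.Agent.Lib.Helper3.Frattini
import Cfsg.Agent.Lib.Helper3.Conj
import Cfsg.Agent.Lib.Helper3.SecFusion1

set_option autoImplicit false
set_option linter.unusedSectionVars false
set_option linter.unusedVariables false
set_option linter.style.haveILetI false
open scoped commutatorElement
open Cfsg Cfsg.Agent.Lib.Helper1 Cfsg.Agent.Lib.Helper4

/-! Control of transfer in every section and a nilpotent automizer of the Sylow subgroup give a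
normal subgroup of index `p`. -/

namespace Cfsg.Agent.Lib.Helper3

universe u

section transferidx
variable {p : ℕ} [Fact p.Prime]

/-- a normal subgroup of `p`-power index `> 1` gives one of index `p` -/
lemma exists_normal_index_p_of_index_pow {X : Type*} [Group X] [Finite X] (N : Subgroup X)
    [N.Normal] {k : ℕ} (hk : k ≠ 0) (h : N.index = p ^ k) :
    ∃ M : Subgroup X, M.Normal ∧ M.index = p := by
  have hp := (Fact.out : p.Prime)
  have hcard : Nat.card (X ⧸ N) = p ^ k := by rw [← Subgroup.index_eq_card]; exact h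
  obtain ⟨K, hK⟩ := Sylow.exists_subgroup_card_pow_prime (G := X ⧸ N) p (n := k - 1)
    (by rw [hcard]; exact pow_dvd_pow p (Nat.sub_le k 1))
  have hidx : K.index = p := by
    have h1 := Subgroup.card_mul_index K
    rw [hK, hcard] at h1
    have h2 : p ^ k = p ^ (k - 1) * p := by
      rw [← pow_succ]; congr 1; omega
    rw [h2] at h1
    exact Nat.eq_of_mul_eq_mul_left (pow_pos hp.pos _) h1
  have hKn : K.Normal := by
    apply Subgroup.normal_of_index_eq_minFac_card
    rw [hidx, hcard, hp.pow_minFac hk]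
  refine ⟨K.comap (QuotientGroup.mk' N), hKn.comap _, ?_⟩
  rw [Subgroup.index_comap_of_surjective _ (QuotientGroup.mk'_surjective N), hidx]

/-- a Sylow subgroup not inside the derived subgroup gives a normal subgroup of index `p` -/
lemma exists_normal_index_p_of_not_le_commutator {X : Type*} [Group X] [Finite X] (T : Sylow p X)
    (h : ¬ (T : Subgroup X) ≤ commutator X) : ∃ M : Subgroup X, M.Normal ∧ M.index = p := by
  have hp := (Fact.out : p.Prime)
  obtain ⟨t, htT, htc⟩ := SetLike.not_le_iff_exists.mp h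
  obtain ⟨m, hm⟩ : ∃ m, m = (T : Subgroup X).index := ⟨_, rfl⟩
  have hmp : Nat.Coprime p m := by rw [hm]; exact hp.coprime_iff_not_dvd.mpr T.not_dvd_index
  obtain ⟨k, hk⟩ := T.2.exists_card_eq
  have hmk : m * p ^ k = Nat.card X := by
    rw [hm, ← hk, mul_comm]; exact Subgroup.card_mul_index _
  obtain ⟨g, hg⟩ : ∃ g : X →* Abelianization X, g = (powMonoidHom m).comp Abelianization.of :=
    ⟨_, rfl⟩
  have hgx : ∀ x, g x = (Abelianization.of x) ^ m := by
    intro x; rw [hg]; rfl
  have hgt : g t ≠ 1 := by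
    intro h1
    rw [hgx] at h1
    have h3 : orderOf (Abelianization.of t) ∣ m := orderOf_dvd_of_pow_eq_one h1
    have h4 : orderOf (Abelianization.of t) ∣ orderOf t := orderOf_map_dvd _ t
    have h5 : orderOf t ∣ p ^ k := by
      rw [← hk]; exact Subgroup.orderOf_dvd_natCard _ htT
    have h6 : Nat.Coprime (orderOf (Abelianization.of t)) m :=
      Nat.Coprime.coprime_dvd_left (h4.trans h5) (hmp.pow_left k)
    have h7 := h6.eq_one_of_dvd h3
    rw [orderOf_eq_one_iff] at h7
    apply htc
    rw [← Abelianization.ker_of, MonoidHom.mem_ker]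
    exact h7
  have hpg : IsPGroup p g.range := by
    rintro ⟨_, x, rfl⟩
    refine ⟨k, Subtype.ext ?_⟩
    show (g x) ^ (p ^ k) = 1
    rw [hgx, ← pow_mul, hmk, ← map_pow, pow_card_eq_one', map_one]
  obtain ⟨k', hk'⟩ := hpg.exists_card_eq
  have hk'0 : k' ≠ 0 := by
    rintro rfl
    rw [pow_zero] at hk'
    have hb := Subgroup.eq_bot_of_card_eq _ hk'
    have : g t ∈ g.range := ⟨t, rfl⟩
    rw [hb, Subgroup.mem_bot] at this
    exact hgt this
  exact exists_normal_index_p_of_index_pow g.ker hk'0 ((Subgroup.index_ker g).trans hk')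

/-- lifting an element of order prime to `p` to an element of order prime to `p` -/
lemma exists_pprime_lift {X Y : Type*} [Group X] [Finite X] [Group Y] (π : X →* Y) (g : X)
    (h : (orderOf (π g)).Coprime p) :
    ∃ g' ∈ Subgroup.zpowers g, π g' = π g ∧ (orderOf g').Coprime p := by
  have hp := (Fact.out : p.Prime)
  obtain ⟨a, m, hm, ho⟩ := Nat.exists_eq_pow_mul_and_not_dvd (orderOf_pos g).ne' p hp.ne_one
  have hcop : Nat.Coprime (p ^ a) m := (hp.coprime_iff_not_dvd.mpr hm).pow_left a
  obtain ⟨k, hk0, hk1⟩ := Nat.chineseRemainder hcop 0 1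
  have hpk : p ^ a ∣ k := Nat.modEq_zero_iff_dvd.mp hk0
  refine ⟨g ^ k, Subgroup.npow_mem_zpowers g k, ?_, ?_⟩
  · rw [map_pow]
    have h1 : orderOf (π g) ∣ m := by
      have h2 : orderOf (π g) ∣ p ^ a * m := by rw [← ho]; exact orderOf_map_dvd π g
      exact (Nat.Coprime.pow_right a h).dvd_of_dvd_mul_left h2
    have h3 : k ≡ 1 [MOD orderOf (π g)] := hk1.of_dvd h1
    have h4 := pow_eq_pow_iff_modEq.mpr h3
    rw [pow_one] at h4
    exact h4
  · have h1 : orderOf (g ^ k) ∣ m := by
      apply orderOf_dvd_of_pow_eq_one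
      rw [← pow_mul]
      apply orderOf_dvd_iff_pow_eq_one.mp
      rw [ho]
      exact Nat.mul_dvd_mul_right hpk m
    exact Nat.Coprime.coprime_dvd_left h1 (hp.coprime_iff_not_dvd.mpr hm).symm

/-- elements of order prime to `p` normalizing `T` centralize `T` -/
def NilAutAt (p : ℕ) {X : Type*} [Group X] (T : Subgroup X) : Prop :=
  ∀ g ∈ Subgroup.normalizer (T : Set X), (orderOf g).Coprime p →
    g ∈ Subgroup.centralizer (T : Set X)

lemma nilAutAt_conj {X : Type*} [Group X] {T : Subgroup X} (h : NilAutAt p T) (c : X) :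
    NilAutAt p (T.map (MulAut.conj c).toMonoidHom) := by
  intro g hg hcop
  have h1 : c⁻¹ * g * c ∈ Subgroup.normalizer (T : Set X) := by
    rw [Subgroup.mem_normalizer_iff] at hg ⊢
    intro t
    have h2 := hg (c * t * c⁻¹)
    rw [mem_map_conj, mem_map_conj] at h2
    have e1 : c⁻¹ * (c * t * c⁻¹) * c = t := by group
    have e2 : c⁻¹ * (g * (c * t * c⁻¹) * g⁻¹) * c = c⁻¹ * g * c * t * (c⁻¹ * g * c)⁻¹ := by group
    rw [e1, e2] at h2
    exact h2
  have h2 : orderOf (c⁻¹ * g * c) = orderOf g := by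
    have := (MulAut.conj c⁻¹).orderOf_eq g
    simpa [MulAut.conj_apply] using this
  have h3 := h _ h1 (by rw [h2]; exact hcop)
  rw [Subgroup.mem_centralizer_iff]
  intro y hy
  have hy' : c⁻¹ * y * c ∈ T := mem_map_conj.mp hy
  have h4 := Subgroup.mem_centralizer_iff.mp h3 _ hy'
  calc y * g = c * ((c⁻¹ * y * c) * (c⁻¹ * g * c)) * c⁻¹ := by group
    _ = c * ((c⁻¹ * g * c) * (c⁻¹ * y * c)) * c⁻¹ := by rw [h4]
    _ = g * y := by group

variable {W : ∀ (Q : Type u) [Group Q], Subgroup Q}

/-- control of transfer is invariant under isomorphism -/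
theorem trIn_of_equiv (hW : Cfsg.IsCharPFunctor.{u} p W) {X Y : Type u} [Group X] [Finite X]
    [Group Y] [Finite Y] (e : X ≃* Y)
    (h : Cfsg.ControlsTransferIn p (Cfsg.inducedFunctor (G := X) W) ⊤) :
    Cfsg.ControlsTransferIn p (Cfsg.inducedFunctor (G := Y) W) ⊤ := by
  obtain ⟨T, -, hTp, hTidx, heq⟩ := h
  refine ⟨T.map e.toMonoidHom, le_top, hTp.map _, ?_, ?_⟩
  · rw [Subgroup.relIndex_top_right] at hTidx ⊢
    have : (T.map e.toMonoidHom).index = T.index := Subgroup.index_map_equiv T e
    rw [this]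
    exact hTidx
  · have hinj : Function.Injective e.toMonoidHom := e.injective
    have hWm : Cfsg.inducedFunctor W (T.map e.toMonoidHom) =
        (Cfsg.inducedFunctor W T).map e.toMonoidHom :=
      wf_map_injOn hW e.toMonoidHom hTp (fun x _ hx => by
        have : e x = e 1 := by rw [map_one]; exact hx
        exact e.injective this)
    rw [hWm, ← Subgroup.map_equiv_normalizer_eq]
    simp only [top_inf_eq] at heq ⊢
    have htop : (⊤ : Subgroup Y) = (⊤ : Subgroup X).map e.toMonoidHom := by
      rw [← MonoidHom.range_eq_map]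
      exact (MonoidHom.range_eq_top.mpr e.surjective).symm
    have hL : T.map e.toMonoidHom ⊓ ⁅(⊤ : Subgroup Y), ⊤⁆ =
        (T ⊓ ⁅(⊤ : Subgroup X), ⊤⁆).map e.toMonoidHom := by
      rw [Subgroup.map_inf _ _ _ hinj, Subgroup.map_commutator, ← htop]
    rw [hL, heq, Subgroup.map_inf _ _ _ hinj, Subgroup.map_commutator]

/-- the hypothesis: `W` controls transfer in every section -/
def TrHyp (p : ℕ) (W : ∀ (Q : Type u) [Group Q], Subgroup Q) (X : Type u) [Group X] : Prop :=
  ∀ (Y : Type u) [Group Y] [Finite Y], Cfsg.Involves Y X →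
    Cfsg.ControlsTransferIn p (Cfsg.inducedFunctor (G := Y) W) ⊤

theorem tr_main (hW : Cfsg.IsCharPFunctor.{u} p W) : ∀ (n : ℕ) (X : Type u) [Group X] [Finite X],
    Nat.card X = n → TrHyp p W X → ∀ S : Sylow p X, (S : Subgroup X) ≠ ⊥ →
    NilAutAt p (S : Subgroup X) → ∃ N : Subgroup X, N.Normal ∧ N.index = p := by
  intro n
  induction n using Nat.strong_induction_on with
  | _ n ih =>
  intro X _ _ hn hyp S hS hN
  have hp := (Fact.out : p.Prime)
  obtain ⟨T₀, -, hT₀p, hT₀idx, heq⟩ := hyp X involves_self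
  rw [Subgroup.relIndex_top_right] at hT₀idx
  obtain ⟨T, hT⟩ : ∃ T : Sylow p X, (T : Subgroup X) = T₀ := ⟨hT₀p.toSylow hT₀idx, rfl⟩
  subst hT
  obtain ⟨c, hc⟩ := MulAction.exists_smul_eq X S T
  have hNT : NilAutAt p (T : Subgroup X) := by
    rw [← hc, sylow_smul_coe]; exact nilAutAt_conj hN c
  have hTne : (T : Subgroup X) ≠ ⊥ := by
    intro h
    apply hS
    have h1 : Nat.card (S : Subgroup X) = Nat.card (T : Subgroup X) := by
      rw [Sylow.card_eq_multiplicity, Sylow.card_eq_multiplicity]
    rw [h, Subgroup.card_bot] at h1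
    exact Subgroup.eq_bot_of_card_eq _ h1
  simp only [top_inf_eq] at heq
  obtain ⟨V, hV⟩ : ∃ V : Subgroup X, V = Cfsg.inducedFunctor W (T : Subgroup X) := ⟨_, rfl⟩
  rw [← hV] at heq
  obtain ⟨L, hL⟩ : ∃ L : Subgroup X, L = Subgroup.normalizer (V : Set X) := ⟨_, rfl⟩
  rw [← hL] at heq
  have hVT : V ≤ T := by rw [hV]; exact wf_le _
  have hVne : V ≠ ⊥ := by rw [hV]; exact wf_ne_bot hW T.2 hTne
  have hTL : (T : Subgroup X) ≤ L := by
    rw [hL, hV]; exact Subgroup.le_normalizer.trans (normalizer_le_normalizer_wf hW T.2)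
  by_cases hLtop : L = ⊤
  · haveI hVn : V.Normal := by
      rw [← Subgroup.normalizer_eq_top_iff, ← hL]; exact hLtop
    by_cases hTV : (T : Subgroup X) ≤ V
    · have hTVeq : (T : Subgroup X) = V := le_antisymm hTV hVT
      haveI hTn : (T : Subgroup X).Normal := by rw [hTVeq]; exact hVn
      have hcop : (Nat.card (T : Subgroup X)).Coprime (T : Subgroup X).index := by
        obtain ⟨k, hk⟩ := T.2.exists_card_eq
        rw [hk]
        exact (hp.coprime_iff_not_dvd.mpr T.not_dvd_index).pow_left k
      obtain ⟨K, hK⟩ := Subgroup.exists_right_complement'_of_coprime hcop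
      have hKc : K ≤ Subgroup.centralizer ((T : Subgroup X) : Set X) := by
        intro x hx
        apply hNT x (by rw [Subgroup.normalizer_eq_top_iff.mpr hTn]; exact Subgroup.mem_top _)
        have h1 : orderOf x ∣ Nat.card K := Subgroup.orderOf_dvd_natCard K hx
        have h2 : Nat.card K = (T : Subgroup X).index := (hK.symm.index_eq_card).symm
        rw [h2] at h1
        exact Nat.Coprime.coprime_dvd_left h1 ((hp.coprime_iff_not_dvd.mpr T.not_dvd_index).symm)
      haveI hKn : K.Normal := by
        rw [← Subgroup.normalizer_eq_top_iff, eq_top_iff, ← hK.sup_eq_top]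
        apply sup_le
        · intro t ht
          apply mem_normalizer_of_map_conj_le
          intro x hx
          have hx' : t⁻¹ * x * t ∈ K := mem_map_conj.mp hx
          have h1 := Subgroup.mem_centralizer_iff.mp (hKc hx') t ht
          have h2 : x = t⁻¹ * x * t := by
            calc x = t * (t⁻¹ * x * t) * t⁻¹ := by group
              _ = (t⁻¹ * x * t) * t * t⁻¹ := by rw [h1]
              _ = t⁻¹ * x * t := by group
          rw [h2]; exact hx'
        · exact Subgroup.le_normalizer
      have hidx : K.index = Nat.card (T : Subgroup X) := hK.index_eq_card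
      obtain ⟨k, hk⟩ := T.2.exists_card_eq
      have hk0 : k ≠ 0 := by
        rintro rfl
        rw [pow_zero] at hk
        exact hTne (Subgroup.eq_bot_of_card_eq _ hk)
      exact exists_normal_index_p_of_index_pow K hk0 (hidx.trans hk)
    · have hlt : Nat.card (X ⧸ V) < n := by rw [← hn]; exact card_quotient_lt V hVne
      obtain ⟨π, hπ⟩ : ∃ π : X →* X ⧸ V, π = QuotientGroup.mk' V := ⟨_, rfl⟩
      have hπs : Function.Surjective π := by rw [hπ]; exact QuotientGroup.mk'_surjective V
      have hker : π.ker = V := by rw [hπ]; exact QuotientGroup.ker_mk' V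
      have hTbp : IsPGroup p ((T : Subgroup X).map π) := T.2.map π
      have hTbidx : ¬ p ∣ ((T : Subgroup X).map π).index :=
        fun h => T.not_dvd_index (h.trans (Subgroup.index_map_dvd _ hπs))
      obtain ⟨Tb, hTb⟩ : ∃ Tb : Sylow p (X ⧸ V), (Tb : Subgroup (X ⧸ V)) = (T : Subgroup X).map π :=
        ⟨hTbp.toSylow hTbidx, rfl⟩
      have hTbne : (Tb : Subgroup (X ⧸ V)) ≠ ⊥ := by
        rw [hTb]; intro h
        rw [Subgroup.map_eq_bot_iff, hker] at h
        exact hTV h
      have hNTb : NilAutAt p (Tb : Subgroup (X ⧸ V)) := by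
        rw [hTb]
        intro gb hgb hcop
        obtain ⟨g, rfl⟩ := hπs gb
        obtain ⟨g', hg'z, hg'π, hg'cop⟩ := exists_pprime_lift (p := p) π g hcop
        have hg'N : g' ∈ Subgroup.normalizer ((T : Subgroup X) : Set X) := by
          apply mem_normalizer_of_map_conj_le
          intro x hx
          have hx' : g'⁻¹ * x * g' ∈ (T : Subgroup X) := mem_map_conj.mp hx
          have h1 : π (g'⁻¹ * x * g') ∈ (T : Subgroup X).map π := Subgroup.mem_map_of_mem π hx'
          have h2 := (Subgroup.mem_normalizer_iff.mp hgb _).mp h1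
          rw [← hg'π, ← map_mul, ← map_inv, ← map_mul] at h2
          have h3 : g' * (g'⁻¹ * x * g') * g'⁻¹ = x := by group
          rw [h3] at h2
          obtain ⟨t, ht, htx⟩ := h2
          have h4 : t⁻¹ * x ∈ V := by
            rw [← hker, MonoidHom.mem_ker, map_mul, map_inv, htx, inv_mul_cancel]
          have h5 : x = t * (t⁻¹ * x) := by group
          rw [h5]; exact Subgroup.mul_mem _ ht (hVT h4)
        have hg'C := hNT g' hg'N hg'cop
        rw [← hg'π, Subgroup.mem_centralizer_iff]
        rintro _ ⟨t, ht, rfl⟩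
        have := Subgroup.mem_centralizer_iff.mp hg'C t ht
        rw [← map_mul, ← map_mul, this]
      have hyp' : TrHyp p W (X ⧸ V) :=
        fun Y _ _ hY => hyp Y (involves_trans hY (involves_quotient involves_self V))
      obtain ⟨Nb, hNbn, hNbidx⟩ := ih _ hlt (X ⧸ V) rfl hyp' Tb hTbne hNTb
      refine ⟨Nb.comap π, hNbn.comap π, ?_⟩
      rw [Subgroup.index_comap_of_surjective _ hπs]; exact hNbidx
  · have hlt : Nat.card ↥L < n := by
      rw [← hn]
      exact lt_of_le_of_ne (Subgroup.card_le_card_group L)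
        (fun h => hLtop ((Subgroup.card_eq_iff_eq_top L).mp h))
    have hTLp : IsPGroup p ((T : Subgroup X).subgroupOf L) := T.2.comap_subtype
    have hTLidx : ¬ p ∣ ((T : Subgroup X).subgroupOf L).index := by
      intro h
      apply T.not_dvd_index
      rw [← Subgroup.relIndex_mul_index hTL]
      exact Dvd.dvd.mul_right h _
    obtain ⟨TL, hTLe⟩ : ∃ TL : Sylow p ↥L, (TL : Subgroup ↥L) = (T : Subgroup X).subgroupOf L :=
      ⟨hTLp.toSylow hTLidx, rfl⟩
    have hTLne : (TL : Subgroup ↥L) ≠ ⊥ := by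
      rw [hTLe]; intro h
      rw [Subgroup.subgroupOf_eq_bot, disjoint_iff, inf_eq_left.mpr hTL] at h
      exact hTne h
    have hNTL : NilAutAt p (TL : Subgroup ↥L) := by
      rw [hTLe]
      intro g hg hcop
      have hgN : (g : X) ∈ Subgroup.normalizer ((T : Subgroup X) : Set X) := by
        apply mem_normalizer_of_map_conj_le
        intro x hx
        have hx' : (g : X)⁻¹ * x * g ∈ (T : Subgroup X) := mem_map_conj.mp hx
        have hxL : (g : X)⁻¹ * x * g ∈ L := hTL hx'
        have h1 : (⟨(g : X)⁻¹ * x * g, hxL⟩ : ↥L) ∈ (T : Subgroup X).subgroupOf L :=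
          Subgroup.mem_subgroupOf.mpr hx'
        have h2 := (Subgroup.mem_normalizer_iff.mp hg _).mp h1
        rw [Subgroup.mem_subgroupOf] at h2
        have h3 : ((g * ⟨(g : X)⁻¹ * x * g, hxL⟩ * g⁻¹ : ↥L) : X) = x := by
          push_cast
          group
        rw [h3] at h2; exact h2
      have hgC := hNT (g : X) hgN (by rw [Subgroup.orderOf_coe]; exact hcop)
      rw [Subgroup.mem_centralizer_iff]
      intro y hy
      have := Subgroup.mem_centralizer_iff.mp hgC (y : X) (Subgroup.mem_subgroupOf.mp hy)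
      exact Subtype.ext (by push_cast; exact this)
    have hyp' : TrHyp p W ↥L :=
      fun Y _ _ hY => hyp Y (involves_trans hY (involves_subgroup involves_self L))
    obtain ⟨N₀, hN₀n, hN₀idx⟩ := ih _ hlt ↥L rfl hyp' TL hTLne hNTL
    apply exists_normal_index_p_of_not_le_commutator T
    intro hTc
    rw [commutator_def] at hTc
    have h1 : (T : Subgroup X) ≤ ⁅L, L⁆ := by
      have : (T : Subgroup X) ⊓ ⁅(⊤ : Subgroup X), ⊤⁆ = T := inf_eq_left.mpr hTc
      rw [heq] at this
      exact inf_eq_left.mp this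
    have h2 : ⁅L, L⁆ = (commutator ↥L).map L.subtype := by
      rw [commutator_def, Subgroup.map_commutator, ← MonoidHom.range_eq_map, Subgroup.range_subtype]
    have h3 : commutator ↥L ≤ N₀ := by
      haveI := hN₀n
      rw [← Subgroup.Normal.quotient_commutative_iff_commutator_le]
      have hc : Nat.card (↥L ⧸ N₀) = p := by rw [← Subgroup.index_eq_card]; exact hN₀idx
      haveI := isCyclic_of_prime_card hc
      exact IsCyclic.isMulCommutative
    have h4 : (T : Subgroup X).subgroupOf L ≤ N₀ := by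
      intro y hy
      have hy' : (y : X) ∈ ⁅L, L⁆ := h1 (Subgroup.mem_subgroupOf.mp hy)
      rw [h2] at hy'
      obtain ⟨z, hz, hzy⟩ := hy'
      have : z = y := Subtype.ext hzy
      rw [← this]; exact h3 hz
    have h5 := Subgroup.index_dvd_of_le h4
    rw [hN₀idx] at h5
    exact hTLidx h5

end transferidx

end Cfsg.Agent.Lib.Helper3
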