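import Mathlib
import Cfsg.Agent.Lib.Helper3.Bender9
import Cfsg.Agent.Lib.Helper3.Conj

/-!
# The transitivity lemma (Bender–Glauberman 7.1)

Under the transitivity hypothesis on `A`, two maximal `A`-invariant `q`-subgroups that both meet a
proper subgroup containing `A` nontrivially are conjugate under `O_{π'}(C_G(A))`.
-/

set_option autoImplicit false
set_option linter.style.haveILetI false
set_option linter.unusedVariables false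

universe u

namespace Cfsg.Agent.Lib.Helper3

open Cfsg

variable {G : Type u} [Group G] [Finite G]

/-- `A`-invariant `q`-subgroups. -/
def IsInvQ (A : Subgroup G) (q : ℕ) (Y : Subgroup G) : Prop :=
  IsPGroup q ↥Y ∧ A ≤ Subgroup.normalizer (Y : Set G)

/-- maximal `A`-invariant `q`-subgroups. -/
def IsMaxInvQ (A : Subgroup G) (q : ℕ) (Q : Subgroup G) : Prop :=
  IsInvQ A q Q ∧ ∀ R : Subgroup G, IsInvQ A q R → Q ≤ R → R = Q

theorem mem_invSubgroups_top_iff (A : Subgroup G) (q : ℕ) [Fact q.Prime] (Y : Subgroup G) :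
    Y ∈ Cfsg.invSubgroups ⊤ A {q} ↔ IsInvQ A q Y := by
  have hqp := (Fact.out : q.Prime)
  constructor
  · rintro ⟨-, hpi, hn⟩
    refine ⟨?_, hn⟩
    have := Nat.eq_prime_pow_of_unique_prime_dvd (Nat.card_pos (α := ↥Y)).ne' (p := q)
      (fun {t} ht htd => Set.mem_singleton_iff.mp (hpi t ht htd))
    exact IsPGroup.of_card this
  · rintro ⟨hY, hn⟩
    show Y ≤ ⊤ ∧ (∀ p : ℕ, p.Prime → p ∣ Nat.card ↥Y → p ∈ ({q} : Set ℕ)) ∧
      A ≤ Subgroup.normalizer (Y : Set G)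
    refine ⟨le_top, ?_, hn⟩
    intro t ht htd
    obtain ⟨k, hk⟩ := IsPGroup.iff_card.mp hY
    rw [hk] at htd
    exact Set.mem_singleton_iff.mpr
      ((Nat.prime_dvd_prime_iff_eq ht hqp).mp (ht.dvd_of_dvd_pow htd))

theorem mem_maxInv_iff (A : Subgroup G) (q : ℕ) [Fact q.Prime] (Q : Subgroup G) :
    Q ∈ Cfsg.maxInvSubgroups ⊤ A {q} ↔ IsMaxInvQ A q Q := by
  constructor
  · rintro ⟨h1, h2⟩
    exact ⟨(mem_invSubgroups_top_iff A q Q).mp h1,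
      fun R hR hle => h2 R ((mem_invSubgroups_top_iff A q R).mpr hR) hle⟩
  · rintro ⟨h1, h2⟩
    show Q ∈ Cfsg.invSubgroups ⊤ A {q} ∧ ∀ R ∈ Cfsg.invSubgroups ⊤ A {q}, Q ≤ R → R = Q
    exact ⟨(mem_invSubgroups_top_iff A q Q).mpr h1,
      fun R hR hle => h2 R ((mem_invSubgroups_top_iff A q R).mp hR) hle⟩

theorem exists_maxInvQ (A : Subgroup G) (q : ℕ) {U : Subgroup G} (hU : IsInvQ A q U) :
    ∃ Q : Subgroup G, IsMaxInvQ A q Q ∧ U ≤ Q := by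
  have hfin : {Y : Subgroup G | IsInvQ A q Y}.Finite := Set.toFinite _
  obtain ⟨Q, hUQ, hmax⟩ := hfin.exists_le_maximal hU
  exact ⟨Q, ⟨hmax.prop, fun R hR hle => le_antisymm (hmax.le_of_ge hR hle) hle⟩, hUQ⟩

theorem isInvQ_map_conj {A : Subgroup G} {q : ℕ} {Y : Subgroup G} (hY : IsInvQ A q Y) {k : G}
    (hk : k ∈ Subgroup.centralizer (A : Set G)) :
    IsInvQ A q (Y.map (MulAut.conj k).toMonoidHom) := by
  refine ⟨isPGroup_map_conj hY.1 k, ?_⟩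
  intro a ha
  apply mem_normalizer_of_map_conj_le
  rw [map_conj_map_conj]
  have hak : a * k = k * a := (Subgroup.mem_centralizer_iff.mp hk) a ha
  rw [hak, ← map_conj_map_conj]
  apply map_conj_mono
  have h' : Y.map (MulAut.conj a).toMonoidHom = Y :=
    Subgroup.mem_normalizer_iff_map_conj_eq.mp (hY.2 ha)
  exact h'.le

theorem isMaxInvQ_map_conj {A : Subgroup G} {q : ℕ} {Q : Subgroup G} (hQ : IsMaxInvQ A q Q)
    {k : G} (hk : k ∈ Subgroup.centralizer (A : Set G)) :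
    IsMaxInvQ A q (Q.map (MulAut.conj k).toMonoidHom) := by
  refine ⟨isInvQ_map_conj hQ.1 hk, ?_⟩
  intro R hR hle
  have hk' : k⁻¹ ∈ Subgroup.centralizer (A : Set G) := Subgroup.inv_mem _ hk
  have h1 : Q ≤ R.map (MulAut.conj k⁻¹).toMonoidHom := map_conj_le_iff.mp hle
  have h2 := hQ.2 _ (isInvQ_map_conj hR hk') h1
  rw [← h2, map_conj_map_conj_inv]

theorem card_lt_card_of_lt' {D E : Subgroup G} (h : D < E) : Nat.card ↥D < Nat.card ↥E :=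
  lt_of_le_of_ne (Subgroup.card_le_of_le h.le)
    (fun heq => h.ne (Subgroup.eq_of_le_of_card_ge h.le heq.ge))

theorem exists_mem_normalizer_diff_of_pgroup {q : ℕ} [Fact q.Prime] {Q D : Subgroup G}
    (hQ : IsPGroup q ↥Q) (hDQ : D < Q) :
    ∃ x ∈ Q, x ∈ Subgroup.normalizer (D : Set G) ∧ x ∉ D := by
  haveI : Group.IsNilpotent ↥Q := hQ.isNilpotent
  have hnc : NormalizerCondition ↥Q := Group.normalizerCondition_of_isNilpotent
  have hlt : D.subgroupOf Q < ⊤ := by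
    rw [lt_top_iff_ne_top]
    intro h
    rw [Subgroup.subgroupOf_eq_top] at h
    exact absurd (le_antisymm hDQ.le h) hDQ.ne
  have h1 := hnc _ hlt
  obtain ⟨x', hx'N, hx'D⟩ := SetLike.exists_of_lt h1
  refine ⟨(x' : G), x'.2, ?_, fun h => hx'D (Subgroup.mem_subgroupOf.mpr h)⟩
  apply mem_normalizer_of_map_conj_le
  rintro _ ⟨d, hd, rfl⟩
  have hdQ : d ∈ Q := hDQ.le hd
  have h2 := (Subgroup.mem_normalizer_iff.mp hx'N ⟨d, hdQ⟩).mp (Subgroup.mem_subgroupOf.mpr hd)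
  exact Subgroup.mem_subgroupOf.mp h2

section TH

variable {A : Subgroup G} {q : ℕ} [Fact q.Prime] (π' : Set ℕ)

theorem inv_le_piCoreOf (hqπ : q ∈ π') {X : Subgroup G}
    (hTHX : sSup (Cfsg.invSubgroups X A π') = Cfsg.piCoreOf π' X)
    {U : Subgroup G} (hUX : U ≤ X) (hU : IsInvQ A q U) : U ≤ Cfsg.piCoreOf π' X := by
  have hq := (Fact.out : q.Prime)
  rw [← hTHX]
  apply le_sSup
  show U ≤ X ∧ (∀ p : ℕ, p.Prime → p ∣ Nat.card ↥U → p ∈ π') ∧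
    A ≤ Subgroup.normalizer (U : Set G)
  refine ⟨hUX, ?_, hU.2⟩
  intro t ht htd
  obtain ⟨k, hk⟩ := IsPGroup.iff_card.mp hU.1
  rw [hk] at htd
  have : t = q := (Nat.prime_dvd_prime_iff_eq ht hq).mp (ht.dvd_of_dvd_pow htd)
  rw [this]
  exact hqπ

omit [Fact q.Prime] in
theorem piCoreOf_inf_centralizer_le (hπ : ∀ t ∈ π', ¬ t ∣ Nat.card ↥A)
    (hsimple : IsSimpleGroup G) (hA1 : A ≠ ⊥) (hA2 : A ≠ ⊤)
    (hTH : ∀ X : Subgroup G, X ≠ ⊤ → A ≤ X →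
      sSup (Cfsg.invSubgroups X A π') = Cfsg.piCoreOf π' X)
    (X : Subgroup G) :
    Cfsg.piCoreOf π' X ⊓ Subgroup.centralizer (A : Set G) ≤
      Cfsg.piCoreOf π' (Subgroup.centralizer (A : Set G)) := by
  obtain ⟨C, hC⟩ : ∃ C : Subgroup G, C = Subgroup.centralizer (A : Set G) := ⟨_, rfl⟩
  rw [← hC]
  have hAN : Subgroup.normalizer (A : Set G) ≠ ⊤ := by
    intro h
    have hn : A.Normal := Subgroup.normalizer_eq_top_iff.mp h
    rcases hn.eq_bot_or_eq_top with h1 | h1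
    · exact hA1 h1
    · exact hA2 h1
  have hX'N : A ⊔ C ≤ Subgroup.normalizer (A : Set G) :=
    sup_le Subgroup.le_normalizer (by rw [hC]; exact centralizer_le_normalizer' A)
  have hX'top : A ⊔ C ≠ ⊤ := fun h => hAN (top_le_iff.mp (h ▸ hX'N))
  have hTHX' := hTH (A ⊔ C) hX'top le_sup_left
  have hDL : Cfsg.piCoreOf π' X ⊓ C ≤ Cfsg.piCoreOf π' (A ⊔ C) := by
    rw [← hTHX']
    apply le_sSup
    show Cfsg.piCoreOf π' X ⊓ C ≤ A ⊔ C ∧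
      (∀ p : ℕ, p.Prime → p ∣ Nat.card ↥(Cfsg.piCoreOf π' X ⊓ C) → p ∈ π') ∧
      A ≤ Subgroup.normalizer ((Cfsg.piCoreOf π' X ⊓ C : Subgroup G) : Set G)
    refine ⟨inf_le_right.trans le_sup_right, ?_, ?_⟩
    · intro t ht htd
      exact piCoreOf_primes _ X t ht (htd.trans (Subgroup.card_dvd_of_le inf_le_left))
    · have h1 : Cfsg.piCoreOf π' X ⊓ C ≤ Subgroup.centralizer (A : Set G) := by
        rw [← hC]; exact inf_le_right
      exact (Subgroup.le_centralizer_iff.mp h1).trans (centralizer_le_normalizer' _)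
  refine hDL.trans ?_
  obtain ⟨L, hL⟩ : ∃ L : Subgroup G, L = Cfsg.piCoreOf π' (A ⊔ C) := ⟨_, rfl⟩
  rw [← hL]
  have hX'L : A ⊔ C ≤ Subgroup.normalizer (L : Set G) := by
    rw [hL]; unfold Cfsg.piCoreOf
    exact le_normalizer_map_subtype (A ⊔ C) _
  have hLX' : L ≤ A ⊔ C := by rw [hL]; exact piCoreOf_le _ _
  have hLpi : ∀ t : ℕ, t.Prime → t ∣ Nat.card ↥L → t ∈ π' := by
    intro t ht htd; rw [hL] at htd; exact piCoreOf_primes _ _ t ht htd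
  have hcop : (Nat.card ↥L).Coprime (Nat.card ↥A) := by
    by_contra h
    obtain ⟨t, ht, h1, h2⟩ := Nat.Prime.not_coprime_iff_dvd.mp h
    exact hπ t (hLpi t ht h1) h2
  have hLA : L ⊓ A = ⊥ := Subgroup.inf_eq_bot_of_coprime hcop
  have hLC : L ≤ C := by
    intro l hl
    rw [hC, Subgroup.mem_centralizer_iff]
    intro a ha
    have hc1 : l * a * l⁻¹ * a⁻¹ ∈ L := by
      have h1 : a * l⁻¹ * a⁻¹ ∈ L :=
        (Subgroup.mem_normalizer_iff.mp (hX'L (Subgroup.mem_sup_left ha)) l⁻¹).mp (L.inv_mem hl)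
      have e : l * a * l⁻¹ * a⁻¹ = l * (a * l⁻¹ * a⁻¹) := by group
      rw [e]; exact L.mul_mem hl h1
    have hc2 : l * a * l⁻¹ * a⁻¹ ∈ A := by
      have h1 : l * a * l⁻¹ ∈ A := (Subgroup.mem_normalizer_iff.mp (hX'N (hLX' hl)) a).mp ha
      exact A.mul_mem h1 (A.inv_mem ha)
    have hc3 : l * a * l⁻¹ * a⁻¹ ∈ L ⊓ A := Subgroup.mem_inf.mpr ⟨hc1, hc2⟩
    rw [hLA, Subgroup.mem_bot] at hc3
    have : (l * a) * (a * l)⁻¹ = 1 := by rw [← hc3]; group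
    exact (mul_inv_eq_one.mp this).symm
  exact le_piCoreOf _ _ L hLC (le_sup_right.trans hX'L) hLpi

theorem exists_sylow_pair (hπ : ∀ t ∈ π', ¬ t ∣ Nat.card ↥A) (hqπ : q ∈ π')
    (hsimple : IsSimpleGroup G) (hsolv : ∀ X : Subgroup G, X ≠ ⊤ → Group.IsSolvable ↥X)
    (hA1 : A ≠ ⊥) (hA2 : A ≠ ⊤)
    (hTH : ∀ X : Subgroup G, X ≠ ⊤ → A ≤ X →
      sSup (Cfsg.invSubgroups X A π') = Cfsg.piCoreOf π' X)
    (X : Subgroup G) (hX : X ≠ ⊤) (hAX : A ≤ X) {U₁ U₂ : Subgroup G} (hU₁X : U₁ ≤ X)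
    (hU₂X : U₂ ≤ X) (hU₁ : IsInvQ A q U₁) (hU₂ : IsInvQ A q U₂) :
    ∃ S₁ S₂ : Subgroup G, IsInvQ A q S₁ ∧ IsInvQ A q S₂ ∧ U₁ ≤ S₁ ∧ U₂ ≤ S₂ ∧
      ∃ k ∈ Cfsg.piCoreOf π' (Subgroup.centralizer (A : Set G)),
        S₂ = S₁.map (MulAut.conj k).toMonoidHom := by
  obtain ⟨Y, hY⟩ : ∃ Y : Subgroup G, Y = Cfsg.piCoreOf π' X := ⟨_, rfl⟩
  have hTHX := hTH X hX hAX
  have hU₁Y : U₁ ≤ Y := by rw [hY]; exact inv_le_piCoreOf π' hqπ hTHX hU₁X hU₁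
  have hU₂Y : U₂ ≤ Y := by rw [hY]; exact inv_le_piCoreOf π' hqπ hTHX hU₂X hU₂
  have hYX : Y ≤ X := by rw [hY]; exact piCoreOf_le _ _
  have hAY : A ≤ Subgroup.normalizer (Y : Set G) := by
    rw [hY]
    exact (hAX.trans Subgroup.le_normalizer).trans (normalizer_le_normalizer_piCoreOf _ X)
  have hcop : (Nat.card ↥A).Coprime (Nat.card ↥Y) := by
    by_contra h
    obtain ⟨t, ht, h1, h2⟩ := Nat.Prime.not_coprime_iff_dvd.mp h
    rw [hY] at h2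
    exact hπ t (piCoreOf_primes _ X t ht h2) h1
  have hYs : Group.IsSolvable ↥Y := isSolvable_of_le' hYX (hsolv X hX)
  obtain ⟨P₁, hUP₁, hAP₁⟩ :=
    Cfsg.Agent.S0025.result A Y hAY hcop (Or.inr hYs) q U₁ hU₁Y hU₁.1 hU₁.2
  obtain ⟨P₂, hUP₂, hAP₂⟩ :=
    Cfsg.Agent.S0025.result A Y hAY hcop (Or.inr hYs) q U₂ hU₂Y hU₂.1 hU₂.2
  obtain ⟨c, hcA, hcP⟩ := Cfsg.Agent.S0024.result A Y hAY hcop (Or.inr hYs) q P₁ P₂ hAP₁ hAP₂
  have hkK : (c : G) ∈ Cfsg.piCoreOf π' (Subgroup.centralizer (A : Set G)) := by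
    apply piCoreOf_inf_centralizer_le π' hπ hsimple hA1 hA2 hTH X
    rw [← hY]; exact Subgroup.mem_inf.mpr ⟨c.2, hcA⟩
  refine ⟨(P₁ : Subgroup ↥Y).map Y.subtype, (P₂ : Subgroup ↥Y).map Y.subtype,
    ⟨P₁.isPGroup'.map _, hAP₁⟩, ⟨P₂.isPGroup'.map _, hAP₂⟩, hUP₁, hUP₂, (c : G), hkK, ?_⟩
  symm
  apply Subgroup.eq_of_le_of_card_ge
  · rintro _ ⟨_, ⟨x, hx, rfl⟩, rfl⟩
    have h1 : MulAut.conj c • x ∈ ((MulAut.conj c • P₁ : Sylow q ↥Y) : Subgroup ↥Y) := by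
      rw [Sylow.pointwise_smul_def]
      exact Subgroup.smul_mem_pointwise_smul _ _ _ hx
    rw [hcP] at h1
    exact ⟨MulAut.conj c • x, h1, rfl⟩
  · apply le_of_eq
    rw [card_map_conj, Subgroup.card_map_of_injective Y.subtype_injective,
      Subgroup.card_map_of_injective Y.subtype_injective, P₁.card_eq_multiplicity,
      P₂.card_eq_multiplicity]

theorem kconj_of_inf_ne_bot (hπ : ∀ t ∈ π', ¬ t ∣ Nat.card ↥A) (hqπ : q ∈ π')
    (hsimple : IsSimpleGroup G) (hsolv : ∀ X : Subgroup G, X ≠ ⊤ → Group.IsSolvable ↥X)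
    (hA1 : A ≠ ⊥) (hA2 : A ≠ ⊤)
    (hTH : ∀ X : Subgroup G, X ≠ ⊤ → A ≤ X →
      sSup (Cfsg.invSubgroups X A π') = Cfsg.piCoreOf π' X)
    (hqA : ¬ q ∣ Nat.card ↥A) :
    ∀ m : ℕ, ∀ Q Q' : Subgroup G, IsMaxInvQ A q Q → IsMaxInvQ A q Q' → Q ⊓ Q' ≠ ⊥ →
      Nat.card G - Nat.card ↥(Q ⊓ Q') = m →
      ∃ k ∈ Cfsg.piCoreOf π' (Subgroup.centralizer (A : Set G)),
        Q' = Q.map (MulAut.conj k).toMonoidHom := by
  intro m
  induction m using Nat.strong_induction_on with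
  | _ m ih =>
    intro Q Q' hQ hQ' hne hm
    by_cases hQQ : Q = Q'
    · exact ⟨1, Subgroup.one_mem _, by rw [map_conj_one]; exact hQQ.symm⟩
    obtain ⟨D, hD⟩ : ∃ D : Subgroup G, D = Q ⊓ Q' := ⟨_, rfl⟩
    rw [← hD] at hne hm
    have hDleQ : D ≤ Q := by rw [hD]; exact inf_le_left
    have hDleQ' : D ≤ Q' := by rw [hD]; exact inf_le_right
    have hDQ : D < Q := by
      refine lt_of_le_of_ne hDleQ ?_
      intro h
      have h1 : Q ≤ Q' := by rw [← h]; exact hDleQ'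
      exact hQQ (hQ.2 Q' hQ'.1 h1).symm
    have hDQ' : D < Q' := by
      refine lt_of_le_of_ne hDleQ' ?_
      intro h
      have h1 : Q' ≤ Q := by rw [← h]; exact hDleQ
      exact hQQ (hQ'.2 Q hQ.1 h1)
    have hAD : A ≤ Subgroup.normalizer (D : Set G) := by
      rw [hD]; exact le_normalizer_inf' hQ.1.2 hQ'.1.2
    have hDq : IsPGroup q ↥D := hQ.1.1.to_le hDleQ
    have hNtop : Subgroup.normalizer (D : Set G) ≠ ⊤ := by
      intro h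
      have hn : D.Normal := Subgroup.normalizer_eq_top_iff.mp h
      rcases hn.eq_bot_or_eq_top with h1 | h1
      · exact hne h1
      · have hAq : IsPGroup q ↥A := hDq.to_le (by rw [h1]; exact le_top)
        obtain ⟨k, hk⟩ := IsPGroup.iff_card.mp hAq
        rcases Nat.eq_zero_or_pos k with rfl | hk0
        · rw [pow_zero] at hk; exact hA1 (Subgroup.card_eq_one.mp hk)
        · exact hqA (by rw [hk]; exact dvd_pow_self q hk0.ne')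
    obtain ⟨N, hN⟩ : ∃ N : Subgroup G, N = Subgroup.normalizer (D : Set G) := ⟨_, rfl⟩
    have hDN : D ≤ N := by rw [hN]; exact Subgroup.le_normalizer
    have hAN : A ≤ N := by rw [hN]; exact hAD
    have hNtop' : N ≠ ⊤ := by rw [hN]; exact hNtop
    have hUinv : IsInvQ A q (Q ⊓ N) :=
      ⟨hQ.1.1.to_le inf_le_left, le_normalizer_inf' hQ.1.2 (hAN.trans Subgroup.le_normalizer)⟩
    have hU'inv : IsInvQ A q (Q' ⊓ N) :=
      ⟨hQ'.1.1.to_le inf_le_left, le_normalizer_inf' hQ'.1.2 (hAN.trans Subgroup.le_normalizer)⟩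
    obtain ⟨S₁, S₂, hS₁, hS₂, hUS₁, hUS₂, k, hkK, hSk⟩ :=
      exists_sylow_pair π' hπ hqπ hsimple hsolv hA1 hA2 hTH N hNtop' hAN inf_le_right
        inf_le_right hUinv hU'inv
    obtain ⟨Qs, hQs, hSQs⟩ := exists_maxInvQ A q hS₁
    obtain ⟨x, hxQ, hxN, hxD⟩ := exists_mem_normalizer_diff_of_pgroup hQ.1.1 hDQ
    have hxN' : x ∈ N := by rw [hN]; exact hxN
    have hlt1 : D < Q ⊓ Qs := by
      apply lt_of_le_of_ne
      · exact le_inf hDleQ ((le_inf hDleQ hDN).trans (hUS₁.trans hSQs))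
      · intro h
        apply hxD
        rw [h]
        exact Subgroup.mem_inf.mpr ⟨hxQ, hSQs (hUS₁ (Subgroup.mem_inf.mpr ⟨hxQ, hxN'⟩))⟩
    have hc1 := card_lt_card_of_lt' hlt1
    have hc2 : Nat.card ↥(Q ⊓ Qs) ≤ Nat.card G := Subgroup.card_le_card_group _
    have hne1 : Q ⊓ Qs ≠ ⊥ := fun h => by rw [h] at hlt1; exact not_lt_bot hlt1
    obtain ⟨k₁, hk₁K, hk₁⟩ :=
      ih (Nat.card G - Nat.card ↥(Q ⊓ Qs)) (by omega) Q Qs hQ hQs hne1 rfl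
    have hkC : k ∈ Subgroup.centralizer (A : Set G) := piCoreOf_le _ _ hkK
    have hQsk : IsMaxInvQ A q (Qs.map (MulAut.conj k).toMonoidHom) := isMaxInvQ_map_conj hQs hkC
    obtain ⟨x', hx'Q, hx'N, hx'D⟩ := exists_mem_normalizer_diff_of_pgroup hQ'.1.1 hDQ'
    have hx'N' : x' ∈ N := by rw [hN]; exact hx'N
    have hS₂le : S₂ ≤ Qs.map (MulAut.conj k).toMonoidHom := by
      rw [hSk]; exact map_conj_mono hSQs k
    have hlt2 : D < Qs.map (MulAut.conj k).toMonoidHom ⊓ Q' := by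
      apply lt_of_le_of_ne
      · exact le_inf ((le_inf hDleQ' hDN).trans (hUS₂.trans hS₂le)) hDleQ'
      · intro h
        apply hx'D
        rw [h]
        exact Subgroup.mem_inf.mpr
          ⟨hS₂le (hUS₂ (Subgroup.mem_inf.mpr ⟨hx'Q, hx'N'⟩)), hx'Q⟩
    have hc3 := card_lt_card_of_lt' hlt2
    have hc4 : Nat.card ↥(Qs.map (MulAut.conj k).toMonoidHom ⊓ Q') ≤ Nat.card G :=
      Subgroup.card_le_card_group _
    have hne2 : Qs.map (MulAut.conj k).toMonoidHom ⊓ Q' ≠ ⊥ :=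
      fun h => by rw [h] at hlt2; exact not_lt_bot hlt2
    obtain ⟨k₂, hk₂K, hk₂⟩ :=
      ih (Nat.card G - Nat.card ↥(Qs.map (MulAut.conj k).toMonoidHom ⊓ Q')) (by omega) _ Q'
        hQsk hQ' hne2 rfl
    refine ⟨k₂ * k * k₁, Subgroup.mul_mem _ (Subgroup.mul_mem _ hk₂K hkK) hk₁K, ?_⟩
    rw [hk₂, hk₁, map_conj_map_conj, map_conj_map_conj]

theorem transitivity_common (hπ : ∀ t ∈ π', ¬ t ∣ Nat.card ↥A) (hqπ : q ∈ π')
    (hsimple : IsSimpleGroup G) (hsolv : ∀ X : Subgroup G, X ≠ ⊤ → Group.IsSolvable ↥X)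
    (hA1 : A ≠ ⊥) (hA2 : A ≠ ⊤)
    (hTH : ∀ X : Subgroup G, X ≠ ⊤ → A ≤ X →
      sSup (Cfsg.invSubgroups X A π') = Cfsg.piCoreOf π' X)
    (hqA : ¬ q ∣ Nat.card ↥A) (Q₁ Q₂ : Subgroup G) (h₁ : IsMaxInvQ A q Q₁)
    (h₂ : IsMaxInvQ A q Q₂) (H : Subgroup G) (hH : H ≠ ⊤) (hAH : A ≤ H)
    (hH₁ : H ⊓ Q₁ ≠ ⊥) (hH₂ : H ⊓ Q₂ ≠ ⊥) :
    ∃ k ∈ Cfsg.piCoreOf π' (Subgroup.centralizer (A : Set G)),
      Q₂ = Q₁.map (MulAut.conj k).toMonoidHom := by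
  have hR₁ : IsInvQ A q (H ⊓ Q₁) :=
    ⟨h₁.1.1.to_le inf_le_right, le_normalizer_inf' (hAH.trans Subgroup.le_normalizer) h₁.1.2⟩
  have hR₂ : IsInvQ A q (H ⊓ Q₂) :=
    ⟨h₂.1.1.to_le inf_le_right, le_normalizer_inf' (hAH.trans Subgroup.le_normalizer) h₂.1.2⟩
  obtain ⟨S₁, S₂, hS₁, hS₂, hRS₁, hRS₂, k, hkK, hSk⟩ :=
    exists_sylow_pair π' hπ hqπ hsimple hsolv hA1 hA2 hTH H hH hAH inf_le_left inf_le_left
      hR₁ hR₂
  obtain ⟨Q₁', hQ₁', hSQ₁'⟩ := exists_maxInvQ A q hS₁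
  obtain ⟨Q₂', hQ₂', hSQ₂'⟩ := exists_maxInvQ A q hS₂
  have key : ∀ Q Q' : Subgroup G, IsMaxInvQ A q Q → IsMaxInvQ A q Q' → Q ⊓ Q' ≠ ⊥ →
      ∃ k ∈ Cfsg.piCoreOf π' (Subgroup.centralizer (A : Set G)),
        Q' = Q.map (MulAut.conj k).toMonoidHom := fun Q Q' hQ hQ' hne =>
    kconj_of_inf_ne_bot π' hπ hqπ hsimple hsolv hA1 hA2 hTH hqA _ Q Q' hQ hQ' hne rfl
  have hne1 : Q₁ ⊓ Q₁' ≠ ⊥ := by
    intro h
    apply hH₁
    rw [eq_bot_iff, ← h]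
    exact le_inf inf_le_right (hRS₁.trans hSQ₁')
  obtain ⟨k₁, hk₁K, hk₁⟩ := key Q₁ Q₁' h₁ hQ₁' hne1
  have hkC : k ∈ Subgroup.centralizer (A : Set G) := piCoreOf_le _ _ hkK
  have hQ₁'k := isMaxInvQ_map_conj hQ₁' hkC
  have hS₂le : S₂ ≤ Q₁'.map (MulAut.conj k).toMonoidHom := by
    rw [hSk]; exact map_conj_mono hSQ₁' k
  have hne2 : Q₁'.map (MulAut.conj k).toMonoidHom ⊓ Q₂' ≠ ⊥ := by
    intro h
    apply hH₂
    rw [eq_bot_iff, ← h]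
    exact le_inf (hRS₂.trans hS₂le) (hRS₂.trans hSQ₂')
  obtain ⟨k₂, hk₂K, hk₂⟩ := key _ Q₂' hQ₁'k hQ₂' hne2
  have hne3 : Q₂' ⊓ Q₂ ≠ ⊥ := by
    intro h
    apply hH₂
    rw [eq_bot_iff, ← h]
    exact le_inf (hRS₂.trans hSQ₂') inf_le_right
  obtain ⟨k₃, hk₃K, hk₃⟩ := key Q₂' Q₂ hQ₂' h₂ hne3
  refine ⟨k₃ * k₂ * k * k₁,
    Subgroup.mul_mem _ (Subgroup.mul_mem _ (Subgroup.mul_mem _ hk₃K hk₂K) hkK) hk₁K, ?_⟩
  rw [hk₃, hk₂, hk₁, map_conj_map_conj, map_conj_map_conj, map_conj_map_conj]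

end TH

end Cfsg.Agent.Lib.Helper3
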