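import Mathlib
import Cfsg.Agent.Lib.Helper3.Transit

/-!
# Fixed points of noncyclic abelian groups acting coprimely, and transitivity (BG 7.3, 7.4)
-/

set_option autoImplicit false
set_option linter.style.haveILetI false
set_option linter.unusedVariables false

universe u

namespace Cfsg.Agent.Lib.Helper3

open Cfsg

section norm

variable {Γ W : Type*} [Group Γ] [CommGroup W]

theorem prod_range_shift (F : ℕ → W) (p : ℕ) (h : F p = F 0) :
    ∏ i ∈ Finset.range p, F (i + 1) = ∏ i ∈ Finset.range p, F i := by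
  have h1 := Finset.prod_range_succ F p
  have h2 := Finset.prod_range_succ' F p
  rw [h1, h] at h2
  exact (mul_right_cancel h2).symm

theorem pow_mod_of_pow_eq_one {M : Type*} [Monoid M] (b : M) (p : ℕ) (hb : b ^ p = 1) (n : ℕ) :
    b ^ (n % p) = b ^ n := by
  conv_rhs => rw [← Nat.div_add_mod n p, pow_add, pow_mul, hb, one_pow, one_mul]

theorem prod_range_mul_mod (H : ℕ → W) (p : ℕ) (hp : p.Prime) (i : ℕ) (hi : ¬ p ∣ i)
    (hH : ∀ n, H (n % p) = H n) :
    ∏ j ∈ Finset.range p, H (j * i) = ∏ l ∈ Finset.range p, H l := by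
  have hcop : Nat.Coprime p i := (Nat.Prime.coprime_iff_not_dvd hp).mpr hi
  have hmaps : Set.MapsTo (fun j => (j * i) % p) (Finset.range p : Set ℕ)
      (Finset.range p : Set ℕ) := by
    intro j _
    simp only [Finset.coe_range, Set.mem_Iio]
    exact Nat.mod_lt _ hp.pos
  have hinj : Set.InjOn (fun j => (j * i) % p) (Finset.range p : Set ℕ) := by
    intro j hj j' hj' h
    simp only [Finset.coe_range, Set.mem_Iio] at hj hj'
    have h1 : j * i ≡ j' * i [MOD p] := h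
    have h2 : j ≡ j' [MOD p] := Nat.ModEq.cancel_right_of_coprime hcop h1
    exact Nat.ModEq.eq_of_lt_of_lt h2 hj hj'
  have hsurj := Finset.surjOn_of_injOn_of_card_le _ hmaps hinj le_rfl
  apply Finset.prod_nbij (fun j => (j * i) % p)
  · intro j _
    exact Finset.mem_range.mpr (Nat.mod_lt _ hp.pos)
  · exact hinj
  · exact hsurj
  · intro j _
    exact (hH (j * i)).symm

/-- Two commuting automorphisms of order dividing `p` of a finite abelian `p'`-group `W ≠ 1`:
some `a^i b^j`, `(i, j) ≢ (0, 0)`, has a nontrivial fixed point. -/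
theorem exists_fixed_of_rank_two [Finite W] (ψ : Γ →* MulAut W) (p : ℕ) [Fact p.Prime]
    (hcop : (Nat.card W).Coprime p) (a b : Γ) (hab : Commute a b) (ha : a ^ p = 1)
    (hb : b ^ p = 1) (w : W) (hw : w ≠ 1) :
    ∃ i j : ℕ, ¬ (p ∣ i ∧ p ∣ j) ∧ ∃ v : W, v ≠ 1 ∧ ψ (a ^ i * b ^ j) v = v := by
  have hp := (Fact.out : p.Prime)
  by_contra hcon
  have hfree : ∀ i j : ℕ, ¬ (p ∣ i ∧ p ∣ j) → ∀ v : W, ψ (a ^ i * b ^ j) v = v → v = 1 := by
    intro i j hij v hv
    by_contra hv1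
    exact hcon ⟨i, j, hij, v, hv1, hv⟩
  have hnormfix : ∀ g : Γ, g ^ p = 1 → ∀ v : W,
      ψ g (∏ i ∈ Finset.range p, ψ (g ^ i) v) = ∏ i ∈ Finset.range p, ψ (g ^ i) v := by
    intro g hg v
    rw [map_prod]
    have : ∀ i, ψ g (ψ (g ^ i) v) = ψ (g ^ (i + 1)) v := by
      intro i
      rw [pow_succ', map_mul, MulAut.mul_apply]
    simp only [this]
    apply prod_range_shift (fun i => ψ (g ^ i) v) p
    show ψ (g ^ p) v = ψ (g ^ 0) v
    rw [hg, pow_zero]
  have hnorm1 : ∀ i j : ℕ, ¬ (p ∣ i ∧ p ∣ j) → ∀ v : W,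
      ∏ t ∈ Finset.range p, ψ ((a ^ i * b ^ j) ^ t) v = 1 := by
    intro i j hij v
    apply hfree i j hij
    apply hnormfix
    rw [(hab.pow_pow i j).mul_pow, pow_right_comm a, pow_right_comm b, ha, hb, one_pow, one_pow,
      one_mul]
  have hMfix : ψ a (∏ i ∈ Finset.range p, ∏ l ∈ Finset.range p, ψ (a ^ i * b ^ l) w) =
      ∏ i ∈ Finset.range p, ∏ l ∈ Finset.range p, ψ (a ^ i * b ^ l) w := by
    rw [map_prod]
    have : ∀ i, ψ a (∏ l ∈ Finset.range p, ψ (a ^ i * b ^ l) w) =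
        ∏ l ∈ Finset.range p, ψ (a ^ (i + 1) * b ^ l) w := by
      intro i
      rw [map_prod]
      apply Finset.prod_congr rfl
      intro l _
      have e : a ^ (i + 1) * b ^ l = a * (a ^ i * b ^ l) := by rw [pow_succ', mul_assoc]
      rw [e, map_mul ψ a (a ^ i * b ^ l), MulAut.mul_apply]
    simp only [this]
    apply prod_range_shift (fun i => ∏ l ∈ Finset.range p, ψ (a ^ i * b ^ l) w) p
    show ∏ l ∈ Finset.range p, ψ (a ^ p * b ^ l) w = ∏ l ∈ Finset.range p, ψ (a ^ 0 * b ^ l) w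
    rw [ha, pow_zero]
  have hM : ∏ i ∈ Finset.range p, ∏ l ∈ Finset.range p, ψ (a ^ i * b ^ l) w = 1 := by
    apply hfree 1 0 (fun h => hp.one_lt.ne' (Nat.dvd_one.mp h.1)) _
    rw [pow_one, pow_zero, mul_one]
    exact hMfix
  -- total product
  have htotal : ∏ t ∈ Finset.range p, ∏ j ∈ Finset.range p, ψ ((a ^ 1 * b ^ j) ^ t) w = 1 := by
    rw [Finset.prod_comm]
    apply Finset.prod_eq_one
    intro j _
    exact hnorm1 1 j (fun h => hp.one_lt.ne' (Nat.dvd_one.mp h.1)) w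
  have hF0 : ∏ l ∈ Finset.range p, ψ (a ^ 0 * b ^ l) w = 1 := by
    have h1 := hnorm1 0 1 (fun h => hp.one_lt.ne' (Nat.dvd_one.mp h.2)) w
    rw [← h1]
    apply Finset.prod_congr rfl
    intro l _
    simp only [pow_zero, pow_one, one_mul]
  obtain ⟨p', rfl⟩ : ∃ p', p = p' + 1 := ⟨p - 1, by have := hp.pos; omega⟩
  rw [Finset.prod_range_succ' _ p'] at htotal hM
  rw [hF0, mul_one] at hM
  have hG0 : ∏ j ∈ Finset.range (p' + 1), ψ ((a ^ 1 * b ^ j) ^ 0) w = w ^ (p' + 1) := by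
    simp only [pow_zero, map_one, MulAut.one_apply, Finset.prod_const, Finset.card_range]
  have hGs : ∀ s ∈ Finset.range p',
      ∏ j ∈ Finset.range (p' + 1), ψ ((a ^ 1 * b ^ j) ^ (s + 1)) w =
        ∏ l ∈ Finset.range (p' + 1), ψ (a ^ (s + 1) * b ^ l) w := by
    intro s hs
    have hs' : s < p' := Finset.mem_range.mp hs
    have hnd : ¬ (p' + 1) ∣ (s + 1) := Nat.not_dvd_of_pos_of_lt (Nat.succ_pos s) (by omega)
    have e : ∀ j, ψ ((a ^ 1 * b ^ j) ^ (s + 1)) w = ψ (a ^ (s + 1) * b ^ (j * (s + 1))) w := by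
      intro j
      rw [(hab.pow_pow 1 j).mul_pow, pow_one, ← pow_mul]
    simp only [e]
    apply prod_range_mul_mod (fun l => ψ (a ^ (s + 1) * b ^ l) w) (p' + 1) hp (s + 1) hnd
    intro n
    show ψ (a ^ (s + 1) * b ^ (n % (p' + 1))) w = ψ (a ^ (s + 1) * b ^ n) w
    rw [pow_mod_of_pow_eq_one b (p' + 1) hb n]
  rw [Finset.prod_congr rfl hGs, hM, one_mul, hG0] at htotal
  have hd1 : orderOf w ∣ p' + 1 := orderOf_dvd_of_pow_eq_one htotal
  have hd2 : orderOf w ∣ Nat.card W := orderOf_dvd_natCard w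
  have h1 : orderOf w = 1 := (Nat.Coprime.coprime_dvd_left hd2 hcop).eq_one_of_dvd hd1
  exact hw (orderOf_eq_one_iff.mp h1)

end norm

end Cfsg.Agent.Lib.Helper3
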