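import Mathlib
import Cfsg.Agent.Lib.Helper3.Transit2

/-!
# Transitivity theorem, rank two case (BG 7.4)
-/

set_option autoImplicit false
set_option linter.style.haveILetI false
set_option linter.unusedVariables false

universe u

namespace Cfsg.Agent.Lib.Helper3

open Cfsg

section gen

variable {G : Type u} [Group G] [Finite G]

theorem exists_central_of_pgroup {q : ℕ} [Fact q.Prime] (Q : Subgroup G) (hQ : IsPGroup q ↥Q)
    (hne : Q ≠ ⊥) : ∃ z ∈ Q, z ≠ 1 ∧ ∀ y ∈ Q, y * z = z * y := by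
  haveI : Nontrivial ↥Q := (Subgroup.nontrivial_iff_ne_bot _).mpr hne
  haveI hc : Nontrivial (Subgroup.center ↥Q) := hQ.center_nontrivial
  obtain ⟨z, hz⟩ := exists_ne (1 : Subgroup.center ↥Q)
  refine ⟨((z : ↥Q) : G), (z : ↥Q).2, ?_, ?_⟩
  · intro h
    exact hz (Subtype.ext (Subtype.ext h))
  · intro y hy
    have := Subgroup.mem_center_iff.mp z.2 ⟨y, hy⟩
    exact congrArg Subtype.val this

/-- A noncyclic elementary abelian `p`-group acting coprimely on a nontrivial `q`-group: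
some non-identity element has a nontrivial fixed point. -/
theorem exists_centralized_of_rank_two (Q : Subgroup G) (q p : ℕ) [Fact q.Prime] [Fact p.Prime]
    (hpq : p ≠ q) (hQ : IsPGroup q ↥Q) (hQne : Q ≠ ⊥) (a b : G)
    (haQ : a ∈ Subgroup.normalizer (Q : Set G)) (hbQ : b ∈ Subgroup.normalizer (Q : Set G))
    (hab : a * b = b * a) (ha : a ^ p = 1) (hb : b ^ p = 1) :
    ∃ i j : ℕ, ¬ (p ∣ i ∧ p ∣ j) ∧
      ∃ v ∈ Q, v ≠ 1 ∧ (a ^ i * b ^ j) * v = v * (a ^ i * b ^ j) := by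
  have hp := (Fact.out : p.Prime)
  have hq := (Fact.out : q.Prime)
  obtain ⟨z, hzQ, hz1, hzc⟩ := exists_central_of_pgroup Q hQ hQne
  obtain ⟨Z₀, hZ₀⟩ : ∃ Z₀ : Subgroup G, Z₀ = Q ⊓ Subgroup.centralizer (Q : Set G) := ⟨_, rfl⟩
  have hZ₀Q : Z₀ ≤ Q := by rw [hZ₀]; exact inf_le_left
  have hZ₀C : Z₀ ≤ Subgroup.centralizer (Q : Set G) := by rw [hZ₀]; exact inf_le_right
  have hzZ : z ∈ Z₀ := by
    rw [hZ₀]
    exact Subgroup.mem_inf.mpr ⟨hzQ, Subgroup.mem_centralizer_iff.mpr hzc⟩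
  obtain ⟨B, hB⟩ : ∃ B : Subgroup G, B = Subgroup.normalizer (Z₀ : Set G) := ⟨_, rfl⟩
  have hNB : Subgroup.normalizer (Q : Set G) ≤ B := by
    rw [hB, hZ₀]
    exact le_normalizer_inf' le_rfl (normalizer_le_normalizer_centralizer' Q)
  have hZ₀B : Z₀ ≤ B := by rw [hB]; exact Subgroup.le_normalizer
  haveI hn : (Z₀.subgroupOf B).Normal :=
    Subgroup.normal_subgroupOf_of_le_normalizer (by rw [hB])
  letI : CommGroup ↥(Z₀.subgroupOf B) :=
    { (inferInstance : Group ↥(Z₀.subgroupOf B)) with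
      mul_comm := by
        intro x y
        have hx : ((x : ↥B) : G) ∈ Subgroup.centralizer (Q : Set G) :=
          hZ₀C (Subgroup.mem_subgroupOf.mp x.2)
        have hy : ((y : ↥B) : G) ∈ Q := hZ₀Q (Subgroup.mem_subgroupOf.mp y.2)
        have := (Subgroup.mem_centralizer_iff.mp hx) _ hy
        exact Subtype.ext (Subtype.ext this.symm) }
  have hcop : (Nat.card ↥(Z₀.subgroupOf B)).Coprime p := by
    rw [Nat.card_congr (Subgroup.subgroupOfEquivOfLe hZ₀B).toEquiv]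
    have hdvd := Subgroup.card_dvd_of_le hZ₀Q
    obtain ⟨k, hk⟩ := IsPGroup.iff_card.mp hQ
    rw [hk] at hdvd
    exact Nat.Coprime.coprime_dvd_left hdvd
      (Nat.Coprime.pow_left k ((Nat.coprime_primes hq hp).mpr (Ne.symm hpq)))
  have haB : a ∈ B := hNB haQ
  have hbB : b ∈ B := hNB hbQ
  have hw1 : (⟨⟨z, hZ₀B hzZ⟩, hzZ⟩ : ↥(Z₀.subgroupOf B)) ≠ 1 := by
    intro h
    exact hz1 (congrArg (fun t : ↥(Z₀.subgroupOf B) => ((t : ↥B) : G)) h)
  have hab' : Commute (⟨a, haB⟩ : ↥B) ⟨b, hbB⟩ := by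
    show (⟨a, haB⟩ : ↥B) * ⟨b, hbB⟩ = ⟨b, hbB⟩ * ⟨a, haB⟩
    exact Subtype.ext hab
  have ha' : (⟨a, haB⟩ : ↥B) ^ p = 1 := Subtype.ext (by simpa using ha)
  have hb' : (⟨b, hbB⟩ : ↥B) ^ p = 1 := Subtype.ext (by simpa using hb)
  obtain ⟨i, j, hij, v, hv1, hv⟩ :=
    exists_fixed_of_rank_two (MulAut.conjNormal (H := Z₀.subgroupOf B)) p hcop
      (⟨a, haB⟩ : ↥B) ⟨b, hbB⟩ hab' ha' hb' _ hw1
  refine ⟨i, j, hij, ((v : ↥B) : G), hZ₀Q (Subgroup.mem_subgroupOf.mp v.2), ?_, ?_⟩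
  · intro h
    exact hv1 (Subtype.ext (Subtype.ext h))
  · have h1 := congrArg (fun t : ↥(Z₀.subgroupOf B) => ((t : ↥B) : G)) hv
    simp only [MulAut.conjNormal_apply, Subgroup.coe_mul, Subgroup.coe_inv,
      Subgroup.coe_pow] at h1
    exact mul_inv_eq_iff_eq_mul.mp h1

end gen

section indep

theorem exists_indep_pair {X : Type*} [Group X] [Finite X] (p : ℕ) (hp : p.Prime)
    (h : ¬ Cfsg.PRankLE p 1 X) :
    ∃ a b : X, a ≠ 1 ∧ a ^ p = 1 ∧ b ^ p = 1 ∧ a * b = b * a ∧ ∀ m : ℕ, b ≠ a ^ m := by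
  unfold Cfsg.PRankLE at h
  push Not at h
  obtain ⟨E, hEc, hEp, hEcard⟩ := h
  rw [pow_one] at hEcard
  have hEne : E ≠ ⊥ := by
    intro hb
    rw [hb, Subgroup.card_bot] at hEcard
    have := hp.one_lt
    omega
  obtain ⟨⟨a, haE⟩, ha1⟩ := (Subgroup.ne_bot_iff_exists_ne_one).mp hEne
  have ha1' : a ≠ 1 := fun h => ha1 (Subtype.ext h)
  have hap : a ^ p = 1 := hEp a haE
  have hoa : orderOf a = p := by
    rcases (Nat.dvd_prime hp).mp (orderOf_dvd_of_pow_eq_one hap) with h | h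
    · exact absurd (orderOf_eq_one_iff.mp h) ha1'
    · exact h
  have hex : ∃ b ∈ E, b ∉ Subgroup.zpowers a := by
    by_contra hcon
    push Not at hcon
    have hle : E ≤ Subgroup.zpowers a := fun x hx => hcon x hx
    have := Subgroup.card_le_of_le hle
    rw [Nat.card_zpowers, hoa] at this
    omega
  obtain ⟨b, hbE, hbz⟩ := hex
  refine ⟨a, b, ha1', hap, hEp b hbE, ?_, ?_⟩
  · have := hEc.is_comm.comm ⟨a, haE⟩ ⟨b, hbE⟩
    exact congrArg Subtype.val this
  · intro m hm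
    apply hbz
    rw [hm]
    exact Subgroup.pow_mem _ (Subgroup.mem_zpowers a) m

theorem pow_mul_pow_ne_one {X : Type*} [Group X] (p : ℕ) (hp : p.Prime) (a b : X) (ha1 : a ≠ 1)
    (hap : a ^ p = 1) (hbp : b ^ p = 1) (hind : ∀ m : ℕ, b ≠ a ^ m) (i j : ℕ)
    (hij : ¬ (p ∣ i ∧ p ∣ j)) : a ^ i * b ^ j ≠ 1 := by
  intro h
  by_cases hj : p ∣ j
  · have hi : ¬ p ∣ i := fun hi => hij ⟨hi, hj⟩
    obtain ⟨c, rfl⟩ := hj
    rw [pow_mul, hbp, one_pow, mul_one] at h
    have hoa : orderOf a = p := by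
      rcases (Nat.dvd_prime hp).mp (orderOf_dvd_of_pow_eq_one hap) with h' | h'
      · exact absurd (orderOf_eq_one_iff.mp h') ha1
      · exact h'
    have := orderOf_dvd_of_pow_eq_one h
    rw [hoa] at this
    exact hi this
  · have hcop : Nat.Coprime j p := ((Nat.Prime.coprime_iff_not_dvd hp).mpr hj).symm
    obtain ⟨m, -, hm⟩ := Nat.exists_mul_mod_eq_one_of_coprime hcop hp.one_lt
    have e : i + i * (p - 1) = p * i := by
      have h1 : p - 1 + 1 = p := Nat.sub_add_cancel hp.pos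
      calc i + i * (p - 1) = i * (p - 1 + 1) := by ring
        _ = p * i := by rw [h1, mul_comm]
    have hinv : a ^ i * a ^ (i * (p - 1)) = 1 := by
      rw [← pow_add, e, pow_mul, hap, one_pow]
    have hbj : b ^ j = a ^ (i * (p - 1)) := by
      have h1 : a ^ i * b ^ j = a ^ i * a ^ (i * (p - 1)) := by rw [h, hinv]
      exact mul_left_cancel h1
    apply hind (i * (p - 1) * m)
    calc b = b ^ (j * m % p) := by rw [hm, pow_one]
      _ = b ^ (j * m) := pow_mod_of_pow_eq_one b p hbp _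
      _ = (b ^ j) ^ m := pow_mul b j m
      _ = (a ^ (i * (p - 1))) ^ m := by rw [hbj]
      _ = a ^ (i * (p - 1) * m) := (pow_mul a _ m).symm

end indep

section rank2

variable {G : Type u} [Group G] [Finite G] {A : Subgroup G} {q : ℕ} [Fact q.Prime] (π' : Set ℕ)

omit [Finite G] [Fact q.Prime] in
theorem centralizer_singleton_ne_top (hsimple : IsSimpleGroup G) (hnc : ¬ IsMulCommutative G)
    {e : G} (he : e ≠ 1) : Subgroup.centralizer ({e} : Set G) ≠ ⊤ := by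
  intro h
  have hec : e ∈ Subgroup.center G := by
    rw [Subgroup.mem_center_iff]
    intro g
    have hg : g ∈ Subgroup.centralizer ({e} : Set G) := by rw [h]; exact Subgroup.mem_top g
    exact ((Subgroup.mem_centralizer_iff.mp hg) e (Set.mem_singleton e)).symm
  rcases (inferInstance : (Subgroup.center G).Normal).eq_bot_or_eq_top with h1 | h1
  · rw [h1, Subgroup.mem_bot] at hec
    exact he hec
  · apply hnc
    refine ⟨⟨fun x y => ?_⟩⟩
    have hy : y ∈ Subgroup.center G := by rw [h1]; exact Subgroup.mem_top y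
    exact (Subgroup.mem_center_iff.mp hy x)

/-- All maximal invariant `q`-subgroups are `K`-conjugate to a fixed one, given a uniform source
of fixed points. -/
theorem transitivity_rank_two (hπ : ∀ t ∈ π', ¬ t ∣ Nat.card ↥A) (hqπ : q ∈ π')
    (hsimple : IsSimpleGroup G) (hnc : ¬ IsMulCommutative G)
    (hsolv : ∀ X : Subgroup G, X ≠ ⊤ → Group.IsSolvable ↥X)
    (hA1 : A ≠ ⊥) (hA2 : A ≠ ⊤)
    (hTH : ∀ X : Subgroup G, X ≠ ⊤ → A ≤ X →
      sSup (Cfsg.invSubgroups X A π') = Cfsg.piCoreOf π' X)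
    (hqA : ¬ q ∣ Nat.card ↥A)
    (hZ : ¬ Cfsg.RankLE 1 ↥(A ⊓ Subgroup.centralizer (A : Set G)))
    (hqC : q ∣ Nat.card ↥(Subgroup.centralizer (A : Set G))) :
    ∀ Q₁ Q₂ : Subgroup G, IsMaxInvQ A q Q₁ → IsMaxInvQ A q Q₂ →
      ∃ k ∈ Cfsg.piCoreOf π' (Subgroup.centralizer (A : Set G)),
        Q₂ = Q₁.map (MulAut.conj k).toMonoidHom := by
  have hq := (Fact.out : q.Prime)
  unfold Cfsg.RankLE at hZ
  push Not at hZ
  obtain ⟨p, hp, hZp⟩ := hZ
  haveI : Fact p.Prime := ⟨hp⟩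
  obtain ⟨a₀, b₀, ha₀1, ha₀p, hb₀p, hab₀, hind₀⟩ := exists_indep_pair p hp hZp
  have haA : (a₀ : G) ∈ A := (Subgroup.mem_inf.mp a₀.2).1
  have haC : (a₀ : G) ∈ Subgroup.centralizer (A : Set G) := (Subgroup.mem_inf.mp a₀.2).2
  have hbA : (b₀ : G) ∈ A := (Subgroup.mem_inf.mp b₀.2).1
  have hbC : (b₀ : G) ∈ Subgroup.centralizer (A : Set G) := (Subgroup.mem_inf.mp b₀.2).2
  have ha1 : (a₀ : G) ≠ 1 := fun h => ha₀1 (Subtype.ext h)
  have hap : (a₀ : G) ^ p = 1 := by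
    have := congrArg Subtype.val ha₀p
    simpa using this
  have hbp : (b₀ : G) ^ p = 1 := by
    have := congrArg Subtype.val hb₀p
    simpa using this
  have hab : (a₀ : G) * (b₀ : G) = (b₀ : G) * (a₀ : G) := by
    have := congrArg Subtype.val hab₀
    simpa using this
  have hind : ∀ m : ℕ, (b₀ : G) ≠ (a₀ : G) ^ m := by
    intro m h
    apply hind₀ m
    apply Subtype.ext
    rw [h]; simp
  have hoa : orderOf (a₀ : G) = p := by
    rcases (Nat.dvd_prime hp).mp (orderOf_dvd_of_pow_eq_one hap) with h | h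
    · exact absurd (orderOf_eq_one_iff.mp h) ha1
    · exact h
  have hpq : p ≠ q := by
    intro h
    apply hqA
    rw [← h, ← hoa]
    exact Subgroup.orderOf_dvd_natCard A haA
  obtain ⟨s, hs⟩ := exists_prime_orderOf_dvd_card' q hqC
  have hso : orderOf (s : G) = q := by rw [Subgroup.orderOf_coe]; exact hs
  have hs1 : (s : G) ≠ 1 := by
    intro h
    rw [h, orderOf_one] at hso
    exact hq.ne_one hso.symm
  have hS₀ : IsInvQ A q (Subgroup.zpowers (s : G)) := by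
    refine ⟨IsPGroup.of_card (n := 1) (by rw [Nat.card_zpowers, hso, pow_one]), ?_⟩
    have h1 : Subgroup.zpowers (s : G) ≤ Subgroup.centralizer (A : Set G) :=
      Subgroup.zpowers_le.mpr s.2
    exact (Subgroup.le_centralizer_iff.mp h1).trans (centralizer_le_normalizer' _)
  obtain ⟨Qs, hQs, hSQs⟩ := exists_maxInvQ A q hS₀
  have hsQs : (s : G) ∈ Qs := hSQs (Subgroup.mem_zpowers _)
  have key : ∀ Q : Subgroup G, IsMaxInvQ A q Q →
      ∃ k ∈ Cfsg.piCoreOf π' (Subgroup.centralizer (A : Set G)),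
        Q = Qs.map (MulAut.conj k).toMonoidHom := by
    intro Q hQ
    have hQne : Q ≠ ⊥ := by
      intro h
      have h1 := hQ.2 _ hS₀ (by rw [h]; exact bot_le)
      rw [h] at h1
      have h2 : (s : G) ∈ Subgroup.zpowers (s : G) := Subgroup.mem_zpowers _
      rw [h1, Subgroup.mem_bot] at h2
      exact hs1 h2
    obtain ⟨i, j, hij, v, hvQ, hv1, hvc⟩ :=
      exists_centralized_of_rank_two Q q p hpq hQ.1.1 hQne (a₀ : G) (b₀ : G) (hQ.1.2 haA)
        (hQ.1.2 hbA) hab hap hbp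
    have he1 : (a₀ : G) ^ i * (b₀ : G) ^ j ≠ 1 :=
      pow_mul_pow_ne_one p hp _ _ ha1 hap hbp hind i j hij
    have heA : (a₀ : G) ^ i * (b₀ : G) ^ j ∈ A :=
      A.mul_mem (A.pow_mem haA i) (A.pow_mem hbA j)
    have heC : (a₀ : G) ^ i * (b₀ : G) ^ j ∈ Subgroup.centralizer (A : Set G) :=
      Subgroup.mul_mem _ (Subgroup.pow_mem _ haC i) (Subgroup.pow_mem _ hbC j)
    obtain ⟨e, hedef⟩ : ∃ e : G, e = (a₀ : G) ^ i * (b₀ : G) ^ j := ⟨_, rfl⟩
    rw [← hedef] at he1 heA heC hvc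
    have hH : Subgroup.centralizer ({e} : Set G) ≠ ⊤ :=
      centralizer_singleton_ne_top hsimple hnc he1
    have hAH : A ≤ Subgroup.centralizer ({e} : Set G) := by
      intro x hx
      rw [Subgroup.mem_centralizer_iff]
      intro y hy
      rw [Set.mem_singleton_iff] at hy
      rw [hy]
      exact ((Subgroup.mem_centralizer_iff.mp heC) x hx).symm
    have hHQs : Subgroup.centralizer ({e} : Set G) ⊓ Qs ≠ ⊥ := by
      intro h
      have h1 : (s : G) ∈ Subgroup.centralizer ({e} : Set G) ⊓ Qs := by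
        refine Subgroup.mem_inf.mpr ⟨?_, hsQs⟩
        rw [Subgroup.mem_centralizer_iff]
        intro y hy
        rw [Set.mem_singleton_iff] at hy
        rw [hy]
        exact (Subgroup.mem_centralizer_iff.mp s.2) e heA
      rw [h, Subgroup.mem_bot] at h1
      exact hs1 h1
    have hHQ : Subgroup.centralizer ({e} : Set G) ⊓ Q ≠ ⊥ := by
      intro h
      have h1 : v ∈ Subgroup.centralizer ({e} : Set G) ⊓ Q := by
        refine Subgroup.mem_inf.mpr ⟨?_, hvQ⟩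
        rw [Subgroup.mem_centralizer_iff]
        intro y hy
        rw [Set.mem_singleton_iff] at hy
        rw [hy]
        exact hvc
      rw [h, Subgroup.mem_bot] at h1
      exact hv1 h1
    exact transitivity_common π' hπ hqπ hsimple hsolv hA1 hA2 hTH hqA Qs Q hQs hQ _ hH hAH
      hHQs hHQ
  intro Q₁ Q₂ h₁ h₂
  obtain ⟨k₁, hk₁K, hk₁⟩ := key Q₁ h₁
  obtain ⟨k₂, hk₂K, hk₂⟩ := key Q₂ h₂
  refine ⟨k₂ * k₁⁻¹, Subgroup.mul_mem _ hk₂K (Subgroup.inv_mem _ hk₁K), ?_⟩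
  rw [hk₂, hk₁, ← map_conj_map_conj, map_conj_inv_map_conj]

end rank2

end Cfsg.Agent.Lib.Helper3
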