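import Mathlib
import Cfsg.Agent.Lib.Helper3.Transit3

/-!
# Transitivity theorem, rank three case
-/

set_option autoImplicit false
set_option linter.style.haveILetI false
set_option linter.unusedVariables false

universe u

namespace Cfsg.Agent.Lib.Helper3

open Cfsg

section indep3

theorem exists_indep_triple {X : Type*} [Group X] [Finite X] (p : ℕ) (hp : p.Prime)
    (h : ¬ Cfsg.PRankLE p 2 X) :
    ∃ (a b c : X) (D : Subgroup X), a ≠ 1 ∧ a ^ p = 1 ∧ b ^ p = 1 ∧ c ^ p = 1 ∧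
      a * b = b * a ∧ a * c = c * a ∧ b * c = c * b ∧ (∀ m : ℕ, b ≠ a ^ m) ∧
      a ∈ D ∧ b ∈ D ∧ c ∉ D := by
  unfold Cfsg.PRankLE at h
  push Not at h
  obtain ⟨E, hEc, hEp, hEcard⟩ := h
  have hp2 : p < p ^ 2 := by
    have := hp.one_lt
    nlinarith
  have hEne : E ≠ ⊥ := by
    intro hb
    rw [hb, Subgroup.card_bot] at hEcard
    have : 1 ≤ p ^ 2 := Nat.one_le_pow _ _ hp.pos
    omega
  obtain ⟨⟨a, haE⟩, ha1⟩ := (Subgroup.ne_bot_iff_exists_ne_one).mp hEne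
  have ha1' : a ≠ 1 := fun h => ha1 (Subtype.ext h)
  have hap : a ^ p = 1 := hEp a haE
  have hoa : orderOf a = p := by
    rcases (Nat.dvd_prime hp).mp (orderOf_dvd_of_pow_eq_one hap) with h | h
    · exact absurd (orderOf_eq_one_iff.mp h) ha1'
    · exact h
  have hex : ∃ b ∈ E, b ∉ Subgroup.zpowers a := by
    by_contra hcon
    push Not at hcon
    have hle : E ≤ Subgroup.zpowers a := fun x hx => hcon x hx
    have := Subgroup.card_le_of_le hle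
    rw [Nat.card_zpowers, hoa] at this
    omega
  obtain ⟨b, hbE, hbz⟩ := hex
  have hbp : b ^ p = 1 := hEp b hbE
  have hb1 : b ≠ 1 := by
    intro h
    apply hbz
    rw [h]
    exact Subgroup.one_mem _
  have hob : orderOf b = p := by
    rcases (Nat.dvd_prime hp).mp (orderOf_dvd_of_pow_eq_one hbp) with h | h
    · exact absurd (orderOf_eq_one_iff.mp h) hb1
    · exact h
  have comm : ∀ x ∈ E, ∀ y ∈ E, x * y = y * x := by
    intro x hx y hy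
    have := hEc.is_comm.comm ⟨x, hx⟩ ⟨y, hy⟩
    exact congrArg Subtype.val this
  have hab : a * b = b * a := comm a haE b hbE
  have hcomm : ∀ (m : ↥(Subgroup.zpowers a)) (n : ↥(Subgroup.zpowers b)),
      Commute ((Subgroup.zpowers a).subtype m) ((Subgroup.zpowers b).subtype n) := by
    intro m n
    obtain ⟨k, hk⟩ := Subgroup.mem_zpowers_iff.mp m.2
    obtain ⟨l, hl⟩ := Subgroup.mem_zpowers_iff.mp n.2
    show Commute (m : X) (n : X)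
    rw [← hk, ← hl]
    exact (show Commute a b from hab).zpow_zpow k l
  obtain ⟨f, hf⟩ : ∃ f : ↥(Subgroup.zpowers a) × ↥(Subgroup.zpowers b) →* X,
      f = MonoidHom.noncommCoprod (Subgroup.zpowers a).subtype (Subgroup.zpowers b).subtype
        hcomm := ⟨_, rfl⟩
  have hfa : f (⟨a, Subgroup.mem_zpowers a⟩, 1) = a := by
    rw [hf, MonoidHom.noncommCoprod_apply]
    simp
  have hfb : f (1, ⟨b, Subgroup.mem_zpowers b⟩) = b := by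
    rw [hf, MonoidHom.noncommCoprod_apply]
    simp
  have hcardD : Nat.card ↥f.range ≤ p ^ 2 := by
    have h1 := Subgroup.card_range_dvd f
    rw [Nat.card_prod, Nat.card_zpowers, Nat.card_zpowers, hoa, hob] at h1
    have := Nat.le_of_dvd (Nat.mul_pos hp.pos hp.pos) h1
    rw [pow_two]; exact this
  have hexc : ∃ c ∈ E, c ∉ f.range := by
    by_contra hcon
    push Not at hcon
    have hle : E ≤ f.range := fun x hx => hcon x hx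
    have := Subgroup.card_le_of_le hle
    omega
  obtain ⟨c, hcE, hcD⟩ := hexc
  refine ⟨a, b, c, f.range, ha1', hap, hbp, hEp c hcE, hab, comm a haE c hcE,
    comm b hbE c hcE, ?_, MonoidHom.mem_range.mpr ⟨_, hfa⟩, MonoidHom.mem_range.mpr ⟨_, hfb⟩, hcD⟩
  intro m hm
  apply hbz
  rw [hm]
  exact Subgroup.pow_mem _ (Subgroup.mem_zpowers a) m

theorem mul_pow_ne_one_of_not_mem {X : Type*} [Group X] (p : ℕ) (hp : p.Prime) (D : Subgroup X)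
    (d c : X) (hd : d ∈ D) (hc : c ∉ D) (hcp : c ^ p = 1) (j : ℕ) (hj : ¬ p ∣ j) :
    d * c ^ j ≠ 1 := by
  intro h
  have hcj : c ^ j ∈ D := by
    have h1 : c ^ j = d⁻¹ := (inv_eq_of_mul_eq_one_right h).symm
    rw [h1]
    exact D.inv_mem hd
  have hcop : Nat.Coprime j p := ((Nat.Prime.coprime_iff_not_dvd hp).mpr hj).symm
  obtain ⟨m, -, hm⟩ := Nat.exists_mul_mod_eq_one_of_coprime hcop hp.one_lt
  apply hc
  have h2 : c = (c ^ j) ^ m := by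
    calc c = c ^ (j * m % p) := by rw [hm, pow_one]
      _ = c ^ (j * m) := pow_mod_of_pow_eq_one c p hcp _
      _ = (c ^ j) ^ m := pow_mul c j m
  rw [h2]
  exact D.pow_mem hcj m

theorem combine_eq {X : Type*} [Group X] (e₁ e₂ c : X) (h12 : Commute e₁ e₂)
    (h1c : Commute e₁ c) (h2c : Commute e₂ c) (k l m n : ℕ) :
    e₁ ^ (m * l) * (e₂ ^ k * c ^ l) ^ n = e₂ ^ (k * n) * (e₁ ^ m * c ^ n) ^ l := by
  rw [(h2c.pow_pow k l).mul_pow, (h1c.pow_pow m n).mul_pow, ← pow_mul, ← pow_mul, ← pow_mul,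
    ← pow_mul, ← mul_assoc, ← mul_assoc, (h12.pow_pow (m * l) (k * n)).eq, mul_comm l n]

theorem pow_mul_pow_pow_eq_one {X : Type*} [Monoid X] (p : ℕ) (a b : X) (hab : a * b = b * a)
    (hap : a ^ p = 1) (hbp : b ^ p = 1) (i j : ℕ) : (a ^ i * b ^ j) ^ p = 1 := by
  have hc : Commute (a ^ i) (b ^ j) := (show Commute a b from hab).pow_pow i j
  rw [hc.mul_pow, ← pow_mul, ← pow_mul, mul_comm i p, mul_comm j p, pow_mul, pow_mul, hap, hbp,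
    one_pow, one_pow, one_mul]

end indep3

section rank3

variable {G : Type u} [Group G] [Finite G] {A : Subgroup G} {q : ℕ} [Fact q.Prime] (π' : Set ℕ)

theorem transitivity_rank_three_aux (hπ : ∀ t ∈ π', ¬ t ∣ Nat.card ↥A) (hqπ : q ∈ π')
    (hsimple : IsSimpleGroup G) (hnc : ¬ IsMulCommutative G)
    (hsolv : ∀ X : Subgroup G, X ≠ ⊤ → Group.IsSolvable ↥X)
    (hA1 : A ≠ ⊥) (hA2 : A ≠ ⊤)
    (hTH : ∀ X : Subgroup G, X ≠ ⊤ → A ≤ X →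
      sSup (Cfsg.invSubgroups X A π') = Cfsg.piCoreOf π' X)
    (hqA : ¬ q ∣ Nat.card ↥A)
    (p : ℕ) [Fact p.Prime] (a b c : G) (D : Subgroup G)
    (haA : a ∈ A) (hbA : b ∈ A) (hcA : c ∈ A)
    (haC : a ∈ Subgroup.centralizer (A : Set G)) (hbC : b ∈ Subgroup.centralizer (A : Set G))
    (hcC : c ∈ Subgroup.centralizer (A : Set G))
    (ha1 : a ≠ 1) (hap : a ^ p = 1) (hbp : b ^ p = 1) (hcp : c ^ p = 1)
    (hind : ∀ m : ℕ, b ≠ a ^ m) (haD : a ∈ D) (hbD : b ∈ D) (hcD : c ∉ D) :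
    ∀ Q₁ Q₂ : Subgroup G, IsMaxInvQ A q Q₁ → IsMaxInvQ A q Q₂ →
      ∃ k ∈ Cfsg.piCoreOf π' (Subgroup.centralizer (A : Set G)),
        Q₂ = Q₁.map (MulAut.conj k).toMonoidHom := by
  have hp := (Fact.out : p.Prime)
  have hq := (Fact.out : q.Prime)
  have hoa : orderOf a = p := by
    rcases (Nat.dvd_prime hp).mp (orderOf_dvd_of_pow_eq_one hap) with h | h
    · exact absurd (orderOf_eq_one_iff.mp h) ha1
    · exact h
  have hpq : p ≠ q := by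
    intro h
    apply hqA
    rw [← h, ← hoa]
    exact Subgroup.orderOf_dvd_natCard A haA
  have comm : ∀ z₁ ∈ A, ∀ z₂ ∈ Subgroup.centralizer (A : Set G), z₁ * z₂ = z₂ * z₁ :=
    fun z₁ h₁ z₂ h₂ => (Subgroup.mem_centralizer_iff.mp h₂) z₁ h₁
  have hab : a * b = b * a := comm a haA b hbC
  have mem_cent : ∀ x y : G, x * y = y * x → y ∈ Subgroup.centralizer ({x} : Set G) := by
    intro x y hy
    rw [Subgroup.mem_centralizer_iff]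
    intro t ht
    rw [Set.mem_singleton_iff] at ht
    rw [ht]
    exact hy
  have of_mem_cent : ∀ x y : G, y ∈ Subgroup.centralizer ({x} : Set G) → x * y = y * x :=
    fun x y hy => (Subgroup.mem_centralizer_iff.mp hy) x (Set.mem_singleton x)
  have hAcent : ∀ z ∈ Subgroup.centralizer (A : Set G),
      A ≤ Subgroup.centralizer ({z} : Set G) := by
    intro z hz t ht
    exact mem_cent z t (comm t ht z hz).symm
  intro Q₁ Q₂ h₁ h₂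
  have fin : ∀ x : G, x ∈ Subgroup.centralizer (A : Set G) → x ≠ 1 →
      (∃ y ∈ Q₁, y ≠ 1 ∧ x * y = y * x) → (∃ y ∈ Q₂, y ≠ 1 ∧ x * y = y * x) →
      ∃ k ∈ Cfsg.piCoreOf π' (Subgroup.centralizer (A : Set G)),
        Q₂ = Q₁.map (MulAut.conj k).toMonoidHom := by
    rintro x hxC hx1 ⟨y₁, hy₁Q, hy₁1, hy₁c⟩ ⟨y₂, hy₂Q, hy₂1, hy₂c⟩
    have hH := centralizer_singleton_ne_top hsimple hnc hx1
    have hH₁ : Subgroup.centralizer ({x} : Set G) ⊓ Q₁ ≠ ⊥ := by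
      intro h
      have h1 : y₁ ∈ Subgroup.centralizer ({x} : Set G) ⊓ Q₁ :=
        Subgroup.mem_inf.mpr ⟨mem_cent x y₁ hy₁c, hy₁Q⟩
      rw [h, Subgroup.mem_bot] at h1
      exact hy₁1 h1
    have hH₂ : Subgroup.centralizer ({x} : Set G) ⊓ Q₂ ≠ ⊥ := by
      intro h
      have h1 : y₂ ∈ Subgroup.centralizer ({x} : Set G) ⊓ Q₂ :=
        Subgroup.mem_inf.mpr ⟨mem_cent x y₂ hy₂c, hy₂Q⟩
      rw [h, Subgroup.mem_bot] at h1
      exact hy₂1 h1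
    exact transitivity_common π' hπ hqπ hsimple hsolv hA1 hA2 hTH hqA Q₁ Q₂ h₁ h₂ _ hH
      (hAcent x hxC) hH₁ hH₂
  by_cases hQ₁ : Q₁ = ⊥
  · have h21 : Q₂ = Q₁ := h₁.2 Q₂ h₂.1 (by rw [hQ₁]; exact bot_le)
    refine ⟨1, Subgroup.one_mem _, ?_⟩
    rw [map_conj_one]
    exact h21
  by_cases hQ₂ : Q₂ = ⊥
  · have h12 : Q₁ = Q₂ := h₂.2 Q₁ h₁.1 (by rw [hQ₂]; exact bot_le)
    refine ⟨1, Subgroup.one_mem _, ?_⟩
    rw [map_conj_one]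
    exact h12.symm
  obtain ⟨i₁, j₁, hij₁, w₁, hw₁Q, hw₁1, hw₁c⟩ :=
    exists_centralized_of_rank_two Q₁ q p hpq h₁.1.1 hQ₁ a b (h₁.1.2 haA) (h₁.1.2 hbA) hab hap
      hbp
  obtain ⟨i₂, j₂, hij₂, w₂, hw₂Q, hw₂1, hw₂c⟩ :=
    exists_centralized_of_rank_two Q₂ q p hpq h₂.1.1 hQ₂ a b (h₂.1.2 haA) (h₂.1.2 hbA) hab hap
      hbp
  have he₁1 : a ^ i₁ * b ^ j₁ ≠ 1 := pow_mul_pow_ne_one p hp _ _ ha1 hap hbp hind i₁ j₁ hij₁
  have he₂1 : a ^ i₂ * b ^ j₂ ≠ 1 := pow_mul_pow_ne_one p hp _ _ ha1 hap hbp hind i₂ j₂ hij₂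
  have he₁p : (a ^ i₁ * b ^ j₁) ^ p = 1 := pow_mul_pow_pow_eq_one p a b hab hap hbp i₁ j₁
  have he₂p : (a ^ i₂ * b ^ j₂) ^ p = 1 := pow_mul_pow_pow_eq_one p a b hab hap hbp i₂ j₂
  have he₁A : a ^ i₁ * b ^ j₁ ∈ A := A.mul_mem (A.pow_mem haA _) (A.pow_mem hbA _)
  have he₂A : a ^ i₂ * b ^ j₂ ∈ A := A.mul_mem (A.pow_mem haA _) (A.pow_mem hbA _)
  have he₁C : a ^ i₁ * b ^ j₁ ∈ Subgroup.centralizer (A : Set G) :=
    Subgroup.mul_mem _ (Subgroup.pow_mem _ haC _) (Subgroup.pow_mem _ hbC _)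
  have he₂C : a ^ i₂ * b ^ j₂ ∈ Subgroup.centralizer (A : Set G) :=
    Subgroup.mul_mem _ (Subgroup.pow_mem _ haC _) (Subgroup.pow_mem _ hbC _)
  have he₁D : a ^ i₁ * b ^ j₁ ∈ D := D.mul_mem (D.pow_mem haD _) (D.pow_mem hbD _)
  have he₂D : a ^ i₂ * b ^ j₂ ∈ D := D.mul_mem (D.pow_mem haD _) (D.pow_mem hbD _)
  obtain ⟨e₁, he₁⟩ : ∃ e : G, e = a ^ i₁ * b ^ j₁ := ⟨_, rfl⟩
  obtain ⟨e₂, he₂⟩ : ∃ e : G, e = a ^ i₂ * b ^ j₂ := ⟨_, rfl⟩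
  rw [← he₁] at hw₁c he₁1 he₁p he₁A he₁C he₁D
  rw [← he₂] at hw₂c he₂1 he₂p he₂A he₂C he₂D
  have h12 : Commute e₁ e₂ := comm e₁ he₁A e₂ he₂C
  have h1c : Commute e₁ c := comm e₁ he₁A c hcC
  have h2c : Commute e₂ c := comm e₂ he₂A c hcC
  have hind₁ : ∀ m : ℕ, c ≠ e₁ ^ m := fun m h => hcD (by rw [h]; exact D.pow_mem he₁D m)
  have hind₂ : ∀ m : ℕ, c ≠ e₂ ^ m := fun m h => hcD (by rw [h]; exact D.pow_mem he₂D m)
  obtain ⟨V₁, hV₁⟩ : ∃ V : Subgroup G, V = Q₁ ⊓ Subgroup.centralizer ({e₁} : Set G) :=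
    ⟨_, rfl⟩
  obtain ⟨V₂, hV₂⟩ : ∃ V : Subgroup G, V = Q₂ ⊓ Subgroup.centralizer ({e₂} : Set G) :=
    ⟨_, rfl⟩
  have hV₁Q : V₁ ≤ Q₁ := by rw [hV₁]; exact inf_le_left
  have hV₂Q : V₂ ≤ Q₂ := by rw [hV₂]; exact inf_le_left
  have hV₁c : ∀ v ∈ V₁, e₁ * v = v * e₁ := by
    intro v hv
    rw [hV₁] at hv
    exact of_mem_cent e₁ v (Subgroup.mem_inf.mp hv).2
  have hV₂c : ∀ v ∈ V₂, e₂ * v = v * e₂ := by
    intro v hv
    rw [hV₂] at hv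
    exact of_mem_cent e₂ v (Subgroup.mem_inf.mp hv).2
  have hV₁ne : V₁ ≠ ⊥ := by
    intro h
    have h1 : w₁ ∈ V₁ := by
      rw [hV₁]
      exact Subgroup.mem_inf.mpr ⟨hw₁Q, mem_cent e₁ w₁ hw₁c⟩
    rw [h, Subgroup.mem_bot] at h1
    exact hw₁1 h1
  have hV₂ne : V₂ ≠ ⊥ := by
    intro h
    have h1 : w₂ ∈ V₂ := by
      rw [hV₂]
      exact Subgroup.mem_inf.mpr ⟨hw₂Q, mem_cent e₂ w₂ hw₂c⟩
    rw [h, Subgroup.mem_bot] at h1
    exact hw₂1 h1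
  have hAV₁ : A ≤ Subgroup.normalizer (V₁ : Set G) := by
    rw [hV₁]
    exact le_normalizer_inf' h₁.1.2 ((hAcent e₁ he₁C).trans Subgroup.le_normalizer)
  have hAV₂ : A ≤ Subgroup.normalizer (V₂ : Set G) := by
    rw [hV₂]
    exact le_normalizer_inf' h₂.1.2 ((hAcent e₂ he₂C).trans Subgroup.le_normalizer)
  obtain ⟨k, l, hkl, v₁, hv₁V, hv₁1, hv₁c⟩ :=
    exists_centralized_of_rank_two V₁ q p hpq (h₁.1.1.to_le hV₁Q) hV₁ne e₂ c (hAV₁ he₂A)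
      (hAV₁ hcA) h2c.eq he₂p hcp
  obtain ⟨m, n, hmn, v₂, hv₂V, hv₂1, hv₂c⟩ :=
    exists_centralized_of_rank_two V₂ q p hpq (h₂.1.1.to_le hV₂Q) hV₂ne e₁ c (hAV₂ he₁A)
      (hAV₂ hcA) h1c.eq he₁p hcp
  have hg₁1 : e₂ ^ k * c ^ l ≠ 1 := pow_mul_pow_ne_one p hp e₂ c he₂1 he₂p hcp hind₂ k l hkl
  have hg₂1 : e₁ ^ m * c ^ n ≠ 1 := pow_mul_pow_ne_one p hp e₁ c he₁1 he₁p hcp hind₁ m n hmn
  have hg₁C : e₂ ^ k * c ^ l ∈ Subgroup.centralizer (A : Set G) :=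
    Subgroup.mul_mem _ (Subgroup.pow_mem _ he₂C _) (Subgroup.pow_mem _ hcC _)
  have hg₂C : e₁ ^ m * c ^ n ∈ Subgroup.centralizer (A : Set G) :=
    Subgroup.mul_mem _ (Subgroup.pow_mem _ he₁C _) (Subgroup.pow_mem _ hcC _)
  have hcpow : ∀ t : ℕ, p ∣ t → c ^ t = 1 := by
    rintro t ⟨s, rfl⟩
    rw [pow_mul, hcp, one_pow]
  by_cases hl : p ∣ l
  · refine fin (e₂ ^ k * c ^ l) hg₁C hg₁1 ⟨v₁, hV₁Q hv₁V, hv₁1, hv₁c⟩ ⟨w₂, hw₂Q, hw₂1, ?_⟩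
    rw [hcpow l hl, mul_one]
    exact ((show Commute e₂ w₂ from hw₂c).pow_left k).eq
  by_cases hn : p ∣ n
  · refine fin (e₁ ^ m * c ^ n) hg₂C hg₂1 ⟨w₁, hw₁Q, hw₁1, ?_⟩ ⟨v₂, hV₂Q hv₂V, hv₂1, hv₂c⟩
    rw [hcpow n hn, mul_one]
    exact ((show Commute e₁ w₁ from hw₁c).pow_left m).eq
  have hx1 : e₁ ^ (m * l) * (e₂ ^ k * c ^ l) ^ n ≠ 1 := by
    rw [(h2c.pow_pow k l).mul_pow, ← pow_mul, ← pow_mul, ← mul_assoc]
    apply mul_pow_ne_one_of_not_mem p hp D _ c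
      (D.mul_mem (D.pow_mem he₁D _) (D.pow_mem he₂D _)) hcD hcp
    intro hdvd
    rcases (Nat.Prime.dvd_mul hp).mp hdvd with h | h
    · exact hl h
    · exact hn h
  have hxC : e₁ ^ (m * l) * (e₂ ^ k * c ^ l) ^ n ∈ Subgroup.centralizer (A : Set G) :=
    Subgroup.mul_mem _ (Subgroup.pow_mem _ he₁C _) (Subgroup.pow_mem _ hg₁C _)
  refine fin _ hxC hx1 ⟨v₁, hV₁Q hv₁V, hv₁1, ?_⟩ ⟨v₂, hV₂Q hv₂V, hv₂1, ?_⟩
  · have c1 : Commute e₁ v₁ := hV₁c v₁ hv₁V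
    have c2 : Commute (e₂ ^ k * c ^ l) v₁ := hv₁c
    exact ((c1.pow_left _).mul_left (c2.pow_left _)).eq
  · rw [combine_eq e₁ e₂ c h12 h1c h2c k l m n]
    have c1 : Commute e₂ v₂ := hV₂c v₂ hv₂V
    have c2 : Commute (e₁ ^ m * c ^ n) v₂ := hv₂c
    exact ((c1.pow_left _).mul_left (c2.pow_left _)).eq

theorem transitivity_rank_three (hπ : ∀ t ∈ π', ¬ t ∣ Nat.card ↥A) (hqπ : q ∈ π')
    (hsimple : IsSimpleGroup G) (hnc : ¬ IsMulCommutative G)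
    (hsolv : ∀ X : Subgroup G, X ≠ ⊤ → Group.IsSolvable ↥X)
    (hA1 : A ≠ ⊥) (hA2 : A ≠ ⊤)
    (hTH : ∀ X : Subgroup G, X ≠ ⊤ → A ≤ X →
      sSup (Cfsg.invSubgroups X A π') = Cfsg.piCoreOf π' X)
    (hqA : ¬ q ∣ Nat.card ↥A)
    (hZ : ¬ Cfsg.RankLE 2 ↥(A ⊓ Subgroup.centralizer (A : Set G))) :
    ∀ Q₁ Q₂ : Subgroup G, IsMaxInvQ A q Q₁ → IsMaxInvQ A q Q₂ →
      ∃ k ∈ Cfsg.piCoreOf π' (Subgroup.centralizer (A : Set G)),
        Q₂ = Q₁.map (MulAut.conj k).toMonoidHom := by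
  unfold Cfsg.RankLE at hZ
  push Not at hZ
  obtain ⟨p, hp, hZp⟩ := hZ
  haveI : Fact p.Prime := ⟨hp⟩
  obtain ⟨a₀, b₀, c₀, D₀, ha₀1, ha₀p, hb₀p, hc₀p, hab₀, hac₀, hbc₀, hind₀, haD₀, hbD₀, hcD₀⟩ :=
    exists_indep_triple p hp hZp
  have hpow : ∀ z : ↥(A ⊓ Subgroup.centralizer (A : Set G)), z ^ p = 1 → (z : G) ^ p = 1 := by
    intro z hz
    have := congrArg Subtype.val hz
    simpa using this
  refine transitivity_rank_three_aux π' hπ hqπ hsimple hnc hsolv hA1 hA2 hTH hqA p (a₀ : G)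
    (b₀ : G) (c₀ : G) (D₀.map (A ⊓ Subgroup.centralizer (A : Set G)).subtype)
    (Subgroup.mem_inf.mp a₀.2).1 (Subgroup.mem_inf.mp b₀.2).1 (Subgroup.mem_inf.mp c₀.2).1
    (Subgroup.mem_inf.mp a₀.2).2 (Subgroup.mem_inf.mp b₀.2).2 (Subgroup.mem_inf.mp c₀.2).2
    (fun h => ha₀1 (Subtype.ext h)) (hpow a₀ ha₀p) (hpow b₀ hb₀p) (hpow c₀ hc₀p) ?_
    (Subgroup.mem_map.mpr ⟨a₀, haD₀, rfl⟩) (Subgroup.mem_map.mpr ⟨b₀, hbD₀, rfl⟩) ?_
  · intro m h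
    apply hind₀ m
    apply Subtype.ext
    rw [h]; simp
  · intro h
    obtain ⟨z, hz, hzc⟩ := Subgroup.mem_map.mp h
    have hzc' : z = c₀ := Subtype.ext hzc
    rw [hzc'] at hz
    exact hcD₀ hz

end rank3

end Cfsg.Agent.Lib.Helper3
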