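import Mathlib
import Cfsg.Agent.Lib.Helper3.Transit
import Cfsg.Agent.Lib.Helper4.CoprimeSylow

/-!
# Transitivity passes to subnormal overgroups (BG 7.5)
-/

set_option autoImplicit false
set_option linter.style.haveILetI false
set_option linter.unusedVariables false

universe u

namespace Cfsg.Agent.Lib.Helper3

open Cfsg
open scoped commutatorElement

section basics

variable {G : Type u} [Group G] [Finite G]

theorem isInvQ_map_conj_normalizer {A : Subgroup G} {q : ℕ} {Y : Subgroup G} (hY : IsInvQ A q Y)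
    {k : G} (hk : k ∈ Subgroup.normalizer (A : Set G)) :
    IsInvQ A q (Y.map (MulAut.conj k).toMonoidHom) := by
  refine ⟨isPGroup_map_conj hY.1 k, ?_⟩
  intro a ha
  apply mem_normalizer_of_map_conj_le
  rw [map_conj_map_conj]
  have ha' : k⁻¹ * a * k ∈ A := by
    have := (Subgroup.mem_normalizer_iff.mp (Subgroup.inv_mem _ hk) a).mp ha
    simpa using this
  have e : a * k = k * (k⁻¹ * a * k) := by group
  rw [e, ← map_conj_map_conj]
  apply map_conj_mono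
  exact (Subgroup.mem_normalizer_iff_map_conj_eq.mp (hY.2 ha')).le

theorem isMaxInvQ_map_conj_normalizer {A : Subgroup G} {q : ℕ} {Q : Subgroup G}
    (hQ : IsMaxInvQ A q Q) {k : G} (hk : k ∈ Subgroup.normalizer (A : Set G)) :
    IsMaxInvQ A q (Q.map (MulAut.conj k).toMonoidHom) := by
  refine ⟨isInvQ_map_conj_normalizer hQ.1 hk, ?_⟩
  intro R hR hle
  have hk' : k⁻¹ ∈ Subgroup.normalizer (A : Set G) := Subgroup.inv_mem _ hk
  have h1 : Q ≤ R.map (MulAut.conj k⁻¹).toMonoidHom := map_conj_le_iff.mp hle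
  have h2 := hQ.2 _ (isInvQ_map_conj_normalizer hR hk') h1
  rw [← h2, map_conj_map_conj_inv]

omit [Finite G] in
theorem centralizer_anti {B C : Subgroup G} (h : B ≤ C) :
    Subgroup.centralizer (C : Set G) ≤ Subgroup.centralizer (B : Set G) := by
  intro x hx
  rw [Subgroup.mem_centralizer_iff] at hx ⊢
  intro b hb
  exact hx b (h hb)

/-- one-sided transitivity hypothesis. -/
def THle (π' : Set ℕ) (B : Subgroup G) : Prop :=
  ∀ X : Subgroup G, X ≠ ⊤ → B ≤ X → ∀ Y ∈ Cfsg.invSubgroups X B π', Y ≤ Cfsg.piCoreOf π' X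

/-- transitivity of `O_{π'}(C(B))` on the maximal `B`-invariant `q`-subgroups. -/
def TransQ (π' : Set ℕ) (q : ℕ) (B : Subgroup G) : Prop :=
  ∀ Q₁ Q₂ : Subgroup G, IsMaxInvQ B q Q₁ → IsMaxInvQ B q Q₂ →
    ∃ k ∈ Cfsg.piCoreOf π' (Subgroup.centralizer (B : Set G)),
      Q₂ = Q₁.map (MulAut.conj k).toMonoidHom

theorem th_of_thle (π' : Set ℕ) {B : Subgroup G} (h : THle π' B) :
    ∀ X : Subgroup G, X ≠ ⊤ → B ≤ X →
      sSup (Cfsg.invSubgroups X B π') = Cfsg.piCoreOf π' X := by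
  intro X hX hBX
  apply le_antisymm
  · exact sSup_le (fun Y hY => h X hX hBX Y hY)
  · apply le_sSup
    show Cfsg.piCoreOf π' X ≤ X ∧
      (∀ p : ℕ, p.Prime → p ∣ Nat.card ↥(Cfsg.piCoreOf π' X) → p ∈ π') ∧
      B ≤ Subgroup.normalizer ((Cfsg.piCoreOf π' X : Subgroup G) : Set G)
    exact ⟨piCoreOf_le _ _, fun p hp hd => piCoreOf_primes _ X p hp hd,
      (hBX.trans Subgroup.le_normalizer).trans (normalizer_le_normalizer_piCoreOf _ X)⟩

theorem thle_mono (π' : Set ℕ) {B C : Subgroup G} (h : THle π' B) (hBC : B ≤ C) :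
    THle π' C := by
  intro X hX hCX Y hY
  obtain ⟨h1, h2, h3⟩ := (show Y ≤ X ∧ (∀ p : ℕ, p.Prime → p ∣ Nat.card ↥Y → p ∈ π') ∧
    C ≤ Subgroup.normalizer (Y : Set G) from hY)
  exact h X hX (hBC.trans hCX) Y (show Y ≤ X ∧ (∀ p : ℕ, p.Prime → p ∣ Nat.card ↥Y → p ∈ π') ∧
    B ≤ Subgroup.normalizer (Y : Set G) from ⟨h1, h2, hBC.trans h3⟩)

end basics

section step

variable {G : Type u} [Group G] [Finite G] {q : ℕ} [Fact q.Prime] (π' : Set ℕ)

theorem normal_step (hqπ : q ∈ π') (hsimple : IsSimpleGroup G)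
    (hsolv : ∀ X : Subgroup G, X ≠ ⊤ → Group.IsSolvable ↥X)
    (B C : Subgroup G) (hBC : B ≤ C) (hCB : C ≤ Subgroup.normalizer (B : Set G))
    (hB1 : B ≠ ⊥) (hC2 : C ≠ ⊤) (hπC : ∀ t ∈ π', ¬ t ∣ Nat.card ↥C)
    (hTH : THle π' B) (htr : TransQ π' q B) :
    Cfsg.piCoreOf π' (Subgroup.centralizer (B : Set G)) ⊓ Subgroup.centralizer (C : Set G) =
        Cfsg.piCoreOf π' (Subgroup.centralizer (C : Set G)) ∧
      TransQ π' q C ∧ ∀ Q : Subgroup G, IsMaxInvQ C q Q → IsMaxInvQ B q Q := by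
  have hq := (Fact.out : q.Prime)
  have hB2 : B ≠ ⊤ := fun h => hC2 (top_le_iff.mp (h ▸ hBC))
  have hπB : ∀ t ∈ π', ¬ t ∣ Nat.card ↥B :=
    fun t ht hd => hπC t ht (hd.trans (Subgroup.card_dvd_of_le hBC))
  have hTHB := th_of_thle π' hTH
  obtain ⟨KB, hKB⟩ : ∃ K : Subgroup G,
      K = Cfsg.piCoreOf π' (Subgroup.centralizer (B : Set G)) := ⟨_, rfl⟩
  obtain ⟨KC, hKC⟩ : ∃ K : Subgroup G,
      K = Cfsg.piCoreOf π' (Subgroup.centralizer (C : Set G)) := ⟨_, rfl⟩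
  have hKBcent : KB ≤ Subgroup.centralizer (B : Set G) := by rw [hKB]; exact piCoreOf_le _ _
  have hNBKB : Subgroup.normalizer (B : Set G) ≤ Subgroup.normalizer (KB : Set G) := by
    rw [hKB]
    exact (normalizer_le_normalizer_centralizer' B).trans (normalizer_le_normalizer_piCoreOf _ _)
  have hCKB : C ≤ Subgroup.normalizer (KB : Set G) := hCB.trans hNBKB
  have hcentCB : Subgroup.centralizer (C : Set G) ≤ Subgroup.centralizer (B : Set G) :=
    centralizer_anti hBC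
  have hKBprimes : ∀ t : ℕ, t.Prime → t ∣ Nat.card ↥KB → t ∈ π' := by
    intro t ht hd; rw [hKB] at hd; exact piCoreOf_primes _ _ t ht hd
  have ha : KB ⊓ Subgroup.centralizer (C : Set G) = KC := by
    apply le_antisymm
    · rw [hKC]
      apply le_piCoreOf _ _ _ inf_le_right
      · apply le_normalizer_inf'
        · exact hcentCB.trans ((centralizer_le_normalizer' B).trans hNBKB)
        · exact Subgroup.le_normalizer
      · intro t ht hd
        exact hKBprimes t ht (hd.trans (Subgroup.card_dvd_of_le inf_le_left))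
    · apply le_inf
      · have h1 := piCoreOf_inf_centralizer_le π' hπB hsimple hB1 hB2 hTHB
          (Subgroup.centralizer (C : Set G))
        rw [← hKC, ← hKB] at h1
        refine le_trans ?_ h1
        apply le_inf le_rfl
        rw [hKC]
        exact (piCoreOf_le _ _).trans hcentCB
      · rw [hKC]; exact piCoreOf_le _ _
  letI : MulAction G (Subgroup G) := Cfsg.Agent.Lib.Helper4.cjAction
  have hcop : (Nat.card ↥C).Coprime (Nat.card ↥KB) := by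
    by_contra h
    obtain ⟨t, ht, h1, h2⟩ := Nat.Prime.not_coprime_iff_dvd.mp h
    exact hπC t (hKBprimes t ht h2) h1
  have hCs : Group.IsSolvable ↥C := hsolv C hC2
  have hbot : IsInvQ B q ⊥ :=
    ⟨IsPGroup.of_bot, fun b hb => mem_normalizer_of_map_conj_le (le_of_eq (Subgroup.map_bot _))⟩
  obtain ⟨Q₀, hQ₀, -⟩ := exists_maxInvQ B q hbot
  have hfix : ∃ k ∈ KB, ∀ c ∈ C, c • (k • Q₀) = k • Q₀ := by
    apply Cfsg.Agent.Lib.Helper4.glauberman_fix C KB hCKB hcop (Or.inl hCs) Q₀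
    intro c hc
    have h1 : IsMaxInvQ B q (Q₀.map (MulAut.conj c).toMonoidHom) :=
      isMaxInvQ_map_conj_normalizer hQ₀ (hCB hc)
    obtain ⟨k, hk, hkQ⟩ := htr Q₀ _ hQ₀ h1
    rw [← hKB] at hk
    exact ⟨k, hk, hkQ⟩
  obtain ⟨k₁, hk₁, hfix₁⟩ := hfix
  obtain ⟨Q₁, hQ₁def⟩ : ∃ Q₁ : Subgroup G, Q₁ = Q₀.map (MulAut.conj k₁).toMonoidHom :=
    ⟨_, rfl⟩
  have hQ₁B : IsMaxInvQ B q Q₁ := by
    rw [hQ₁def]; exact isMaxInvQ_map_conj hQ₀ (hKBcent hk₁)
  have hQ₁C : C ≤ Subgroup.normalizer (Q₁ : Set G) := by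
    intro c hc
    rw [Subgroup.mem_normalizer_iff_map_conj_eq, hQ₁def]
    exact hfix₁ c hc
  have hard : ∀ Q : Subgroup G, IsMaxInvQ C q Q → IsMaxInvQ B q Q := by
    intro Q hQ
    have hQB : IsInvQ B q Q := ⟨hQ.1.1, hBC.trans hQ.1.2⟩
    refine ⟨hQB, ?_⟩
    intro R hR hle
    by_contra hne
    have hlt : Q < R := lt_of_le_of_ne hle (fun h => hne h.symm)
    have hQne : Q ≠ ⊥ := by
      intro h
      have h1 : Q₁ = Q := hQ.2 Q₁ ⟨hQ₁B.1.1, hQ₁C⟩ (by rw [h]; exact bot_le)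
      have h2 : R = Q₁ := hQ₁B.2 R hR (by rw [h1]; exact hle)
      exact hne (h2.trans h1)
    have hH : Subgroup.normalizer (Q : Set G) ≠ ⊤ := by
      intro h
      have hn : Q.Normal := Subgroup.normalizer_eq_top_iff.mp h
      rcases hn.eq_bot_or_eq_top with h1 | h1
      · exact hQne h1
      · have hBq : IsPGroup q ↥B := hQ.1.1.to_le (by rw [h1]; exact le_top)
        obtain ⟨k, hk⟩ := IsPGroup.iff_card.mp hBq
        have hk0 : k ≠ 0 := by
          intro h0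
          rw [h0, pow_zero] at hk
          exact hB1 (Subgroup.card_eq_one.mp hk)
        exact hπB q hqπ (by rw [hk]; exact dvd_pow_self q hk0)
    obtain ⟨x, hxR, hxN, hxQ⟩ := exists_mem_normalizer_diff_of_pgroup hR.1 hlt
    obtain ⟨H, hHdef⟩ : ∃ H : Subgroup G, H = Subgroup.normalizer (Q : Set G) := ⟨_, rfl⟩
    rw [← hHdef] at hH hxN
    have hCH : C ≤ H := by rw [hHdef]; exact hQ.1.2
    obtain ⟨U, hUdef⟩ : ∃ U : Subgroup G, U = R ⊓ H := ⟨_, rfl⟩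
    have hQU : Q ≤ U := by
      rw [hUdef]; exact le_inf hle (by rw [hHdef]; exact Subgroup.le_normalizer)
    have hxU : x ∈ U := by rw [hUdef]; exact Subgroup.mem_inf.mpr ⟨hxR, hxN⟩
    have hUq : IsPGroup q ↥U := hR.1.to_le (by rw [hUdef]; exact inf_le_left)
    have hBU : B ≤ Subgroup.normalizer (U : Set G) := by
      rw [hUdef]
      exact le_normalizer_inf' hR.2 ((hBC.trans hCH).trans Subgroup.le_normalizer)
    have hUH : U ≤ H := by rw [hUdef]; exact inf_le_right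
    obtain ⟨Y, hYdef⟩ : ∃ Y : Subgroup G, Y = Cfsg.piCoreOf π' H := ⟨_, rfl⟩
    have hUY : U ≤ Y := by
      rw [hYdef]
      exact inv_le_piCoreOf π' hqπ (hTHB H hH (hBC.trans hCH)) hUH ⟨hUq, hBU⟩
    have hQY : Q ≤ Y := hQU.trans hUY
    have hYH : Y ≤ H := by rw [hYdef]; exact piCoreOf_le _ _
    have hCY : C ≤ Subgroup.normalizer (Y : Set G) := by
      rw [hYdef]
      exact (hCH.trans Subgroup.le_normalizer).trans (normalizer_le_normalizer_piCoreOf _ H)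
    have hcopY : (Nat.card ↥C).Coprime (Nat.card ↥Y) := by
      by_contra h
      obtain ⟨t, ht, h1, h2⟩ := Nat.Prime.not_coprime_iff_dvd.mp h
      rw [hYdef] at h2
      exact hπC t (piCoreOf_primes _ H t ht h2) h1
    have hYs : Group.IsSolvable ↥Y := isSolvable_of_le' hYH (hsolv H hH)
    obtain ⟨P, hQP, hCP⟩ :=
      Cfsg.Agent.S0025.result C Y hCY hcopY (Or.inr hYs) q Q hQY hQ.1.1 hQ.1.2
    have hPQ : (P : Subgroup ↥Y).map Y.subtype = Q := hQ.2 _ ⟨P.isPGroup'.map _, hCP⟩ hQP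
    have hUsub : IsPGroup q ↥(U.subgroupOf Y) := hUq.comap_subtype
    obtain ⟨P₂, hP₂⟩ := hUsub.exists_le_sylow
    have hc1 : Nat.card ↥U = Nat.card ↥(U.subgroupOf Y) :=
      (Nat.card_congr (Subgroup.subgroupOfEquivOfLe hUY).toEquiv).symm
    have hc2 : Nat.card ↥(U.subgroupOf Y) ≤ Nat.card ↥(P₂ : Subgroup ↥Y) :=
      Subgroup.card_le_of_le hP₂
    have hc3 : Nat.card ↥(P₂ : Subgroup ↥Y) = Nat.card ↥(P : Subgroup ↥Y) := by
      rw [P₂.card_eq_multiplicity, P.card_eq_multiplicity]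
    have hc4 : Nat.card ↥(P : Subgroup ↥Y) = Nat.card ↥Q := by
      rw [← hPQ, Subgroup.card_map_of_injective Y.subtype_injective]
    have hQltU : Q < U := lt_of_le_of_ne hQU (fun h => hxQ (by rw [h]; exact hxU))
    have hc5 := card_lt_card_of_lt' hQltU
    omega
  have htrC : TransQ π' q C := by
    intro Q Q' hQ hQ'
    have hQB := hard Q hQ
    have hQ'B := hard Q' hQ'
    obtain ⟨k, hk, hkQ⟩ := htr Q Q' hQB hQ'B
    rw [← hKB] at hk
    have hω : ∀ c ∈ C, c • Q = Q :=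
      fun c hc => Subgroup.mem_normalizer_iff_map_conj_eq.mp (hQ.1.2 hc)
    have hkω : ∀ c ∈ C, c • (k • Q) = k • Q := by
      intro c hc
      show (Q.map (MulAut.conj k).toMonoidHom).map (MulAut.conj c).toMonoidHom =
        Q.map (MulAut.conj k).toMonoidHom
      rw [← hkQ]
      exact Subgroup.mem_normalizer_iff_map_conj_eq.mp (hQ'.1.2 hc)
    obtain ⟨c, hc, hcQ⟩ :=
      Cfsg.Agent.Lib.Helper4.glauberman_trans C KB hCKB hcop (Or.inl hCs) Q hω k hk hkω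
    rw [ha, hKC] at hc
    refine ⟨c, hc, ?_⟩
    rw [hkQ]
    exact hcQ.symm
  rw [← hKB, ← hKC]
  exact ⟨ha, htrC, hard⟩

theorem subnormal_chain (hqπ : q ∈ π') (hsimple : IsSimpleGroup G)
    (hsolv : ∀ X : Subgroup G, X ≠ ⊤ → Group.IsSolvable ↥X)
    (P : Subgroup G) (hP2 : P ≠ ⊤) (hπP : ∀ t ∈ π', ¬ t ∣ Nat.card ↥P)
    (B : Subgroup ↥P) (hB : B.IsSubnormal) :
    B.map P.subtype ≠ ⊥ → THle π' (B.map P.subtype) → TransQ π' q (B.map P.subtype) →
      (Cfsg.piCoreOf π' (Subgroup.centralizer ((B.map P.subtype : Subgroup G) : Set G)) ⊓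
          Subgroup.centralizer (P : Set G) =
        Cfsg.piCoreOf π' (Subgroup.centralizer (P : Set G)) ∧
      TransQ π' q P ∧ ∀ Q : Subgroup G, IsMaxInvQ P q Q → IsMaxInvQ (B.map P.subtype) q Q) := by
  induction hB with
  | top =>
    intro h1 hTH htr
    have e : (⊤ : Subgroup ↥P).map P.subtype = P := by
      rw [← MonoidHom.range_eq_map, Subgroup.range_subtype]
    rw [e] at htr ⊢
    exact ⟨inf_of_le_left (piCoreOf_le _ _), htr, fun Q hQ => hQ⟩
  | step H K hle hK hN ih =>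
    intro h1 hTH htr
    have hHK : H.map P.subtype ≤ K.map P.subtype := Subgroup.map_mono hle
    have hKP : K.map P.subtype ≤ P := Subgroup.map_subtype_le K
    have hKnorm : K.map P.subtype ≤
        Subgroup.normalizer ((H.map P.subtype : Subgroup G) : Set G) := by
      rintro _ ⟨g, hg, rfl⟩
      apply mem_normalizer_of_map_conj_le
      rintro _ ⟨_, ⟨h, hh, rfl⟩, rfl⟩
      have h1 := hN.conj_mem ⟨h, hle hh⟩ (Subgroup.mem_subgroupOf.mpr hh) ⟨g, hg⟩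
      have h2 : g * h * g⁻¹ ∈ H := Subgroup.mem_subgroupOf.mp h1
      exact ⟨g * h * g⁻¹, h2, rfl⟩
    have hK2 : K.map P.subtype ≠ ⊤ := fun h => hP2 (top_le_iff.mp (h ▸ hKP))
    have hπK : ∀ t ∈ π', ¬ t ∣ Nat.card ↥(K.map P.subtype) :=
      fun t ht hd => hπP t ht (hd.trans (Subgroup.card_dvd_of_le hKP))
    obtain ⟨s1, s2, s3⟩ :=
      normal_step π' hqπ hsimple hsolv _ _ hHK hKnorm h1 hK2 hπK hTH htr
    have hK1 : K.map P.subtype ≠ ⊥ := fun h => h1 (le_bot_iff.mp (h ▸ hHK))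
    obtain ⟨t1, t2, t3⟩ := ih hK1 (thle_mono π' hTH hHK) s2
    refine ⟨?_, t2, fun Q hQ => s3 Q (t3 Q hQ)⟩
    rw [← t1, ← s1, inf_assoc]
    congr 1
    exact (inf_of_le_right (centralizer_anti hKP)).symm

theorem part_d (P : Subgroup G) (hπP : ∀ t ∈ π', ¬ t ∣ Nat.card ↥P) (htrP : TransQ π' q P)
    (Q : Subgroup G) (hQ : IsMaxInvQ P q Q) :
    P ⊓ ⁅Subgroup.normalizer (P : Set G), Subgroup.normalizer (P : Set G)⁆ ≤
        ⁅Subgroup.normalizer (Q : Set G), Subgroup.normalizer (Q : Set G)⁆ ∧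
      Subgroup.normalizer (P : Set G) =
        Cfsg.piCoreOf π' (Subgroup.centralizer (P : Set G)) ⊔
          (Subgroup.normalizer (P : Set G) ⊓ Subgroup.normalizer (Q : Set G)) := by
  obtain ⟨N, hN⟩ : ∃ N : Subgroup G, N = Subgroup.normalizer (P : Set G) := ⟨_, rfl⟩
  obtain ⟨KP, hKP⟩ : ∃ K : Subgroup G,
      K = Cfsg.piCoreOf π' (Subgroup.centralizer (P : Set G)) := ⟨_, rfl⟩
  obtain ⟨NQ, hNQ⟩ : ∃ M : Subgroup G, M = N ⊓ Subgroup.normalizer (Q : Set G) := ⟨_, rfl⟩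
  rw [← hN, ← hKP, ← hNQ]
  have hKPcent : KP ≤ Subgroup.centralizer (P : Set G) := by rw [hKP]; exact piCoreOf_le _ _
  have hKPN : KP ≤ N := by rw [hN]; exact hKPcent.trans (centralizer_le_normalizer' P)
  have hNKP : N ≤ Subgroup.normalizer (KP : Set G) := by
    rw [hN, hKP]
    exact (normalizer_le_normalizer_centralizer' P).trans (normalizer_le_normalizer_piCoreOf _ _)
  have hNQN : NQ ≤ N := by rw [hNQ]; exact inf_le_left
  have hPNQ : P ≤ NQ := by rw [hNQ, hN]; exact le_inf Subgroup.le_normalizer hQ.1.2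
  have hfrat : ∀ g ∈ N, ∃ k ∈ KP, ∃ n ∈ NQ, g = k * n := by
    intro g hg
    have hgP : g ∈ Subgroup.normalizer (P : Set G) := by rw [← hN]; exact hg
    have h1 : IsMaxInvQ P q (Q.map (MulAut.conj g).toMonoidHom) :=
      isMaxInvQ_map_conj_normalizer hQ hgP
    obtain ⟨k, hk, hkQ⟩ := htrP Q _ hQ h1
    rw [← hKP] at hk
    refine ⟨k, hk, k⁻¹ * g, ?_, by group⟩
    rw [hNQ]
    refine Subgroup.mem_inf.mpr ⟨N.mul_mem (N.inv_mem (hKPN hk)) hg, ?_⟩
    rw [Subgroup.mem_normalizer_iff_map_conj_eq]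
    show Q.map (MulAut.conj (k⁻¹ * g)).toMonoidHom = Q
    rw [← map_conj_map_conj, hkQ, map_conj_inv_map_conj]
  constructor
  swap
  · apply le_antisymm
    · intro g hg
      obtain ⟨k, hk, n, hn, rfl⟩ := hfrat g hg
      exact Subgroup.mul_mem _ (Subgroup.mem_sup_left hk) (Subgroup.mem_sup_right hn)
    · exact sup_le hKPN hNQN
  · obtain ⟨D, hD⟩ : ∃ D : Subgroup G, D = ⁅NQ, NQ⁆ := ⟨_, rfl⟩
    have hDNQ : D ≤ NQ := by rw [hD]; exact Subgroup.commutator_le_self NQ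
    have hcomm : ⁅N, N⁆ ≤ KP ⊔ D := by
      rw [Subgroup.commutator_le]
      intro g₁ hg₁ g₂ hg₂
      obtain ⟨k₁, hk₁, n₁, hn₁, rfl⟩ := hfrat g₁ hg₁
      obtain ⟨k₂, hk₂, n₂, hn₂, rfl⟩ := hfrat g₂ hg₂
      have conjK : ∀ n ∈ N, ∀ k ∈ KP, n * k * n⁻¹ ∈ KP := fun n hn k hk =>
        (Subgroup.mem_normalizer_iff.mp (hNKP hn) k).mp hk
      have e : ⁅k₁ * n₁, k₂ * n₂⁆ = k₁ * (n₁ * k₂ * n₁⁻¹) *
          ((n₁ * n₂ * n₁⁻¹) * k₁⁻¹ * (n₁ * n₂ * n₁⁻¹)⁻¹) *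
          ((n₁ * n₂ * n₁⁻¹ * n₂⁻¹) * k₂⁻¹ * (n₁ * n₂ * n₁⁻¹ * n₂⁻¹)⁻¹) * ⁅n₁, n₂⁆ := by
        rw [commutatorElement_def, commutatorElement_def]; group
      rw [e]
      have hn₁N := hNQN hn₁
      have hn₂N := hNQN hn₂
      apply Subgroup.mul_mem _ (Subgroup.mem_sup_left _) (Subgroup.mem_sup_right _)
      · refine KP.mul_mem (KP.mul_mem (KP.mul_mem hk₁ (conjK n₁ hn₁N k₂ hk₂))
          (conjK _ ?_ _ (KP.inv_mem hk₁))) (conjK _ ?_ _ (KP.inv_mem hk₂))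
        · exact N.mul_mem (N.mul_mem hn₁N hn₂N) (N.inv_mem hn₁N)
        · exact N.mul_mem (N.mul_mem (N.mul_mem hn₁N hn₂N) (N.inv_mem hn₁N)) (N.inv_mem hn₂N)
      · rw [hD]; exact Subgroup.commutator_mem_commutator hn₁ hn₂
    intro x hx
    obtain ⟨hxP, hxN'⟩ := Subgroup.mem_inf.mp hx
    have hx1 : x ∈ KP ⊔ D := hcomm hxN'
    have hDnorm : D ≤ Subgroup.normalizer (KP : Set G) := (hDNQ.trans hNQN).trans hNKP
    obtain ⟨k, hk, y, hy, hxky⟩ := Cfsg.Agent.Lib.Helper4.act_mem_sup D KP hDnorm hx1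
    have hkNQ : k ∈ NQ := by
      have hk' : k = x * y⁻¹ := by rw [hxky]; group
      rw [hk']
      exact NQ.mul_mem (hPNQ hxP) (NQ.inv_mem (hDNQ hy))
    have hy' : (⟨y, hDNQ hy⟩ : ↥NQ) ∈ _root_.commutator ↥NQ := by
      have h1 : y ∈ (_root_.commutator ↥NQ).map NQ.subtype := by
        rw [Subgroup.map_subtype_commutator, ← hD]; exact hy
      obtain ⟨z, hz, hzy⟩ := Subgroup.mem_map.mp h1
      have hz' : z = ⟨y, hDNQ hy⟩ := Subtype.ext hzy
      rw [← hz']; exact hz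
    obtain ⟨f, hf⟩ : ∃ f : ↥NQ →* Abelianization ↥NQ, f = Abelianization.of := ⟨_, rfl⟩
    have hfy : f ⟨y, hDNQ hy⟩ = 1 := by
      rw [hf, ← MonoidHom.mem_ker, Abelianization.ker_of]; exact hy'
    have hfx : f ⟨x, hPNQ hxP⟩ = f ⟨k, hkNQ⟩ := by
      have hxk : (⟨x, hPNQ hxP⟩ : ↥NQ) = ⟨k, hkNQ⟩ * ⟨y, hDNQ hy⟩ := Subtype.ext hxky
      rw [hxk, map_mul, hfy, mul_one]
    have hcopKP : (Nat.card ↥KP).Coprime (Nat.card ↥P) := by
      by_contra h
      obtain ⟨t, ht, h1, h2⟩ := Nat.Prime.not_coprime_iff_dvd.mp h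
      rw [hKP] at h1
      exact hπP t (piCoreOf_primes _ _ t ht h1) h2
    have hkm : k ^ Nat.card ↥KP = 1 :=
      orderOf_dvd_iff_pow_eq_one.mp (Subgroup.orderOf_dvd_natCard KP hk)
    have hxm : x ^ Nat.card ↥P = 1 :=
      orderOf_dvd_iff_pow_eq_one.mp (Subgroup.orderOf_dvd_natCard P hxP)
    have h1 : (f ⟨x, hPNQ hxP⟩) ^ Nat.card ↥KP = 1 := by
      rw [hfx, ← map_pow]
      have h0 : (⟨k, hkNQ⟩ : ↥NQ) ^ Nat.card ↥KP = 1 := Subtype.ext (by simpa using hkm)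
      rw [h0, map_one]
    have h2 : (f ⟨x, hPNQ hxP⟩) ^ Nat.card ↥P = 1 := by
      rw [← map_pow]
      have h0 : (⟨x, hPNQ hxP⟩ : ↥NQ) ^ Nat.card ↥P = 1 := Subtype.ext (by simpa using hxm)
      rw [h0, map_one]
    have h3 : orderOf (f ⟨x, hPNQ hxP⟩) = 1 :=
      Nat.eq_one_of_dvd_coprimes hcopKP (orderOf_dvd_of_pow_eq_one h1)
        (orderOf_dvd_of_pow_eq_one h2)
    have h4 : f ⟨x, hPNQ hxP⟩ = 1 := orderOf_eq_one_iff.mp h3
    have h5 : (⟨x, hPNQ hxP⟩ : ↥NQ) ∈ _root_.commutator ↥NQ := by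
      rw [← Abelianization.ker_of, MonoidHom.mem_ker, ← hf]; exact h4
    have h6 : x ∈ ⁅NQ, NQ⁆ := by
      rw [← Subgroup.map_subtype_commutator]
      exact Subgroup.mem_map.mpr ⟨_, h5, rfl⟩
    exact Subgroup.commutator_mono (by rw [hNQ]; exact inf_le_right)
      (by rw [hNQ]; exact inf_le_right) h6

end step

end Cfsg.Agent.Lib.Helper3
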